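import Cfsg.Agent.Lib.helper24.CharNormal
import Cfsg.Agent.Lib.helper24.CharLin
import Cfsg.Agent.Lib.helper23.CharInt

set_option autoImplicit false

namespace Cfsg.Agent.Lib.helper12

open Cfsg Cfsg.Agent.Lib.helper24
open scoped ComplexConjugate

universe u

section transversal

variable {G : Type u} [Group G]

/-- The extension by zero of a class function of `H` is invariant under conjugation by `H`. -/
theorem extendByZero_conj_mem (H : Subgroup G) (θ : H → ℂ) (hθ : IsClassFunction H θ)
    (y : G) (h : H) : extendByZero H θ ((h : G)⁻¹ * y * h) = extendByZero H θ y := by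
  by_cases hy : y ∈ H
  · have hy' : (h : G)⁻¹ * y * h ∈ H := H.mul_mem (H.mul_mem (H.inv_mem h.2) hy) h.2
    rw [extendByZero_apply_mem H θ hy', extendByZero_apply_mem H θ hy]
    have := hθ ⟨y, hy⟩ h⁻¹
    rw [← this]
    congr 1
    ext
    simp
  · have hy' : (h : G)⁻¹ * y * h ∉ H := by
      intro hc
      apply hy
      have : y = (h : G) * ((h : G)⁻¹ * y * h) * (h : G)⁻¹ := by group
      rw [this]
      exact H.mul_mem (H.mul_mem h.2 hc) (H.inv_mem h.2)
    rw [extendByZero_apply_not_mem H θ hy', extendByZero_apply_not_mem H θ hy]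

/-- Transversal formula for an induced class function. -/
theorem indFun_eq_sum_transversal [Fintype G] (H : Subgroup G) {X : Type*} [Fintype X]
    (r : X → G) (hr : Function.Bijective (fun x : X => (r x : G ⧸ H)))
    (θ : H → ℂ) (hθ : IsClassFunction H θ) (g : G) :
    indFun H θ g = ∑ x : X, extendByZero H θ ((r x)⁻¹ * g * r x) := by
  classical
  have := Fintype.ofFinite H
  have hbij : Function.Bijective (fun p : X × H => r p.1 * (p.2 : G)) := by
    constructor
    · rintro ⟨x, h⟩ ⟨x', h'⟩ heq
      simp only at heq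
      have hx : x = x' := by
        apply hr.1
        simp only
        rw [QuotientGroup.eq]
        have : (r x)⁻¹ * r x' = (h : G) * (h' : G)⁻¹ := by
          rw [eq_mul_inv_iff_mul_eq, mul_assoc, ← heq]
          group
        rw [this]
        exact H.mul_mem h.2 (H.inv_mem h'.2)
      subst hx
      have : (h : G) = h' := mul_left_cancel heq
      exact Prod.ext rfl (Subtype.ext this)
    · intro y
      obtain ⟨x, hx⟩ := hr.2 (y : G ⧸ H)
      simp only at hx
      rw [QuotientGroup.eq] at hx
      exact ⟨(x, ⟨(r x)⁻¹ * y, hx⟩), by simp⟩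
  unfold indFun
  rw [← Fintype.sum_bijective _ hbij (fun p : X × H => extendByZero H θ ((r p.1)⁻¹ * g * r p.1))
      (fun y => extendByZero H θ (y⁻¹ * g * y))]
  · rw [Fintype.sum_prod_type]
    simp only [Finset.sum_const, Finset.card_univ, nsmul_eq_mul]
    rw [← Finset.mul_sum, ← mul_assoc, Nat.card_eq_fintype_card, inv_mul_cancel₀, one_mul]
    exact_mod_cast Fintype.card_ne_zero
  · rintro ⟨x, h⟩
    simp only
    rw [← extendByZero_conj_mem H θ hθ ((r x)⁻¹ * g * r x) h]
    congr 1
    group

end transversal

section mulchar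

variable {F : Type*} [Field F] [Fintype F] [DecidableEq F]

theorem mulChar_sum_units (χ : MulChar F ℂ) [Decidable (χ = 1)] :
    ∑ a : Fˣ, χ (a : F) = if χ = 1 then ((Fintype.card F : ℂ) - 1) else 0 := by
  classical
  split_ifs with h
  · subst h
    simp only [MulChar.one_apply_coe, Finset.sum_const, Finset.card_univ, nsmul_eq_mul, mul_one]
    rw [Fintype.card_units, Nat.cast_sub Fintype.card_pos, Nat.cast_one]
  · have : ∃ b : Fˣ, χ (b : F) ≠ 1 := by
      by_contra hcon
      push Not at hcon
      apply h
      apply MulChar.ext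
      intro a
      rw [hcon a, MulChar.one_apply_coe]
    obtain ⟨b, hb⟩ := this
    refine eq_zero_of_mul_eq_self_left hb ?_
    rw [Finset.mul_sum]
    refine Fintype.sum_bijective (fun a => b * a) (Group.mulLeft_bijective b) _ _ ?_
    intro a
    rw [Units.val_mul, map_mul]

omit [DecidableEq F] in
theorem mulChar_conj (χ : MulChar F ℂ) (a : F) : conj (χ a) = χ⁻¹ a :=
  MulChar.star_apply' χ a

theorem mulChar_orth (α β : MulChar F ℂ) [Decidable (α = β)] :
    ∑ a : Fˣ, α (a : F) * conj (β (a : F)) = if α = β then ((Fintype.card F : ℂ) - 1) else 0 := by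
  classical
  have h1 : ∀ a : Fˣ, α (a : F) * conj (β (a : F)) = (α * β⁻¹) (a : F) := by
    intro a
    rw [mulChar_conj, MulChar.mul_apply]
  simp only [h1]
  rw [mulChar_sum_units]
  have : α * β⁻¹ = 1 ↔ α = β := mul_inv_eq_one
  simp only [this]

theorem mulChar_norm_sq (χ : MulChar F ℂ) (a : Fˣ) : χ (a : F) * conj (χ (a : F)) = 1 := by
  rw [mulChar_conj, ← MulChar.mul_apply, mul_inv_cancel, MulChar.one_apply_coe]

theorem card_mulChar : Nat.card (MulChar F ℂ) = Fintype.card F - 1 := by
  have h := MulChar.card_eq_card_units_of_hasEnoughRootsOfUnity F ℂ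
  rw [h, Nat.card_eq_fintype_card, Fintype.card_units]

theorem sum_sum_ite_affine (c : F) (w : ℂ) :
    ∑ z : F, ∑ y : F, (if c * y + z = 0 then w else 0) = (Fintype.card F : ℂ) * w := by
  classical
  rw [Finset.sum_comm]
  have : ∀ y : F, ∑ z : F, (if c * y + z = 0 then w else 0) = w := by
    intro y
    rw [Finset.sum_eq_single (-(c * y))]
    · simp
    · intro z _ hz
      rw [if_neg]
      intro h
      apply hz
      linear_combination h
    · intro h
      exact absurd (Finset.mem_univ _) h
  simp only [this, Finset.sum_const, Finset.card_univ, nsmul_eq_mul]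

end mulchar

end Cfsg.Agent.Lib.helper12
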