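import Cfsg.Agent.Lib.helper12.CharTools
import Cfsg.Agent.Lib.helper23.CharMod

set_option autoImplicit false

namespace Cfsg.Agent.Lib.helper12

open Cfsg Cfsg.Agent.Lib.helper24 Cfsg.Agent.Lib.helper23
open scoped ComplexConjugate

universe u

section general

variable {G : Type u} [Group G] [Fintype G]

/-- If a character of norm 2 contains an irreducible character with multiplicity one, the
difference is an irreducible character. -/
theorem isIrrCharacter_sub_of_norm_two {χ ψ : G → ℂ} (hχ : IsCharacter G χ) (hψ : IsIrrCharacter G ψ)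
    (h2 : classInner χ χ = 2) (h1 : classInner χ ψ = 1) : IsIrrCharacter G (χ - ψ) := by
  classical
  have hc : IsCharacter G (χ - ψ) := by
    apply isCharacter_of_nat_inner (isClassFunction_sub (isCharacter_conj_class hχ)
      (isCharacter_conj_class (isCharacter_of_isIrrCharacter hψ)))
    intro φ
    rw [classInner_sub_left]
    by_cases hφ : φ = ⟨ψ, hψ⟩
    · subst hφ
      refine ⟨0, ?_⟩
      simp only
      rw [h1, isIrrCharacter_inner_self hψ]
      simp
    · obtain ⟨n, hn⟩ := isCharacter_inner_irr_nat hχ φ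
      refine ⟨n, ?_⟩
      rw [hn, irr_inner_ne (χ := ⟨ψ, hψ⟩) (ψ := φ) (Ne.symm hφ)]
      simp
  apply isIrrCharacter_of_inner_self_eq_one hc
  have h3 : classInner ψ χ = 1 := by
    rw [classInner_conj_symm χ ψ, h1]
    simp
  rw [classInner_sub_left, classInner_sub_right, classInner_sub_right, h2, h1, h3,
    isIrrCharacter_inner_self hψ]
  norm_num

theorem sum_irr_mul_inner [Fintype (IrrCharacter G)] (g : IrrCharacter G → ℂ) (χ₀ : IrrCharacter G) :
    ∑ χ : IrrCharacter G, g χ * classInner χ₀.1 χ.1 = g χ₀ := by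
  classical
  simp only [irr_orthonormal, mul_ite, mul_one, mul_zero]
  rw [Finset.sum_ite_eq]
  simp

end general

section dual

variable {F : Type*} [Field F] [Fintype F] [DecidableEq F]

theorem mulChar_dual_sum [Fintype (MulChar F ℂ)] (x : Fˣ) :
    ∑ α : MulChar F ℂ, α (x : F) = if x = 1 then ((Fintype.card F : ℂ) - 1) else 0 := by
  split_ifs with h
  · subst h
    simp only [Units.val_one, map_one, Finset.sum_const, Finset.card_univ, nsmul_eq_mul, mul_one]
    have := card_mulChar (F := F)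
    rw [Nat.card_eq_fintype_card] at this
    rw [this, Nat.cast_sub Fintype.card_pos, Nat.cast_one]
  · have hx : (x : F) ≠ 1 := fun h' => h (Units.ext h')
    obtain ⟨χ, hχ⟩ := MulChar.exists_apply_ne_one_of_hasEnoughRootsOfUnity F ℂ hx
    refine eq_zero_of_mul_eq_self_left hχ ?_
    rw [Finset.mul_sum]
    exact Fintype.sum_bijective (fun α => χ * α) (Group.mulLeft_bijective χ) _ _
      (fun α => by rw [MulChar.mul_apply])

omit [DecidableEq F] in
theorem card_sub_one_ne_zero : ((Fintype.card F : ℂ) - 1) ≠ 0 := by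
  have hq : (2 : ℕ) ≤ Fintype.card F := Fintype.one_lt_card
  have : (Fintype.card F : ℂ) ≠ 1 := by exact_mod_cast (by omega : Fintype.card F ≠ 1)
  exact sub_ne_zero.mpr this

theorem mulChar_fourier_inj [Fintype (MulChar F ℂ)] (f : Fˣ → ℂ)
    (h : ∀ α : MulChar F ℂ, ∑ x : Fˣ, α (x : F) * f x = 0) (a : Fˣ) : f a = 0 := by
  have h1 : ∑ α : MulChar F ℂ, conj (α (a : F)) * ∑ x : Fˣ, α (x : F) * f x = 0 := by simp [h]
  have h2 : ∑ α : MulChar F ℂ, conj (α (a : F)) * ∑ x : Fˣ, α (x : F) * f x
      = ∑ x : Fˣ, (∑ α : MulChar F ℂ, α ((x * a⁻¹ : Fˣ) : F)) * f x := by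
    simp only [Finset.mul_sum, Finset.sum_mul]
    rw [Finset.sum_comm]
    apply Finset.sum_congr rfl
    intro x _
    apply Finset.sum_congr rfl
    intro α _
    rw [mulChar_conj, MulChar.inv_apply', Units.val_mul, map_mul, Units.val_inv_eq_inv_val]
    ring
  rw [h2] at h1
  simp only [mulChar_dual_sum] at h1
  rw [Finset.sum_eq_single a] at h1
  · rw [if_pos (mul_inv_cancel a)] at h1
    exact (mul_eq_zero.mp h1).resolve_left card_sub_one_ne_zero
  · intro x _ hx
    rw [if_neg, zero_mul]
    intro h'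
    exact hx (mul_inv_eq_one.mp h')
  · intro h'
    exact absurd (Finset.mem_univ _) h'

end dual

/-- A rational algebraic integer is an integer: divisibility form. -/
theorem nat_dvd_of_isIntegral {d n : ℕ} (hn : n ≠ 0) {c : ℂ} (hc : IsIntegral ℤ c)
    (h : (d : ℂ) + (n : ℂ) * c = 0) : ∃ k : ℤ, c = (k : ℂ) ∧ (d : ℤ) + (n : ℤ) * k = 0 := by
  have hn' : (n : ℂ) ≠ 0 := by exact_mod_cast hn
  have hc' : c = ((-(d : ℚ) / (n : ℚ) : ℚ) : ℂ) := by
    push_cast
    field_simp
    linear_combination h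
  rw [hc'] at hc
  obtain ⟨z, hz⟩ := rat_of_isIntegral_complex hc
  refine ⟨z, ?_, ?_⟩
  · rw [hc', ← hz]
    push_cast
    rfl
  · have hn'' : (n : ℚ) ≠ 0 := by exact_mod_cast hn
    have : (d : ℚ) + (n : ℚ) * z = 0 := by
      rw [hz]
      field_simp
      ring
    exact_mod_cast this

end Cfsg.Agent.Lib.helper12
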