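import Mathlib
import Cfsg.Agent.Lib.helper12.GL2

set_option autoImplicit false

namespace Cfsg.Agent.Lib.helper12

section inverting

variable {G : Type*} [Group G]

/-- A self-centralising cyclic subgroup `⟨s⟩` inverted by `w`, such that the only conjugates of `s`
inside `⟨s⟩` are `s` and `s⁻¹`. -/
structure InvTorus (s w : G) : Prop where
  cent : ∀ g : G, g * s = s * g → g ∈ Subgroup.zpowers s
  inv : w * s * w⁻¹ = s⁻¹
  ne : s ≠ s⁻¹
  conj : ∀ g : G, g * s * g⁻¹ ∈ Subgroup.zpowers s → g * s * g⁻¹ = s ∨ g * s * g⁻¹ = s⁻¹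

variable {s w : G}

theorem zpowers_comm {a b : G} (ha : a ∈ Subgroup.zpowers s) (hb : b ∈ Subgroup.zpowers s) :
    a * b = b * a := by
  obtain ⟨i, rfl⟩ := Subgroup.mem_zpowers_iff.mp ha
  obtain ⟨j, rfl⟩ := Subgroup.mem_zpowers_iff.mp hb
  rw [← zpow_add, ← zpow_add, add_comm]

theorem InvTorus.w_conj (h : InvTorus s w) {a : G} (ha : a ∈ Subgroup.zpowers s) :
    w * a * w⁻¹ = a⁻¹ := by
  obtain ⟨i, rfl⟩ := Subgroup.mem_zpowers_iff.mp ha
  rw [← conj_zpow, h.inv, inv_zpow]

theorem InvTorus.w_conj' (h : InvTorus s w) {a : G} (ha : a ∈ Subgroup.zpowers s) :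
    w⁻¹ * a * w = a⁻¹ := by
  have h1 := h.w_conj (Subgroup.inv_mem _ ha)
  rw [inv_inv] at h1
  calc w⁻¹ * a * w = w⁻¹ * (w * a⁻¹ * w⁻¹) * w := by rw [h1]
    _ = a⁻¹ := by group

theorem InvTorus.w_not_mem (h : InvTorus s w) : w ∉ Subgroup.zpowers s := by
  intro hw
  apply h.ne
  have h1 := zpowers_comm hw (Subgroup.mem_zpowers s)
  rw [← h.inv, h1, mul_inv_cancel_right]

theorem InvTorus.w_mem_normalizer (h : InvTorus s w) :
    w ∈ Subgroup.normalizer (Subgroup.zpowers s : Set G) := by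
  rw [Subgroup.mem_normalizer_iff]
  intro x
  constructor
  · intro hx
    rw [h.w_conj hx]
    exact Subgroup.inv_mem _ hx
  · intro hx
    have h1 := h.w_conj' hx
    have h2 : w⁻¹ * (w * x * w⁻¹) * w = x := by group
    rw [h2] at h1
    rw [h1]
    exact Subgroup.inv_mem _ hx

theorem InvTorus.mem_normalizer_iff (h : InvTorus s w) (g : G) :
    g ∈ Subgroup.normalizer (Subgroup.zpowers s : Set G) ↔
      g ∈ Subgroup.zpowers s ∨ w⁻¹ * g ∈ Subgroup.zpowers s := by
  constructor
  · intro hg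
    have h1 : g * s * g⁻¹ ∈ Subgroup.zpowers s :=
      (Subgroup.mem_normalizer_iff.mp hg s).mp (Subgroup.mem_zpowers s)
    rcases h.conj g h1 with h2 | h2
    · left
      apply h.cent
      have h3 : g * s = (g * s * g⁻¹) * g := by group
      rw [h3, h2]
    · right
      apply h.cent
      have h3 : w⁻¹ * g * s = w⁻¹ * (g * s * g⁻¹) * g := by group
      rw [h3, h2]
      have h4 := h.inv
      have h5 : w⁻¹ * s⁻¹ = s * w⁻¹ := by
        rw [← h4]
        group
      rw [h5]
      group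
  · rintro (hg | hg)
    · exact Subgroup.le_normalizer hg
    · have h1 : g = w * (w⁻¹ * g) := by group
      rw [h1]
      exact mul_mem h.w_mem_normalizer (Subgroup.le_normalizer hg)

theorem InvTorus.card_normalizer (h : InvTorus s w) :
    Nat.card (Subgroup.normalizer (Subgroup.zpowers s : Set G)) = 2 * Nat.card (Subgroup.zpowers s) := by
  have hb : Nat.card (Bool × Subgroup.zpowers s) = 2 * Nat.card (Subgroup.zpowers s) := by
    rw [Nat.card_prod, Nat.card_eq_fintype_card, Fintype.card_bool]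
  rw [← hb]
  symm
  refine Nat.card_congr (Equiv.ofBijective
    (fun p : Bool × Subgroup.zpowers s =>
      (⟨if p.1 then w * (p.2 : G) else (p.2 : G), by
        cases hp : p.1
        · simp only [Bool.false_eq_true, if_false]
          exact Subgroup.le_normalizer p.2.2
        · simp only [if_true]
          exact mul_mem h.w_mem_normalizer (Subgroup.le_normalizer p.2.2)⟩ :
        Subgroup.normalizer (Subgroup.zpowers s : Set G))) ⟨?_, ?_⟩)
  · rintro ⟨b, z⟩ ⟨b', z'⟩ hzz
    have h1 := congrArg Subtype.val hzz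
    simp only at h1
    cases b <;> cases b' <;> simp only [Bool.false_eq_true, if_false, if_true] at h1
    · rw [Subtype.ext h1]
    · exfalso
      apply h.w_not_mem
      have : w = (z : G) * (z' : G)⁻¹ := by rw [h1]; group
      rw [this]
      exact mul_mem z.2 (Subgroup.inv_mem _ z'.2)
    · exfalso
      apply h.w_not_mem
      have : w = (z' : G) * (z : G)⁻¹ := by rw [← h1]; group
      rw [this]
      exact mul_mem z'.2 (Subgroup.inv_mem _ z.2)
    · rw [Subtype.ext (mul_left_cancel h1)]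
  · rintro ⟨g, hg⟩
    rcases (h.mem_normalizer_iff g).mp hg with h1 | h1
    · refine ⟨(false, ⟨g, h1⟩), ?_⟩
      apply Subtype.ext
      simp
    · refine ⟨(true, ⟨w⁻¹ * g, h1⟩), ?_⟩
      apply Subtype.ext
      simp

theorem InvTorus.conj_of_not_mem (h : InvTorus s w) {g a : G}
    (hg : g ∈ Subgroup.normalizer (Subgroup.zpowers s : Set G)) (hg' : g ∉ Subgroup.zpowers s)
    (ha : a ∈ Subgroup.zpowers s) : g * a * g⁻¹ = a⁻¹ := by
  rcases (h.mem_normalizer_iff g).mp hg with h1 | h1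
  · exact absurd h1 hg'
  · have h2 : g * a * g⁻¹ = w * ((w⁻¹ * g) * a * (w⁻¹ * g)⁻¹) * w⁻¹ := by group
    have h3 : (w⁻¹ * g) * a * (w⁻¹ * g)⁻¹ = a := by
      rw [zpowers_comm h1 ha, mul_inv_cancel_right]
    rw [h2, h3, h.w_conj ha]

theorem InvTorus.conj_mem (h : InvTorus s w) {g a : G}
    (hg : g ∈ Subgroup.normalizer (Subgroup.zpowers s : Set G))
    (ha : a ∈ Subgroup.zpowers s) : g * a * g⁻¹ = a ∨ g * a * g⁻¹ = a⁻¹ := by
  by_cases hg' : g ∈ Subgroup.zpowers s
  · left
    rw [zpowers_comm hg' ha, mul_inv_cancel_right]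
  · right
    exact h.conj_of_not_mem hg hg' ha

theorem InvTorus.conj_zpow_w (h : InvTorus s w) (j β : ℤ) :
    s ^ j * (w * s ^ β) * (s ^ j)⁻¹ = w * s ^ (β - 2 * j) := by
  have e0 := h.w_conj' (Subgroup.zpow_mem_zpowers s j)
  have e1 : s ^ j * w = w * (s ^ j)⁻¹ := by
    calc s ^ j * w = w * (w⁻¹ * s ^ j * w) := by group
      _ = w * (s ^ j)⁻¹ := by rw [e0]
  calc s ^ j * (w * s ^ β) * (s ^ j)⁻¹ = (s ^ j * w) * s ^ β * (s ^ j)⁻¹ := by group
    _ = w * (s ^ j)⁻¹ * s ^ β * (s ^ j)⁻¹ := by rw [e1]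
    _ = w * s ^ (β - 2 * j) := by
      rw [mul_assoc, mul_assoc, ← zpow_neg, ← zpow_add, ← zpow_add]
      congr 2
      ring

theorem InvTorus.conj_wzpow_w (h : InvTorus s w) (j β : ℤ) :
    (w * s ^ j) * (w * s ^ β) * (w * s ^ j)⁻¹ = w * s ^ (2 * j - β) := by
  have e0 := h.w_conj (Subgroup.zpow_mem_zpowers s (β - 2 * j))
  calc (w * s ^ j) * (w * s ^ β) * (w * s ^ j)⁻¹
      = w * (s ^ j * (w * s ^ β) * (s ^ j)⁻¹) * w⁻¹ := by group
    _ = w * (w * s ^ (β - 2 * j) * w⁻¹) := by rw [h.conj_zpow_w]; group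
    _ = w * s ^ (2 * j - β) := by
      rw [e0, ← zpow_neg]
      congr 2
      ring

/-- The number of conjugacy classes of the normaliser of an inverted self-centralising cyclic subgroup of
even order `2 n` is `n + 3`. -/
theorem InvTorus.card_conjClasses_normalizer (h : InvTorus s w) (n : ℕ) (hn : 0 < n)
    (hs : orderOf s = 2 * n) :
    Nat.card (ConjClasses (Subgroup.normalizer (Subgroup.zpowers s : Set G))) = n + 3 := by
  classical
  have hsN : ∀ k : ℤ, s ^ k ∈ Subgroup.normalizer (Subgroup.zpowers s : Set G) :=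
    fun k => Subgroup.le_normalizer (Subgroup.zpow_mem_zpowers s k)
  have hwN : w ∈ Subgroup.normalizer (Subgroup.zpowers s : Set G) := h.w_mem_normalizer
  have hs2n : s ^ ((2 * n : ℕ) : ℤ) = 1 := by
    rw [zpow_natCast, ← hs, pow_orderOf_eq_one]
  have hdvd : ∀ k : ℤ, s ^ k = 1 → ((2 * n : ℕ) : ℤ) ∣ k := by
    intro k hk
    rw [← hs]
    exact orderOf_dvd_iff_zpow_eq_one.mpr hk
  have key := card_conjClasses_eq_of_reps
    (G := Subgroup.normalizer (Subgroup.zpowers s : Set G)) (X := Fin (n + 1) ⊕ Bool)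
    (fun x => Sum.elim (fun i : Fin (n + 1) => ⟨s ^ ((i : ℕ) : ℤ), hsN _⟩)
      (fun b : Bool => ⟨w * s ^ (if b then (1 : ℤ) else 0), mul_mem hwN (hsN _)⟩) x) ?_ ?_
  · rw [key, Nat.card_eq_fintype_card, Fintype.card_sum, Fintype.card_fin, Fintype.card_bool]
  · rintro ⟨g, hg⟩
    rcases (h.mem_normalizer_iff g).mp hg with h1 | h1
    · obtain ⟨k, hk⟩ := Subgroup.mem_zpowers_iff.mp h1
      have hkm : s ^ (k % ((2 * n : ℕ) : ℤ)) = g := by
        rw [← hk, ← hs]
        exact zpow_mod_orderOf s k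
      have hpos : (0 : ℤ) < ((2 * n : ℕ) : ℤ) := by
        have : 0 < 2 * n := by omega
        exact_mod_cast this
      have hr0 : 0 ≤ k % ((2 * n : ℕ) : ℤ) := Int.emod_nonneg _ hpos.ne'
      have hr1 : k % ((2 * n : ℕ) : ℤ) < ((2 * n : ℕ) : ℤ) := Int.emod_lt_of_pos _ hpos
      obtain ⟨r, hr⟩ := Int.eq_ofNat_of_zero_le hr0
      rw [hr] at hkm hr1
      have hr2 : r < 2 * n := by exact_mod_cast hr1
      by_cases hrn : r ≤ n
      · refine ⟨Sum.inl ⟨r, by omega⟩, ?_⟩
        simp only [Sum.elim_inl]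
        have : (⟨s ^ (r : ℤ), hsN _⟩ : Subgroup.normalizer (Subgroup.zpowers s : Set G)) = ⟨g, hg⟩ :=
          Subtype.ext hkm
        rw [this]
      · refine ⟨Sum.inl ⟨2 * n - r, by omega⟩, ?_⟩
        simp only [Sum.elim_inl]
        rw [isConj_iff]
        refine ⟨⟨w, hwN⟩, Subtype.ext ?_⟩
        simp only [Subgroup.coe_mul, Subgroup.coe_inv]
        rw [h.w_conj (Subgroup.zpow_mem_zpowers s _), ← zpow_neg, ← hkm]
        have e : -(((2 * n - r : ℕ)) : ℤ) = (r : ℤ) - ((2 * n : ℕ) : ℤ) := by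
          have : ((2 * n - r : ℕ) : ℤ) = ((2 * n : ℕ) : ℤ) - (r : ℤ) := by
            rw [Nat.cast_sub (by omega)]
          rw [this]
          ring
        rw [e, zpow_sub, hs2n, inv_one, mul_one]
    · obtain ⟨k, hk⟩ := Subgroup.mem_zpowers_iff.mp h1
      have hg' : g = w * s ^ k := by rw [hk]; group
      have hmod : k % 2 = 0 ∨ k % 2 = 1 := by omega
      refine ⟨Sum.inr (decide (k % 2 = 1)), ?_⟩
      simp only [Sum.elim_inr]
      rw [isConj_iff]
      refine ⟨⟨s ^ (-(k / 2)), hsN _⟩, Subtype.ext ?_⟩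
      simp only [Subgroup.coe_mul, Subgroup.coe_inv]
      rw [h.conj_zpow_w, hg']
      congr 2
      rcases hmod with h0 | h0
      · have : decide (k % 2 = 1) = false := by simp [h0]
        rw [this]
        simp only [Bool.false_eq_true, if_false]
        omega
      · have : decide (k % 2 = 1) = true := by simp [h0]
        rw [this]
        simp only [if_true]
        omega
  · have A : ∀ (i : Fin (n + 1)) (b : Bool),
        ¬ IsConj (⟨s ^ ((i : ℕ) : ℤ), hsN _⟩ : Subgroup.normalizer (Subgroup.zpowers s : Set G))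
          ⟨w * s ^ (if b then (1 : ℤ) else 0), mul_mem hwN (hsN _)⟩ := by
      intro i b hc
      obtain ⟨⟨c, hc1⟩, hc2⟩ := isConj_iff.mp hc
      have hc3 := congrArg Subtype.val hc2
      simp only [Subgroup.coe_mul, Subgroup.coe_inv] at hc3
      have hmem : c * s ^ ((i : ℕ) : ℤ) * c⁻¹ ∈ Subgroup.zpowers s := by
        rcases h.conj_mem hc1 (Subgroup.zpow_mem_zpowers s ((i : ℕ) : ℤ)) with h' | h'
        · rw [h']
          exact Subgroup.zpow_mem_zpowers s _
        · rw [h']
          exact Subgroup.inv_mem _ (Subgroup.zpow_mem_zpowers s _)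
      rw [hc3] at hmem
      apply h.w_not_mem
      have : w = (w * s ^ (if b then (1 : ℤ) else 0)) * (s ^ (if b then (1 : ℤ) else 0))⁻¹ := by group
      rw [this]
      exact mul_mem hmem (Subgroup.inv_mem _ (Subgroup.zpow_mem_zpowers s _))
    rintro (i | b) (i' | b') hc
    · simp only [Sum.elim_inl] at hc
      obtain ⟨⟨c, hc1⟩, hc2⟩ := isConj_iff.mp hc
      have hc3 := congrArg Subtype.val hc2
      simp only [Subgroup.coe_mul, Subgroup.coe_inv] at hc3
      have hi := i.2
      have hi' := i'.2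
      have hii : (i : ℕ) = (i' : ℕ) := by
        rcases h.conj_mem hc1 (Subgroup.zpow_mem_zpowers s ((i : ℕ) : ℤ)) with h' | h'
        · rw [h'] at hc3
          have h1 : s ^ (((i : ℕ) : ℤ) - ((i' : ℕ) : ℤ)) = 1 := by
            rw [zpow_sub, hc3, mul_inv_cancel]
          have h2 := hdvd _ h1
          have h3 : ((i : ℕ) : ℤ) - ((i' : ℕ) : ℤ) = 0 := by
            apply Int.eq_zero_of_abs_lt_dvd h2
            rw [abs_lt]
            push_cast
            constructor <;> omega
          omega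
        · rw [h'] at hc3
          have h1 : s ^ (((i : ℕ) : ℤ) + ((i' : ℕ) : ℤ)) = 1 := by
            rw [zpow_add, ← hc3, mul_inv_cancel]
          have h2 := hdvd _ h1
          by_cases h0 : ((i : ℕ) : ℤ) + ((i' : ℕ) : ℤ) = 0
          · omega
          · have h3 : (0 : ℤ) < ((i : ℕ) : ℤ) + ((i' : ℕ) : ℤ) := by omega
            have h4 := Int.le_of_dvd h3 h2
            push_cast at h4
            omega
      rw [Fin.ext hii]
    · exact absurd hc (A i b')
    · exact absurd hc.symm (A i' b)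
    · simp only [Sum.elim_inr] at hc
      obtain ⟨⟨c, hc1⟩, hc2⟩ := isConj_iff.mp hc
      have hc3 := congrArg Subtype.val hc2
      simp only [Subgroup.coe_mul, Subgroup.coe_inv] at hc3
      have h2dvd : ∀ x : ℤ, ((2 * n : ℕ) : ℤ) ∣ x → (2 : ℤ) ∣ x := by
        intro x hx
        refine Dvd.dvd.trans ?_ hx
        exact ⟨(n : ℤ), by push_cast; ring⟩
      rcases (h.mem_normalizer_iff c).mp hc1 with h1 | h1
      · obtain ⟨j, hj⟩ := Subgroup.mem_zpowers_iff.mp h1
        rw [← hj, h.conj_zpow_w] at hc3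
        have h3 := mul_left_cancel hc3
        have h4 : s ^ ((if b then (1 : ℤ) else 0) - 2 * j - (if b' then (1 : ℤ) else 0)) = 1 := by
          rw [zpow_sub, h3, mul_inv_cancel]
        have h5 := h2dvd _ (hdvd _ h4)
        cases b <;> cases b' <;> simp at h5 ⊢ <;> omega
      · obtain ⟨j, hj⟩ := Subgroup.mem_zpowers_iff.mp h1
        have hcj : c = w * s ^ j := by rw [hj]; group
        rw [hcj, h.conj_wzpow_w] at hc3
        have h3 := mul_left_cancel hc3
        have h4 : s ^ (2 * j - (if b then (1 : ℤ) else 0) - (if b' then (1 : ℤ) else 0)) = 1 := by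
          rw [zpow_sub, h3, mul_inv_cancel]
        have h5 := h2dvd _ (hdvd _ h4)
        cases b <;> cases b' <;> simp at h5 ⊢ <;> omega

theorem centralizer_map_equiv (φ : G ≃* G) (H : Subgroup G) :
    Subgroup.centralizer ((H.map φ.toMonoidHom : Subgroup G) : Set G) =
      (Subgroup.centralizer (H : Set G)).map φ.toMonoidHom := by
  ext x
  rw [Subgroup.mem_map_equiv, Subgroup.mem_centralizer_iff, Subgroup.mem_centralizer_iff]
  constructor
  · intro hx y hy
    have h1 := hx (φ y) ⟨y, hy, rfl⟩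
    apply φ.injective
    rw [map_mul, map_mul, MulEquiv.apply_symm_apply, h1]
  · intro hx y hy
    obtain ⟨y', hy', rfl⟩ := hy
    have h1 := hx y' hy'
    have h2 := congrArg φ h1
    rw [map_mul, map_mul, MulEquiv.apply_symm_apply] at h2
    exact h2

/-- Sylow `ℓ`-subgroups (`ℓ` odd) of a finite group whose `ℓ`-part is carried by an inverted
self-centralising cyclic subgroup `⟨s⟩` of order `m`: centraliser cyclic of order `m`, normaliser of
order `2 m`. -/
theorem InvTorus.sylow (h : InvTorus s w) [Finite G] (ℓ : ℕ) [Fact ℓ.Prime] (hℓ2 : ℓ ≠ 2) (m : ℕ)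
    (hm : orderOf s = m) (hℓm : ℓ ∣ m) (hfac : (Nat.card G).factorization ℓ = m.factorization ℓ)
    (hreg : ∀ x ∈ Subgroup.zpowers s, x ≠ x⁻¹ → ∀ g : G, g * x = x * g → g ∈ Subgroup.zpowers s)
    (P : Sylow ℓ G) :
    Nat.card (Subgroup.centralizer ((P : Subgroup G) : Set G)) = m ∧
    IsCyclic (Subgroup.centralizer ((P : Subgroup G) : Set G)) ∧
    Nat.card (Subgroup.normalizer ((P : Subgroup G) : Set G)) = 2 * m := by
  have hℓ : ℓ.Prime := Fact.out
  have hm0 : m ≠ 0 := by
    rw [← hm]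
    exact (orderOf_pos s).ne'
  have he : 0 < m.factorization ℓ := hℓ.factorization_pos_of_dvd hm0 hℓm
  have hdvd : ℓ ^ m.factorization ℓ ∣ m := Nat.ordProj_dvd m ℓ
  have hd0 : m / ℓ ^ m.factorization ℓ ≠ 0 :=
    (Nat.div_pos (Nat.le_of_dvd (Nat.pos_of_ne_zero hm0) hdvd) (pow_pos hℓ.pos _)).ne'
  have hs1 : orderOf (s ^ (m / ℓ ^ m.factorization ℓ)) = ℓ ^ m.factorization ℓ := by
    rw [orderOf_pow_of_dvd hd0 (by rw [hm]; exact Nat.div_dvd_of_dvd hdvd), hm,
      Nat.div_div_self hdvd hm0]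
  set s₁ := s ^ (m / ℓ ^ m.factorization ℓ) with hs₁
  have hs1Z : s₁ ∈ Subgroup.zpowers s := Subgroup.pow_mem _ (Subgroup.mem_zpowers s) _
  have hP0Z : Subgroup.zpowers s₁ ≤ Subgroup.zpowers s := Subgroup.zpowers_le.mpr hs1Z
  have hs1ne : s₁ ≠ s₁⁻¹ := by
    intro hh
    have h1 : s₁ ^ 2 = 1 := by
      rw [pow_two]
      exact mul_eq_one_iff_eq_inv.mpr hh
    have h2 := orderOf_dvd_of_pow_eq_one h1
    rw [hs1] at h2
    have h3 : ℓ ∣ 2 := (dvd_pow_self ℓ he.ne').trans h2
    exact hℓ2 ((Nat.prime_dvd_prime_iff_eq hℓ Nat.prime_two).mp h3)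
  have hcardP0 : Nat.card (Subgroup.zpowers s₁) = ℓ ^ (Nat.card G).factorization ℓ := by
    rw [Nat.card_zpowers, hs1, hfac]
  -- centraliser and normaliser of `P₀`
  have hC : Subgroup.centralizer ((Subgroup.zpowers s₁ : Subgroup G) : Set G) = Subgroup.zpowers s := by
    ext g
    rw [Subgroup.mem_centralizer_iff]
    constructor
    · intro hg
      exact hreg s₁ hs1Z hs1ne g (hg s₁ (Subgroup.mem_zpowers s₁)).symm
    · intro hg x hx
      exact zpowers_comm (hP0Z hx) hg
  have hZiff : ∀ x : G, x ∈ Subgroup.zpowers s ↔ x * s₁ = s₁ * x := by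
    intro x
    constructor
    · intro hx
      exact zpowers_comm hx hs1Z
    · intro hx
      exact hreg s₁ hs1Z hs1ne x hx
  have hN : Subgroup.normalizer ((Subgroup.zpowers s₁ : Subgroup G) : Set G) =
      Subgroup.normalizer ((Subgroup.zpowers s : Subgroup G) : Set G) := by
    ext g
    constructor
    · intro hg
      have hg1 : g * s₁ * g⁻¹ ∈ Subgroup.zpowers s₁ :=
        (Subgroup.mem_normalizer_iff.mp hg s₁).mp (Subgroup.mem_zpowers s₁)
      have hg2 : g⁻¹ * s₁ * g ∈ Subgroup.zpowers s₁ := by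
        have := (Subgroup.mem_normalizer_iff.mp (Subgroup.inv_mem _ hg) s₁).mp (Subgroup.mem_zpowers s₁)
        rwa [inv_inv] at this
      rw [Subgroup.mem_normalizer_iff]
      intro x
      constructor
      · intro hx
        rw [hZiff]
        have h1 := zpowers_comm hx (hP0Z hg2)
        calc g * x * g⁻¹ * s₁ = g * (x * (g⁻¹ * s₁ * g)) * g⁻¹ := by group
          _ = g * ((g⁻¹ * s₁ * g) * x) * g⁻¹ := by rw [h1]
          _ = s₁ * (g * x * g⁻¹) := by group
      · intro hx
        rw [hZiff]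
        have h1 := zpowers_comm hx (hP0Z hg1)
        calc x * s₁ = g⁻¹ * ((g * x * g⁻¹) * (g * s₁ * g⁻¹)) * g := by group
          _ = g⁻¹ * ((g * s₁ * g⁻¹) * (g * x * g⁻¹)) * g := by rw [h1]
          _ = s₁ * x := by group
    · intro hg
      rw [Subgroup.mem_normalizer_iff]
      intro x
      constructor
      · intro hx
        rcases h.conj_mem hg (hP0Z hx) with h1 | h1
        · rw [h1]; exact hx
        · rw [h1]; exact Subgroup.inv_mem _ hx
      · intro hx
        have hxZ : x ∈ Subgroup.zpowers s := (Subgroup.mem_normalizer_iff.mp hg x).mpr (hP0Z hx)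
        rcases h.conj_mem hg hxZ with h1 | h1
        · rw [h1] at hx; exact hx
        · rw [h1] at hx
          have := Subgroup.inv_mem _ hx
          rwa [inv_inv] at this
  -- transport to `P`
  obtain ⟨g, hg⟩ := MulAction.exists_smul_eq G (Sylow.ofCard (Subgroup.zpowers s₁) hcardP0) P
  have hP : (P : Subgroup G) = (Subgroup.zpowers s₁).map (MulAut.conj g).toMonoidHom := by
    rw [← hg]
    rfl
  rw [hP, centralizer_map_equiv, ← Subgroup.map_equiv_normalizer_eq, hC, hN]
  refine ⟨?_, ?_, ?_⟩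
  · rw [← Nat.card_congr ((Subgroup.zpowers s).equivMapOfInjective _ (MulAut.conj g).injective).toEquiv,
      Nat.card_zpowers, hm]
  · exact (((Subgroup.zpowers s).equivMapOfInjective _ (MulAut.conj g).injective).isCyclic).mp inferInstance
  · rw [← Nat.card_congr ((Subgroup.normalizer ((Subgroup.zpowers s : Subgroup G) : Set G)).equivMapOfInjective _
      (MulAut.conj g).injective).toEquiv, h.card_normalizer, Nat.card_zpowers, hm]

end inverting

end Cfsg.Agent.Lib.helper12
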