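import Mathlib
import Cfsg.Agent.Lib.helper12.SL2Torus

set_option autoImplicit false

namespace Cfsg.Agent.Lib.helper12

open Matrix

section spec

variable {F : Type*} [Field F]

theorem orderOf_eq_of_forall_pow_eq_one_iff {G : Type*} [Monoid G] (x : G) (n : ℕ)
    (h : ∀ k : ℕ, x ^ k = 1 ↔ n ∣ k) : orderOf x = n := by
  apply Nat.dvd_antisymm
  · exact orderOf_dvd_of_pow_eq_one ((h n).mpr dvd_rfl)
  · exact (h _).mp (pow_orderOf_eq_one x)

theorem SL2_mem_center_iff (g : Matrix.SpecialLinearGroup (Fin 2) F) :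
    g ∈ Subgroup.center (Matrix.SpecialLinearGroup (Fin 2) F) ↔
      ∃ a : F, (g : Matrix (Fin 2) (Fin 2) F) = a • (1 : Matrix (Fin 2) (Fin 2) F) := by
  rw [Matrix.SpecialLinearGroup.mem_center_iff]
  constructor
  · rintro ⟨r, -, hr⟩
    refine ⟨r, ?_⟩
    rw [← hr]
    ext i j
    fin_cases i <;> fin_cases j <;> simp
  · rintro ⟨a, ha⟩
    refine ⟨a, ?_, ?_⟩
    · have hdet := SL2_det_eq g
      rw [ha] at hdet
      simp at hdet
      simp only [Fintype.card_fin]
      rw [pow_two]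
      exact hdet
    · rw [ha]
      ext i j
      fin_cases i <;> fin_cases j <;> simp

theorem PSL2_mk_pow_eq_one_iff (g : Matrix.SpecialLinearGroup (Fin 2) F) (k : ℕ) :
    (QuotientGroup.mk g : Matrix.ProjectiveSpecialLinearGroup (Fin 2) F) ^ k = 1 ↔
      ∃ a : F, ((g ^ k : Matrix.SpecialLinearGroup (Fin 2) F) : Matrix (Fin 2) (Fin 2) F) =
        a • (1 : Matrix (Fin 2) (Fin 2) F) := by
  rw [← SL2_mem_center_iff]
  exact QuotientGroup.eq_one_iff (N := Subgroup.center (Matrix.SpecialLinearGroup (Fin 2) F)) (g ^ k)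

/-- Elements with `trace ^ 2 = 4`: the `p`-th power is scalar. -/
theorem SL2_pow_char_scalar (p : ℕ) [Fact p.Prime] [CharP F p] (g : Matrix.SpecialLinearGroup (Fin 2) F)
    (htr : (g : Matrix (Fin 2) (Fin 2) F).trace ^ 2 = 4) :
    ∃ a : F, ((g ^ p : Matrix.SpecialLinearGroup (Fin 2) F) : Matrix (Fin 2) (Fin 2) F) =
      a • (1 : Matrix (Fin 2) (Fin 2) F) := by
  have hp : p.Prime := Fact.out
  obtain ⟨e, he1, he2⟩ : ∃ e : F, e * e = 1 ∧ (g : Matrix (Fin 2) (Fin 2) F).trace = 2 * e := by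
    by_cases h2 : (2 : F) = 0
    · refine ⟨1, by simp, ?_⟩
      have h4 : (g : Matrix (Fin 2) (Fin 2) F).trace * (g : Matrix (Fin 2) (Fin 2) F).trace = 0 := by
        linear_combination htr + 2 * h2
      rw [mul_self_eq_zero.mp h4, h2, zero_mul]
    · refine ⟨(g : Matrix (Fin 2) (Fin 2) F).trace / 2, ?_, ?_⟩
      · field_simp
        linear_combination htr
      · field_simp
  have hsq := SL2_sq_eq g
  have hN : ((g : Matrix (Fin 2) (Fin 2) F) - e • 1) * ((g : Matrix (Fin 2) (Fin 2) F) - e • 1) = 0 := by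
    rw [Matrix.sub_mul, Matrix.mul_sub, Matrix.mul_sub, hsq, he2]
    simp only [Matrix.mul_smul, Matrix.smul_mul, Matrix.one_mul, Matrix.mul_one, smul_smul, he1]
    rw [mul_smul, two_smul, one_smul]
    abel
  have hNp : ((g : Matrix (Fin 2) (Fin 2) F) - e • 1) ^ p = 0 := by
    obtain ⟨k, hk⟩ : ∃ k, p = k + 2 := ⟨p - 2, by have := hp.two_le; omega⟩
    rw [hk, pow_add, pow_two, hN, mul_zero]
  refine ⟨e ^ p, ?_⟩
  have h1 : (g : Matrix (Fin 2) (Fin 2) F) = ((g : Matrix (Fin 2) (Fin 2) F) - e • 1) + e • 1 := by abel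
  have hcomm : Commute ((g : Matrix (Fin 2) (Fin 2) F) - e • 1) (e • (1 : Matrix (Fin 2) (Fin 2) F)) := by
    apply Commute.smul_right
    exact Commute.one_right _
  rw [Matrix.SpecialLinearGroup.coe_pow, h1, add_pow_char_of_commute p hcomm, hNp, zero_add, smul_pow, one_pow]

/-- The diagonal element `diag(a, a⁻¹)` of `SL₂`. -/
def diagSL (a : Fˣ) : Matrix.SpecialLinearGroup (Fin 2) F :=
  mkSL (a : F) 0 0 ((a⁻¹ : Fˣ) : F) (by simp)

theorem diagSL_val (a : Fˣ) :
    ((diagSL a : Matrix.SpecialLinearGroup (Fin 2) F) : Matrix (Fin 2) (Fin 2) F) = !![(a : F), 0; 0, ((a⁻¹ : Fˣ) : F)] := rfl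

theorem diagSL_mul (a b : Fˣ) : diagSL (a * b) = diagSL a * diagSL b := by
  apply Subtype.ext
  rw [Matrix.SpecialLinearGroup.coe_mul, diagSL_val, diagSL_val, diagSL_val]
  ext i j
  fin_cases i <;> fin_cases j <;> simp [Matrix.mul_apply, Fin.sum_univ_two, mul_comm]

theorem diagSL_one : diagSL (1 : Fˣ) = 1 := by
  apply Subtype.ext
  rw [diagSL_val, Matrix.SpecialLinearGroup.coe_one]
  ext i j
  fin_cases i <;> fin_cases j <;> simp

theorem diagSL_pow (a : Fˣ) (n : ℕ) : diagSL a ^ n = diagSL (a ^ n) := by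
  induction n with
  | zero => rw [pow_zero, pow_zero, diagSL_one]
  | succ n ih => rw [pow_succ, pow_succ, diagSL_mul, ih]

theorem diagSL_scalar_iff (a : Fˣ) :
    (∃ c : F, ((diagSL a : Matrix.SpecialLinearGroup (Fin 2) F) : Matrix (Fin 2) (Fin 2) F) =
      c • (1 : Matrix (Fin 2) (Fin 2) F)) ↔ a * a = 1 := by
  rw [diagSL_val]
  constructor
  · rintro ⟨c, hc⟩
    have h0 := congrFun (congrFun hc 0) 0
    have h1 := congrFun (congrFun hc 1) 1
    simp at h0 h1
    apply Units.ext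
    rw [Units.val_mul, Units.val_one]
    have : (a : F) = (a : F)⁻¹ := h0.trans h1.symm
    have ha : (a : F) ≠ 0 := a.ne_zero
    field_simp at this
    linear_combination this
  · intro h
    refine ⟨(a : F), ?_⟩
    have : a⁻¹ = a := by
      rw [inv_eq_iff_eq_inv, eq_inv_iff_mul_eq_one]
      exact h
    rw [this]
    ext i j
    fin_cases i <;> fin_cases j <;> simp

theorem diagSL_trace (a : Fˣ) :
    ((diagSL a : Matrix.SpecialLinearGroup (Fin 2) F) : Matrix (Fin 2) (Fin 2) F).trace = (a : F) + (a : F)⁻¹ := by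
  rw [diagSL_val, Matrix.trace_fin_two]
  simp

theorem SL2_isConj_diagSL (g : Matrix.SpecialLinearGroup (Fin 2) F) (a : Fˣ) (ha : (a : F) ^ 2 ≠ 1)
    (htr : (g : Matrix (Fin 2) (Fin 2) F).trace = (a : F) + (a : F)⁻¹) : IsConj (diagSL a) g := by
  have ha0 : (a : F) ≠ 0 := a.ne_zero
  have hd : (a : F)⁻¹ - (a : F) ≠ 0 := by
    intro h
    apply ha
    field_simp at h
    linear_combination -h
  have hns : ¬ ∃ c : F, (g : Matrix (Fin 2) (Fin 2) F) = c • (1 : Matrix (Fin 2) (Fin 2) F) := by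
    rintro ⟨c, hc⟩
    have hdet := SL2_det_eq g
    rw [hc] at hdet htr
    simp at hdet htr
    apply ha
    have h1 : (a : F) ^ 2 + 1 = (c + c) * a := by
      have h' : c * 2 * (a : F) = ((a : F) + (a : F)⁻¹) * (a : F) := by rw [htr]
      rw [add_mul, inv_mul_cancel₀ ha0] at h'
      linear_combination -h'
    have h2 : ((a : F) - c) ^ 2 = 0 := by linear_combination h1 + hdet
    have h3 : (a : F) = c := by
      have := pow_eq_zero_iff (two_ne_zero) |>.mp h2
      linear_combination this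
    rw [h3, pow_two]
    exact hdet
  obtain ⟨w, hw⟩ := exists_Qf_ne_zero _ hns
  have key : Qf ((diagSL a : Matrix.SpecialLinearGroup (Fin 2) F) : Matrix (Fin 2) (Fin 2) F)
      ![1, Qf (g : Matrix (Fin 2) (Fin 2) F) w / ((a : F)⁻¹ - (a : F))] = Qf (g : Matrix (Fin 2) (Fin 2) F) w := by
    rw [diagSL_val]
    generalize Qf (g : Matrix (Fin 2) (Fin 2) F) w = z
    simp only [Qf, Matrix.cons_val_zero, Matrix.cons_val_one, Matrix.of_apply, Matrix.cons_val', Matrix.cons_val_fin_one,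
      Units.val_inv_eq_inv_val]
    field_simp
    ring
  refine SL2_isConj_of_Qf _ _ ?_ _ w key ?_
  · rw [diagSL_trace, htr]
  · rw [key]
    exact hw

theorem SL2_trichotomy (g : Matrix.SpecialLinearGroup (Fin 2) F) :
    (g : Matrix (Fin 2) (Fin 2) F).trace ^ 2 = 4 ∨
      (∃ a : Fˣ, (a : F) ^ 2 ≠ 1 ∧ (g : Matrix (Fin 2) (Fin 2) F).trace = (a : F) + (a : F)⁻¹) ∨
      (∀ r : F, r ^ 2 ≠ -1 + (g : Matrix (Fin 2) (Fin 2) F).trace * r) := by
  by_cases h : ∀ r : F, r ^ 2 ≠ -1 + (g : Matrix (Fin 2) (Fin 2) F).trace * r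
  · right; right; exact h
  · push Not at h
    obtain ⟨r, hr⟩ := h
    have hr0 : r ≠ 0 := by
      rintro rfl
      simp at hr
    have htr : (g : Matrix (Fin 2) (Fin 2) F).trace = r + r⁻¹ := by
      field_simp
      linear_combination -hr
    by_cases h1 : r ^ 2 = 1
    · left
      rw [htr]
      have : r⁻¹ = r := by
        field_simp
        linear_combination -h1
      rw [this]
      linear_combination 4 * h1
    · right; left
      exact ⟨Units.mk0 r hr0, h1, htr⟩

theorem SL2_scalar_of_mul_self_eq_one (h2 : (2 : F) ≠ 0) (h : Matrix.SpecialLinearGroup (Fin 2) F)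
    (hh : h * h = 1) : ∃ a : F, (h : Matrix (Fin 2) (Fin 2) F) = a • (1 : Matrix (Fin 2) (Fin 2) F) := by
  have hh' : (h : Matrix (Fin 2) (Fin 2) F) * (h : Matrix (Fin 2) (Fin 2) F) = 1 := by
    rw [← Matrix.SpecialLinearGroup.coe_mul, hh, Matrix.SpecialLinearGroup.coe_one]
  have hsq := SL2_sq_eq h
  rw [hh'] at hsq
  have ht : (h : Matrix (Fin 2) (Fin 2) F).trace ≠ 0 := by
    intro ht
    rw [ht, zero_smul, zero_sub] at hsq
    have := congrFun (congrFun hsq 0) 0
    simp at this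
    apply h2
    linear_combination this
  refine ⟨2 / (h : Matrix (Fin 2) (Fin 2) F).trace, ?_⟩
  have h3 : (h : Matrix (Fin 2) (Fin 2) F).trace • (h : Matrix (Fin 2) (Fin 2) F) = (2 : F) • (1 : Matrix (Fin 2) (Fin 2) F) := by
    rw [two_smul]
    exact (eq_sub_iff_add_eq.mp hsq).symm
  have h4 : (h : Matrix (Fin 2) (Fin 2) F) =
      (h : Matrix (Fin 2) (Fin 2) F).trace⁻¹ • ((h : Matrix (Fin 2) (Fin 2) F).trace • (h : Matrix (Fin 2) (Fin 2) F)) := by
    rw [smul_smul, inv_mul_cancel₀ ht, one_smul]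
  refine h4.trans ?_
  rw [h3, smul_smul, div_eq_inv_mul]

theorem SL2_mul_self_eq_one_of_scalar (h : Matrix.SpecialLinearGroup (Fin 2) F)
    (hs : ∃ a : F, (h : Matrix (Fin 2) (Fin 2) F) = a • (1 : Matrix (Fin 2) (Fin 2) F)) : h * h = 1 := by
  obtain ⟨a, ha⟩ := hs
  have hdet := SL2_det_eq h
  rw [ha] at hdet
  simp at hdet
  apply Subtype.ext
  rw [Matrix.SpecialLinearGroup.coe_mul, ha, Matrix.SpecialLinearGroup.coe_one]
  simp only [Matrix.mul_smul, Matrix.smul_mul, Matrix.one_mul, smul_smul, hdet, one_smul]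

theorem SL2_eq_one_of_scalar_char_two (h2 : (2 : F) = 0) (h : Matrix.SpecialLinearGroup (Fin 2) F)
    (hs : ∃ a : F, (h : Matrix (Fin 2) (Fin 2) F) = a • (1 : Matrix (Fin 2) (Fin 2) F)) : h = 1 := by
  obtain ⟨a, ha⟩ := hs
  have hdet := SL2_det_eq h
  rw [ha] at hdet
  simp at hdet
  have h' : (a + 1) * (a + 1) = 0 := by linear_combination hdet + (a + 1) * h2
  have ha1 : a = 1 := by linear_combination mul_self_eq_zero.mp h' - h2
  apply Subtype.ext
  rw [ha, ha1, one_smul, Matrix.SpecialLinearGroup.coe_one]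

end spec

section specfin

variable {F : Type*} [Field F] [Fintype F]

theorem card_parity_cases :
    ((2 : F) ≠ 0 ∧ Fintype.card F % 2 = 1 ∧ Nat.gcd 2 (Fintype.card F - 1) = 2) ∨
      ((2 : F) = 0 ∧ Fintype.card F % 2 = 0 ∧ Nat.gcd 2 (Fintype.card F - 1) = 1) := by
  have hq : 2 ≤ Fintype.card F := Fintype.one_lt_card
  by_cases hF : ringChar F = 2
  · right
    have h2 : (2 : F) = 0 := by
      have := ringChar.Nat.cast_ringChar (R := F)
      rw [hF] at this
      exact_mod_cast this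
    have h1 := FiniteField.even_card_iff_char_two.mp hF
    refine ⟨h2, h1, ?_⟩
    exact (Nat.prime_two.coprime_iff_not_dvd).mpr (by omega)
  · left
    have h1 := FiniteField.odd_card_of_char_ne_two hF
    refine ⟨Ring.two_ne_zero hF, h1, ?_⟩
    exact Nat.gcd_eq_left (by omega)

theorem exists_orderOf_of_dvd {G : Type*} [Group G] [Finite G] (x : G) (m : ℕ) (hm : m ∣ orderOf x) :
    ∃ y : G, orderOf y = m := by
  have hpos : 0 < orderOf x := orderOf_pos x
  refine ⟨x ^ (orderOf x / m), ?_⟩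
  have h1 : orderOf x / m ∣ orderOf x := Nat.div_dvd_of_dvd hm
  have h0 : orderOf x / m ≠ 0 :=
    (Nat.div_pos (Nat.le_of_dvd hpos hm) (Nat.pos_of_dvd_of_pos hm hpos)).ne'
  rw [orderOf_pow_of_dvd h0 h1, Nat.div_div_self hm hpos.ne']

/-- Element orders of `PSL₂(q)` divide `p`, `(q - 1)/d` or `(q + 1)/d`. -/
theorem PSL2_orderOf_dvd (p : ℕ) [Fact p.Prime] [CharP F p]
    (x : Matrix.ProjectiveSpecialLinearGroup (Fin 2) F) :
    orderOf x ∣ p ∨ orderOf x ∣ (Fintype.card F - 1) / Nat.gcd 2 (Fintype.card F - 1) ∨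
      orderOf x ∣ (Fintype.card F + 1) / Nat.gcd 2 (Fintype.card F - 1) := by
  classical
  obtain ⟨g, rfl⟩ := QuotientGroup.mk_surjective x
  have hq : 2 ≤ Fintype.card F := Fintype.one_lt_card
  rcases SL2_trichotomy g with h | ⟨a, ha, htr⟩ | h
  · left
    apply orderOf_dvd_of_pow_eq_one
    rw [PSL2_mk_pow_eq_one_iff]
    exact SL2_pow_char_scalar p g h
  · right; left
    apply orderOf_dvd_of_pow_eq_one
    rw [PSL2_mk_pow_eq_one_iff]
    obtain ⟨c, hc⟩ := isConj_iff.mp (SL2_isConj_diagSL g a ha htr)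
    have hdvd : Fintype.card F - 1 ∣ 2 * ((Fintype.card F - 1) / Nat.gcd 2 (Fintype.card F - 1)) := by
      rcases card_parity_cases (F := F) with ⟨-, h1, h2⟩ | ⟨-, h1, h2⟩
      · rw [h2]
        exact ⟨1, by omega⟩
      · rw [h2, Nat.div_one]
        exact Dvd.intro_left 2 rfl
    have hak : a ^ ((Fintype.card F - 1) / Nat.gcd 2 (Fintype.card F - 1)) *
        a ^ ((Fintype.card F - 1) / Nat.gcd 2 (Fintype.card F - 1)) = 1 := by
      rw [← pow_add, ← two_mul]
      obtain ⟨e, he⟩ := hdvd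
      rw [he, pow_mul]
      have : a ^ (Fintype.card F - 1) = 1 := by
        rw [← Fintype.card_units]
        exact pow_card_eq_one
      rw [this, one_pow]
    obtain ⟨u, hu⟩ := (diagSL_scalar_iff (a ^ ((Fintype.card F - 1) / Nat.gcd 2 (Fintype.card F - 1)))).mpr hak
    refine ⟨u, ?_⟩
    rw [← hc, conj_pow, diagSL_pow, Matrix.SpecialLinearGroup.coe_mul, Matrix.SpecialLinearGroup.coe_mul, hu,
      Matrix.mul_smul, Matrix.mul_one, Matrix.smul_mul, ← Matrix.SpecialLinearGroup.coe_mul, mul_inv_cancel,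
      Matrix.SpecialLinearGroup.coe_one]
  · right; right
    apply orderOf_dvd_of_pow_eq_one
    rw [PSL2_mk_pow_eq_one_iff]
    have hg := SL2_pow_card_add_one_of_elliptic g h
    rcases card_parity_cases (F := F) with ⟨h2, h1, hgcd⟩ | ⟨h2, h1, hgcd⟩
    · rw [hgcd]
      apply SL2_scalar_of_mul_self_eq_one h2
      rw [← pow_add, ← two_mul, Nat.mul_div_cancel' (by omega : 2 ∣ Fintype.card F + 1)]
      exact hg
    · rw [hgcd, Nat.div_one, hg]
      exact ⟨1, by rw [Matrix.SpecialLinearGroup.coe_one, one_smul]⟩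

omit [Fintype F] in
theorem PSL2_exists_orderOf_char (p : ℕ) [Fact p.Prime] [CharP F p] :
    ∃ x : Matrix.ProjectiveSpecialLinearGroup (Fin 2) F, orderOf x = p := by
  have hu : orderOf (mkSL (1 : F) 1 0 1 (by ring)) = p := by
    rw [SL2_orderOf_eq_char_iff]
    constructor
    · intro h
      have := congrArg (fun x : Matrix.SpecialLinearGroup (Fin 2) F => (x : Matrix (Fin 2) (Fin 2) F) 0 1) h
      simp [mkSL_val] at this
    · rw [mkSL_val, Matrix.trace_fin_two]
      simp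
      norm_num
  refine ⟨QuotientGroup.mk (mkSL (1 : F) 1 0 1 (by ring)), ?_⟩
  apply orderOf_eq_prime
  · rw [← QuotientGroup.mk_pow, ← hu, pow_orderOf_eq_one]
    rfl
  · intro h
    have h' := (PSL2_mk_pow_eq_one_iff (mkSL (1 : F) 1 0 1 (by ring)) 1).mp (by rw [pow_one]; exact h)
    obtain ⟨c, hc⟩ := h'
    rw [pow_one, mkSL_val] at hc
    have := congrFun (congrFun hc 0) 1
    simp at this

theorem PSL2_exists_orderOf_split :
    ∃ x : Matrix.ProjectiveSpecialLinearGroup (Fin 2) F,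
      orderOf x = (Fintype.card F - 1) / Nat.gcd 2 (Fintype.card F - 1) := by
  classical
  have hq : 2 ≤ Fintype.card F := Fintype.one_lt_card
  obtain ⟨a, ha⟩ := IsCyclic.exists_generator (α := Fˣ)
  have hord : orderOf a = Fintype.card F - 1 := by
    rw [orderOf_eq_card_of_forall_mem_zpowers ha, Nat.card_eq_fintype_card, Fintype.card_units]
  refine ⟨QuotientGroup.mk (diagSL a), ?_⟩
  apply orderOf_eq_of_forall_pow_eq_one_iff
  intro k
  rw [PSL2_mk_pow_eq_one_iff, diagSL_pow, diagSL_scalar_iff, ← pow_add, ← two_mul,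
    ← orderOf_dvd_iff_pow_eq_one, hord]
  rcases card_parity_cases (F := F) with ⟨-, h1, h2⟩ | ⟨-, h1, h2⟩
  · rw [h2]
    have : Fintype.card F - 1 = 2 * ((Fintype.card F - 1) / 2) := by omega
    rw [this, Nat.mul_div_cancel_left _ (by norm_num : 0 < 2)]
    exact Nat.mul_dvd_mul_iff_left (by norm_num)
  · rw [h2, Nat.div_one]
    have hc : Nat.Coprime (Fintype.card F - 1) 2 :=
      (Nat.coprime_comm.mp ((Nat.prime_two.coprime_iff_not_dvd).mpr (by omega)))
    exact ⟨fun h => hc.dvd_of_dvd_mul_left h, fun h => Dvd.dvd.mul_left h 2⟩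

theorem PSL2_exists_orderOf_nonsplit :
    ∃ x : Matrix.ProjectiveSpecialLinearGroup (Fin 2) F,
      orderOf x = (Fintype.card F + 1) / Nat.gcd 2 (Fintype.card F - 1) := by
  have hq : 2 ≤ Fintype.card F := Fintype.one_lt_card
  obtain ⟨s, hs⟩ := exists_SL2_orderOf_card_add_one (F := F)
  refine ⟨QuotientGroup.mk s, ?_⟩
  apply orderOf_eq_of_forall_pow_eq_one_iff
  intro k
  rw [PSL2_mk_pow_eq_one_iff]
  rcases card_parity_cases (F := F) with ⟨h2, h1, hgcd⟩ | ⟨h2, h1, hgcd⟩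
  · rw [hgcd]
    have e1 : (∃ a : F, ((s ^ k : Matrix.SpecialLinearGroup (Fin 2) F) : Matrix (Fin 2) (Fin 2) F) =
        a • (1 : Matrix (Fin 2) (Fin 2) F)) ↔ s ^ (2 * k) = 1 := by
      rw [two_mul, pow_add]
      exact ⟨SL2_mul_self_eq_one_of_scalar _, SL2_scalar_of_mul_self_eq_one h2 _⟩
    rw [e1, ← orderOf_dvd_iff_pow_eq_one, hs]
    have : Fintype.card F + 1 = 2 * ((Fintype.card F + 1) / 2) := by omega
    rw [this, Nat.mul_div_cancel_left _ (by norm_num : 0 < 2)]
    exact Nat.mul_dvd_mul_iff_left (by norm_num)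
  · rw [hgcd, Nat.div_one]
    have e1 : (∃ a : F, ((s ^ k : Matrix.SpecialLinearGroup (Fin 2) F) : Matrix (Fin 2) (Fin 2) F) =
        a • (1 : Matrix (Fin 2) (Fin 2) F)) ↔ s ^ k = 1 := by
      constructor
      · exact SL2_eq_one_of_scalar_char_two h2 _
      · intro h
        rw [h]
        exact ⟨1, by rw [Matrix.SpecialLinearGroup.coe_one, one_smul]⟩
    rw [e1, ← orderOf_dvd_iff_pow_eq_one, hs]

/-- The spectrum of `PSL₂(q)`. -/
theorem PSL2_spectrum (p : ℕ) [Fact p.Prime] [CharP F p] :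
    Set.range (orderOf : Matrix.ProjectiveSpecialLinearGroup (Fin 2) F → ℕ) =
      {m : ℕ | m ∣ p ∨ m ∣ (Fintype.card F - 1) / Nat.gcd 2 (Fintype.card F - 1) ∨
        m ∣ (Fintype.card F + 1) / Nat.gcd 2 (Fintype.card F - 1)} := by
  ext m
  constructor
  · rintro ⟨x, rfl⟩
    exact PSL2_orderOf_dvd p x
  · rintro (hm | hm | hm)
    · obtain ⟨x, hx⟩ := PSL2_exists_orderOf_char (F := F) p
      rw [← hx] at hm
      exact exists_orderOf_of_dvd x m hm
    · obtain ⟨x, hx⟩ := PSL2_exists_orderOf_split (F := F)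
      rw [← hx] at hm
      exact exists_orderOf_of_dvd x m hm
    · obtain ⟨x, hx⟩ := PSL2_exists_orderOf_nonsplit (F := F)
      rw [← hx] at hm
      exact exists_orderOf_of_dvd x m hm

end specfin

end Cfsg.Agent.Lib.helper12
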