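import Mathlib
import Cfsg.Agent.Lib.helper12.PSL2Spec

set_option autoImplicit false

namespace Cfsg.Agent.Lib.helper12

section hua

variable {F : Type*} [Field F]

/-- Hua's identity: an additive subgroup closed under inversion is closed under `b ↦ a²b`. -/
theorem hua_sq_mul (A : AddSubgroup F) (hinv : ∀ a ∈ A, a⁻¹ ∈ A) {a b : F} (ha : a ∈ A)
    (hb : b ∈ A) : a * a * b ∈ A := by
  by_cases ha0 : a = 0
  · rw [ha0]
    simp [A.zero_mem]
  by_cases hb0 : b = 0
  · rw [hb0]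
    simp [A.zero_mem]
  by_cases hab : a * b = 1
  · have : a * a * b = a := by rw [mul_assoc, hab, mul_one]
    rw [this]
    exact ha
  have hu : b⁻¹ - a ≠ 0 := by
    intro h
    apply hab
    have : b⁻¹ = a := sub_eq_zero.1 h
    rw [← this, inv_mul_cancel₀ hb0]
  have h1 : (b⁻¹ - a)⁻¹ ∈ A := hinv _ (A.sub_mem (hinv b hb) ha)
  have h2 : (a⁻¹ + (b⁻¹ - a)⁻¹)⁻¹ ∈ A := hinv _ (A.add_mem (hinv a ha) h1)
  have e1 : a⁻¹ + (b⁻¹ - a)⁻¹ = (a * b * (b⁻¹ - a))⁻¹ := by
    apply eq_inv_of_mul_eq_one_left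
    have hu' : (b⁻¹ - a)⁻¹ * (b⁻¹ - a) = 1 := inv_mul_cancel₀ hu
    calc (a⁻¹ + (b⁻¹ - a)⁻¹) * (a * b * (b⁻¹ - a))
        = (a⁻¹ * a) * b * (b⁻¹ - a) + a * b * ((b⁻¹ - a)⁻¹ * (b⁻¹ - a)) := by ring
      _ = b * (b⁻¹ - a) + a * b := by rw [inv_mul_cancel₀ ha0, hu']; ring
      _ = 1 := by rw [mul_sub, mul_inv_cancel₀ hb0]; ring
  have h3 : a - (a⁻¹ + (b⁻¹ - a)⁻¹)⁻¹ = a * a * b := by
    rw [e1, inv_inv]
    have : a * b * (b⁻¹ - a) = a - a * a * b := by
      rw [mul_sub, mul_assoc a b b⁻¹, mul_inv_cancel₀ hb0]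
      ring
    rw [this]
    ring
  rw [← h3]
  exact A.sub_mem ha h2

/-- An additive subgroup of a finite field containing `1` and closed under inversion is a
subfield. -/
theorem hua_subfield [Fintype F] (A : AddSubgroup F) (h1 : (1 : F) ∈ A)
    (hinv : ∀ a ∈ A, a⁻¹ ∈ A) : ∃ K : Subfield F, ∀ x, x ∈ K ↔ x ∈ A := by
  have hsq : ∀ a ∈ A, ∀ x ∈ A, a * a * x ∈ A := fun a ha x hx => hua_sq_mul A hinv ha hx
  have hpowSt : ∀ k : F, (∀ x ∈ A, k * x ∈ A) → ∀ n : ℕ, ∀ x ∈ A, k ^ n * x ∈ A := by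
    intro k hk n
    induction n with
    | zero => intro x hx; simpa using hx
    | succ n ih => intro x hx; rw [pow_succ, mul_assoc]; exact ih _ (hk x hx)
  have key : ∀ a ∈ A, ∀ x ∈ A, a * x ∈ A := by
    intro a ha x hx
    rcases card_parity_cases (F := F) with ⟨h2, hodd, -⟩ | ⟨h2, heven, -⟩
    · have h2ax : 2 * (a * x) ∈ A := by
        have e : 2 * (a * x) = (a + 1) * (a + 1) * x - a * a * x - x := by ring
        rw [e]
        exact A.sub_mem (A.sub_mem (hsq _ (A.add_mem ha h1) x hx) (hsq a ha x hx)) hx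
      obtain ⟨m, hm⟩ : ∃ m, Fintype.card F = 2 * m + 1 := ⟨Fintype.card F / 2, by omega⟩
      have hq : ((Fintype.card F : ℕ) : F) = 0 := FiniteField.cast_card_eq_zero F
      rw [hm] at hq
      push_cast at hq
      have e : a * x = -(m • (2 * (a * x))) := by
        rw [nsmul_eq_mul]
        linear_combination (a * x) * hq
      rw [e]
      exact A.neg_mem (A.nsmul_mem h2ax m)
    · obtain ⟨m, hm⟩ : ∃ m, Fintype.card F = 2 * m := ⟨Fintype.card F / 2, by omega⟩
      have ha' : a = (a * a) ^ m := by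
        have h := FiniteField.pow_card a
        rw [hm] at h
        calc a = a ^ (2 * m) := h.symm
          _ = (a * a) ^ m := by rw [← pow_two, ← pow_mul]
      rw [ha']
      exact hpowSt (a * a) (hsq a ha) m x hx
  exact ⟨{ carrier := A
           mul_mem' := fun ha hb => key _ ha _ hb
           one_mem' := h1
           add_mem' := fun ha hb => A.add_mem ha hb
           zero_mem' := A.zero_mem
           neg_mem' := fun ha => A.neg_mem ha
           inv_mem' := fun x hx => hinv x hx }, fun x => Iff.rfl⟩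

/-- A nonzero additive subgroup of a finite field closed under inversion is a multiple of a
subfield. -/
theorem hua_general [Fintype F] (A : AddSubgroup F) (s : F) (hs : s ∈ A) (hs0 : s ≠ 0)
    (hinv : ∀ a ∈ A, a⁻¹ ∈ A) :
    ∃ K : Subfield F, s * s ∈ K ∧ ∀ x, x ∈ K ↔ s * x ∈ A := by
  let A₁ : AddSubgroup F :=
    { carrier := {x | s * x ∈ A}
      add_mem' := by
        intro a b ha hb
        show s * (a + b) ∈ A
        rw [mul_add]
        exact A.add_mem ha hb
      zero_mem' := by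
        show s * 0 ∈ A
        rw [mul_zero]
        exact A.zero_mem
      neg_mem' := by
        intro a ha
        show s * -a ∈ A
        rw [mul_neg]
        exact A.neg_mem ha }
  have h1 : (1 : F) ∈ A₁ := by
    show s * 1 ∈ A
    rw [mul_one]
    exact hs
  have hinv₁ : ∀ a ∈ A₁, a⁻¹ ∈ A₁ := by
    intro a ha
    show s * a⁻¹ ∈ A
    have : s * a⁻¹ = s * s * (s * a)⁻¹ := by
      rw [mul_inv, ← mul_assoc, mul_assoc s s s⁻¹, mul_inv_cancel₀ hs0, mul_one]
    rw [this]
    exact hua_sq_mul A hinv hs (hinv _ ha)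
  obtain ⟨K, hK⟩ := hua_subfield A₁ h1 hinv₁
  refine ⟨K, ?_, fun x => hK x⟩
  rw [hK]
  show s * (s * s) ∈ A
  have : s * (s * s) = s * s * s := by ring
  rw [this]
  exact hua_sq_mul A hinv hs hs

end hua

end Cfsg.Agent.Lib.helper12
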