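import Mathlib

set_option autoImplicit false

namespace Cfsg.Agent.Lib.helper12

section dkarith

/-- Basic lower bound for the size of a class. -/
theorem cls_ge {h j c e : ℕ} (hc : 2 ≤ c) (he : e = 1 ∨ e = 2) (hh : h = j * e * c) :
    h ≤ 4 * (j * (c - 1)) := by
  obtain ⟨c', rfl⟩ := Nat.exists_eq_add_of_le hc
  have e1 : j * (2 + c' - 1) = j * c' + j := by
    have : 2 + c' - 1 = c' + 1 := by omega
    rw [this]; ring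
  rcases he with rfl | rfl
  · have e2 : j * 1 * (2 + c') = j * c' + 2 * j := by ring
    omega
  · have e2 : j * 2 * (2 + c') = 2 * (j * c') + 4 * j := by ring
    omega

theorem cls_ge1 {h j c : ℕ} (hc : 2 ≤ c) (hh : h = j * 1 * c) :
    h ≤ 2 * (j * (c - 1)) := by
  obtain ⟨c', rfl⟩ := Nat.exists_eq_add_of_le hc
  have e1 : j * (2 + c' - 1) = j * c' + j := by
    have : 2 + c' - 1 = c' + 1 := by omega
    rw [this]; ring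
  have e2 : j * 1 * (2 + c') = j * c' + 2 * j := by ring
  omega

theorem cls_pos {h j c e : ℕ} (hc : 2 ≤ c) (he : e = 1 ∨ e = 2) (hh : h = j * e * c)
    (hj : 1 ≤ j) : 2 ≤ h := by
  rcases he with rfl | rfl
  · have : 1 * 1 * 2 ≤ j * 1 * c := Nat.mul_le_mul (Nat.mul_le_mul hj le_rfl) hc
    omega
  · have : 1 * 2 * 2 ≤ j * 2 * c := Nat.mul_le_mul (Nat.mul_le_mul hj le_rfl) hc
    omega

/-- One class. -/
theorem arith_s1 {h j c e : ℕ} (hc : 2 ≤ c) (he : e = 1 ∨ e = 2) (hh : h = j * e * c)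
    (hj : 1 ≤ j) (hs : j * (c - 1) = h - 1) : e = 1 ∧ j = 1 := by
  obtain ⟨c', rfl⟩ := Nat.exists_eq_add_of_le hc
  have e1 : j * (2 + c' - 1) = j * c' + j := by
    have : 2 + c' - 1 = c' + 1 := by omega
    rw [this]; ring
  rcases he with rfl | rfl
  · have e2 : j * 1 * (2 + c') = j * c' + 2 * j := by ring
    omega
  · have e2 : j * 2 * (2 + c') = 2 * (j * c') + 4 * j := by ring
    omega

/-- Two classes with `e₁ = 1`, `e₂ = 2`. -/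
theorem arith_s2_12 {h j₁ c₁ j₂ c₂ : ℕ} (hc₁ : 2 ≤ c₁) (hc₂ : 2 ≤ c₂)
    (hh₁ : h = j₁ * 1 * c₁) (hh₂ : h = j₂ * 2 * c₂) (hj₁ : 1 ≤ j₁) (hj₂ : 1 ≤ j₂)
    (hs : j₁ * (c₁ - 1) + j₂ * (c₂ - 1) = h - 1) :
    j₂ = 1 ∨ (h = 12 ∧ c₁ = 3 ∧ c₂ = 2) := by
  obtain ⟨d₂, rfl⟩ := Nat.exists_eq_add_of_le hc₂
  have e2 : j₂ * (2 + d₂ - 1) = j₂ * d₂ + j₂ := by
    have : 2 + d₂ - 1 = d₂ + 1 := by omega
    rw [this]; ring
  have e2' : j₂ * 2 * (2 + d₂) = 2 * (j₂ * d₂) + 4 * j₂ := by ring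
  rcases (by omega : c₁ = 2 ∨ c₁ = 3 ∨ 4 ≤ c₁) with rfl | rfl | h4
  · left
    omega
  · right
    have hd : d₂ = 0 := by
      by_contra hd
      have : j₂ * 1 ≤ j₂ * d₂ := Nat.mul_le_mul_left _ (by omega)
      omega
    subst hd
    omega
  · exfalso
    obtain ⟨d₁, rfl⟩ := Nat.exists_eq_add_of_le h4
    have e1 : j₁ * (4 + d₁ - 1) = j₁ * d₁ + 3 * j₁ := by
      have : 4 + d₁ - 1 = d₁ + 3 := by omega
      rw [this]; ring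
    have e1' : j₁ * 1 * (4 + d₁) = j₁ * d₁ + 4 * j₁ := by ring
    omega

theorem arith_s2 {h j₁ c₁ e₁ j₂ c₂ e₂ : ℕ} (hc₁ : 2 ≤ c₁) (hc₂ : 2 ≤ c₂)
    (he₁ : e₁ = 1 ∨ e₁ = 2) (he₂ : e₂ = 1 ∨ e₂ = 2)
    (hh₁ : h = j₁ * e₁ * c₁) (hh₂ : h = j₂ * e₂ * c₂) (hj₁ : 1 ≤ j₁) (hj₂ : 1 ≤ j₂)
    (hs : j₁ * (c₁ - 1) + j₂ * (c₂ - 1) = h - 1) :
    (e₁ = 1 ∧ e₂ = 2 ∧ (j₂ = 1 ∨ (h = 12 ∧ c₁ = 3 ∧ c₂ = 2))) ∨
    (e₁ = 2 ∧ e₂ = 1 ∧ (j₁ = 1 ∨ (h = 12 ∧ c₂ = 3 ∧ c₁ = 2))) := by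
  have hpos := cls_pos hc₁ he₁ hh₁ hj₁
  rcases he₁ with rfl | rfl <;> rcases he₂ with rfl | rfl
  · exfalso
    have := cls_ge1 hc₁ hh₁
    have := cls_ge1 hc₂ hh₂
    omega
  · left
    exact ⟨rfl, rfl, arith_s2_12 hc₁ hc₂ hh₁ hh₂ hj₁ hj₂ hs⟩
  · right
    exact ⟨rfl, rfl, arith_s2_12 hc₂ hc₁ hh₂ hh₁ hj₂ hj₁ (by rw [add_comm]; exact hs)⟩
  · exfalso
    obtain ⟨d₁, rfl⟩ := Nat.exists_eq_add_of_le hc₁
    obtain ⟨d₂, rfl⟩ := Nat.exists_eq_add_of_le hc₂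
    have e1 : j₁ * (2 + d₁ - 1) = j₁ * d₁ + j₁ := by
      have : 2 + d₁ - 1 = d₁ + 1 := by omega
      rw [this]; ring
    have e2 : j₂ * (2 + d₂ - 1) = j₂ * d₂ + j₂ := by
      have : 2 + d₂ - 1 = d₂ + 1 := by omega
      rw [this]; ring
    have e1' : j₁ * 2 * (2 + d₁) = 2 * (j₁ * d₁) + 4 * j₁ := by ring
    have e2' : j₂ * 2 * (2 + d₂) = 2 * (j₂ * d₂) + 4 * j₂ := by ring
    omega

/-- Three classes, all with `e = 2`, first of size two. -/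
theorem arith_s3_aux {h j₁ j₂ c₂ j₃ c₃ : ℕ} (hc₂ : 2 ≤ c₂) (hc₃ : 2 ≤ c₃)
    (hh₁ : h = j₁ * 2 * 2) (hh₂ : h = j₂ * 2 * c₂) (hh₃ : h = j₃ * 2 * c₃)
    (hj₁ : 1 ≤ j₁) (hj₂ : 1 ≤ j₂) (hj₃ : 1 ≤ j₃)
    (hs : h + 2 = 2 * (j₁ + j₂ + j₃)) :
    (j₂ = 1 ∨ j₃ = 1) ∨ (h = 12 ∧ c₂ = 3 ∧ c₃ = 3) ∨
    (h = 24 ∧ ((c₂ = 3 ∧ j₂ = 4 ∧ c₃ = 4) ∨ (c₂ = 4 ∧ c₃ = 3 ∧ j₃ = 4))) ∨
    (h = 60 ∧ ((c₂ = 3 ∧ c₃ = 5) ∨ (c₂ = 5 ∧ c₃ = 3))) := by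
  have key : ∀ {j c : ℕ}, 6 ≤ c → h = j * 2 * c → 12 * j ≤ h := by
    intro j c hc hh
    rw [hh]
    have : j * 2 * 6 ≤ j * 2 * c := Nat.mul_le_mul_left _ hc
    omega
  have key4 : ∀ {j c : ℕ}, 4 ≤ c → h = j * 2 * c → 8 * j ≤ h := by
    intro j c hc hh
    rw [hh]
    have : j * 2 * 4 ≤ j * 2 * c := Nat.mul_le_mul_left _ hc
    omega
  rcases (by omega : c₂ = 2 ∨ c₂ = 3 ∨ c₂ = 4 ∨ c₂ = 5 ∨ 6 ≤ c₂) with rfl | rfl | rfl | rfl | h6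
  · left; right; omega
  · rcases (by omega : c₃ = 2 ∨ c₃ = 3 ∨ c₃ = 4 ∨ c₃ = 5 ∨ 6 ≤ c₃) with rfl | rfl | rfl | rfl | h6
    · left; left; omega
    · right; left; omega
    · right; right; left; omega
    · right; right; right; omega
    · exfalso
      have := key h6 hh₃
      omega
  · rcases (by omega : c₃ = 2 ∨ c₃ = 3 ∨ 4 ≤ c₃) with rfl | rfl | h4
    · left; left; omega
    · right; right; left; omega
    · exfalso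
      have := key4 h4 hh₃
      omega
  · rcases (by omega : c₃ = 2 ∨ c₃ = 3 ∨ 4 ≤ c₃) with rfl | rfl | h4
    · left; left; omega
    · right; right; right; omega
    · exfalso
      have := key4 h4 hh₃
      omega
  · rcases (by omega : c₃ = 2 ∨ c₃ = 3 ∨ 4 ≤ c₃) with rfl | rfl | h4
    · left; left; omega
    · exfalso
      have := key h6 hh₂
      omega
    · exfalso
      have := key4 h4 hh₃
      have := key h6 hh₂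
      omega

/-- Three classes. -/
theorem arith_s3 {h j₁ c₁ e₁ j₂ c₂ e₂ j₃ c₃ e₃ : ℕ} (hc₁ : 2 ≤ c₁) (hc₂ : 2 ≤ c₂) (hc₃ : 2 ≤ c₃)
    (he₁ : e₁ = 1 ∨ e₁ = 2) (he₂ : e₂ = 1 ∨ e₂ = 2) (he₃ : e₃ = 1 ∨ e₃ = 2)
    (hh₁ : h = j₁ * e₁ * c₁) (hh₂ : h = j₂ * e₂ * c₂) (hh₃ : h = j₃ * e₃ * c₃)
    (hj₁ : 1 ≤ j₁) (hj₂ : 1 ≤ j₂) (hj₃ : 1 ≤ j₃)
    (hs : j₁ * (c₁ - 1) + j₂ * (c₂ - 1) + j₃ * (c₃ - 1) = h - 1) :
    (e₁ = 2 ∧ e₂ = 2 ∧ e₃ = 2) ∧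
    ((j₁ = 1 ∨ j₂ = 1 ∨ j₃ = 1) ∨
     (h = 12 ∧ ((c₁ = 3 ∧ c₂ = 3) ∨ (c₁ = 3 ∧ c₃ = 3) ∨ (c₂ = 3 ∧ c₃ = 3))) ∨
     (h = 24 ∧ (c₁ ≤ 4 ∧ c₂ ≤ 4 ∧ c₃ ≤ 4) ∧
        ((c₁ = 3 ∧ j₁ = 4) ∨ (c₂ = 3 ∧ j₂ = 4) ∨ (c₃ = 3 ∧ j₃ = 4))) ∨
     (h = 60 ∧ (c₁ = 2 ∨ c₁ = 3 ∨ c₁ = 5) ∧ (c₂ = 2 ∨ c₂ = 3 ∨ c₂ = 5) ∧
        (c₃ = 2 ∨ c₃ = 3 ∨ c₃ = 5))) := by
  have hpos := cls_pos hc₁ he₁ hh₁ hj₁
  have g1 := cls_ge hc₁ he₁ hh₁
  have g2 := cls_ge hc₂ he₂ hh₂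
  have g3 := cls_ge hc₃ he₃ hh₃
  have he₁' : e₁ = 2 := by
    rcases he₁ with rfl | rfl
    · have := cls_ge1 hc₁ hh₁
      omega
    · rfl
  have he₂' : e₂ = 2 := by
    rcases he₂ with rfl | rfl
    · have := cls_ge1 hc₂ hh₂
      omega
    · rfl
  have he₃' : e₃ = 2 := by
    rcases he₃ with rfl | rfl
    · have := cls_ge1 hc₃ hh₃
      omega
    · rfl
  subst he₁' he₂' he₃'
  refine ⟨⟨rfl, rfl, rfl⟩, ?_⟩
  have hsum : h + 2 = 2 * (j₁ + j₂ + j₃) := by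
    obtain ⟨d₁, rfl⟩ := Nat.exists_eq_add_of_le hc₁
    obtain ⟨d₂, rfl⟩ := Nat.exists_eq_add_of_le hc₂
    obtain ⟨d₃, rfl⟩ := Nat.exists_eq_add_of_le hc₃
    have e1 : j₁ * (2 + d₁ - 1) = j₁ * d₁ + j₁ := by
      have : 2 + d₁ - 1 = d₁ + 1 := by omega
      rw [this]; ring
    have e2 : j₂ * (2 + d₂ - 1) = j₂ * d₂ + j₂ := by
      have : 2 + d₂ - 1 = d₂ + 1 := by omega
      rw [this]; ring
    have e3 : j₃ * (2 + d₃ - 1) = j₃ * d₃ + j₃ := by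
      have : 2 + d₃ - 1 = d₃ + 1 := by omega
      rw [this]; ring
    have e1' : j₁ * 2 * (2 + d₁) = 2 * (j₁ * d₁) + 4 * j₁ := by ring
    have e2' : j₂ * 2 * (2 + d₂) = 2 * (j₂ * d₂) + 4 * j₂ := by ring
    have e3' : j₃ * 2 * (2 + d₃) = 2 * (j₃ * d₃) + 4 * j₃ := by ring
    omega
  have key3 : ∀ {j c : ℕ}, 3 ≤ c → h = j * 2 * c → 6 * j ≤ h := by
    intro j c hc hh
    rw [hh]
    have : j * 2 * 3 ≤ j * 2 * c := Nat.mul_le_mul_left _ hc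
    omega
  rcases (by omega : c₁ = 2 ∨ 3 ≤ c₁) with rfl | h3₁
  · rcases arith_s3_aux hc₂ hc₃ hh₁ hh₂ hh₃ hj₁ hj₂ hj₃ hsum with h | h | h | h
    · left; omega
    · right; left; omega
    · right; right; left; omega
    · right; right; right; omega
  rcases (by omega : c₂ = 2 ∨ 3 ≤ c₂) with rfl | h3₂
  · rcases arith_s3_aux hc₁ hc₃ hh₂ hh₁ hh₃ hj₂ hj₁ hj₃ (by omega) with h | h | h | h
    · left; omega
    · right; left; omega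
    · right; right; left; omega
    · right; right; right; omega
  rcases (by omega : c₃ = 2 ∨ 3 ≤ c₃) with rfl | h3₃
  · rcases arith_s3_aux hc₁ hc₂ hh₃ hh₁ hh₂ hj₃ hj₁ hj₂ (by omega) with h | h | h | h
    · left; omega
    · right; left; omega
    · right; right; left; omega
    · right; right; right; omega
  exfalso
  have := key3 h3₁ hh₁
  have := key3 h3₂ hh₂
  have := key3 h3₃ hh₃
  omega

/-- Four classes are impossible. -/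
theorem arith_s4 {h j₁ c₁ e₁ j₂ c₂ e₂ j₃ c₃ e₃ j₄ c₄ e₄ : ℕ} (hc₁ : 2 ≤ c₁) (hc₂ : 2 ≤ c₂)
    (hc₃ : 2 ≤ c₃) (hc₄ : 2 ≤ c₄)
    (he₁ : e₁ = 1 ∨ e₁ = 2) (he₂ : e₂ = 1 ∨ e₂ = 2) (he₃ : e₃ = 1 ∨ e₃ = 2)
    (he₄ : e₄ = 1 ∨ e₄ = 2)
    (hh₁ : h = j₁ * e₁ * c₁) (hh₂ : h = j₂ * e₂ * c₂) (hh₃ : h = j₃ * e₃ * c₃)
    (hh₄ : h = j₄ * e₄ * c₄) (hj₁ : 1 ≤ j₁)
    (hs : j₁ * (c₁ - 1) + j₂ * (c₂ - 1) + j₃ * (c₃ - 1) + j₄ * (c₄ - 1) ≤ h - 1) : False := by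
  have hpos := cls_pos hc₁ he₁ hh₁ hj₁
  have g1 := cls_ge hc₁ he₁ hh₁
  have g2 := cls_ge hc₂ he₂ hh₂
  have g3 := cls_ge hc₃ he₃ hh₃
  have g4 := cls_ge hc₄ he₄ hh₄
  omega

/-- Unipotent class only (`k = 1`). -/
theorem arith_u1_s0 {h j₀ P : ℕ} (hP : 2 ≤ P) (hh : h = j₀ * 1 * P) (hj : 1 ≤ j₀)
    (hs : j₀ * (P - 1) = h - 1) : j₀ = 1 := by
  obtain ⟨P', rfl⟩ := Nat.exists_eq_add_of_le hP
  have e1 : j₀ * (2 + P' - 1) = j₀ * P' + j₀ := by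
    have : 2 + P' - 1 = P' + 1 := by omega
    rw [this]; ring
  have e2 : j₀ * 1 * (2 + P') = j₀ * P' + 2 * j₀ := by ring
  omega

/-- Unipotent class with `k = 1` and one torus class. -/
theorem arith_u1_s1 {h j₀ P j₁ c₁ e₁ : ℕ} (hP : 2 ≤ P) (hh : h = j₀ * 1 * P) (hj : 1 ≤ j₀)
    (hc₁ : 2 ≤ c₁) (he₁ : e₁ = 1 ∨ e₁ = 2) (hh₁ : h = j₁ * e₁ * c₁) (hj₁ : 1 ≤ j₁)
    (hs : j₀ * (P - 1) + j₁ * (c₁ - 1) = h - 1) :
    (P = 2 ∧ e₁ = 2 ∧ j₁ = 1) ∨ (P = 3 ∧ h = 12 ∧ c₁ = 2 ∧ e₁ = 2) := by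
  have g1 := cls_ge hc₁ he₁ hh₁
  obtain ⟨d₁, rfl⟩ := Nat.exists_eq_add_of_le hc₁
  have e1 : j₁ * (2 + d₁ - 1) = j₁ * d₁ + j₁ := by
    have : 2 + d₁ - 1 = d₁ + 1 := by omega
    rw [this]; ring
  rcases (by omega : P = 2 ∨ P = 3 ∨ 4 ≤ P) with rfl | rfl | h4
  · left
    rcases he₁ with rfl | rfl
    · have e1' : j₁ * 1 * (2 + d₁) = j₁ * d₁ + 2 * j₁ := by ring
      omega
    · have e1' : j₁ * 2 * (2 + d₁) = 2 * (j₁ * d₁) + 4 * j₁ := by ring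
      omega
  · right
    rcases he₁ with rfl | rfl
    · have e1' : j₁ * 1 * (2 + d₁) = j₁ * d₁ + 2 * j₁ := by ring
      omega
    · have e1' : j₁ * 2 * (2 + d₁) = 2 * (j₁ * d₁) + 4 * j₁ := by ring
      have hd : d₁ = 0 := by
        by_contra hd
        have : j₁ * 1 ≤ j₁ * d₁ := Nat.mul_le_mul_left _ (by omega)
        omega
      subst hd
      omega
  · exfalso
    obtain ⟨P', rfl⟩ := Nat.exists_eq_add_of_le h4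
    have e0 : j₀ * (4 + P' - 1) = j₀ * P' + 3 * j₀ := by
      have : 4 + P' - 1 = P' + 3 := by omega
      rw [this]; ring
    have e0' : j₀ * 1 * (4 + P') = j₀ * P' + 4 * j₀ := by ring
    omega

/-- Unipotent class with `k = 1` and two torus classes: impossible. -/
theorem arith_u1_s2 {h j₀ P j₁ c₁ e₁ j₂ c₂ e₂ : ℕ} (hP : 2 ≤ P) (hh : h = j₀ * 1 * P)
    (hj : 1 ≤ j₀) (hc₁ : 2 ≤ c₁) (he₁ : e₁ = 1 ∨ e₁ = 2) (hh₁ : h = j₁ * e₁ * c₁)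
    (hc₂ : 2 ≤ c₂) (he₂ : e₂ = 1 ∨ e₂ = 2) (hh₂ : h = j₂ * e₂ * c₂)
    (hs : j₀ * (P - 1) + j₁ * (c₁ - 1) + j₂ * (c₂ - 1) ≤ h - 1) : False := by
  have g1 := cls_ge hc₁ he₁ hh₁
  have g2 := cls_ge hc₂ he₂ hh₂
  obtain ⟨P', rfl⟩ := Nat.exists_eq_add_of_le hP
  have e0 : j₀ * (2 + P' - 1) = j₀ * P' + j₀ := by
    have : 2 + P' - 1 = P' + 1 := by omega
    rw [this]; ring
  have e0' : j₀ * 1 * (2 + P') = j₀ * P' + 2 * j₀ := by ring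
  omega

/-- `k ≥ 2`, the torus class of the complement has `e = 1`, two classes exhaust. -/
theorem arith_u2_e1_s2 {h j₀ P k j₁ : ℕ} (hP : 2 ≤ P) (hk : 2 ≤ k) (hh : h = j₀ * k * P)
    (hj : 1 ≤ j₀) (hh₁ : h = j₁ * 1 * k)
    (hs : j₀ * (P - 1) + j₁ * (k - 1) = h - 1) : j₀ = 1 := by
  have hj₁ : j₁ = j₀ * P := by
    have : j₁ * k = j₀ * P * k := by rw [← mul_one j₁, ← hh₁, hh]; ring
    exact Nat.eq_of_mul_eq_mul_right (by omega) this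
  subst hj₁
  obtain ⟨P', rfl⟩ := Nat.exists_eq_add_of_le hP
  obtain ⟨k', rfl⟩ := Nat.exists_eq_add_of_le hk
  have e0 : j₀ * (2 + P' - 1) = j₀ * P' + j₀ := by
    have : 2 + P' - 1 = P' + 1 := by omega
    rw [this]; ring
  have e1 : j₀ * (2 + P') * (2 + k' - 1) = j₀ * P' * k' + 2 * (j₀ * k') + j₀ * P' + 2 * j₀ := by
    have : 2 + k' - 1 = k' + 1 := by omega
    rw [this]; ring
  have e2 : j₀ * (2 + k') * (2 + P') = j₀ * P' * k' + 2 * (j₀ * k') + 2 * (j₀ * P') + 4 * j₀ := by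
    ring
  rw [hh, e0, e1, e2] at hs
  omega

/-- `k ≥ 2`, the torus class of the complement has `e = 1`: no third class. -/
theorem arith_u2_e1_s3 {h j₀ P k j₁ j₂ c₂ e₂ : ℕ} (hP : 2 ≤ P) (hk : 2 ≤ k)
    (hh : h = j₀ * k * P) (hj : 1 ≤ j₀) (hh₁ : h = j₁ * 1 * k)
    (hc₂ : 2 ≤ c₂) (he₂ : e₂ = 1 ∨ e₂ = 2) (hh₂ : h = j₂ * e₂ * c₂)
    (hs : j₀ * (P - 1) + j₁ * (k - 1) + j₂ * (c₂ - 1) ≤ h - 1) : False := by
  have g2 := cls_ge hc₂ he₂ hh₂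
  have hj₁ : j₁ = j₀ * P := by
    have : j₁ * k = j₀ * P * k := by rw [← mul_one j₁, ← hh₁, hh]; ring
    exact Nat.eq_of_mul_eq_mul_right (by omega) this
  subst hj₁
  obtain ⟨P', rfl⟩ := Nat.exists_eq_add_of_le hP
  obtain ⟨k', rfl⟩ := Nat.exists_eq_add_of_le hk
  have e0 : j₀ * (2 + P' - 1) = j₀ * P' + j₀ := by
    have : 2 + P' - 1 = P' + 1 := by omega
    rw [this]; ring
  have e1 : j₀ * (2 + P') * (2 + k' - 1) = j₀ * P' * k' + 2 * (j₀ * k') + j₀ * P' + 2 * j₀ := by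
    have : 2 + k' - 1 = k' + 1 := by omega
    rw [this]; ring
  have e2 : j₀ * (2 + k') * (2 + P') = j₀ * P' * k' + 2 * (j₀ * k') + 2 * (j₀ * P') + 4 * j₀ := by
    ring
  rw [hh, e0, e1, e2] at hs
  rw [hh, e2] at g2
  omega

/-- `k ≥ 2`, the torus class of the complement has `e = 2`: two classes do not exhaust. -/
theorem arith_u2_e2_s2 {h j₀ P k j₁ : ℕ} (hP : 2 ≤ P) (hk : 2 ≤ k) (hh : h = j₀ * k * P)
    (hj : 1 ≤ j₀) (hh₁ : h = j₁ * 2 * k)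
    (hs : j₀ * (P - 1) + j₁ * (k - 1) = h - 1) : False := by
  have hj₁ : 2 * j₁ = j₀ * P := by
    have : 2 * j₁ * k = j₀ * P * k := by
      have e : 2 * j₁ * k = j₁ * 2 * k := by ring
      rw [e, ← hh₁, hh]; ring
    exact Nat.eq_of_mul_eq_mul_right (by omega) this
  obtain ⟨P', rfl⟩ := Nat.exists_eq_add_of_le hP
  obtain ⟨k', rfl⟩ := Nat.exists_eq_add_of_le hk
  have e0 : j₀ * (2 + P' - 1) = j₀ * P' + j₀ := by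
    have : 2 + P' - 1 = P' + 1 := by omega
    rw [this]; ring
  have e0' : j₀ * (2 + P') = j₀ * P' + 2 * j₀ := by ring
  have e1 : j₁ * (2 + k' - 1) = j₁ * k' + j₁ := by
    have : 2 + k' - 1 = k' + 1 := by omega
    rw [this]; ring
  have e2 : j₁ * 2 * (2 + k') = 2 * (j₁ * k') + 4 * j₁ := by ring
  rw [hh₁, e0, e1, e2] at hs
  omega

theorem coprime_mul_add_one (a b : ℕ) : Nat.Coprime (a * b + 1) a := by
  rw [Nat.coprime_iff_gcd_eq_one]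
  have h1 : Nat.gcd (a * b + 1) a ∣ a * b + 1 := Nat.gcd_dvd_left _ _
  have h2 : Nat.gcd (a * b + 1) a ∣ a * b := Dvd.dvd.mul_right (Nat.gcd_dvd_right _ _) _
  exact Nat.eq_one_of_dvd_one ((Nat.dvd_add_right h2).mp h1)

theorem arith_core {P' r k c₂ : ℕ} (hk : 2 ≤ k) (hkP : k ≤ P' + 1) (hr : 2 ≤ r)
    (hD : (r * P' + 1) * c₂ = (r * (P' + 2) + 1) * k) : r = 3 ∧ P' = 1 ∧ k = 2 ∧ c₂ = 5 := by
  have hdvd : (r * P' + 1) ∣ 2 * k * r := by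
    have h1 : (r * P' + 1) ∣ (r * (P' + 2) + 1) * k := ⟨c₂, hD.symm⟩
    have h2 : (r * (P' + 2) + 1) * k = (r * P' + 1) * k + 2 * k * r := by ring
    rw [h2] at h1
    exact (Nat.dvd_add_right (Dvd.intro _ rfl)).mp h1
  have hdvd2 : (r * P' + 1) ∣ 2 * k :=
    (coprime_mul_add_one r P').dvd_of_dvd_mul_right hdvd
  have hle : r * P' + 1 ≤ 2 * k := Nat.le_of_dvd (by omega) hdvd2
  have hP1 : 1 ≤ P' := by omega
  by_cases hr2 : r = 2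
  · exfalso
    subst hr2
    have hc : Nat.Coprime (2 * P' + 1) 2 := coprime_mul_add_one 2 P'
    have hd3 : (2 * P' + 1) ∣ k := by
      have : (2 * P' + 1) ∣ k * 2 := by rw [Nat.mul_comm k 2]; exact hdvd2
      exact hc.dvd_of_dvd_mul_right this
    have := Nat.le_of_dvd (by omega) hd3
    omega
  · have h3 : 3 * P' ≤ r * P' := Nat.mul_le_mul_right _ (by omega)
    have hP' : P' = 1 := by omega
    subst hP'
    have hr3 : r = 3 := by omega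
    subst hr3
    have hk2 : k = 2 := by omega
    subst hk2
    refine ⟨rfl, rfl, rfl, ?_⟩
    omega

/-- `k ≥ 2`, `e₁ = 2`, exactly three classes. -/
theorem arith_u2_e2_s3 {h j₀ P k j₁ j₂ c₂ e₂ : ℕ} (hP : 2 ≤ P) (hk : 2 ≤ k) (hkP : k ≤ P - 1)
    (hh : h = j₀ * k * P) (hj : 1 ≤ j₀) (hdiv : P ∣ j₀ - 1) (hh₁ : h = j₁ * 2 * k)
    (hc₂ : 2 ≤ c₂) (he₂ : e₂ = 1 ∨ e₂ = 2) (hh₂ : h = j₂ * e₂ * c₂) (hj₂ : 1 ≤ j₂)
    (hs : j₀ * (P - 1) + j₁ * (k - 1) + j₂ * (c₂ - 1) = h - 1) :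
    j₀ = 1 ∨ j₀ = P + 1 ∨ (P = 3 ∧ k = 2 ∧ c₂ = 5 ∧ h = 60) := by
  have hj₁ : 2 * j₁ = j₀ * P := by
    have : 2 * j₁ * k = j₀ * P * k := by
      have e : 2 * j₁ * k = j₁ * 2 * k := by ring
      rw [e, ← hh₁, hh]; ring
    exact Nat.eq_of_mul_eq_mul_right (by omega) this
  obtain ⟨P', rfl⟩ := Nat.exists_eq_add_of_le hP
  obtain ⟨k', rfl⟩ := Nat.exists_eq_add_of_le hk
  obtain ⟨d₂, rfl⟩ := Nat.exists_eq_add_of_le hc₂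
  have e0 : j₀ * (2 + P' - 1) = j₀ * P' + j₀ := by
    have : 2 + P' - 1 = P' + 1 := by omega
    rw [this]; ring
  have e0' : j₀ * (2 + P') = j₀ * P' + 2 * j₀ := by ring
  have e1 : j₁ * (2 + k' - 1) = j₁ * k' + j₁ := by
    have : 2 + k' - 1 = k' + 1 := by omega
    rw [this]; ring
  have e1' : j₁ * 2 * (2 + k') = 2 * (j₁ * k') + 4 * j₁ := by ring
  have e2 : j₂ * (2 + d₂ - 1) = j₂ * d₂ + j₂ := by
    have : 2 + d₂ - 1 = d₂ + 1 := by omega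
    rw [this]; ring
  have he₂' : e₂ = 2 := by
    rcases he₂ with rfl | rfl
    · exfalso
      have e2' : j₂ * 1 * (2 + d₂) = j₂ * d₂ + 2 * j₂ := by ring
      rw [hh₁, e0, e1, e2, e1'] at hs
      rw [hh₁, e1', e2'] at hh₂
      omega
    · rfl
  subst he₂'
  have e2' : j₂ * 2 * (2 + d₂) = 2 * (j₂ * d₂) + 4 * j₂ := by ring
  have hj₂' : j₂ + j₀ = j₁ + 1 := by
    rw [hh₁, e0, e1, e2, e1'] at hs
    rw [hh₁, e1', e2'] at hh₂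
    omega
  have hprod : j₂ * (2 + d₂) = j₁ * (2 + k') := by
    have : j₂ * 2 * (2 + d₂) = j₁ * 2 * (2 + k') := by rw [← hh₂, ← hh₁]
    have h2 : 2 * (j₂ * (2 + d₂)) = 2 * (j₁ * (2 + k')) := by
      calc 2 * (j₂ * (2 + d₂)) = j₂ * 2 * (2 + d₂) := by ring
        _ = j₁ * 2 * (2 + k') := this
        _ = 2 * (j₁ * (2 + k')) := by ring
    exact Nat.eq_of_mul_eq_mul_left (by norm_num) h2
  obtain ⟨r, hr⟩ := hdiv
  have hj₀ : j₀ = (2 + P') * r + 1 := by omega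
  rcases (by omega : r = 0 ∨ r = 1 ∨ 2 ≤ r) with rfl | rfl | hr2
  · left; omega
  · right; left; omega
  · right; right
    have h2j₂ : 2 * j₂ = (2 + P') * (r * P' + 1) := by
      have h1 : 2 * j₂ + 2 * j₀ = j₀ * (2 + P') + 2 := by omega
      rw [hj₀] at h1
      have h2 : (2 + P') * (r * P' + 1) + 2 * ((2 + P') * r + 1) =
          ((2 + P') * r + 1) * (2 + P') + 2 := by ring
      omega
    have hD : (r * P' + 1) * (2 + d₂) = (r * (P' + 2) + 1) * (2 + k') := by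
      have h3 : (2 + P') * ((r * P' + 1) * (2 + d₂)) =
          (2 + P') * ((r * (P' + 2) + 1) * (2 + k')) := by
        calc (2 + P') * ((r * P' + 1) * (2 + d₂)) = (2 * j₂) * (2 + d₂) := by rw [h2j₂]; ring
          _ = 2 * (j₂ * (2 + d₂)) := by ring
          _ = 2 * (j₁ * (2 + k')) := by rw [hprod]
          _ = (2 * j₁) * (2 + k') := by ring
          _ = (j₀ * (2 + P')) * (2 + k') := by rw [hj₁]
          _ = (2 + P') * ((r * (P' + 2) + 1) * (2 + k')) := by rw [hj₀]; ring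
      exact Nat.eq_of_mul_eq_mul_left (by omega) h3
    obtain ⟨hr3, hP1, hk2, hc5⟩ := arith_core (by omega) (by omega) hr2 hD
    subst hr3 hP1
    have hk0 : k' = 0 := by omega
    subst hk0
    refine ⟨rfl, rfl, by omega, ?_⟩
    rw [hh, hj₀]

/-- `k ≥ 2`, `e₁ = 2`: a fourth class is impossible. -/
theorem arith_u2_e2_s4 {h j₀ P k j₁ j₂ c₂ e₂ j₃ c₃ e₃ : ℕ} (hP : 2 ≤ P) (hk : 2 ≤ k)
    (hh : h = j₀ * k * P) (hj : 1 ≤ j₀) (hh₁ : h = j₁ * 2 * k)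
    (hc₂ : 2 ≤ c₂) (he₂ : e₂ = 1 ∨ e₂ = 2) (hh₂ : h = j₂ * e₂ * c₂)
    (hc₃ : 2 ≤ c₃) (he₃ : e₃ = 1 ∨ e₃ = 2) (hh₃ : h = j₃ * e₃ * c₃)
    (hs : j₀ * (P - 1) + j₁ * (k - 1) + j₂ * (c₂ - 1) + j₃ * (c₃ - 1) ≤ h - 1) : False := by
  have g2 := cls_ge hc₂ he₂ hh₂
  have g3 := cls_ge hc₃ he₃ hh₃
  have hj₁ : 2 * j₁ = j₀ * P := by
    have : 2 * j₁ * k = j₀ * P * k := by
      have e : 2 * j₁ * k = j₁ * 2 * k := by ring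
      rw [e, ← hh₁, hh]; ring
    exact Nat.eq_of_mul_eq_mul_right (by omega) this
  obtain ⟨P', rfl⟩ := Nat.exists_eq_add_of_le hP
  obtain ⟨k', rfl⟩ := Nat.exists_eq_add_of_le hk
  have e0 : j₀ * (2 + P' - 1) = j₀ * P' + j₀ := by
    have : 2 + P' - 1 = P' + 1 := by omega
    rw [this]; ring
  have e0' : j₀ * (2 + P') = j₀ * P' + 2 * j₀ := by ring
  have e1 : j₁ * (2 + k' - 1) = j₁ * k' + j₁ := by
    have : 2 + k' - 1 = k' + 1 := by omega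
    rw [this]; ring
  have e1' : j₁ * 2 * (2 + k') = 2 * (j₁ * k') + 4 * j₁ := by ring
  rw [hh₁, e0, e1, e1'] at hs
  rw [hh₁, e1'] at g2 g3
  omega

end dkarith

end Cfsg.Agent.Lib.helper12
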