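import Mathlib
import Cfsg.Agent.Lib.helper12.SL2Cent

set_option autoImplicit false

namespace Cfsg.Agent.Lib.helper12

section kleincount

variable {G : Type*} [Group G]

/-- The four-group generated by two commuting involutions. -/
def kleinSub (a b : G) (haa : a * a = 1) (hbb : b * b = 1) (hab : a * b = b * a) : Subgroup G where
  carrier := {x | x = 1 ∨ x = a ∨ x = b ∨ x = a * b}
  one_mem' := Or.inl rfl
  mul_mem' := by
    have hba : b * a = a * b := hab.symm
    have haa' : ∀ x : G, a * (a * x) = x := fun x => by rw [← mul_assoc, haa, one_mul]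
    have hbb' : ∀ x : G, b * (b * x) = x := fun x => by rw [← mul_assoc, hbb, one_mul]
    have hba' : ∀ x : G, b * (a * x) = a * (b * x) := fun x => by rw [← mul_assoc, hba, mul_assoc]
    rintro x y (rfl | rfl | rfl | rfl) (rfl | rfl | rfl | rfl) <;>
      simp [mul_assoc, haa, hbb, hba, haa', hbb', hba']
  inv_mem' := by
    have hba : b * a = a * b := hab.symm
    rintro x (rfl | rfl | rfl | rfl)
    · simp
    · right; left; exact inv_eq_of_mul_eq_one_left haa
    · right; right; left; exact inv_eq_of_mul_eq_one_left hbb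
    · right; right; right
      rw [mul_inv_rev, inv_eq_of_mul_eq_one_left haa, inv_eq_of_mul_eq_one_left hbb, hba]

theorem mem_kleinSub (a b : G) (haa : a * a = 1) (hbb : b * b = 1) (hab : a * b = b * a) (x : G) :
    x ∈ kleinSub a b haa hbb hab ↔ x = 1 ∨ x = a ∨ x = b ∨ x = a * b := Iff.rfl

theorem card_kleinSub (a b : G) (haa : a * a = 1) (hbb : b * b = 1) (hab : a * b = b * a)
    (ha : a ≠ 1) (hb : b ≠ 1) (hne : a ≠ b) : Nat.card (kleinSub a b haa hbb hab) = 4 := by
  classical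
  have hset : ((kleinSub a b haa hbb hab : Subgroup G) : Set G) = {1, a, b, a * b} := by
    ext x
    simp only [SetLike.mem_coe, Set.mem_insert_iff, Set.mem_singleton_iff]
    exact Iff.rfl
  have h1 : Nat.card (kleinSub a b haa hbb hab) =
      Set.ncard ((kleinSub a b haa hbb hab : Subgroup G) : Set G) := Nat.card_coe_set_eq _
  have hab1 : a * b ≠ 1 := by
    intro h
    apply hne
    have : a * b = b * b := by rw [h, hbb]
    exact mul_right_cancel this
  have haba : a * b ≠ a := by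
    intro h
    exact hb (mul_left_cancel (h.trans (mul_one a).symm))
  have habb : a * b ≠ b := by
    intro h
    exact ha (mul_right_cancel (h.trans (one_mul b).symm))
  rw [h1, hset, Set.ncard_insert_of_notMem, Set.ncard_insert_of_notMem, Set.ncard_pair]
  · intro h
    exact habb h.symm
  · simp only [Set.mem_insert_iff, Set.mem_singleton_iff, not_or]
    exact ⟨hne, fun h => haba h.symm⟩
  · simp only [Set.mem_insert_iff, Set.mem_singleton_iff, not_or]
    exact ⟨fun h => ha h.symm, fun h => hb h.symm, fun h => hab1 h.symm⟩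

theorem isKleinFour_kleinSub (a b : G) (haa : a * a = 1) (hbb : b * b = 1) (hab : a * b = b * a)
    (ha : a ≠ 1) (hb : b ≠ 1) (hne : a ≠ b) : IsKleinFour (kleinSub a b haa hbb hab) := by
  have hcard := card_kleinSub a b haa hbb hab ha hb hne
  have hfin : Finite (kleinSub a b haa hbb hab) := Nat.finite_of_card_ne_zero (by omega)
  have hnt : Nontrivial (kleinSub a b haa hbb hab) := by
    rw [← Finite.one_lt_card_iff_nontrivial, hcard]
    norm_num
  refine ⟨hcard, ?_⟩
  rw [Monoid.exponent_eq_prime_iff Nat.prime_two]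
  rintro ⟨x, hx⟩ hx1
  apply orderOf_eq_prime
  · apply Subtype.ext
    have hba : b * a = a * b := hab.symm
    have haa' : ∀ x : G, a * (a * x) = x := fun x => by rw [← mul_assoc, haa, one_mul]
    have hbb' : ∀ x : G, b * (b * x) = x := fun x => by rw [← mul_assoc, hbb, one_mul]
    have hba' : ∀ x : G, b * (a * x) = a * (b * x) := fun x => by rw [← mul_assoc, hba, mul_assoc]
    rcases hx with rfl | rfl | rfl | rfl <;>
      simp [pow_two, mul_assoc, haa, hbb, hba, haa', hbb', hba']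
  · exact hx1

theorem klein_mem_props (V : Subgroup G) (hV : IsKleinFour V) (a b : G) (ha : a ∈ V) (hb : b ∈ V) :
    a * a = 1 ∧ a * b = b * a := by
  constructor
  · have := IsKleinFour.mul_self (⟨a, ha⟩ : V)
    exact congrArg Subtype.val this
  · have := mul_comm_of_exponent_two (IsKleinFour.exponent_two (G := V)) (⟨a, ha⟩ : V) ⟨b, hb⟩
    exact congrArg Subtype.val this

theorem klein_eq_kleinSub (V : Subgroup G) (hV : IsKleinFour V) (a b : G)
    (haa : a * a = 1) (hbb : b * b = 1) (hab : a * b = b * a) (ha : a ∈ V) (hb : b ∈ V)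
    (ha1 : a ≠ 1) (hb1 : b ≠ 1) (hne : a ≠ b) : kleinSub a b haa hbb hab = V := by
  have hfin : Finite V := Nat.finite_of_card_ne_zero (by rw [IsKleinFour.card_four]; norm_num)
  apply Subgroup.eq_of_le_of_card_ge
  · rintro x (rfl | rfl | rfl | rfl)
    · exact one_mem V
    · exact ha
    · exact hb
    · exact mul_mem ha hb
  · rw [card_kleinSub a b haa hbb hab ha1 hb1 hne, IsKleinFour.card_four]

theorem card_pairs_fin_four : ∀ k : Fin 4,
    Fintype.card {p : Fin 4 × Fin 4 // p.1 ≠ k ∧ p.2 ≠ k ∧ p.1 ≠ p.2} = 6 := by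
  decide

theorem card_klein_pairs (V : Subgroup G) (hV : Nat.card V = 4) :
    Nat.card {p : G × G // p.1 ∈ V ∧ p.2 ∈ V ∧ p.1 ≠ 1 ∧ p.2 ≠ 1 ∧ p.1 ≠ p.2} = 6 := by
  classical
  have hfin : Finite V := Nat.finite_of_card_ne_zero (by omega)
  have e : V ≃ Fin 4 := Finite.equivFinOfCardEq hV
  rw [← card_pairs_fin_four (e 1), ← Nat.card_eq_fintype_card]
  refine Nat.card_congr ⟨fun p => ⟨(e ⟨p.1.1, p.2.1⟩, e ⟨p.1.2, p.2.2.1⟩), ?_⟩,
    fun p => ⟨((e.symm p.1.1 : V), (e.symm p.1.2 : V)), ?_⟩, ?_, ?_⟩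
  · obtain ⟨⟨x, y⟩, hx, hy, hx1, hy1, hxy⟩ := p
    refine ⟨?_, ?_, ?_⟩
    · intro h
      exact hx1 (congrArg Subtype.val (e.injective h))
    · intro h
      exact hy1 (congrArg Subtype.val (e.injective h))
    · intro h
      exact hxy (congrArg Subtype.val (e.injective h))
  · obtain ⟨⟨i, j⟩, hi, hj, hij⟩ := p
    refine ⟨(e.symm i).2, (e.symm j).2, ?_, ?_, ?_⟩
    · intro h
      apply hi
      have : e.symm i = 1 := Subtype.ext h
      rw [← this, Equiv.apply_symm_apply]
    · intro h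
      apply hj
      have : e.symm j = 1 := Subtype.ext h
      rw [← this, Equiv.apply_symm_apply]
    · intro h
      apply hij
      have : e.symm i = e.symm j := Subtype.ext h
      exact e.symm.injective this
  · rintro ⟨⟨x, y⟩, hx, hy, hx1, hy1, hxy⟩
    simp
  · rintro ⟨⟨i, j⟩, hi, hj, hij⟩
    simp

/-- Six times the number of Klein four-subgroups is the number of ordered pairs of distinct commuting
involutions. -/
theorem klein_pairs_count [Finite G] :
    6 * Nat.card {V : Subgroup G // IsKleinFour V} =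
      Nat.card {p : G × G // p.1 ≠ 1 ∧ p.1 * p.1 = 1 ∧ p.2 ≠ 1 ∧ p.2 * p.2 = 1 ∧ p.1 ≠ p.2 ∧
        p.1 * p.2 = p.2 * p.1} := by
  classical
  set T := {p : G × G // p.1 ≠ 1 ∧ p.1 * p.1 = 1 ∧ p.2 ≠ 1 ∧ p.2 * p.2 = 1 ∧ p.1 ≠ p.2 ∧
        p.1 * p.2 = p.2 * p.1} with hT
  have hfinS : Finite {V : Subgroup G // IsKleinFour V} := inferInstance
  have : Fintype {V : Subgroup G // IsKleinFour V} := Fintype.ofFinite _
  let f : T → {V : Subgroup G // IsKleinFour V} := fun t =>
    ⟨kleinSub t.1.1 t.1.2 t.2.2.1 t.2.2.2.2.1 t.2.2.2.2.2.2,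
      isKleinFour_kleinSub t.1.1 t.1.2 t.2.2.1 t.2.2.2.2.1 t.2.2.2.2.2.2 t.2.1 t.2.2.2.1
        t.2.2.2.2.2.1⟩
  rw [Nat.card_congr (Equiv.sigmaFiberEquiv f).symm, Nat.card_sigma]
  have hfib : ∀ V : {V : Subgroup G // IsKleinFour V}, Nat.card {t : T // f t = V} = 6 := by
    rintro ⟨V, hV⟩
    rw [← card_klein_pairs V hV.card_four]
    refine Nat.card_congr ⟨fun t => ⟨t.1.1, ?_⟩, fun p => ⟨⟨p.1, ?_⟩, ?_⟩, ?_, ?_⟩
    · obtain ⟨⟨⟨a, b⟩, ha1, haa, hb1, hbb, hne, hab⟩, ht⟩ := t
      have hV' : kleinSub a b haa hbb hab = V := congrArg Subtype.val ht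
      have h1 : a ∈ kleinSub a b haa hbb hab := Or.inr (Or.inl rfl)
      have h2 : b ∈ kleinSub a b haa hbb hab := Or.inr (Or.inr (Or.inl rfl))
      rw [hV'] at h1 h2
      exact ⟨h1, h2, ha1, hb1, hne⟩
    · obtain ⟨⟨a, b⟩, ha, hb, ha1, hb1, hne⟩ := p
      exact ⟨ha1, (klein_mem_props V hV a b ha hb).1, hb1, (klein_mem_props V hV b a hb ha).1, hne,
        (klein_mem_props V hV a b ha hb).2⟩
    · obtain ⟨⟨a, b⟩, ha, hb, ha1, hb1, hne⟩ := p
      apply Subtype.ext
      exact klein_eq_kleinSub V hV a b (klein_mem_props V hV a b ha hb).1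
        (klein_mem_props V hV b a hb ha).1 (klein_mem_props V hV a b ha hb).2 ha hb ha1 hb1 hne
    · rintro ⟨⟨⟨a, b⟩, ha1, haa, hb1, hbb, hne, hab⟩, ht⟩
      rfl
    · rintro ⟨⟨a, b⟩, ha, hb, ha1, hb1, hne⟩
      rfl
  simp only [hfib]
  rw [Finset.sum_const, Finset.card_univ, Nat.card_eq_fintype_card, smul_eq_mul, mul_comm]

/-- Order of the preimage of a subgroup of a quotient. -/
theorem card_comap_mk' [Finite G] (N : Subgroup G) [N.Normal] (H : Subgroup (G ⧸ N)) :
    Nat.card (H.comap (QuotientGroup.mk' N)) = Nat.card N * Nat.card H := by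
  have h1 : (H.comap (QuotientGroup.mk' N)).index = H.index :=
    Subgroup.index_comap_of_surjective _ (QuotientGroup.mk'_surjective N)
  have h2 := Subgroup.card_mul_index (H.comap (QuotientGroup.mk' N))
  have h3 := Subgroup.card_mul_index H
  have h4 := Subgroup.card_eq_card_quotient_mul_card_subgroup N
  rw [h1, h4, ← h3] at h2
  have hpos : 0 < H.index := Nat.pos_of_ne_zero Subgroup.index_ne_zero_of_finite
  apply Nat.eq_of_mul_eq_mul_right hpos
  rw [h2]
  ring

/-- Counting Klein four-subgroups when the involutions form one class and each involution `a`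
commutes with exactly `|C(a)| / 2` other involutions. -/
theorem klein_count_of_centralizer [Finite G]
    (h : ∀ a : G, a ≠ 1 → a * a = 1 →
      2 * Nat.card {b : G // b ≠ 1 ∧ b * b = 1 ∧ a ≠ b ∧ a * b = b * a} =
        Nat.card (Subgroup.centralizer ({a} : Set G)))
    (hconj : ∀ a b : G, a ≠ 1 → a * a = 1 → b ≠ 1 → b * b = 1 → IsConj a b)
    (hex : ∃ a : G, a ≠ 1 ∧ a * a = 1) :
    12 * Nat.card {V : Subgroup G // IsKleinFour V} = Nat.card G := by
  classical
  obtain ⟨a₀, ha₀1, ha₀⟩ := hex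
  have hI : Nat.card {a : G // a ≠ 1 ∧ a * a = 1} *
      Nat.card (Subgroup.centralizer ({a₀} : Set G)) = Nat.card G := by
    rw [← card_carrier_mul_card_centralizer a₀]
    congr 1
    apply Nat.card_congr
    apply Equiv.subtypeEquivRight
    intro a
    rw [ConjClasses.mem_carrier_iff_mk_eq, ConjClasses.mk_eq_mk_iff_isConj]
    constructor
    · rintro ⟨h1, h2⟩
      exact hconj a a₀ h1 h2 ha₀1 ha₀
    · intro hc
      obtain ⟨c, hc⟩ := isConj_iff.mp hc
      constructor
      · rintro rfl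
        apply ha₀1
        rw [← hc]
        simp
      · have e : a = c⁻¹ * a₀ * c := by rw [← hc]; group
        rw [e]
        calc c⁻¹ * a₀ * c * (c⁻¹ * a₀ * c) = c⁻¹ * (a₀ * a₀) * c := by group
          _ = 1 := by rw [ha₀]; group
  have hC : ∀ a : {a : G // a ≠ 1 ∧ a * a = 1},
      Nat.card (Subgroup.centralizer ({a.1} : Set G)) =
        Nat.card (Subgroup.centralizer ({a₀} : Set G)) := by
    intro a
    have h1 := card_carrier_mul_card_centralizer a.1
    have h2 := card_carrier_mul_card_centralizer a₀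
    have e : ConjClasses.mk a.1 = ConjClasses.mk a₀ :=
      ConjClasses.mk_eq_mk_iff_isConj.mpr (hconj a.1 a₀ a.2.1 a.2.2 ha₀1 ha₀)
    rw [e] at h1
    have hpos : 0 < Nat.card (ConjClasses.mk a₀).carrier := by
      rcases Nat.eq_zero_or_pos (Nat.card (ConjClasses.mk a₀).carrier) with h0 | h0
      · rw [h0, zero_mul] at h2
        exact absurd h2.symm Nat.card_pos.ne'
      · exact h0
    exact Nat.eq_of_mul_eq_mul_left hpos (h1.trans h2.symm)
  have hfinI : Finite {a : G // a ≠ 1 ∧ a * a = 1} := inferInstance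
  have : Fintype {a : G // a ≠ 1 ∧ a * a = 1} := Fintype.ofFinite _
  have hT : Nat.card {p : G × G // p.1 ≠ 1 ∧ p.1 * p.1 = 1 ∧ p.2 ≠ 1 ∧ p.2 * p.2 = 1 ∧
        p.1 ≠ p.2 ∧ p.1 * p.2 = p.2 * p.1} =
      ∑ a : {a : G // a ≠ 1 ∧ a * a = 1},
        Nat.card {b : G // b ≠ 1 ∧ b * b = 1 ∧ a.1 ≠ b ∧ a.1 * b = b * a.1} := by
    rw [← Nat.card_sigma]
    refine Nat.card_congr ⟨fun p => ⟨⟨p.1.1, p.2.1, p.2.2.1⟩, ⟨p.1.2, p.2.2.2⟩⟩,
      fun s => ⟨(s.1.1, s.2.1), s.1.2.1, s.1.2.2, s.2.2⟩, ?_, ?_⟩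
    · rintro ⟨⟨a, b⟩, hp⟩
      rfl
    · rintro ⟨⟨a, ha⟩, ⟨b, hb⟩⟩
      rfl
  have h12 : 12 * Nat.card {V : Subgroup G // IsKleinFour V} =
      2 * (6 * Nat.card {V : Subgroup G // IsKleinFour V}) := by ring
  rw [h12, klein_pairs_count, hT, Finset.mul_sum]
  have hsum : ∀ a : {a : G // a ≠ 1 ∧ a * a = 1},
      2 * Nat.card {b : G // b ≠ 1 ∧ b * b = 1 ∧ a.1 ≠ b ∧ a.1 * b = b * a.1} =
        Nat.card (Subgroup.centralizer ({a₀} : Set G)) := by
    intro a
    rw [h a.1 a.2.1 a.2.2, hC a]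
  simp only [hsum]
  rw [Finset.sum_const, Finset.card_univ, smul_eq_mul, ← Nat.card_eq_fintype_card, hI]

end kleincount

end Cfsg.Agent.Lib.helper12
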