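import Mathlib
import Cfsg.Agent.Lib.helper12.KleinCount

set_option autoImplicit false

namespace Cfsg.Agent.Lib.helper12

section subconj

variable {G : Type*} [Group G]

theorem mem_map_conj (V : Subgroup G) (g x : G) :
    x ∈ V.map (MulAut.conj g).toMonoidHom ↔ g⁻¹ * x * g ∈ V := by
  constructor
  · rintro ⟨v, hv, rfl⟩
    have : g⁻¹ * (MulAut.conj g).toMonoidHom v * g = v := by
      simp [MulAut.conj_apply, mul_assoc]
    rw [this]
    exact hv
  · intro h
    exact ⟨g⁻¹ * x * g, h, by simp [MulAut.conj_apply, mul_assoc]⟩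

theorem map_conj_one (V : Subgroup G) : V.map (MulAut.conj (1 : G)).toMonoidHom = V := by
  ext x
  rw [mem_map_conj]
  simp

theorem map_conj_mul (V : Subgroup G) (g h : G) :
    (V.map (MulAut.conj h).toMonoidHom).map (MulAut.conj g).toMonoidHom =
      V.map (MulAut.conj (g * h)).toMonoidHom := by
  ext x
  simp only [mem_map_conj]
  simp [mul_assoc]

theorem map_conj_eq_iff (V : Subgroup G) (g : G) :
    V.map (MulAut.conj g).toMonoidHom = V ↔ g ∈ Subgroup.normalizer (V : Set G) := by
  rw [Subgroup.mem_normalizer_iff]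
  constructor
  · intro h x
    constructor
    · intro hx
      rw [← h, mem_map_conj]
      simpa [mul_assoc] using hx
    · intro hx
      rw [← h, mem_map_conj] at hx
      simpa [mul_assoc] using hx
  · intro h
    ext x
    rw [mem_map_conj, h (g⁻¹ * x * g)]
    simp [mul_assoc]

theorem map_conj_eq_map_conj_iff (V : Subgroup G) (g h : G) :
    V.map (MulAut.conj g).toMonoidHom = V.map (MulAut.conj h).toMonoidHom ↔
      h⁻¹ * g ∈ Subgroup.normalizer (V : Set G) := by
  rw [← map_conj_eq_iff, ← map_conj_mul]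
  constructor
  · intro e
    rw [e, map_conj_mul, inv_mul_cancel]
    exact map_conj_one V
  · intro e
    have := congrArg (fun W : Subgroup G => W.map (MulAut.conj h).toMonoidHom) e
    simp only [map_conj_mul] at this
    rw [mul_inv_cancel_left] at this
    exact this

/-- Orbit-stabiliser for the conjugates of a subgroup. -/
theorem card_conjugates_mul [Finite G] (V : Subgroup G) :
    Nat.card {W : Subgroup G // ∃ g : G, W = V.map (MulAut.conj g).toMonoidHom} *
      Nat.card (Subgroup.normalizer (V : Set G)) = Nat.card G := by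
  classical
  haveI := Fintype.ofFinite {W : Subgroup G // ∃ g : G, W = V.map (MulAut.conj g).toMonoidHom}
  let f : G → {W : Subgroup G // ∃ g : G, W = V.map (MulAut.conj g).toMonoidHom} :=
    fun g => ⟨_, g, rfl⟩
  have hfib : ∀ W, Nat.card {g : G // f g = W} = Nat.card (Subgroup.normalizer (V : Set G)) := by
    rintro ⟨W, g₀, rfl⟩
    apply Nat.card_congr
    refine ⟨fun g => ⟨g₀⁻¹ * g.1, ?_⟩, fun n => ⟨g₀ * n.1, ?_⟩, ?_, ?_⟩
    · have := congrArg Subtype.val g.2
      exact (map_conj_eq_map_conj_iff V g.1 g₀).mp this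
    · apply Subtype.ext
      show V.map (MulAut.conj (g₀ * n.1)).toMonoidHom = V.map (MulAut.conj g₀).toMonoidHom
      rw [map_conj_eq_map_conj_iff]
      simpa using n.2
    · intro g
      apply Subtype.ext
      simp
    · intro n
      apply Subtype.ext
      simp
  rw [← Nat.card_congr (Equiv.sigmaFiberEquiv f), Nat.card_sigma]
  simp only [hfib]
  rw [Finset.sum_const, Finset.card_univ, smul_eq_mul, Nat.card_eq_fintype_card]

theorem isKleinFour_map_conj (V : Subgroup G) (hV : IsKleinFour V) (g : G) :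
    IsKleinFour (V.map (MulAut.conj g).toMonoidHom) := by
  have e : V ≃* V.map (MulAut.conj g).toMonoidHom :=
    V.equivMapOfInjective _ (MulAut.conj g).injective
  exact ⟨by rw [← Nat.card_congr e.toEquiv]; exact hV.card_four,
    by rw [← Monoid.exponent_eq_of_mulEquiv e]; exact hV.exponent_two⟩

/-- A subgroup of order `4` in a group of order divisible by `8` has normaliser of order
divisible by `8`. -/
theorem eight_dvd_card_normalizer [Finite G] (V : Subgroup G) (hV : Nat.card V = 4)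
    (h8 : 8 ∣ Nat.card G) : 8 ∣ Nat.card (Subgroup.normalizer (V : Set G)) := by
  haveI : Fact (Nat.Prime 2) := ⟨Nat.prime_two⟩
  have hVp : IsPGroup 2 V := IsPGroup.of_card (n := 2) (by rw [hV]; norm_num)
  obtain ⟨P, hP⟩ := hVp.exists_le_sylow
  have hP8 : 8 ∣ Nat.card P := by
    have := P.pow_dvd_card_of_pow_dvd_card (n := 3) (by simpa using h8)
    simpa using this
  have hVM : V ≤ Subgroup.normalizer (V : Set G) ⊓ (P : Subgroup G) :=
    le_inf Subgroup.le_normalizer hP
  have hMp : IsPGroup 2 (Subgroup.normalizer (V : Set G) ⊓ (P : Subgroup G) : Subgroup G) :=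
    P.isPGroup'.to_le inf_le_right
  have hne : V ≠ Subgroup.normalizer (V : Set G) ⊓ (P : Subgroup G) := by
    intro hVeq
    haveI : Group.IsNilpotent P := P.isPGroup'.isNilpotent
    have hnc : NormalizerCondition P := normalizerCondition_of_isNilpotent
    have h1 : Subgroup.normalizer ((V.subgroupOf P : Subgroup P) : Set P) = V.subgroupOf P := by
      apply le_antisymm _ Subgroup.le_normalizer
      intro x hx
      rw [Subgroup.mem_normalizer_iff] at hx
      rw [Subgroup.mem_subgroupOf, hVeq]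
      refine Subgroup.mem_inf.mpr ⟨?_, x.2⟩
      rw [Subgroup.mem_normalizer_iff]
      intro h
      constructor
      · intro hh
        have := (hx ⟨h, hP hh⟩).mp (Subgroup.mem_subgroupOf.mpr hh)
        exact Subgroup.mem_subgroupOf.mp this
      · intro hh
        have hhP : h ∈ (P : Subgroup G) := by
          have h3 : h = (x : G)⁻¹ * ((x : G) * h * (x : G)⁻¹) * (x : G) := by group
          rw [h3]
          exact mul_mem (mul_mem (inv_mem x.2) (hP hh)) x.2
        have := (hx ⟨h, hhP⟩).mpr (Subgroup.mem_subgroupOf.mpr hh)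
        exact Subgroup.mem_subgroupOf.mp this
    have hlt : V.subgroupOf P < ⊤ := by
      rw [lt_top_iff_ne_top]
      intro h2
      have h3 : (P : Subgroup G) ≤ V := Subgroup.subgroupOf_eq_top.mp h2
      have h4 := Subgroup.card_le_of_le h3
      have h5 := Nat.le_of_dvd Nat.card_pos hP8
      omega
    have h2 := hnc _ hlt
    rw [h1] at h2
    exact lt_irrefl _ h2
  obtain ⟨j, hj⟩ := (IsPGroup.iff_card).mp hMp
  have h4 : 4 ∣ Nat.card (Subgroup.normalizer (V : Set G) ⊓ (P : Subgroup G) : Subgroup G) :=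
    hV ▸ Subgroup.card_dvd_of_le hVM
  have hM4 : Nat.card (Subgroup.normalizer (V : Set G) ⊓ (P : Subgroup G) : Subgroup G) ≠ 4 :=
    fun h => hne (Subgroup.eq_of_le_of_card_ge hVM (by rw [h, hV]))
  have hj3 : 3 ≤ j := by
    by_contra hlt
    rw [hj] at h4 hM4
    interval_cases j <;> omega
  have h8M : 8 ∣ Nat.card (Subgroup.normalizer (V : Set G) ⊓ (P : Subgroup G) : Subgroup G) := by
    rw [hj]
    exact pow_dvd_pow 2 hj3
  exact h8M.trans (Subgroup.card_dvd_of_le inf_le_left)

/-- The normaliser of a four-group `V` with `C(a) ∩ C(b) ≤ V` has order at most `24`. -/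
theorem card_normalizer_klein_le [Finite G] (V : Subgroup G) (hV : IsKleinFour V) (a b : G)
    (ha : a ∈ V) (hb : b ∈ V) (ha1 : a ≠ 1) (hb1 : b ≠ 1) (hab : a ≠ b)
    (hC : ∀ x : G, x * a = a * x → x * b = b * x → x ∈ V) :
    Nat.card (Subgroup.normalizer (V : Set G)) ≤ 24 := by
  classical
  have hT : Nat.card {p : G × G // p.1 ∈ V ∧ p.2 ∈ V ∧ p.1 ≠ 1 ∧ p.2 ≠ 1 ∧ p.1 ≠ p.2} = 6 :=
    card_klein_pairs V hV.card_four
  have hconj : ∀ n : Subgroup.normalizer (V : Set G), ∀ v : G, v ∈ V →
      (n : G) * v * (n : G)⁻¹ ∈ V := fun n v hv =>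
    ((Subgroup.mem_normalizer_iff.mp n.2) v).mp hv
  let φ : Subgroup.normalizer (V : Set G) →
      {p : G × G // p.1 ∈ V ∧ p.2 ∈ V ∧ p.1 ≠ 1 ∧ p.2 ≠ 1 ∧ p.1 ≠ p.2} := fun n =>
    ⟨((n : G) * a * (n : G)⁻¹, (n : G) * b * (n : G)⁻¹), hconj n a ha, hconj n b hb,
      fun h => ha1 (by simpa using h), fun h => hb1 (by simpa using h),
      fun h => hab (by simpa using h)⟩
  let r : {p : G × G // p.1 ∈ V ∧ p.2 ∈ V ∧ p.1 ≠ 1 ∧ p.2 ≠ 1 ∧ p.1 ≠ p.2} →
      Subgroup.normalizer (V : Set G) := fun t => if h : ∃ n, φ n = t then h.choose else 1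
  have hr : ∀ n, φ (r (φ n)) = φ n := fun n => by
    simp only [r]
    rw [dif_pos ⟨n, rfl⟩]
    exact (⟨n, rfl⟩ : ∃ m, φ m = φ n).choose_spec
  have hmem : ∀ n : Subgroup.normalizer (V : Set G), ((r (φ n) : G))⁻¹ * (n : G) ∈ V := by
    intro n
    have h1 : ((r (φ n) : G)) * a * ((r (φ n) : G))⁻¹ = (n : G) * a * (n : G)⁻¹ :=
      congrArg (fun t => t.1.1) (hr n)
    have h2 : ((r (φ n) : G)) * b * ((r (φ n) : G))⁻¹ = (n : G) * b * (n : G)⁻¹ :=
      congrArg (fun t => t.1.2) (hr n)
    apply hC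
    · have : a = ((r (φ n) : G))⁻¹ * ((n : G) * a * (n : G)⁻¹) * (r (φ n) : G) := by
        rw [← h1]; group
      calc ((r (φ n) : G))⁻¹ * (n : G) * a
          = ((r (φ n) : G))⁻¹ * ((n : G) * a * (n : G)⁻¹) * (r (φ n) : G) *
              (((r (φ n) : G))⁻¹ * (n : G)) := by group
        _ = a * (((r (φ n) : G))⁻¹ * (n : G)) := by rw [← this]
    · have : b = ((r (φ n) : G))⁻¹ * ((n : G) * b * (n : G)⁻¹) * (r (φ n) : G) := by
        rw [← h2]; group
      calc ((r (φ n) : G))⁻¹ * (n : G) * b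
          = ((r (φ n) : G))⁻¹ * ((n : G) * b * (n : G)⁻¹) * (r (φ n) : G) *
              (((r (φ n) : G))⁻¹ * (n : G)) := by group
        _ = b * (((r (φ n) : G))⁻¹ * (n : G)) := by rw [← this]
  let ψ : Subgroup.normalizer (V : Set G) →
      {p : G × G // p.1 ∈ V ∧ p.2 ∈ V ∧ p.1 ≠ 1 ∧ p.2 ≠ 1 ∧ p.1 ≠ p.2} × V := fun n =>
    (φ n, ⟨((r (φ n) : G))⁻¹ * (n : G), hmem n⟩)
  have hψ : Function.Injective ψ := by
    intro n m h
    have h1 : φ n = φ m := congrArg Prod.fst h
    have h2 : ((r (φ n) : G))⁻¹ * (n : G) = ((r (φ m) : G))⁻¹ * (m : G) :=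
      congrArg (fun p => (p.2 : G)) h
    rw [h1] at h2
    exact Subtype.ext (mul_left_cancel h2)
  have hle := Nat.card_le_card_of_injective ψ hψ
  rw [Nat.card_prod, hT, hV.card_four] at hle
  exact hle

end subconj

end Cfsg.Agent.Lib.helper12
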