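import Mathlib
import Cfsg.Agent.Lib.helper12.SubConj

set_option autoImplicit false

namespace Cfsg.Agent.Lib.helper12

section dkcount

variable {H : Type*} [Group H]

/-- A "TI partition function" on a group: every non-identity element `x` lies in a subgroup
`M x`, these subgroups pairwise meet trivially or coincide, and the family is conjugation
equivariant. -/
structure TIPart (M : H → Subgroup H) : Prop where
  mem : ∀ x : H, x ≠ 1 → x ∈ M x
  eq_of_mem : ∀ x y : H, x ≠ 1 → y ≠ 1 → y ∈ M x → M y = M x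
  conj : ∀ g x : H, x ≠ 1 → M (g * x * g⁻¹) = (M x).map (MulAut.conj g).toMonoidHom

theorem conj_ne_one' {x g : H} (hx : x ≠ 1) : g * x * g⁻¹ ≠ 1 := by
  intro h
  apply hx
  have := congrArg (fun y => g⁻¹ * y * g) h
  simpa [mul_assoc] using this

theorem conj_ne_one'' {x g : H} (hx : x ≠ 1) : g⁻¹ * x * g ≠ 1 := by
  have := conj_ne_one' (g := g⁻¹) hx
  rwa [inv_inv] at this

/-- The class of `x`: non-identity elements lying in a conjugate of `M x`. -/
def blk (M : H → Subgroup H) (x : H) : Set H :=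
  {y | y ≠ 1 ∧ ∃ h : H, h⁻¹ * y * h ∈ M x}

variable {M : H → Subgroup H}

theorem TIPart.map_eq_of_mem (hM : TIPart M) {x y : H} (hx : x ≠ 1) (hy : y ≠ 1) (h : H)
    (hmem : h⁻¹ * y * h ∈ M x) : M y = (M x).map (MulAut.conj h).toMonoidHom := by
  have hy' : h⁻¹ * y * h ≠ 1 := conj_ne_one'' hy
  have h1 := hM.eq_of_mem x _ hx hy' hmem
  have h2 := hM.conj h _ hy'
  have e : h * (h⁻¹ * y * h) * h⁻¹ = y := by group
  rw [e] at h2
  rw [h2, h1]

theorem TIPart.mem_normalizer_of_conj_mem (hM : TIPart M) {x c n : H} (hx : x ≠ 1)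
    (hc : c ∈ M x) (hc1 : c ≠ 1) (hn : n * c * n⁻¹ ∈ M x) :
    n ∈ Subgroup.normalizer (M x : Set H) := by
  rw [← map_conj_eq_iff]
  have h1 := hM.eq_of_mem x c hx hc1 hc
  have h2 := hM.conj n c hc1
  have h3 := hM.eq_of_mem x _ hx (conj_ne_one' hc1) hn
  rw [h1] at h2
  rw [← h2, h3]

theorem mem_blk_self (hM : TIPart M) {x : H} (hx : x ≠ 1) : x ∈ blk M x :=
  ⟨hx, 1, by simpa using hM.mem x hx⟩

theorem blk_eq_of_mem (hM : TIPart M) {x y : H} (hx : x ≠ 1) (hy : y ∈ blk M x) :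
    blk M y = blk M x := by
  obtain ⟨hy1, h, hh⟩ := hy
  have hMy := hM.map_eq_of_mem hx hy1 h hh
  ext z
  constructor
  · rintro ⟨hz1, g, hg⟩
    refine ⟨hz1, g * h, ?_⟩
    rw [hMy, mem_map_conj] at hg
    have e : (g * h)⁻¹ * z * (g * h) = h⁻¹ * (g⁻¹ * z * g) * h := by group
    rw [e]
    exact hg
  · rintro ⟨hz1, g, hg⟩
    refine ⟨hz1, g * h⁻¹, ?_⟩
    rw [hMy, mem_map_conj]
    have e : h⁻¹ * ((g * h⁻¹)⁻¹ * z * (g * h⁻¹)) * h = g⁻¹ * z * g := by group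
    rw [e]
    exact hg

theorem blk_disjoint (hM : TIPart M) {x y : H} (hx : x ≠ 1) (hy1 : y ≠ 1) (hy : y ∉ blk M x) :
    Disjoint (blk M y) (blk M x) := by
  rw [Set.disjoint_left]
  intro z hzy hzx
  apply hy
  have h1 := blk_eq_of_mem hM hy1 hzy
  have h2 := blk_eq_of_mem hM hx hzx
  rw [← h2, h1]
  exact mem_blk_self hM hy1

theorem blk_subset (x : H) : blk M x ⊆ {y : H | y ≠ 1} := fun _ hy => hy.1

theorem ncard_ne_one [Finite H] : ({y : H | y ≠ 1} : Set H).ncard = Nat.card H - 1 := by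
  have : ({y : H | y ≠ 1} : Set H) = Set.univ \ {1} := by
    ext y
    simp
  rw [this, Set.ncard_diff_singleton_of_mem (Set.mem_univ _), Set.ncard_univ]

theorem blk_card [Finite H] (hM : TIPart M) (x : H) (hx : x ≠ 1) :
    (blk M x).ncard * Nat.card (Subgroup.normalizer (M x : Set H)) =
      Nat.card H * (Nat.card (M x) - 1) := by
  classical
  have hex : ∀ z : blk M x, ∃ h : H, h⁻¹ * (z : H) * h ∈ M x := fun z => z.2.2
  choose hz hhz using hex
  have hN : ∀ (z : blk M x) (h : H), h⁻¹ * (z : H) * h ∈ M x →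
      (hz z)⁻¹ * h ∈ Subgroup.normalizer (M x : Set H) := by
    intro z h hh
    have hc1 : h⁻¹ * (z : H) * h ≠ 1 := conj_ne_one'' z.2.1
    apply hM.mem_normalizer_of_conj_mem hx hh hc1
    have e : (hz z)⁻¹ * h * (h⁻¹ * (z : H) * h) * ((hz z)⁻¹ * h)⁻¹ = (hz z)⁻¹ * (z : H) * hz z := by
      group
    rw [e]
    exact hhz z
  have hC : ∀ (z : blk M x) (n : Subgroup.normalizer (M x : Set H)),
      (hz z * (n : H))⁻¹ * (z : H) * (hz z * (n : H)) ∈ M x := by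
    intro z n
    have hn := n.2
    have hn' : (n : H)⁻¹ ∈ Subgroup.normalizer (M x : Set H) := inv_mem hn
    rw [Subgroup.mem_normalizer_iff] at hn'
    have := (hn' _).mp (hhz z)
    have e : (hz z * (n : H))⁻¹ * (z : H) * (hz z * (n : H)) =
        (n : H)⁻¹ * ((hz z)⁻¹ * (z : H) * hz z) * (n : H)⁻¹⁻¹ := by group
    rw [e]
    exact this
  let fwd : (H × {c : H // c ∈ M x ∧ c ≠ 1}) → (blk M x × Subgroup.normalizer (M x : Set H)) :=
    fun hc =>
      let z : blk M x := ⟨hc.1 * hc.2.1 * hc.1⁻¹, conj_ne_one' hc.2.2.2, hc.1, by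
        have e : hc.1⁻¹ * (hc.1 * hc.2.1 * hc.1⁻¹) * hc.1 = hc.2.1 := by group
        rw [e]
        exact hc.2.2.1⟩
      (z, ⟨(hz z)⁻¹ * hc.1, hN z hc.1 (by
        have e : hc.1⁻¹ * (hc.1 * hc.2.1 * hc.1⁻¹) * hc.1 = hc.2.1 := by group
        show hc.1⁻¹ * (hc.1 * hc.2.1 * hc.1⁻¹) * hc.1 ∈ M x
        rw [e]
        exact hc.2.2.1)⟩)
  let bwd : (blk M x × Subgroup.normalizer (M x : Set H)) → (H × {c : H // c ∈ M x ∧ c ≠ 1}) :=
    fun zn => (hz zn.1 * (zn.2 : H),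
      ⟨(hz zn.1 * (zn.2 : H))⁻¹ * (zn.1 : H) * (hz zn.1 * (zn.2 : H)), hC zn.1 zn.2,
        conj_ne_one'' zn.1.2.1⟩)
  have hl : Function.LeftInverse bwd fwd := by
    rintro ⟨h, c, hc, hc1⟩
    have hfst : (bwd (fwd (h, ⟨c, hc, hc1⟩))).1 = h := mul_inv_cancel_left _ _
    apply Prod.ext
    · exact hfst
    · apply Subtype.ext
      have e : ((bwd (fwd (h, ⟨c, hc, hc1⟩))).2 : H) =
          ((bwd (fwd (h, ⟨c, hc, hc1⟩))).1)⁻¹ * (h * c * h⁻¹) *
            ((bwd (fwd (h, ⟨c, hc, hc1⟩))).1) := rfl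
      rw [e, hfst]
      show h⁻¹ * (h * c * h⁻¹) * h = c
      group
  have hr : Function.RightInverse bwd fwd := by
    rintro ⟨z, n⟩
    have hzz : (⟨hz z * (n : H) * ((hz z * (n : H))⁻¹ * (z : H) * (hz z * (n : H))) *
        (hz z * (n : H))⁻¹, conj_ne_one' (conj_ne_one'' z.2.1), hz z * (n : H), by
          have e : (hz z * (n : H))⁻¹ * (hz z * (n : H) * ((hz z * (n : H))⁻¹ * (z : H) *
            (hz z * (n : H))) * (hz z * (n : H))⁻¹) * (hz z * (n : H)) =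
            (hz z * (n : H))⁻¹ * (z : H) * (hz z * (n : H)) := by group
          rw [e]
          exact hC z n⟩ : blk M x) = z := by
      apply Subtype.ext
      show hz z * (n : H) * ((hz z * (n : H))⁻¹ * (z : H) * (hz z * (n : H))) *
        (hz z * (n : H))⁻¹ = (z : H)
      group
    apply Prod.ext
    · exact hzz
    · apply Subtype.ext
      show (hz _)⁻¹ * (hz z * (n : H)) = (n : H)
      rw [hzz]
      group
  have e : (H × {c : H // c ∈ M x ∧ c ≠ 1}) ≃ (blk M x × Subgroup.normalizer (M x : Set H)) :=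
    ⟨fwd, bwd, hl, hr⟩
  have h1 := Nat.card_congr e
  rw [Nat.card_prod, Nat.card_prod, Nat.card_coe_set_eq] at h1
  rw [← h1]
  congr 1
  have h2 : Nat.card {c : H // c ∈ M x ∧ c ≠ 1} = (((M x : Set H)) \ {1}).ncard := by
    rw [← Nat.card_coe_set_eq]
    apply Nat.card_congr
    exact Equiv.subtypeEquivRight (fun c => by simp)
  rw [h2, Set.ncard_diff_singleton_of_mem (one_mem _)]
  rw [← Nat.card_coe_set_eq]
  rfl

theorem blk_ncard [Finite H] (hM : TIPart M) (x : H) (hx : x ≠ 1) :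
    (blk M x).ncard = (Subgroup.normalizer (M x : Set H)).index * (Nat.card (M x) - 1) := by
  have h1 := blk_card hM x hx
  have h2 := Subgroup.index_mul_card (Subgroup.normalizer (M x : Set H))
  have hpos : 0 < Nat.card (Subgroup.normalizer (M x : Set H)) := Nat.card_pos
  apply Nat.eq_of_mul_eq_mul_right hpos
  rw [h1, ← h2]
  ring

theorem blk_card_M_eq [Finite H] (hM : TIPart M) {x y : H} (hx : x ≠ 1) (hy : y ∈ blk M x) :
    Nat.card (M y) = Nat.card (M x) := by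
  obtain ⟨hy1, h, hh⟩ := hy
  rw [hM.map_eq_of_mem hx hy1 h hh]
  exact (Nat.card_congr ((M x).equivMapOfInjective _ (MulAut.conj h).injective).toEquiv).symm

theorem blk_index_eq [Finite H] (hM : TIPart M) {x y : H} (hx : x ≠ 1) (hy : y ∈ blk M x) :
    (Subgroup.normalizer (M y : Set H)).index = (Subgroup.normalizer (M x : Set H)).index := by
  have hy1 := hy.1
  have h1 := blk_ncard hM x hx
  have h2 := blk_ncard hM y hy1
  rw [blk_eq_of_mem hM hx hy, blk_card_M_eq hM hx hy, h1] at h2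
  have hx2 : 2 ≤ Nat.card (M x) := by
    have : Nontrivial (M x) := ⟨⟨⟨x, hM.mem x hx⟩, 1, fun h => hx (congrArg Subtype.val h)⟩⟩
    exact Finite.one_lt_card
  have hpos : 0 < Nat.card (M x) - 1 := by omega
  exact (Nat.eq_of_mul_eq_mul_right hpos h2).symm

theorem blk_sum_le1 [Finite H] (x₁ : H) : (blk M x₁).ncard ≤ Nat.card H - 1 := by
  rw [← ncard_ne_one]
  exact Set.ncard_le_ncard (blk_subset x₁)

theorem blk_sum_le2 [Finite H] (hM : TIPart M) {x₁ x₂ : H} (h1 : x₁ ≠ 1) (h2 : x₂ ≠ 1)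
    (h21 : x₂ ∉ blk M x₁) : (blk M x₁).ncard + (blk M x₂).ncard ≤ Nat.card H - 1 := by
  rw [← ncard_ne_one, ← Set.ncard_union_eq (blk_disjoint hM h1 h2 h21).symm]
  exact Set.ncard_le_ncard (Set.union_subset (blk_subset x₁) (blk_subset x₂))

theorem blk_sum_le3 [Finite H] (hM : TIPart M) {x₁ x₂ x₃ : H} (h1 : x₁ ≠ 1) (h2 : x₂ ≠ 1)
    (h3 : x₃ ≠ 1) (h21 : x₂ ∉ blk M x₁) (h31 : x₃ ∉ blk M x₁) (h32 : x₃ ∉ blk M x₂) :
    (blk M x₁).ncard + (blk M x₂).ncard + (blk M x₃).ncard ≤ Nat.card H - 1 := by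
  have d12 := (blk_disjoint hM h1 h2 h21).symm
  have d3 : Disjoint (blk M x₁ ∪ blk M x₂) (blk M x₃) := by
    rw [Set.disjoint_union_left]
    exact ⟨(blk_disjoint hM h1 h3 h31).symm, (blk_disjoint hM h2 h3 h32).symm⟩
  rw [← ncard_ne_one, ← Set.ncard_union_eq d12, ← Set.ncard_union_eq d3]
  exact Set.ncard_le_ncard (Set.union_subset (Set.union_subset (blk_subset x₁) (blk_subset x₂))
    (blk_subset x₃))

theorem blk_sum_le4 [Finite H] (hM : TIPart M) {x₁ x₂ x₃ x₄ : H} (h1 : x₁ ≠ 1) (h2 : x₂ ≠ 1)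
    (h3 : x₃ ≠ 1) (h4 : x₄ ≠ 1) (h21 : x₂ ∉ blk M x₁) (h31 : x₃ ∉ blk M x₁)
    (h32 : x₃ ∉ blk M x₂) (h41 : x₄ ∉ blk M x₁) (h42 : x₄ ∉ blk M x₂) (h43 : x₄ ∉ blk M x₃) :
    (blk M x₁).ncard + (blk M x₂).ncard + (blk M x₃).ncard + (blk M x₄).ncard ≤
      Nat.card H - 1 := by
  have d12 := (blk_disjoint hM h1 h2 h21).symm
  have d3 : Disjoint (blk M x₁ ∪ blk M x₂) (blk M x₃) := by
    rw [Set.disjoint_union_left]
    exact ⟨(blk_disjoint hM h1 h3 h31).symm, (blk_disjoint hM h2 h3 h32).symm⟩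
  have d4 : Disjoint (blk M x₁ ∪ blk M x₂ ∪ blk M x₃) (blk M x₄) := by
    rw [Set.disjoint_union_left, Set.disjoint_union_left]
    exact ⟨⟨(blk_disjoint hM h1 h4 h41).symm, (blk_disjoint hM h2 h4 h42).symm⟩,
      (blk_disjoint hM h3 h4 h43).symm⟩
  rw [← ncard_ne_one, ← Set.ncard_union_eq d12, ← Set.ncard_union_eq d3,
    ← Set.ncard_union_eq d4]
  exact Set.ncard_le_ncard (Set.union_subset (Set.union_subset (Set.union_subset (blk_subset x₁)
    (blk_subset x₂)) (blk_subset x₃)) (blk_subset x₄))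

theorem blk_sum_eq1 [Finite H] {x₁ : H}
    (hall : ∀ y : H, y ≠ 1 → y ∈ blk M x₁) : (blk M x₁).ncard = Nat.card H - 1 := by
  rw [← ncard_ne_one]
  congr 1
  exact Set.Subset.antisymm (blk_subset x₁) (fun y hy => hall y hy)

theorem blk_sum_eq2 [Finite H] (hM : TIPart M) {x₁ x₂ : H} (h1 : x₁ ≠ 1) (h2 : x₂ ≠ 1)
    (h21 : x₂ ∉ blk M x₁) (hall : ∀ y : H, y ≠ 1 → y ∈ blk M x₁ ∨ y ∈ blk M x₂) :
    (blk M x₁).ncard + (blk M x₂).ncard = Nat.card H - 1 := by
  rw [← ncard_ne_one, ← Set.ncard_union_eq (blk_disjoint hM h1 h2 h21).symm]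
  congr 1
  exact Set.Subset.antisymm (Set.union_subset (blk_subset x₁) (blk_subset x₂))
    (fun y hy => hall y hy)

theorem blk_sum_eq3 [Finite H] (hM : TIPart M) {x₁ x₂ x₃ : H} (h1 : x₁ ≠ 1) (h2 : x₂ ≠ 1)
    (h3 : x₃ ≠ 1) (h21 : x₂ ∉ blk M x₁) (h31 : x₃ ∉ blk M x₁) (h32 : x₃ ∉ blk M x₂)
    (hall : ∀ y : H, y ≠ 1 → y ∈ blk M x₁ ∨ y ∈ blk M x₂ ∨ y ∈ blk M x₃) :
    (blk M x₁).ncard + (blk M x₂).ncard + (blk M x₃).ncard = Nat.card H - 1 := by
  have d12 := (blk_disjoint hM h1 h2 h21).symm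
  have d3 : Disjoint (blk M x₁ ∪ blk M x₂) (blk M x₃) := by
    rw [Set.disjoint_union_left]
    exact ⟨(blk_disjoint hM h1 h3 h31).symm, (blk_disjoint hM h2 h3 h32).symm⟩
  rw [← ncard_ne_one, ← Set.ncard_union_eq d12, ← Set.ncard_union_eq d3]
  congr 1
  refine Set.Subset.antisymm (Set.union_subset (Set.union_subset (blk_subset x₁) (blk_subset x₂))
    (blk_subset x₃)) (fun y hy => ?_)
  rcases hall y hy with h | h | h
  · exact Or.inl (Or.inl h)
  · exact Or.inl (Or.inr h)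
  · exact Or.inr h

end dkcount

end Cfsg.Agent.Lib.helper12
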