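import Mathlib
import Cfsg.Agent.Lib.helper1.Dihedral

set_option autoImplicit false

namespace Cfsg.Agent.Lib.helper12

section dkrec

open Cfsg.Agent.Lib.helper1

/-- Recognition of dihedral groups: a cyclic subgroup of index two inverted by every element
outside it, all of which are involutions. -/
theorem dihedral_rec {H : Type*} [Group H] [Finite H] (C : Subgroup H) (hC : IsCyclic C)
    (hidx : C.index = 2)
    (hs : ∀ s : H, s ∉ C → s * s = 1 ∧ ∀ c ∈ C, s * c * s⁻¹ = c⁻¹) :
    Nonempty (H ≃* DihedralGroup (Nat.card C)) := by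
  obtain ⟨⟨ρ, hρC⟩, hgen⟩ := hC.exists_generator
  have hord : orderOf ρ = Nat.card C := by
    have h1 := orderOf_eq_card_of_forall_mem_zpowers hgen
    rw [← h1]
    exact (Subgroup.orderOf_mk ρ hρC).symm
  obtain ⟨s, hsC⟩ : ∃ s, s ∉ C := by
    by_contra h
    push Not at h
    have : C = ⊤ := by
      rw [eq_top_iff]
      intro x _
      exact h x
    rw [this, Subgroup.index_top] at hidx
    omega
  obtain ⟨hss, hinv⟩ := hs s hsC
  have hconj := hinv ρ hρC
  have hnot : s ∉ Subgroup.zpowers ρ := fun h => hsC ((Subgroup.zpowers_le.2 hρC) h)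
  have hinj := dihHom_injective s ρ hss hconj hnot
  have hcard : Nat.card (DihedralGroup (orderOf ρ)) = Nat.card H := by
    rw [DihedralGroup.nat_card, hord, ← Subgroup.card_mul_index C, hidx]
    ring
  have hbij := (Nat.bijective_iff_injective_and_card _).2 ⟨hinj, hcard⟩
  rw [← hord]
  exact ⟨(MulEquiv.ofBijective _ hbij).symm⟩

/-- Recognition of `S₄`. -/
theorem s4_rec {H : Type*} [Group H] [Finite H] (h24 : Nat.card H = 24)
    (hord : ∀ y : H, y ^ 2 = 1 ∨ y ^ 3 = 1 ∨ y ^ 4 = 1)
    (P : Subgroup H) (hP : Nat.card P = 3)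
    (hN : (Subgroup.normalizer (P : Set H)).index = 4) :
    Nonempty (H ≃* Equiv.Perm (Fin 4)) := by
  classical
  haveI : Fact (Nat.Prime 3) := ⟨Nat.prime_three⟩
  haveI : Fact (Nat.Prime 2) := ⟨Nat.prime_two⟩
  obtain ⟨N, hNdef⟩ : ∃ N, N = Subgroup.normalizer (P : Set H) := ⟨_, rfl⟩
  rw [← hNdef] at hN
  have hNcard : Nat.card N = 6 := by
    have := Subgroup.card_mul_index N
    rw [hN, h24] at this
    omega
  have hPN : P ≤ N := by rw [hNdef]; exact Subgroup.le_normalizer
  have hP3 : ∀ c ∈ P, c ^ 3 = 1 := by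
    intro c hc
    have := pow_card_eq_one' (G := P) (x := ⟨c, hc⟩)
    rw [hP] at this
    exact congrArg Subtype.val this
  have key : ∀ n ∈ N, n ^ 3 = 1 → n ∈ P := by
    intro n hn h3
    have hidx : (P.subgroupOf N).index = 2 := by
      have h1 := Subgroup.card_mul_index (P.subgroupOf N)
      have h2 : Nat.card (P.subgroupOf N) = 3 := by
        rw [← hP]
        exact Nat.card_congr (Subgroup.subgroupOfEquivOfLe hPN).toEquiv
      rw [h2, hNcard] at h1
      omega
    have h4 := Subgroup.mul_self_mem_of_index_two hidx ⟨n, hn⟩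
    have hnn : n * n ∈ P := by
      rw [Subgroup.mem_subgroupOf] at h4
      exact h4
    have e : n = (n * n)⁻¹ := by
      rw [eq_inv_iff_mul_eq_one, ← h3, pow_succ, pow_two, mul_assoc]
    rw [e]
    exact inv_mem hnn
  have hcore : N.normalCore = ⊥ := by
    by_contra hne
    obtain ⟨K, hKdef⟩ : ∃ K, K = N.normalCore := ⟨_, rfl⟩
    rw [← hKdef] at hne
    have hKN : K ≤ N := by rw [hKdef]; exact Subgroup.normalCore_le N
    have hKn : K.Normal := by rw [hKdef]; exact Subgroup.normalCore_normal N
    have hKcard : Nat.card K ∣ 6 := by rw [← hNcard]; exact Subgroup.card_dvd_of_le hKN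
    have hK1 : Nat.card K ≠ 1 := fun h => hne (Subgroup.eq_bot_of_card_eq K h)
    by_cases h3 : 3 ∣ Nat.card K
    · obtain ⟨y, hy⟩ := exists_prime_orderOf_dvd_card' (G := K) 3 h3
      have hy' : orderOf (y : H) = 3 := by rw [Subgroup.orderOf_coe]; exact hy
      have hy3 : (y : H) ^ 3 = 1 := by rw [← hy']; exact pow_orderOf_eq_one _
      have hyP : (y : H) ∈ P := key _ (hKN y.2) hy3
      have hPK : P ≤ K := by
        have hz : Subgroup.zpowers (y : H) ≤ P := Subgroup.zpowers_le.2 hyP
        have hzc : Nat.card (Subgroup.zpowers (y : H)) = 3 := by rw [Nat.card_zpowers, hy']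
        have : Subgroup.zpowers (y : H) = P := Subgroup.eq_of_le_of_card_ge hz (by rw [hzc, hP])
        rw [← this]
        exact Subgroup.zpowers_le.2 y.2
      have hall : ∀ g : H, ∀ c ∈ P, g * c * g⁻¹ ∈ P := by
        intro g c hc
        apply key
        · exact hKN (hKn.conj_mem c (hPK hc) g)
        · rw [conj_pow, hP3 c hc]
          group
      have htop : N = ⊤ := by
        rw [eq_top_iff]
        intro g _
        rw [hNdef, Subgroup.mem_normalizer_iff]
        intro c
        constructor
        · exact hall g c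
        · intro hc
          have := hall g⁻¹ _ hc
          simpa [mul_assoc] using this
      rw [htop, Subgroup.index_top] at hN
      omega
    · have hcop : Nat.Coprime (Nat.card K) 3 :=
        ((Nat.Prime.coprime_iff_not_dvd Nat.prime_three).2 h3).symm
      have hK2' : Nat.card K ∣ 2 := hcop.dvd_of_dvd_mul_right (by
        have : (2 : ℕ) * 3 = 6 := by norm_num
        rw [this]; exact hKcard)
      have hK2 : Nat.card K = 2 := by
        rcases (Nat.dvd_prime Nat.prime_two).1 hK2' with h | h
        · exact absurd h hK1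
        · exact h
      obtain ⟨z, hz⟩ := exists_prime_orderOf_dvd_card' (G := K) 2 (by rw [hK2])
      have hz' : orderOf (z : H) = 2 := by rw [Subgroup.orderOf_coe]; exact hz
      have hz2 : (z : H) ^ 2 = 1 := by rw [← hz']; exact pow_orderOf_eq_one _
      have hz1 : (z : H) ≠ 1 := by
        intro h
        rw [h, orderOf_one] at hz'
        omega
      have huniq : ∀ w : H, w ∈ K → w ≠ 1 → w = (z : H) := by
        intro w hw hw1
        obtain ⟨u, -, hu⟩ := (Nat.card_eq_two_iff' (1 : K)).1 hK2
        have h1 : (⟨w, hw⟩ : K) = u := hu _ (fun h => hw1 (congrArg Subtype.val h))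
        have h2 : z = u := hu _ (fun h => hz1 (congrArg Subtype.val h))
        have := h1.trans h2.symm
        exact congrArg Subtype.val this
      obtain ⟨y, hy⟩ := exists_prime_orderOf_dvd_card' (G := P) 3 (by rw [hP])
      have hy' : orderOf (y : H) = 3 := by rw [Subgroup.orderOf_coe]; exact hy
      have hy3 : (y : H) ^ 3 = 1 := by rw [← hy']; exact pow_orderOf_eq_one _
      have hy1 : (y : H) ≠ 1 := by
        intro h
        rw [h, orderOf_one] at hy'
        omega
      have hcomm : Commute (z : H) (y : H) := by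
        have h1 : (y : H) * (z : H) * (y : H)⁻¹ = (z : H) :=
          huniq _ (hKn.conj_mem _ z.2 _) (by
            intro h
            apply hz1
            have := congrArg (fun t => (y : H)⁻¹ * t * (y : H)) h
            simpa [mul_assoc] using this)
        have : (y : H) * (z : H) = (z : H) * (y : H) := by
          calc (y : H) * (z : H) = (y : H) * (z : H) * (y : H)⁻¹ * (y : H) := by group
            _ = (z : H) * (y : H) := by rw [h1]
        exact this.symm
      rcases hord ((z : H) * (y : H)) with h | h | h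
      · rw [hcomm.mul_pow, hz2, one_mul] at h
        have := orderOf_dvd_of_pow_eq_one h
        rw [hy'] at this
        omega
      · rw [hcomm.mul_pow, hy3, mul_one] at h
        have := orderOf_dvd_of_pow_eq_one h
        rw [hz'] at this
        omega
      · rw [hcomm.mul_pow] at h
        have e1 : (z : H) ^ 4 = 1 := by
          have : (z : H) ^ 4 = ((z : H) ^ 2) ^ 2 := by rw [← pow_mul]
          rw [this, hz2, one_pow]
        have e2 : (y : H) ^ 4 = (y : H) := by
          have : (y : H) ^ 4 = (y : H) ^ 3 * (y : H) := by rw [← pow_succ]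
          rw [this, hy3, one_mul]
        rw [e1, e2, one_mul] at h
        exact hy1 h
  have hinj : Function.Injective (MulAction.toPermHom H (H ⧸ N)) := by
    rw [← MonoidHom.ker_eq_bot_iff, ← Subgroup.normalCore_eq_ker]
    exact hcore
  have hc4 : Nat.card (H ⧸ N) = 4 := hN
  have hcard : Nat.card H = Nat.card (Equiv.Perm (H ⧸ N)) := by
    rw [Nat.card_perm, hc4, h24]
    rfl
  have hbij := (Nat.bijective_iff_injective_and_card _).2 ⟨hinj, hcard⟩
  have e1 : H ≃* Equiv.Perm (H ⧸ N) := MulEquiv.ofBijective _ hbij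
  have e2 : Equiv.Perm (H ⧸ N) ≃* Equiv.Perm (Fin 4) :=
    Equiv.permCongrHom (Finite.equivFinOfCardEq hc4)
  exact ⟨e1.trans e2⟩

end dkrec

end Cfsg.Agent.Lib.helper12
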