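import Mathlib
import Cfsg.Agent.Lib.helper12.DkCount
import Cfsg.Agent.Lib.helper12.DkArith
import Cfsg.Agent.Lib.helper12.DkRec
import Cfsg.Agent.Lib.helper2.Ord12
import Cfsg.Agent.Lib.helper2.A5

set_option autoImplicit false

namespace Cfsg.Agent.Lib.helper12

section dknum

universe u

variable {H : Type u} [Group H]

/-- Torus type pieces. -/
def TorT (p : ℕ) (M : H → Subgroup H) (x : H) : Prop :=
  Nat.Coprime p (Nat.card (M x)) ∧
  (∀ n ∈ Subgroup.normalizer (M x : Set H), n ∉ M x →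
    n * n = 1 ∧ ∀ c ∈ M x, n * c * n⁻¹ = c⁻¹) ∧
  (∀ n ∈ Subgroup.normalizer (M x : Set H), ∀ n' ∈ Subgroup.normalizer (M x : Set H),
    n ∉ M x → n' ∉ M x → n⁻¹ * n' ∈ M x)

/-- Unipotent type pieces. -/
def UniT (p : ℕ) (M : H → Subgroup H) (x : H) : Prop :=
  IsPGroup p (M x) ∧
  (∀ Q : Subgroup H, IsPGroup p Q → M x ≤ Q → Q ≤ M x) ∧
  (∀ y ∈ M x, y ≠ 1 → ∀ g : H, g * y = y * g → g ∈ M x) ∧
  (∃ (C : Type u) (_ : CommGroup C) (_ : IsCyclic C)
    (f : Subgroup.normalizer (M x : Set H) →* C), ∀ n, f n = 1 ↔ (n : H) ∈ M x) ∧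
  (∀ y ∈ Subgroup.normalizer (M x : Set H), y ∉ M x →
    M y ≤ Subgroup.normalizer (M x : Set H))

theorem card_ne_one_sub [Finite H] (K : Subgroup H) :
    Nat.card {c : H // c ∈ K ∧ c ≠ 1} = Nat.card K - 1 := by
  have h2 : Nat.card {c : H // c ∈ K ∧ c ≠ 1} = (((K : Set H)) \ {1}).ncard := by
    rw [← Nat.card_coe_set_eq]
    apply Nat.card_congr
    exact Equiv.subtypeEquivRight (fun c => by simp)
  rw [h2, Set.ncard_diff_singleton_of_mem (one_mem _)]
  rw [← Nat.card_coe_set_eq]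
  rfl

theorem two_le_card_M [Finite H] {M : H → Subgroup H} (hM : TIPart M) {x : H} (hx : x ≠ 1) :
    2 ≤ Nat.card (M x) := by
  have : Nontrivial (M x) := ⟨⟨⟨x, hM.mem x hx⟩, 1, fun h => hx (congrArg Subtype.val h)⟩⟩
  exact Finite.one_lt_card

theorem pow_card_M [Finite H] {M : H → Subgroup H} (hM : TIPart M) {x : H} (hx : x ≠ 1) :
    x ^ Nat.card (M x) = 1 := by
  have := pow_card_eq_one' (G := M x) (x := ⟨x, hM.mem x hx⟩)
  exact congrArg Subtype.val this

theorem tor_data [Finite H] {p : ℕ} {M : H → Subgroup H} (hM : TIPart M) {x : H} (hx : x ≠ 1)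
    (ht : TorT p M x) :
    ∃ j c e : ℕ, 2 ≤ c ∧ (e = 1 ∨ e = 2) ∧ Nat.card H = j * e * c ∧ 1 ≤ j ∧
      (blk M x).ncard = j * (c - 1) ∧ c = Nat.card (M x) ∧
      j = (Subgroup.normalizer (M x : Set H)).index ∧
      Nat.card (Subgroup.normalizer (M x : Set H)) = e * c := by
  obtain ⟨N, hN⟩ : ∃ N, N = Subgroup.normalizer (M x : Set H) := ⟨_, rfl⟩
  have hle : M x ≤ N := by rw [hN]; exact Subgroup.le_normalizer
  have hcard : ∃ e : ℕ, (e = 1 ∨ e = 2) ∧ Nat.card N = e * Nat.card (M x) := by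
    by_cases hall : ∀ n ∈ N, n ∈ M x
    · refine ⟨1, Or.inl rfl, ?_⟩
      have : N = M x := le_antisymm hall hle
      rw [this, one_mul]
    · push Not at hall
      obtain ⟨n₀, hn₀, hn₀'⟩ := hall
      refine ⟨2, Or.inr rfl, ?_⟩
      have hidx : ((M x).subgroupOf N).index = 2 := by
        rw [Subgroup.index_eq_two_iff]
        refine ⟨⟨n₀, hn₀⟩, fun b => ?_⟩
        by_cases hb : (b : H) ∈ M x
        · right
          refine ⟨by rw [Subgroup.mem_subgroupOf]; exact hb, ?_⟩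
          rw [Subgroup.mem_subgroupOf]
          intro h
          apply hn₀'
          have : n₀ = (b : H)⁻¹ * ((b : H) * n₀) := by group
          rw [this]
          exact mul_mem (inv_mem hb) h
        · left
          refine ⟨?_, by rw [Subgroup.mem_subgroupOf]; exact hb⟩
          rw [Subgroup.mem_subgroupOf]
          have h1 := ht.2.2 (b : H)⁻¹ (by rw [← hN]; exact inv_mem b.2) n₀
            (by rw [← hN]; exact hn₀) (fun h => hb (by simpa using inv_mem h)) hn₀'
          rw [inv_inv] at h1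
          exact h1
      have h1 := Subgroup.card_mul_index ((M x).subgroupOf N)
      rw [hidx, Nat.card_congr (Subgroup.subgroupOfEquivOfLe hle).toEquiv] at h1
      rw [← h1, mul_comm]
  obtain ⟨e, he, hNc⟩ := hcard
  have hidx := Subgroup.index_mul_card N
  have hpos : 0 < Nat.card H := Nat.card_pos
  refine ⟨N.index, Nat.card (M x), e, two_le_card_M hM hx, he, ?_, ?_, ?_, rfl, by rw [hN], by
    rw [← hN]; exact hNc⟩
  · rw [← hidx, hNc]; ring
  · by_contra h
    have : N.index = 0 := by omega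
    rw [this, zero_mul] at hidx
    omega
  · rw [hN]; exact blk_ncard hM x hx

theorem card_dvd_of_free {K X : Type*} [Group K] [Finite K] [MulAction K X] [Finite X]
    (hfree : ∀ (k : K) (x : X), k • x = x → k = 1) : Nat.card K ∣ Nat.card X := by
  classical
  haveI : Fintype (MulAction.orbitRel.Quotient K X) := Fintype.ofFinite _
  have e := MulAction.selfEquivSigmaOrbitsQuotientStabilizer K X
  rw [Nat.card_congr e, Nat.card_sigma]
  apply Finset.dvd_sum
  intro ω _
  have hst : MulAction.stabilizer K ω.out = ⊥ := by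
    rw [eq_bot_iff]
    intro k hk
    rw [Subgroup.mem_bot]
    exact hfree k _ (MulAction.mem_stabilizer_iff.1 hk)
  rw [hst, ← Subgroup.index_eq_card, Subgroup.index_bot]

theorem mem_sylow_smul {G : Type*} [Group G] {p : ℕ} (S : Sylow p G) (g y : G) :
    y ∈ ((g • S : Sylow p G) : Subgroup G) ↔ g⁻¹ * y * g ∈ (S : Subgroup G) := by
  rw [Sylow.coe_subgroup_smul, Subgroup.mem_pointwise_smul_iff_inv_smul_mem, MulAut.smul_def]
  simp [MulAut.conj_inv_apply]

/-- The Sylow subgroup attached to a unipotent type piece. -/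
def uniSylow {p : ℕ} {M : H → Subgroup H} {x : H} (hu : UniT p M x) : Sylow p H :=
  ⟨M x, hu.1, fun {Q} hQ hle => le_antisymm (hu.2.1 Q hQ hle) hle⟩

theorem uniSylow_coe {p : ℕ} {M : H → Subgroup H} {x : H} (hu : UniT p M x) :
    ((uniSylow hu : Sylow p H) : Subgroup H) = M x := rfl

theorem uni_mem_blk [Finite H] {p : ℕ} [Fact p.Prime] {M : H → Subgroup H}
    {x y : H} (hy : y ≠ 1) (hM : TIPart M) (hu : UniT p M x) (hu' : UniT p M y) :
    y ∈ blk M x := by
  obtain ⟨g, hg⟩ := MulAction.exists_smul_eq H (uniSylow hu) (uniSylow hu')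
  refine ⟨hy, g, ?_⟩
  have h1 : y ∈ ((uniSylow hu' : Sylow p H) : Subgroup H) := hM.mem y hy
  rw [← hg, mem_sylow_smul] at h1
  exact h1

theorem uni_sylow_dvd [Finite H] {p : ℕ} [Fact p.Prime] {M : H → Subgroup H} (hM : TIPart M)
    {x : H} (hx : x ≠ 1) (hu : UniT p M x) :
    Nat.card (M x) ∣ (Subgroup.normalizer (M x : Set H)).index - 1 := by
  classical
  obtain ⟨S, hS⟩ : ∃ S : Sylow p H, S = uniSylow hu := ⟨_, rfl⟩
  have hSc : (S : Subgroup H) = M x := by rw [hS]; rfl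
  have hidx : Nat.card (Sylow p H) = (Subgroup.normalizer (M x : Set H)).index :=
    (uniSylow hu).card_eq_index_normalizer
  have hSc' : ∀ z : H, z ∈ (S : Subgroup H) ↔ z ∈ M x := fun z => by rw [hS]; rfl
  have hfix : ∀ u : (S : Subgroup H), (u : H) • S = S := by
    intro u
    rw [Sylow.smul_eq_iff_mem_normalizer]
    exact Subgroup.le_normalizer u.2
  letI : MulAction (S : Subgroup H) {Q : Sylow p H // Q ≠ S} :=
    { smul := fun u Q => ⟨(u : H) • Q.1, fun h => Q.2 (by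
        have h1 : Q.1 = (u : H)⁻¹ • S := eq_inv_smul_iff.2 h
        rw [h1]
        have := hfix u⁻¹
        simpa using this)⟩
      one_smul := fun Q => Subtype.ext (one_smul H Q.1)
      mul_smul := fun u v Q => Subtype.ext (mul_smul (u : H) (v : H) Q.1) }
  have hfree : ∀ (u : (S : Subgroup H)) (Q : {Q : Sylow p H // Q ≠ S}), u • Q = Q → u = 1 := by
    intro u Q huQ
    have h1 : (u : H) • Q.1 = Q.1 := congrArg Subtype.val huQ
    by_contra hu1
    have hu1' : (u : H) ≠ 1 := fun h => hu1 (Subtype.ext h)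
    have hzp : IsPGroup p (Subgroup.zpowers (u : H)) :=
      S.isPGroup'.to_le (Subgroup.zpowers_le.2 u.2)
    have hmem : Q.1 ∈ MulAction.fixedPoints (Subgroup.zpowers (u : H)) (Sylow p H) := by
      intro w
      have hw : (w : H) ∈ MulAction.stabilizer H Q.1 := by
        have : Subgroup.zpowers (u : H) ≤ MulAction.stabilizer H Q.1 :=
          Subgroup.zpowers_le.2 (MulAction.mem_stabilizer_iff.2 h1)
        exact this w.2
      exact MulAction.mem_stabilizer_iff.1 hw
    have hle := hzp.sylow_mem_fixedPoints_iff.1 hmem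
    have huQ' : (u : H) ∈ (Q.1 : Subgroup H) := hle (Subgroup.mem_zpowers _)
    obtain ⟨g, hg⟩ := MulAction.exists_smul_eq H S Q.1
    have h2 : g⁻¹ * (u : H) * g ∈ M x :=
      (hSc' _).1 ((mem_sylow_smul S g (u : H)).1 (by rw [hg]; exact huQ'))
    have hux : (u : H) ∈ M x := (hSc' _).1 u.2
    have e1 := hM.eq_of_mem x (u : H) hx hu1' hux
    have e2 := hM.map_eq_of_mem hx hu1' g h2
    have hQ : ((Q.1 : Sylow p H) : Subgroup H) = (M x).map (MulAut.conj g).toMonoidHom := by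
      ext z
      rw [mem_map_conj, ← hSc', ← mem_sylow_smul, hg]
    apply Q.2
    apply Sylow.ext
    rw [hQ, ← e2, e1]
    exact hSc.symm
  have hdvd := card_dvd_of_free hfree
  have hcard : Nat.card {Q : Sylow p H // Q ≠ S} = Nat.card (Sylow p H) - 1 := by
    have h2 : Nat.card {Q : Sylow p H // Q ≠ S} = ((Set.univ : Set (Sylow p H)) \ {S}).ncard := by
      rw [← Nat.card_coe_set_eq]
      apply Nat.card_congr
      exact Equiv.subtypeEquivRight (fun c => by simp)
    rw [h2, Set.ncard_diff_singleton_of_mem (Set.mem_univ _), Set.ncard_univ]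
  rw [hcard, hidx, hSc] at hdvd
  exact hdvd

theorem uni_data [Finite H] {p : ℕ} [Fact p.Prime] {M : H → Subgroup H} (hM : TIPart M)
    (hd : ∀ x : H, x ≠ 1 → TorT p M x ∨ UniT p M x) {x : H} (hx : x ≠ 1) (hu : UniT p M x) :
    ∃ j k P : ℕ, 2 ≤ P ∧ 1 ≤ k ∧ k ≤ P - 1 ∧ Nat.card H = j * k * P ∧ 1 ≤ j ∧
      (blk M x).ncard = j * (P - 1) ∧ P = Nat.card (M x) ∧
      j = (Subgroup.normalizer (M x : Set H)).index ∧ P ∣ j - 1 ∧
      (2 ≤ k → ∃ y : H, y ≠ 1 ∧ TorT p M y ∧ Nat.card (M y) = k) := by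
  classical
  have hdvd := uni_sylow_dvd hM hx hu
  have hSc : Nat.card (M x) = p ^ (Nat.card H).factorization p :=
    (uniSylow hu).card_eq_multiplicity
  obtain ⟨hpg, hmax, hcent, ⟨C, iC, iCy, f, hf⟩, hUN⟩ := hu
  have hle : M x ≤ Subgroup.normalizer (M x : Set H) := Subgroup.le_normalizer
  haveI : Finite f.range := Finite.of_surjective f.rangeRestrict f.rangeRestrict_surjective
  have hker : f.ker = (M x).subgroupOf (Subgroup.normalizer (M x : Set H)) := by
    ext n
    rw [MonoidHom.mem_ker, Subgroup.mem_subgroupOf]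
    exact hf n
  have hkerc : Nat.card f.ker = Nat.card (M x) := by
    rw [hker]
    exact Nat.card_congr (Subgroup.subgroupOfEquivOfLe hle).toEquiv
  have hNc : Nat.card (Subgroup.normalizer (M x : Set H)) = Nat.card f.range * Nat.card (M x) := by
    have := Subgroup.card_mul_index f.ker
    rw [Subgroup.index_ker, hkerc] at this
    rw [← this]
    ring
  have hk : Nat.card f.range ≤ Nat.card (M x) - 1 := by
    rw [← card_ne_one_sub]
    have hex : ∀ v : f.range, ∃ n : Subgroup.normalizer (M x : Set H), f n = v := fun v => v.2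
    choose nv hnv using hex
    apply Nat.card_le_card_of_injective (fun v =>
      (⟨(nv v : H) * x * (nv v : H)⁻¹,
        (Subgroup.mem_normalizer_iff.1 (nv v).2 x).1 (hM.mem x hx), conj_ne_one' hx⟩ :
          {c : H // c ∈ M x ∧ c ≠ 1}))
    intro v w h
    have h1 : (nv v : H) * x * (nv v : H)⁻¹ = (nv w : H) * x * (nv w : H)⁻¹ :=
      congrArg Subtype.val h
    have h2 : ((nv w : H)⁻¹ * (nv v : H)) * x = x * ((nv w : H)⁻¹ * (nv v : H)) := by
      have e : x = (nv v : H)⁻¹ * ((nv w : H) * x * (nv w : H)⁻¹) * (nv v : H) := by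
        rw [← h1]; group
      calc ((nv w : H)⁻¹ * (nv v : H)) * x
          = ((nv w : H)⁻¹ * (nv v : H)) *
              ((nv v : H)⁻¹ * ((nv w : H) * x * (nv w : H)⁻¹) * (nv v : H)) := by rw [← e]
        _ = x * ((nv w : H)⁻¹ * (nv v : H)) := by group
    have h3 := hcent x (hM.mem x hx) hx _ h2
    have h4 : f ((nv w)⁻¹ * nv v) = 1 := (hf _).2 h3
    rw [map_mul, map_inv, hnv, hnv, inv_mul_eq_one] at h4
    exact Subtype.ext h4.symm
  have hcop : Nat.Coprime p (Nat.card f.range) := by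
    rw [Nat.Prime.coprime_iff_not_dvd (Fact.out)]
    intro hd'
    have h1 : p ^ ((Nat.card H).factorization p + 1) ∣ Nat.card H := by
      have e : Nat.card H = (Subgroup.normalizer (M x : Set H)).index *
          (Nat.card f.range * Nat.card (M x)) := by
        rw [← hNc]
        exact (Subgroup.index_mul_card _).symm
      rw [pow_succ, ← hSc, e, mul_comm (Nat.card (M x)) p]
      exact Dvd.dvd.mul_left (Nat.mul_dvd_mul_right hd' _) _
    exact Nat.pow_succ_factorization_not_dvd (Nat.card_pos.ne') Fact.out h1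
  have hidx := Subgroup.index_mul_card (Subgroup.normalizer (M x : Set H))
  have hpos : 0 < Nat.card H := Nat.card_pos
  have hkpos : 0 < Nat.card f.range := Nat.card_pos
  refine ⟨(Subgroup.normalizer (M x : Set H)).index, Nat.card f.range, Nat.card (M x),
    two_le_card_M hM hx, hkpos, hk, ?_, ?_, blk_ncard hM x hx, rfl, rfl, hdvd, ?_⟩
  · rw [← hidx, hNc]; ring
  · by_contra h
    have : (Subgroup.normalizer (M x : Set H)).index = 0 := by omega
    rw [this, zero_mul] at hidx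
    omega
  · intro h2
    obtain ⟨⟨v, hv⟩, hgen⟩ := (inferInstance : IsCyclic f.range).exists_generator
    obtain ⟨n, rfl⟩ := hv
    have hfn : f n ≠ 1 := by
      intro h
      have hsub : Subsingleton f.range := by
        constructor
        intro a b
        have ha := hgen a
        have hb := hgen b
        have h1 : (⟨f n, n, rfl⟩ : f.range) = 1 := Subtype.ext h
        rw [h1, Subgroup.zpowers_one_eq_bot, Subgroup.mem_bot] at ha hb
        rw [ha, hb]
      have : Nat.card f.range ≤ 1 := Finite.card_le_one_iff_subsingleton.2 hsub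
      omega
    have hnM : (n : H) ∉ M x := fun h => hfn ((hf n).2 h)
    have hn1 : (n : H) ≠ 1 := fun h => hnM (by rw [h]; exact one_mem _)
    refine ⟨n, hn1, ?_, ?_⟩
    · rcases hd _ hn1 with ht | hu2
      · exact ht
      · exfalso
        obtain ⟨a, ha⟩ := hu2.1 ⟨(n : H), hM.mem _ hn1⟩
        have ha' : (n : H) ^ p ^ a = 1 := congrArg Subtype.val ha
        have h1 : f n ^ p ^ a = 1 := by
          rw [← map_pow]
          have : n ^ p ^ a = 1 := Subtype.ext (by simpa using ha')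
          rw [this, map_one]
        have d1 : orderOf (f n) ∣ p ^ a := orderOf_dvd_of_pow_eq_one h1
        have d2 : orderOf (f n) ∣ Nat.card f.range := by
          have := orderOf_dvd_natCard (⟨f n, n, rfl⟩ : f.range)
          rw [← Subgroup.orderOf_coe] at this
          exact this
        have := Nat.eq_one_of_dvd_coprimes (Nat.Coprime.pow_left a hcop) d1 d2
        exact hfn (orderOf_eq_one_iff.1 this)
    · have hyN : M (n : H) ≤ Subgroup.normalizer (M x : Set H) := hUN _ n.2 hnM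
      have hinj : Function.Injective (fun c : M (n : H) =>
          (⟨f ⟨c, hyN c.2⟩, ⟨_, rfl⟩⟩ : f.range)) := by
        intro c c' h
        have h1 : f ⟨c, hyN c.2⟩ = f ⟨c', hyN c'.2⟩ := congrArg Subtype.val h
        have h2 : f ((⟨c, hyN c.2⟩ : Subgroup.normalizer (M x : Set H))⁻¹ * ⟨c', hyN c'.2⟩) = 1 := by
          rw [map_mul, map_inv, h1, inv_mul_cancel]
        have h3 : (c : H)⁻¹ * (c' : H) ∈ M x := (hf _).1 h2
        by_contra hne
        have h4 : (c : H)⁻¹ * (c' : H) ≠ 1 := fun h =>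
          hne (Subtype.ext (by rw [inv_mul_eq_one] at h; exact h))
        have h5 : (c : H)⁻¹ * (c' : H) ∈ M (n : H) := mul_mem (inv_mem c.2) c'.2
        have e1 := hM.eq_of_mem x _ hx h4 h3
        have e2 := hM.eq_of_mem (n : H) _ hn1 h4 h5
        have e3 : M (n : H) = M x := e2.symm.trans e1
        exact hnM ((SetLike.ext_iff.1 e3 _).1 (hM.mem _ hn1))
      have hsurj : Function.Surjective (fun c : M (n : H) =>
          (⟨f ⟨c, hyN c.2⟩, ⟨_, rfl⟩⟩ : f.range)) := by
        intro w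
        obtain ⟨i, hi⟩ := Subgroup.mem_zpowers_iff.1 (hgen w)
        refine ⟨⟨(n : H) ^ i, zpow_mem (hM.mem _ hn1) i⟩, ?_⟩
        apply Subtype.ext
        rw [← hi]
        show f ⟨(n : H) ^ i, _⟩ = ((⟨f n, n, rfl⟩ : f.range) ^ i : f.range)
        rw [Subgroup.coe_zpow, ← map_zpow]
        rfl
      exact Nat.card_congr (Equiv.ofBijective _ ⟨hinj, hsurj⟩)

theorem no_central_invol (a : H) (ha1 : a ≠ 1) (ha3 : a ^ 3 = 1)
    (hord : ∀ y : H, y ^ 2 = 1 ∨ y ^ 3 = 1) :
    ∀ z : H, orderOf z = 2 → z ∉ Subgroup.center H := by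
  intro z hz hzc
  have hz2 : z ^ 2 = 1 := by rw [← hz]; exact pow_orderOf_eq_one z
  have hz1 : z ≠ 1 := by
    intro h
    rw [h, orderOf_one] at hz
    omega
  have hcomm : Commute z a := (Subgroup.mem_center_iff.1 hzc a).symm
  rcases hord (z * a) with h | h
  · rw [hcomm.mul_pow, hz2, one_mul] at h
    apply ha1
    calc a = a ^ 3 * (a ^ 2)⁻¹ := by group
      _ = 1 := by rw [ha3, h]; simp
  · rw [hcomm.mul_pow, ha3, mul_one] at h
    apply hz1
    calc z = z ^ 3 * (z ^ 2)⁻¹ := by group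
      _ = 1 := by rw [hz2, h]; simp

theorem tor_not_uni [Finite H] {p : ℕ} [Fact p.Prime] {M : H → Subgroup H} (hM : TIPart M)
    {x : H} (hx : x ≠ 1) (ht : TorT p M x) (hu : UniT p M x) : False := by
  have h2 := two_le_card_M hM hx
  rcases hu.1.card_eq_or_dvd with h | h
  · omega
  · exact (Nat.Prime.coprime_iff_not_dvd Fact.out).1 ht.1 h

theorem tor_notin_uni_blk [Finite H] {p : ℕ} [Fact p.Prime] {M : H → Subgroup H} (hM : TIPart M)
    {x y : H} (hx : x ≠ 1) (hy : y ≠ 1) (ht : TorT p M y) (hu : UniT p M x) :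
    y ∉ blk M x := by
  intro hyb
  have hc := blk_card_M_eq hM hx hyb
  have h2 := two_le_card_M hM hx
  rcases hu.1.card_eq_or_dvd with h | h
  · omega
  · have h1 := ht.1
    rw [hc] at h1
    exact (Nat.Prime.coprime_iff_not_dvd Fact.out).1 h1 h

theorem sylow_conj_blk [Finite H] {M : H → Subgroup H} (hM : TIPart M) (q a : ℕ)
    [Fact q.Prime] {x y : H} (hy : y ≠ 1)
    (hcx : Nat.card (M x) = q ^ a) (hcy : Nat.card (M y) = q ^ a)
    (hmax : ¬ q ^ (a + 1) ∣ Nat.card H) : y ∈ blk M x := by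
  have hfact : (Nat.card H).factorization q = a := by
    have hqa : q ^ a ∣ Nat.card H := by
      rw [← hcx]
      exact Subgroup.card_subgroup_dvd_card _
    have hpos : Nat.card H ≠ 0 := Nat.card_pos.ne'
    have h1 : a ≤ (Nat.card H).factorization q :=
      (Nat.Prime.pow_dvd_iff_le_factorization Fact.out hpos).1 hqa
    have h2 : ¬ a + 1 ≤ (Nat.card H).factorization q := fun h =>
      hmax ((Nat.Prime.pow_dvd_iff_le_factorization Fact.out hpos).2 h)
    omega
  have hSx : Nat.card (M x) = q ^ (Nat.card H).factorization q := by rw [hfact, hcx]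
  have hSy : Nat.card (M y) = q ^ (Nat.card H).factorization q := by rw [hfact, hcy]
  obtain ⟨g, hg⟩ := MulAction.exists_smul_eq H (Sylow.ofCard (M x) hSx) (Sylow.ofCard (M y) hSy)
  refine ⟨hy, g, ?_⟩
  have h1 : y ∈ ((Sylow.ofCard (M y) hSy : Sylow q H) : Subgroup H) := hM.mem y hy
  rw [← hg, mem_sylow_smul] at h1
  exact h1

theorem tor_top [Finite H] {M : H → Subgroup H} {x : H} {j c e : ℕ} (hj : j = 1) (he : e = 1)
    (hjdef : j = (Subgroup.normalizer (M x : Set H)).index)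
    (hNc : Nat.card (Subgroup.normalizer (M x : Set H)) = e * c) (hc : c = Nat.card (M x)) :
    M x = ⊤ := by
  have h1 : Subgroup.normalizer (M x : Set H) = ⊤ := by
    rw [← Subgroup.index_eq_one, ← hjdef, hj]
  have h2 : M x = Subgroup.normalizer (M x : Set H) :=
    Subgroup.eq_of_le_of_card_ge Subgroup.le_normalizer (by rw [hNc, he, one_mul, hc])
  rw [h2, h1]

theorem tor_index_two [Finite H] {M : H → Subgroup H} {x : H} {j c e : ℕ} (hj : j = 1)
    (he : e = 2) (hh : Nat.card H = j * e * c) (hc : c = Nat.card (M x)) (hc2 : 2 ≤ c) :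
    (M x).index = 2 := by
  have h1 := Subgroup.card_mul_index (M x)
  rw [hh, hj, he, ← hc] at h1
  have h2 : c * (M x).index = c * 2 := by rw [h1]; ring
  exact Nat.eq_of_mul_eq_mul_left (by omega) h2

theorem a5_of_blocks [Finite H] {M : H → Subgroup H} (hM : TIPart M) (h60 : Nat.card H = 60)
    {x₁ x₂ x₃ : H} (h1 : x₁ ≠ 1) (h2 : x₂ ≠ 1) (h3 : x₃ ≠ 1)
    (h21 : x₂ ∉ blk M x₁) (h31 : x₃ ∉ blk M x₁) (h32 : x₃ ∉ blk M x₂)
    (hall : ∀ y : H, y ≠ 1 → y ∈ blk M x₁ ∨ y ∈ blk M x₂ ∨ y ∈ blk M x₃)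
    (hp₁ : (Nat.card (M x₁)).Prime) (hp₂ : (Nat.card (M x₂)).Prime)
    (hp₃ : (Nat.card (M x₃)).Prime)
    (hs₁ : (blk M x₁).ncard = 15 ∨ (blk M x₁).ncard = 20 ∨ (blk M x₁).ncard = 24)
    (hs₂ : (blk M x₂).ncard = 15 ∨ (blk M x₂).ncard = 20 ∨ (blk M x₂).ncard = 24)
    (hs₃ : (blk M x₃).ncard = 15 ∨ (blk M x₃).ncard = 20 ∨ (blk M x₃).ncard = 24) :
    Nonempty (H ≃* alternatingGroup (Fin 5)) := by
  have hsum := blk_sum_eq3 hM h1 h2 h3 h21 h31 h32 hall
  rw [h60] at hsum
  have key : ∀ (N : Subgroup H), N.Normal → ∀ w : H, w ≠ 1 → (Nat.card (M w)).Prime →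
      w ∈ N → blk M w ⊆ N := by
    intro N hN w hw hp hwN z hz
    obtain ⟨hz1, g, hg⟩ := hz
    have hzp : Subgroup.zpowers w = M w := by
      apply Subgroup.eq_of_le_of_card_ge (Subgroup.zpowers_le.2 (hM.mem w hw))
      rw [Nat.card_zpowers]
      have hd : orderOf w ∣ Nat.card (M w) := by
        have := orderOf_dvd_natCard (⟨w, hM.mem w hw⟩ : M w)
        rw [← Subgroup.orderOf_coe] at this
        exact this
      rcases (Nat.dvd_prime hp).1 hd with h | h
      · exact absurd (orderOf_eq_one_iff.1 h) hw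
      · rw [h]
    have h4 : g⁻¹ * z * g ∈ N := by
      have : M w ≤ N := by rw [← hzp]; exact Subgroup.zpowers_le.2 hwN
      exact this hg
    have h5 := hN.conj_mem _ h4 g
    have e : g * (g⁻¹ * z * g) * g⁻¹ = z := by group
    rw [e] at h5
    exact h5
  have inter : ∀ (N : Subgroup H), N.Normal → ∀ x : H, x ≠ 1 → (Nat.card (M x)).Prime →
      ((blk M x ∩ N).ncard = (blk M x).ncard ∨ (blk M x ∩ N).ncard = 0) := by
    intro N hN x hx hp
    by_cases hex : ∃ z, z ∈ blk M x ∧ z ∈ N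
    · left
      obtain ⟨z, hz, hzN⟩ := hex
      have hb := blk_eq_of_mem hM hx hz
      have hc := blk_card_M_eq hM hx hz
      have h6 := key N hN z hz.1 (by rw [hc]; exact hp) hzN
      rw [hb] at h6
      rw [Set.inter_eq_left.2 h6]
    · right
      have : blk M x ∩ N = ∅ := by
        rw [Set.eq_empty_iff_forall_notMem]
        rintro z ⟨hz, hzN⟩
        exact hex ⟨z, hz, hzN⟩
      rw [this, Set.ncard_empty]
  have hsimple : IsSimpleGroup H := by
    refine { exists_pair_ne := ⟨x₁, 1, h1⟩, eq_bot_or_eq_top_of_normal := fun N hN => ?_ }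
    have hdecomp : ((N : Set H) \ {1}) =
        (blk M x₁ ∩ N) ∪ (blk M x₂ ∩ N) ∪ (blk M x₃ ∩ N) := by
      ext y
      constructor
      · rintro ⟨hyN, hy1⟩
        have hy1' : y ≠ 1 := by simpa using hy1
        rcases hall y hy1' with h | h | h
        · exact Or.inl (Or.inl ⟨h, hyN⟩)
        · exact Or.inl (Or.inr ⟨h, hyN⟩)
        · exact Or.inr ⟨h, hyN⟩
      · rintro ((⟨h, hyN⟩ | ⟨h, hyN⟩) | ⟨h, hyN⟩)
        · exact ⟨hyN, by simpa using h.1⟩
        · exact ⟨hyN, by simpa using h.1⟩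
        · exact ⟨hyN, by simpa using h.1⟩
    have hcard : Nat.card N - 1 =
        (blk M x₁ ∩ N).ncard + (blk M x₂ ∩ N).ncard + (blk M x₃ ∩ N).ncard := by
      have d12 : Disjoint (blk M x₁ ∩ (N : Set H)) (blk M x₂ ∩ N) :=
        (blk_disjoint hM h1 h2 h21).symm.mono Set.inter_subset_left Set.inter_subset_left
      have d3 : Disjoint ((blk M x₁ ∩ (N : Set H)) ∪ (blk M x₂ ∩ N)) (blk M x₃ ∩ N) := by
        rw [Set.disjoint_union_left]
        exact ⟨(blk_disjoint hM h1 h3 h31).symm.mono Set.inter_subset_left Set.inter_subset_left,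
          (blk_disjoint hM h2 h3 h32).symm.mono Set.inter_subset_left Set.inter_subset_left⟩
      rw [← Set.ncard_union_eq d12, ← Set.ncard_union_eq d3, ← hdecomp,
        Set.ncard_diff_singleton_of_mem (one_mem N)]
      rw [← Nat.card_coe_set_eq]
      rfl
    have hdvd : Nat.card N ∣ 60 := by rw [← h60]; exact Subgroup.card_subgroup_dvd_card N
    have hpos : 0 < Nat.card N := Nat.card_pos
    have c1 := inter N hN x₁ h1 hp₁
    have c2 := inter N hN x₂ h2 hp₂
    have c3 := inter N hN x₃ h3 hp₃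
    have hval : Nat.card N = 1 ∨ Nat.card N = 16 ∨ Nat.card N = 21 ∨ Nat.card N = 25 ∨
        Nat.card N = 36 ∨ Nat.card N = 40 ∨ Nat.card N = 45 ∨ Nat.card N = 60 := by
      omega
    rcases hval with h | h | h | h | h | h | h | h
    · left; exact Subgroup.eq_bot_of_card_eq N h
    · exfalso; rw [h] at hdvd; norm_num at hdvd
    · exfalso; rw [h] at hdvd; norm_num at hdvd
    · exfalso; rw [h] at hdvd; norm_num at hdvd
    · exfalso; rw [h] at hdvd; norm_num at hdvd
    · exfalso; rw [h] at hdvd; norm_num at hdvd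
    · exfalso; rw [h] at hdvd; norm_num at hdvd
    · right; exact Subgroup.eq_top_of_card_eq N (by rw [h, h60])
  exact Cfsg.Agent.Lib.helper2.A5.iso_A5_of_card h60

theorem pow_of_blk [Finite H] {M : H → Subgroup H} (hM : TIPart M) {x y : H} (hx : x ≠ 1)
    (hy : y ∈ blk M x) : y ^ Nat.card (M x) = 1 := by
  rw [← blk_card_M_eq hM hx hy]
  exact pow_card_M hM hy.1

theorem a4_of_blocks [Finite H] {M : H → Subgroup H} (hM : TIPart M) (h12 : Nat.card H = 12)
    {a b : H} (ha : a ≠ 1) (hb : b ≠ 1)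
    (hall : ∀ y : H, y ≠ 1 → y ∈ blk M a ∨ y ∈ blk M b)
    (h3 : Nat.card (M a) = 3) (h2 : Nat.card (M b) = 2) :
    Nonempty (H ≃* alternatingGroup (Fin 4)) := by
  apply Cfsg.Agent.Lib.helper2.Ord12.iso_A4 h12
  apply no_central_invol a ha
  · have := pow_card_M hM ha
    rw [h3] at this
    exact this
  · intro y
    by_cases hy : y = 1
    · left; rw [hy]; exact one_pow 2
    · rcases hall y hy with hb' | hb'
      · right
        have := pow_of_blk hM ha hb'
        rw [h3] at this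
        exact this
      · left
        have := pow_of_blk hM hb hb'
        rw [h2] at this
        exact this

/-- The abstract Dickson classification for a group with a TI partition into pieces of torus
and unipotent type. -/
theorem dk_abstract [Finite H] {p : ℕ} [Fact p.Prime] {M : H → Subgroup H} (hM : TIPart M)
    (hd : ∀ x : H, x ≠ 1 → TorT p M x ∨ UniT p M x) :
    (∀ x : H, x = 1) ∨ (∃ x : H, x ≠ 1 ∧ TorT p M x ∧ M x = ⊤) ∨
    (∃ x : H, x ≠ 1 ∧ TorT p M x ∧ (M x).index = 2) ∨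
    Nonempty (H ≃* alternatingGroup (Fin 4)) ∨ Nonempty (H ≃* Equiv.Perm (Fin 4)) ∨
    Nonempty (H ≃* alternatingGroup (Fin 5)) ∨
    (∃ x : H, x ≠ 1 ∧ UniT p M x ∧ Subgroup.normalizer (M x : Set H) = ⊤) ∨
    ((∃ x : H, x ≠ 1 ∧ UniT p M x) ∧ ∀ x : H, x ≠ 1 → UniT p M x →
      (Subgroup.normalizer (M x : Set H)).index = Nat.card (M x) + 1) := by
  classical
  obtain ⟨h, hh⟩ : ∃ h, h = Nat.card H := ⟨_, rfl⟩
  by_cases hU : ∃ x : H, x ≠ 1 ∧ UniT p M x
  · -- Case II
    obtain ⟨x₀, hx₀, hu₀⟩ := hU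
    obtain ⟨j₀, k, P, hP, hk1, hkP, hh₀', hj₀, hn₀, hPc, hjN₀, hdiv, hky⟩ :=
      uni_data hM hd hx₀ hu₀
    have hh₀ : h = j₀ * k * P := by rw [hh]; exact hh₀'
    have htor : ∀ y : H, y ≠ 1 → y ∉ blk M x₀ → TorT p M y := by
      intro y hy hyb
      rcases hd y hy with h | h
      · exact h
      · exact absurd (uni_mem_blk hy hM hu₀ h) hyb
    have hnormal : j₀ = 1 →
        ∃ x : H, x ≠ 1 ∧ UniT p M x ∧ Subgroup.normalizer (M x : Set H) = ⊤ := by
      intro h1
      refine ⟨x₀, hx₀, hu₀, ?_⟩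
      rw [← Subgroup.index_eq_one, ← hjN₀, h1]
    by_cases hk : 2 ≤ k
    · obtain ⟨y₁, hy₁, ht₁, hc₁k⟩ := hky hk
      have h10 : y₁ ∉ blk M x₀ := tor_notin_uni_blk hM hx₀ hy₁ ht₁ hu₀
      obtain ⟨j₁, c₁, e₁, hc₁, he₁, hh₁', hj₁, hn₁, hcM₁, hjN₁, hNc₁⟩ := tor_data hM hy₁ ht₁
      have hck : c₁ = k := hcM₁.trans hc₁k
      have hh₁ : h = j₁ * e₁ * k := by rw [hh, ← hck]; exact hh₁'
      rw [hck] at hn₁
      by_cases hall2 : ∀ y : H, y ≠ 1 → y ∈ blk M x₀ ∨ y ∈ blk M y₁
      · have hs := blk_sum_eq2 hM hx₀ hy₁ h10 hall2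
        rw [hn₀, hn₁, ← hh] at hs
        rcases he₁ with he | he
        · rw [he] at hh₁
          exact Or.inr (Or.inr (Or.inr (Or.inr (Or.inr (Or.inr (Or.inl
            (hnormal (arith_u2_e1_s2 hP hk hh₀ hj₀ hh₁ hs))))))))
        · rw [he] at hh₁
          exact (arith_u2_e2_s2 hP hk hh₀ hj₀ hh₁ hs).elim
      · push Not at hall2
        obtain ⟨y₂, hy₂, h20, h21⟩ := hall2
        have ht₂ := htor y₂ hy₂ h20
        obtain ⟨j₂, c₂, e₂, hc₂, he₂, hh₂', hj₂, hn₂, hcM₂, hjN₂, hNc₂⟩ := tor_data hM hy₂ ht₂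
        have hh₂ : h = j₂ * e₂ * c₂ := by rw [hh]; exact hh₂'
        rcases he₁ with he | he
        · rw [he] at hh₁
          have hs := blk_sum_le3 hM hx₀ hy₁ hy₂ h10 h20 h21
          rw [hn₀, hn₁, hn₂, ← hh] at hs
          exact (arith_u2_e1_s3 hP hk hh₀ hj₀ hh₁ hc₂ he₂ hh₂ hs).elim
        · rw [he] at hh₁
          by_cases hall3 : ∀ y : H, y ≠ 1 → y ∈ blk M x₀ ∨ y ∈ blk M y₁ ∨ y ∈ blk M y₂
          · have hs := blk_sum_eq3 hM hx₀ hy₁ hy₂ h10 h20 h21 hall3
            rw [hn₀, hn₁, hn₂, ← hh] at hs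
            rcases arith_u2_e2_s3 hP hk hkP hh₀ hj₀ hdiv hh₁ hc₂ he₂ hh₂ hj₂ hs with
              h1 | h1 | ⟨hP3, hk2, hc5, h60⟩
            · exact Or.inr (Or.inr (Or.inr (Or.inr (Or.inr (Or.inr (Or.inl (hnormal h1)))))))
            · refine Or.inr (Or.inr (Or.inr (Or.inr (Or.inr (Or.inr (Or.inr
                ⟨⟨x₀, hx₀, hu₀⟩, fun x hx hux => ?_⟩))))))
              have hxb := uni_mem_blk hx hM hu₀ hux
              rw [blk_index_eq hM hx₀ hxb, blk_card_M_eq hM hx₀ hxb, ← hjN₀, ← hPc, h1]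
            · refine Or.inr (Or.inr (Or.inr (Or.inr (Or.inr (Or.inl ?_)))))
              have h60' : Nat.card H = 60 := by rw [← hh, h60]
              rw [hP3, hk2, h60] at hh₀
              rw [hk2, h60] at hh₁
              rw [hc5, h60] at hh₂
              rw [hP3] at hn₀
              rw [hk2] at hn₁
              rw [hc5] at hn₂
              rw [hP3, hk2, hc5, h60] at hs
              have e0 : j₀ = 10 := by omega
              have e1 : j₁ = 15 := by omega
              have e2 : j₂ = 6 := by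
                rcases he₂ with rfl | rfl
                · omega
                · omega
              refine a5_of_blocks hM h60' hx₀ hy₁ hy₂ h10 h20 h21 hall3 ?_ ?_ ?_ ?_ ?_ ?_
              · rw [← hPc, hP3]; exact Nat.prime_three
              · rw [hc₁k, hk2]; exact Nat.prime_two
              · rw [← hcM₂, hc5]; exact Nat.prime_five
              · right; left; rw [hn₀, e0]
              · left; rw [hn₁, e1]
              · right; right; rw [hn₂, e2]
          · push Not at hall3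
            obtain ⟨y₃, hy₃, h30, h31, h32⟩ := hall3
            have ht₃ := htor y₃ hy₃ h30
            obtain ⟨j₃, c₃, e₃, hc₃, he₃, hh₃', hj₃, hn₃, hcM₃, hjN₃, hNc₃⟩ :=
              tor_data hM hy₃ ht₃
            have hh₃ : h = j₃ * e₃ * c₃ := by rw [hh]; exact hh₃'
            have hs := blk_sum_le4 hM hx₀ hy₁ hy₂ hy₃ h10 h20 h21 h30 h31 h32
            rw [hn₀, hn₁, hn₂, hn₃, ← hh] at hs
            exact (arith_u2_e2_s4 hP hk hh₀ hj₀ hh₁ hc₂ he₂ hh₂ hc₃ he₃ hh₃ hs).elim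
    · have hk1' : k = 1 := by omega
      rw [hk1'] at hh₀
      by_cases hall1 : ∀ y : H, y ≠ 1 → y ∈ blk M x₀
      · have hs := blk_sum_eq1 hall1
        rw [hn₀, ← hh] at hs
        exact Or.inr (Or.inr (Or.inr (Or.inr (Or.inr (Or.inr (Or.inl
          (hnormal (arith_u1_s0 hP hh₀ hj₀ hs))))))))
      · push Not at hall1
        obtain ⟨y₁, hy₁, h10⟩ := hall1
        have ht₁ := htor y₁ hy₁ h10
        obtain ⟨j₁, c₁, e₁, hc₁, he₁, hh₁', hj₁, hn₁, hcM₁, hjN₁, hNc₁⟩ := tor_data hM hy₁ ht₁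
        have hh₁ : h = j₁ * e₁ * c₁ := by rw [hh]; exact hh₁'
        by_cases hall2 : ∀ y : H, y ≠ 1 → y ∈ blk M x₀ ∨ y ∈ blk M y₁
        · have hs := blk_sum_eq2 hM hx₀ hy₁ h10 hall2
          rw [hn₀, hn₁, ← hh] at hs
          rcases arith_u1_s1 hP hh₀ hj₀ hc₁ he₁ hh₁ hj₁ hs with
            ⟨-, he2, hj1⟩ | ⟨hP3, h12, hc2, he2⟩
          · exact Or.inr (Or.inr (Or.inl
              ⟨y₁, hy₁, ht₁, tor_index_two hj1 he2 hh₁' hcM₁ hc₁⟩))
          · refine Or.inr (Or.inr (Or.inr (Or.inl ?_)))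
            exact a4_of_blocks hM (by rw [← hh, h12]) hx₀ hy₁ hall2 (by rw [← hPc, hP3])
              (by rw [← hcM₁, hc2])
        · push Not at hall2
          obtain ⟨y₂, hy₂, h20, h21⟩ := hall2
          have ht₂ := htor y₂ hy₂ h20
          obtain ⟨j₂, c₂, e₂, hc₂, he₂, hh₂', hj₂, hn₂, hcM₂, hjN₂, hNc₂⟩ :=
            tor_data hM hy₂ ht₂
          have hh₂ : h = j₂ * e₂ * c₂ := by rw [hh]; exact hh₂'
          have hs := blk_sum_le3 hM hx₀ hy₁ hy₂ h10 h20 h21
          rw [hn₀, hn₁, hn₂, ← hh] at hs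
          exact (arith_u1_s2 hP hh₀ hj₀ hc₁ he₁ hh₁ hc₂ he₂ hh₂ hs).elim
  · -- Case I
    have htor : ∀ y : H, y ≠ 1 → TorT p M y := by
      intro y hy
      rcases hd y hy with h | h
      · exact h
      · exact absurd ⟨y, hy, h⟩ hU
    by_cases htriv : ∀ x : H, x = 1
    · exact Or.inl htriv
    push Not at htriv
    obtain ⟨x₁, hx₁⟩ := htriv
    obtain ⟨j₁, c₁, e₁, hc₁, he₁, hh₁', hj₁, hn₁, hcM₁, hjN₁, hNc₁⟩ :=
      tor_data hM hx₁ (htor x₁ hx₁)
    have hh₁ : h = j₁ * e₁ * c₁ := by rw [hh]; exact hh₁'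
    by_cases hall1 : ∀ y : H, y ≠ 1 → y ∈ blk M x₁
    · have hs := blk_sum_eq1 hall1
      rw [hn₁, ← hh] at hs
      obtain ⟨he, hj⟩ := arith_s1 hc₁ he₁ hh₁ hj₁ hs
      exact Or.inr (Or.inl ⟨x₁, hx₁, htor x₁ hx₁, tor_top hj he hjN₁ hNc₁ hcM₁⟩)
    · push Not at hall1
      obtain ⟨x₂, hx₂, h21⟩ := hall1
      obtain ⟨j₂, c₂, e₂, hc₂, he₂, hh₂', hj₂, hn₂, hcM₂, hjN₂, hNc₂⟩ :=
        tor_data hM hx₂ (htor x₂ hx₂)
      have hh₂ : h = j₂ * e₂ * c₂ := by rw [hh]; exact hh₂'
      by_cases hall2 : ∀ y : H, y ≠ 1 → y ∈ blk M x₁ ∨ y ∈ blk M x₂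
      · have hs := blk_sum_eq2 hM hx₁ hx₂ h21 hall2
        rw [hn₁, hn₂, ← hh] at hs
        rcases arith_s2 hc₁ hc₂ he₁ he₂ hh₁ hh₂ hj₁ hj₂ hs with
          ⟨-, he2, hj | ⟨h12, hc3, hc2⟩⟩ | ⟨he1, -, hj | ⟨h12, hc3, hc2⟩⟩
        · exact Or.inr (Or.inr (Or.inl
            ⟨x₂, hx₂, htor x₂ hx₂, tor_index_two hj he2 hh₂' hcM₂ hc₂⟩))
        · refine Or.inr (Or.inr (Or.inr (Or.inl ?_)))
          exact a4_of_blocks hM (by rw [← hh, h12]) hx₁ hx₂ hall2 (by rw [← hcM₁, hc3])
            (by rw [← hcM₂, hc2])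
        · exact Or.inr (Or.inr (Or.inl
            ⟨x₁, hx₁, htor x₁ hx₁, tor_index_two hj he1 hh₁' hcM₁ hc₁⟩))
        · refine Or.inr (Or.inr (Or.inr (Or.inl ?_)))
          exact a4_of_blocks hM (by rw [← hh, h12]) hx₂ hx₁ (fun y hy => (hall2 y hy).symm)
            (by rw [← hcM₂, hc3]) (by rw [← hcM₁, hc2])
      · push Not at hall2
        obtain ⟨x₃, hx₃, h31, h32⟩ := hall2
        obtain ⟨j₃, c₃, e₃, hc₃, he₃, hh₃', hj₃, hn₃, hcM₃, hjN₃, hNc₃⟩ :=
          tor_data hM hx₃ (htor x₃ hx₃)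
        have hh₃ : h = j₃ * e₃ * c₃ := by rw [hh]; exact hh₃'
        by_cases hall3 : ∀ y : H, y ≠ 1 → y ∈ blk M x₁ ∨ y ∈ blk M x₂ ∨ y ∈ blk M x₃
        · have hs := blk_sum_eq3 hM hx₁ hx₂ hx₃ h21 h31 h32 hall3
          rw [hn₁, hn₂, hn₃, ← hh] at hs
          obtain ⟨⟨he1, he2, he3⟩, hj | ⟨h12, hcc⟩ | ⟨h24, ⟨hl1, hl2, hl3⟩, hcj⟩ |
              ⟨h60, hv1, hv2, hv3⟩⟩ :=
            arith_s3 hc₁ hc₂ hc₃ he₁ he₂ he₃ hh₁ hh₂ hh₃ hj₁ hj₂ hj₃ hs
          · rcases hj with hj | hj | hj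
            · exact Or.inr (Or.inr (Or.inl
                ⟨x₁, hx₁, htor x₁ hx₁, tor_index_two hj he1 hh₁' hcM₁ hc₁⟩))
            · exact Or.inr (Or.inr (Or.inl
                ⟨x₂, hx₂, htor x₂ hx₂, tor_index_two hj he2 hh₂' hcM₂ hc₂⟩))
            · exact Or.inr (Or.inr (Or.inl
                ⟨x₃, hx₃, htor x₃ hx₃, tor_index_two hj he3 hh₃' hcM₃ hc₃⟩))
          · exfalso
            haveI : Fact (Nat.Prime 3) := ⟨Nat.prime_three⟩
            have hnd : ¬ 3 ^ (1 + 1) ∣ Nat.card H := by rw [← hh, h12]; norm_num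
            rcases hcc with ⟨ha, hb⟩ | ⟨ha, hb⟩ | ⟨ha, hb⟩
            · exact h21 (sylow_conj_blk hM 3 1 hx₂ (by rw [← hcM₁, ha]; rfl)
                (by rw [← hcM₂, hb]; rfl) hnd)
            · exact h31 (sylow_conj_blk hM 3 1 hx₃ (by rw [← hcM₁, ha]; rfl)
                (by rw [← hcM₃, hb]; rfl) hnd)
            · exact h32 (sylow_conj_blk hM 3 1 hx₃ (by rw [← hcM₂, ha]; rfl)
                (by rw [← hcM₃, hb]; rfl) hnd)
          · refine Or.inr (Or.inr (Or.inr (Or.inr (Or.inl ?_))))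
            have hord : ∀ y : H, y ^ 2 = 1 ∨ y ^ 3 = 1 ∨ y ^ 4 = 1 := by
              have aux : ∀ (x y : H) (c : ℕ), x ≠ 1 → c = Nat.card (M x) → 2 ≤ c → c ≤ 4 →
                  y ∈ blk M x → y ^ 2 = 1 ∨ y ^ 3 = 1 ∨ y ^ 4 = 1 := by
                intro x y c hx hc h2 h4 hy
                have := pow_of_blk hM hx hy
                rw [← hc] at this
                have hc' : c = 2 ∨ c = 3 ∨ c = 4 := by omega
                rcases hc' with hc' | hc' | hc'
                · rw [hc'] at this; exact Or.inl this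
                · rw [hc'] at this; exact Or.inr (Or.inl this)
                · rw [hc'] at this; exact Or.inr (Or.inr this)
              intro y
              by_cases hy : y = 1
              · left; rw [hy]; exact one_pow 2
              · rcases hall3 y hy with hb | hb | hb
                · exact aux x₁ y c₁ hx₁ hcM₁ hc₁ hl1 hb
                · exact aux x₂ y c₂ hx₂ hcM₂ hc₂ hl2 hb
                · exact aux x₃ y c₃ hx₃ hcM₃ hc₃ hl3 hb
            have h24' : Nat.card H = 24 := by rw [← hh, h24]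
            rcases hcj with ⟨ha, hb⟩ | ⟨ha, hb⟩ | ⟨ha, hb⟩
            · exact s4_rec h24' hord (M x₁) (by rw [← hcM₁, ha]) (by rw [← hjN₁, hb])
            · exact s4_rec h24' hord (M x₂) (by rw [← hcM₂, ha]) (by rw [← hjN₂, hb])
            · exact s4_rec h24' hord (M x₃) (by rw [← hcM₃, ha]) (by rw [← hjN₃, hb])
          · refine Or.inr (Or.inr (Or.inr (Or.inr (Or.inr (Or.inl ?_)))))
            have h60' : Nat.card H = 60 := by rw [← hh, h60]
            have aux : ∀ (x : H) (j c : ℕ), c = Nat.card (M x) → (c = 2 ∨ c = 3 ∨ c = 5) →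
                h = j * 2 * c → (blk M x).ncard = j * (c - 1) →
                (Nat.card (M x)).Prime ∧ ((blk M x).ncard = 15 ∨ (blk M x).ncard = 20 ∨
                  (blk M x).ncard = 24) := by
              intro x j c hc hv hhj hn
              rw [← hc, hn]
              rw [h60] at hhj
              rcases hv with hv | hv | hv
              · rw [hv] at hhj ⊢
                exact ⟨Nat.prime_two, Or.inl (by omega)⟩
              · rw [hv] at hhj ⊢
                exact ⟨Nat.prime_three, Or.inr (Or.inl (by omega))⟩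
              · rw [hv] at hhj ⊢
                exact ⟨Nat.prime_five, Or.inr (Or.inr (by omega))⟩
            rw [he1] at hh₁
            rw [he2] at hh₂
            rw [he3] at hh₃
            obtain ⟨p1, s1⟩ := aux x₁ j₁ c₁ hcM₁ hv1 hh₁ hn₁
            obtain ⟨p2, s2⟩ := aux x₂ j₂ c₂ hcM₂ hv2 hh₂ hn₂
            obtain ⟨p3, s3⟩ := aux x₃ j₃ c₃ hcM₃ hv3 hh₃ hn₃
            exact a5_of_blocks hM h60' hx₁ hx₂ hx₃ h21 h31 h32 hall3 p1 p2 p3 s1 s2 s3
        · push Not at hall3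
          obtain ⟨x₄, hx₄, h41, h42, h43⟩ := hall3
          obtain ⟨j₄, c₄, e₄, hc₄, he₄, hh₄', hj₄, hn₄, hcM₄, hjN₄, hNc₄⟩ :=
            tor_data hM hx₄ (htor x₄ hx₄)
          have hh₄ : h = j₄ * e₄ * c₄ := by rw [hh]; exact hh₄'
          have hs := blk_sum_le4 hM hx₁ hx₂ hx₃ hx₄ h21 h31 h32 h41 h42 h43
          rw [hn₁, hn₂, hn₃, hn₄, ← hh] at hs
          exact (arith_s4 hc₁ hc₂ hc₃ hc₄ he₁ he₂ he₃ he₄ hh₁ hh₂ hh₃ hh₄ hj₁ hs).elim

end dknum

end Cfsg.Agent.Lib.helper12
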