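import Mathlib
import Cfsg.Agent.Lib.helper12.PSL2Spec

set_option autoImplicit false

namespace Cfsg.Agent.Lib.helper12

open Matrix

section prod

variable {F : Type*} [Field F]

theorem mkSL_inv_val (a b c d : F) (h : a * d - b * c = 1) :
    (((mkSL a b c d h)⁻¹ : Matrix.SpecialLinearGroup (Fin 2) F) : Matrix (Fin 2) (Fin 2) F) =
      !![d, -b; -c, a] := by
  rw [Matrix.SpecialLinearGroup.coe_inv, mkSL_val, Matrix.adjugate_fin_two_of]

/-- Two elements of `SL₂` over a finite field with the same trace `t`, `t² ≠ 4`, are conjugate. -/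
theorem SL2_isConj_of_trace_eq [Fintype F] (g h : Matrix.SpecialLinearGroup (Fin 2) F)
    (htr : (g : Matrix (Fin 2) (Fin 2) F).trace = (h : Matrix (Fin 2) (Fin 2) F).trace)
    (h4 : (g : Matrix (Fin 2) (Fin 2) F).trace ^ 2 ≠ 4) : IsConj g h := by
  by_cases hF : ringChar F = 2
  · have h2 : (2 : F) = 0 := by
      have := ringChar.Nat.cast_ringChar (R := F)
      rw [hF] at this
      exact_mod_cast this
    have hns : ∀ k : Matrix.SpecialLinearGroup (Fin 2) F,
        (k : Matrix (Fin 2) (Fin 2) F).trace ^ 2 ≠ 4 →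
        ¬ ∃ a : F, (k : Matrix (Fin 2) (Fin 2) F) = a • (1 : Matrix (Fin 2) (Fin 2) F) := by
      rintro k hk ⟨a, ha⟩
      apply hk
      rw [ha, Matrix.trace_fin_two]
      simp
      linear_combination (2 * a ^ 2 - 2) * h2
    have c1 := SL2_isConj_compSL_char_two hF g (hns g h4)
    have c2 := SL2_isConj_compSL_char_two hF h (hns h (htr ▸ h4))
    rw [htr] at c1
    exact c1.symm.trans c2
  · have hodd : Fintype.card F % 2 = 1 := FiniteField.odd_card_of_char_ne_two hF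
    have c1 := SL2_isConj_compSL_odd hodd g h4
    have c2 := SL2_isConj_compSL_odd hodd h (htr ▸ h4)
    rw [htr] at c1
    exact c1.symm.trans c2

/-- A non-scalar element of `SL₂` has a conjugate with non-zero lower left entry. -/
theorem SL2_exists_conj_10_ne (Y : Matrix.SpecialLinearGroup (Fin 2) F)
    (hY : ¬ ∃ a : F, (Y : Matrix (Fin 2) (Fin 2) F) = a • (1 : Matrix (Fin 2) (Fin 2) F)) :
    ∃ k : Matrix.SpecialLinearGroup (Fin 2) F,
      ((k * Y * k⁻¹ : Matrix.SpecialLinearGroup (Fin 2) F) : Matrix (Fin 2) (Fin 2) F) 1 0 ≠ 0 := by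
  by_cases h10 : (Y : Matrix (Fin 2) (Fin 2) F) 1 0 = 0
  · by_cases h01 : (Y : Matrix (Fin 2) (Fin 2) F) 0 1 = 0
    · have hne : (Y : Matrix (Fin 2) (Fin 2) F) 0 0 ≠ (Y : Matrix (Fin 2) (Fin 2) F) 1 1 := by
        intro h
        apply hY
        refine ⟨(Y : Matrix (Fin 2) (Fin 2) F) 0 0, ?_⟩
        ext i j
        fin_cases i <;> fin_cases j <;> simp [h10, h01, h]
      refine ⟨mkSL 1 0 1 1 (by ring), ?_⟩
      rw [Matrix.SpecialLinearGroup.coe_mul, Matrix.SpecialLinearGroup.coe_mul, mkSL_inv_val, mkSL_val,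
        Matrix.eta_fin_two (Y : Matrix (Fin 2) (Fin 2) F), Matrix.mul_fin_two, Matrix.mul_fin_two,
        h10, h01]
      simp
      intro h
      apply hne
      linear_combination h
    · refine ⟨mkSL 0 1 (-1) 0 (by ring), ?_⟩
      rw [Matrix.SpecialLinearGroup.coe_mul, Matrix.SpecialLinearGroup.coe_mul, mkSL_inv_val, mkSL_val,
        Matrix.eta_fin_two (Y : Matrix (Fin 2) (Fin 2) F), Matrix.mul_fin_two, Matrix.mul_fin_two,
        h10]
      simpa using h01
  · exact ⟨1, by simpa using h10⟩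

/-- Normal form of a non-scalar element of `SL₂` up to conjugacy. -/
theorem SL2_normal_form (Y : Matrix.SpecialLinearGroup (Fin 2) F)
    (hY : ¬ ∃ a : F, (Y : Matrix (Fin 2) (Fin 2) F) = a • (1 : Matrix (Fin 2) (Fin 2) F)) :
    ∃ (k : Matrix.SpecialLinearGroup (Fin 2) F) (c : F), c ≠ 0 ∧
      ((k * Y * k⁻¹ : Matrix.SpecialLinearGroup (Fin 2) F) : Matrix (Fin 2) (Fin 2) F) =
        !![0, -c⁻¹; c, (Y : Matrix (Fin 2) (Fin 2) F).trace] := by
  obtain ⟨k₁, hk₁⟩ := SL2_exists_conj_10_ne Y hY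
  set Y' := k₁ * Y * k₁⁻¹ with hY'
  have htr : (Y' : Matrix (Fin 2) (Fin 2) F).trace = (Y : Matrix (Fin 2) (Fin 2) F).trace :=
    (SL2_trace_eq_of_isConj (isConj_iff.mpr ⟨k₁, rfl⟩)).symm
  set c := (Y' : Matrix (Fin 2) (Fin 2) F) 1 0 with hc
  have hdet := SL2_det_eq Y'
  rw [Matrix.trace_fin_two] at htr
  refine ⟨mkSL 1 (-(Y' : Matrix (Fin 2) (Fin 2) F) 0 0 / c) 0 1 (by ring) * k₁, c, hk₁, ?_⟩
  have e : mkSL 1 (-(Y' : Matrix (Fin 2) (Fin 2) F) 0 0 / c) 0 1 (by ring) * k₁ * Y *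
      (mkSL 1 (-(Y' : Matrix (Fin 2) (Fin 2) F) 0 0 / c) 0 1 (by ring) * k₁)⁻¹ =
      mkSL 1 (-(Y' : Matrix (Fin 2) (Fin 2) F) 0 0 / c) 0 1 (by ring) * Y' *
        (mkSL 1 (-(Y' : Matrix (Fin 2) (Fin 2) F) 0 0 / c) 0 1 (by ring))⁻¹ := by
    rw [hY']
    group
  rw [e, Matrix.SpecialLinearGroup.coe_mul, Matrix.SpecialLinearGroup.coe_mul, mkSL_inv_val, mkSL_val,
    ← htr, Matrix.eta_fin_two (Y' : Matrix (Fin 2) (Fin 2) F), Matrix.mul_fin_two, Matrix.mul_fin_two,
    ← hc]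
  have hc' : (Y' : Matrix (Fin 2) (Fin 2) F) 0 1 * c =
      (Y' : Matrix (Fin 2) (Fin 2) F) 0 0 * (Y' : Matrix (Fin 2) (Fin 2) F) 1 1 - 1 := by
    linear_combination -hdet
  ext i j
  fin_cases i <;> fin_cases j
  · simp
    field_simp
    ring
  · simp
    field_simp
    linear_combination hc'
  · simp
  · simp
    field_simp

/-- Conjugate elements of `PSL₂` have lifts with the same squared trace. -/
theorem PSL2_trace_sq_eq_of_isConj (P P' : Matrix.SpecialLinearGroup (Fin 2) F)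
    (h : IsConj (QuotientGroup.mk P : Matrix.ProjectiveSpecialLinearGroup (Fin 2) F)
      (QuotientGroup.mk P')) :
    (P : Matrix (Fin 2) (Fin 2) F).trace ^ 2 = (P' : Matrix (Fin 2) (Fin 2) F).trace ^ 2 := by
  obtain ⟨k', hk⟩ := isConj_iff.mp h
  obtain ⟨k, rfl⟩ := QuotientGroup.mk_surjective k'
  have hmem : (k * P * k⁻¹)⁻¹ * P' ∈ Subgroup.center (Matrix.SpecialLinearGroup (Fin 2) F) :=
    QuotientGroup.eq.mp hk
  obtain ⟨s, hs⟩ := SL2_scalar_eq_signSL _ ((SL2_mem_center_iff _).mp hmem)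
  have hP' : P' = (k * P * k⁻¹) * signSL s := by
    rw [← hs]
    group
  have htr : ((k * P * k⁻¹ : Matrix.SpecialLinearGroup (Fin 2) F) : Matrix (Fin 2) (Fin 2) F).trace =
      (P : Matrix (Fin 2) (Fin 2) F).trace :=
    (SL2_trace_eq_of_isConj (isConj_iff.mpr ⟨k, rfl⟩)).symm
  rw [hP', Matrix.SpecialLinearGroup.coe_mul, signSL_val, Matrix.mul_smul, Matrix.mul_one,
    Matrix.trace_smul, htr, smul_eq_mul, mul_pow, pow_two (sgnB s), sgnB_mul_self, one_mul]

theorem PSL2_mk_eq_one_iff (g : Matrix.SpecialLinearGroup (Fin 2) F) :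
    (QuotientGroup.mk g : Matrix.ProjectiveSpecialLinearGroup (Fin 2) F) = 1 ↔
      ∃ a : F, (g : Matrix (Fin 2) (Fin 2) F) = a • (1 : Matrix (Fin 2) (Fin 2) F) := by
  rw [← SL2_mem_center_iff]
  exact QuotientGroup.eq_one_iff (N := Subgroup.center (Matrix.SpecialLinearGroup (Fin 2) F)) g

/-- The product criterion: a point on the conic gives a factorisation into two conjugates. -/
theorem SL2_prod_of_conic [Fintype F] (x Y : Matrix.SpecialLinearGroup (Fin 2) F)
    (ht : (x : Matrix (Fin 2) (Fin 2) F).trace ^ 2 ≠ 4)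
    (k : Matrix.SpecialLinearGroup (Fin 2) F) (c : F) (hc : c ≠ 0)
    (hY : ((k * Y * k⁻¹ : Matrix.SpecialLinearGroup (Fin 2) F) : Matrix (Fin 2) (Fin 2) F) =
        !![0, -c⁻¹; c, (Y : Matrix (Fin 2) (Fin 2) F).trace]) (a b : F)
    (hQ : a ^ 2 - (Y : Matrix (Fin 2) (Fin 2) F).trace * a * b + b ^ 2 -
      (x : Matrix (Fin 2) (Fin 2) F).trace * a + (x : Matrix (Fin 2) (Fin 2) F).trace * b + 1 = 0) :
    ∃ U V : Matrix.SpecialLinearGroup (Fin 2) F, Y = (U * x * U⁻¹) * (V * x * V⁻¹) := by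
  set t := (x : Matrix (Fin 2) (Fin 2) F).trace with ht_def
  set s := (Y : Matrix (Fin 2) (Fin 2) F).trace with hs_def
  have hdet : a * (t - a) - b * c⁻¹ * ((t - a * s + b) * c) = 1 := by
    field_simp
    linear_combination -hQ
  set M := mkSL a (b * c⁻¹) ((t - a * s + b) * c) (t - a) hdet with hM
  set N := M⁻¹ * (k * Y * k⁻¹) with hN
  have trM : (M : Matrix (Fin 2) (Fin 2) F).trace = t := by
    rw [hM, mkSL_val, Matrix.trace_fin_two]
    simp
  have trN : (N : Matrix (Fin 2) (Fin 2) F).trace = t := by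
    rw [hN, Matrix.SpecialLinearGroup.coe_mul, hY, hM, mkSL_inv_val, Matrix.trace_fin_two]
    simp [Matrix.mul_apply, Fin.sum_univ_two]
    field_simp
    ring
  obtain ⟨U₁, hU⟩ := isConj_iff.mp (SL2_isConj_of_trace_eq x M trM.symm ht)
  obtain ⟨V₁, hV⟩ := isConj_iff.mp (SL2_isConj_of_trace_eq x N trN.symm ht)
  refine ⟨k⁻¹ * U₁, k⁻¹ * V₁, ?_⟩
  have hMN : M * N = k * Y * k⁻¹ := by
    rw [hN, mul_inv_cancel_left]
  have e : (k⁻¹ * U₁) * x * (k⁻¹ * U₁)⁻¹ * ((k⁻¹ * V₁) * x * (k⁻¹ * V₁)⁻¹) =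
      k⁻¹ * ((U₁ * x * U₁⁻¹) * (V₁ * x * V₁⁻¹)) * k := by group
  rw [e, hU, hV, hMN]
  group

/-- Split case: if the characteristic polynomial of `x` has a root, every non-scalar element is a
product of two conjugates of `x`. -/
theorem SL2_prod_of_split [Fintype F] (x Y : Matrix.SpecialLinearGroup (Fin 2) F)
    (ht : (x : Matrix (Fin 2) (Fin 2) F).trace ^ 2 ≠ 4) (r : F)
    (hr : r ^ 2 = -1 + (x : Matrix (Fin 2) (Fin 2) F).trace * r)
    (hY : ¬ ∃ a : F, (Y : Matrix (Fin 2) (Fin 2) F) = a • (1 : Matrix (Fin 2) (Fin 2) F)) :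
    ∃ U V : Matrix.SpecialLinearGroup (Fin 2) F, Y = (U * x * U⁻¹) * (V * x * V⁻¹) := by
  obtain ⟨k, c, hc, hk⟩ := SL2_normal_form Y hY
  exact SL2_prod_of_conic x Y ht k c hc hk r 0 (by linear_combination hr)

open Polynomial in
/-- Odd case: if `tr x ≠ 0`, `tr x ^ 2 ≠ 4`, every non-scalar element of trace `≠ 2` is a product
of two conjugates of `x`. -/
theorem SL2_prod_of_odd [Fintype F] (hodd : Fintype.card F % 2 = 1)
    (x Y : Matrix.SpecialLinearGroup (Fin 2) F)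
    (ht0 : (x : Matrix (Fin 2) (Fin 2) F).trace ≠ 0)
    (ht : (x : Matrix (Fin 2) (Fin 2) F).trace ^ 2 ≠ 4)
    (hY : ¬ ∃ a : F, (Y : Matrix (Fin 2) (Fin 2) F) = a • (1 : Matrix (Fin 2) (Fin 2) F))
    (hs : (Y : Matrix (Fin 2) (Fin 2) F).trace ≠ 2) :
    ∃ U V : Matrix.SpecialLinearGroup (Fin 2) F, Y = (U * x * U⁻¹) * (V * x * V⁻¹) := by
  obtain ⟨k, c, hc, hk⟩ := SL2_normal_form Y hY
  have h2 : (2 : F) ≠ 0 := by
    have hchar : ringChar F ≠ 2 := by
      intro h
      have := FiniteField.even_card_iff_char_two.mp h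
      omega
    exact Ring.two_ne_zero hchar
  set t := (x : Matrix (Fin 2) (Fin 2) F).trace with ht_def
  set s := (Y : Matrix (Fin 2) (Fin 2) F).trace with hs_def
  have key : ∃ w v : F, (2 - s) * w ^ 2 + ((2 + s) * v ^ 2 - 4 * t * v + 4) = 0 := by
    by_cases hs2 : s = -2
    · refine ⟨0, t⁻¹, ?_⟩
      rw [hs2]
      field_simp
      ring
    · have hs2' : (2 + s) ≠ 0 := by
        intro h
        apply hs2
        linear_combination h
      have hdeg1 : degree (C (2 - s) * X ^ 2 : F[X]) = 2 :=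
        degree_C_mul_X_pow 2 (sub_ne_zero.mpr (Ne.symm hs))
      have hdeg2 : degree (C (2 + s) * X ^ 2 + (C (-4 * t) * X + C 4) : F[X]) = 2 := by
        rw [degree_add_eq_left_of_degree_lt]
        · exact degree_C_mul_X_pow 2 hs2'
        · rw [degree_C_mul_X_pow 2 hs2']
          exact lt_of_le_of_lt (degree_linear_le) (by norm_num)
      obtain ⟨w, v, h⟩ := FiniteField.exists_root_sum_quadratic hdeg1 hdeg2 hodd
      simp only [eval_pow, eval_X, eval_add, eval_mul, eval_C] at h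
      exact ⟨w, v, by linear_combination h⟩
  obtain ⟨w, v, hwv⟩ := key
  refine SL2_prod_of_conic x Y ht k c hc hk ((w + v) / 2) ((w - v) / 2) ?_
  field_simp
  linear_combination hwv

/-- A quadratic polynomial with non-zero leading coefficient has at most two roots. -/
theorem card_quadratic_roots_le [Fintype F] [DecidableEq F] (α β γ : F) (hα : α ≠ 0) :
    (Finset.univ.filter (fun z : F => α * z ^ 2 + β * z + γ = 0)).card ≤ 2 := by
  by_contra hcon
  push Not at hcon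
  obtain ⟨z₁, z₂, z₃, h1, h2, h3, h12, h13, h23⟩ := Finset.two_lt_card_iff.mp hcon
  simp only [Finset.mem_filter, Finset.mem_univ, true_and] at h1 h2 h3
  have e12 : α * (z₁ + z₂) + β = 0 := by
    have : (z₁ - z₂) * (α * (z₁ + z₂) + β) = 0 := by linear_combination h1 - h2
    rcases mul_eq_zero.mp this with h | h
    · exact absurd (sub_eq_zero.mp h) h12
    · exact h
  have e13 : α * (z₁ + z₃) + β = 0 := by
    have : (z₁ - z₃) * (α * (z₁ + z₃) + β) = 0 := by linear_combination h1 - h3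
    rcases mul_eq_zero.mp this with h | h
    · exact absurd (sub_eq_zero.mp h) h13
    · exact h
  have : α * (z₂ - z₃) = 0 := by linear_combination e12 - e13
  rcases mul_eq_zero.mp this with h | h
  · exact hα h
  · exact h23 (sub_eq_zero.mp h)

end prod

end Cfsg.Agent.Lib.helper12
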