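import Mathlib
import Cfsg.Agent.Lib.helper12.SL2Cent

set_option autoImplicit false

namespace Cfsg.Agent.Lib.helper12

open Matrix

section glcent

variable {F : Type*} [Field F]

theorem GL2_det_ne_zero (g : GL (Fin 2) F) : (g : Matrix (Fin 2) (Fin 2) F).det ≠ 0 :=
  ((Matrix.isUnit_iff_isUnit_det _).mp g.isUnit).ne_zero

theorem GL2_mem_centralizer_iff (g h : GL (Fin 2) F)
    (hg : ¬ ∃ a : F, (g : Matrix (Fin 2) (Fin 2) F) = a • (1 : Matrix (Fin 2) (Fin 2) F)) :
    h ∈ Subgroup.centralizer ({g} : Set (GL (Fin 2) F)) ↔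
      ∃ x y : F, (h : Matrix (Fin 2) (Fin 2) F) = x • (1 : Matrix (Fin 2) (Fin 2) F) + y • (g : Matrix (Fin 2) (Fin 2) F) := by
  rw [Subgroup.mem_centralizer_singleton_iff, ← comm_iff_exists_smul _ _ hg]
  constructor
  · intro h'
    rw [← Units.val_mul, ← Units.val_mul, h']
  · intro h'
    apply Units.ext
    rw [Units.val_mul, Units.val_mul, h']

/-- The centraliser in `GL₂` of a non-scalar element `g` is in bijection with the
pairs `(x, y)` such that `x + y g` is invertible. -/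
theorem GL2_card_centralizer (g : GL (Fin 2) F)
    (hg : ¬ ∃ a : F, (g : Matrix (Fin 2) (Fin 2) F) = a • (1 : Matrix (Fin 2) (Fin 2) F)) :
    Nat.card (Subgroup.centralizer ({g} : Set (GL (Fin 2) F))) =
      Nat.card {p : F × F // p.1 ^ 2 + p.1 * p.2 * (g : Matrix (Fin 2) (Fin 2) F).trace +
        p.2 ^ 2 * (g : Matrix (Fin 2) (Fin 2) F).det ≠ 0} := by
  symm
  have hdet : ∀ p : {p : F × F // p.1 ^ 2 + p.1 * p.2 * (g : Matrix (Fin 2) (Fin 2) F).trace +
        p.2 ^ 2 * (g : Matrix (Fin 2) (Fin 2) F).det ≠ 0},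
      (p.1.1 • (1 : Matrix (Fin 2) (Fin 2) F) + p.1.2 • (g : Matrix (Fin 2) (Fin 2) F)).det ≠ 0 := by
    intro p
    rw [det_smul_one_add_smul]
    exact p.2
  have hmem : ∀ p : {p : F × F // p.1 ^ 2 + p.1 * p.2 * (g : Matrix (Fin 2) (Fin 2) F).trace +
        p.2 ^ 2 * (g : Matrix (Fin 2) (Fin 2) F).det ≠ 0},
      Matrix.GeneralLinearGroup.mkOfDetNeZero _ (hdet p) ∈ Subgroup.centralizer ({g} : Set (GL (Fin 2) F)) := by
    intro p
    rw [GL2_mem_centralizer_iff _ _ hg]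
    exact ⟨p.1.1, p.1.2, rfl⟩
  refine Nat.card_congr (Equiv.ofBijective
    (fun p => ⟨Matrix.GeneralLinearGroup.mkOfDetNeZero _ (hdet p), hmem p⟩) ⟨?_, ?_⟩)
  · intro p p' h
    have h' := congrArg (fun x : Subgroup.centralizer ({g} : Set (GL (Fin 2) F)) =>
      ((x : GL (Fin 2) F) : Matrix (Fin 2) (Fin 2) F)) h
    obtain ⟨h1, h2⟩ := smul_one_add_smul_injective _ hg h'
    exact Subtype.ext (Prod.ext h1 h2)
  · rintro ⟨h, hh⟩
    obtain ⟨x, y, hxy⟩ := (GL2_mem_centralizer_iff _ _ hg).mp hh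
    have hd := GL2_det_ne_zero h
    rw [hxy, det_smul_one_add_smul] at hd
    refine ⟨⟨(x, y), hd⟩, ?_⟩
    apply Subtype.ext
    apply Units.ext
    exact hxy.symm

theorem card_normSol_split [Fintype F] (a b : F) (hab : a ≠ b) :
    Nat.card {p : F × F // p.1 ^ 2 + p.1 * p.2 * (a + b) + p.2 ^ 2 * (a * b) ≠ 0} =
      (Fintype.card F - 1) ^ 2 := by
  classical
  have hab' : a - b ≠ 0 := sub_ne_zero.mpr hab
  have hcard : Nat.card (Fˣ × Fˣ) = (Fintype.card F - 1) ^ 2 := by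
    rw [Nat.card_eq_fintype_card, Fintype.card_prod, Fintype.card_units, sq]
  rw [← hcard]
  symm
  refine Nat.card_congr (Equiv.ofBijective
    (fun u : Fˣ × Fˣ => ⟨((u.1 : F) - ((u.1 : F) - (u.2 : F)) / (a - b) * a, ((u.1 : F) - (u.2 : F)) / (a - b)), ?_⟩)
    ⟨?_, ?_⟩)
  · simp only
    have h1 : ((u.1 : F) - ((u.1 : F) - (u.2 : F)) / (a - b) * a) ^ 2 +
        ((u.1 : F) - ((u.1 : F) - (u.2 : F)) / (a - b) * a) * (((u.1 : F) - (u.2 : F)) / (a - b)) * (a + b) +
        (((u.1 : F) - (u.2 : F)) / (a - b)) ^ 2 * (a * b) = (u.1 : F) * (u.2 : F) := by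
      field_simp
      ring
    rw [h1]
    exact mul_ne_zero u.1.ne_zero u.2.ne_zero
  · rintro ⟨u, v⟩ ⟨u', v'⟩ h
    have h' := congrArg Subtype.val h
    simp only [Prod.mk.injEq] at h'
    obtain ⟨h1, h2⟩ := h'
    have e1 : (u : F) - (v : F) = (u' : F) - (v' : F) := by
      field_simp at h2
      exact h2
    have e2 : (u : F) = (u' : F) := by
      rw [e1] at h1
      linear_combination h1
    have e3 : (v : F) = (v' : F) := by linear_combination e2 - e1
    exact Prod.ext (Units.ext e2) (Units.ext e3)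
  · rintro ⟨⟨x, y⟩, hp⟩
    simp only at hp
    have hfac : x ^ 2 + x * y * (a + b) + y ^ 2 * (a * b) = (x + y * a) * (x + y * b) := by ring
    rw [hfac] at hp
    refine ⟨(Units.mk0 _ (left_ne_zero_of_mul hp), Units.mk0 _ (right_ne_zero_of_mul hp)), ?_⟩
    apply Subtype.ext
    simp only [Units.val_mk0]
    refine Prod.ext ?_ ?_
    · simp only
      field_simp
      ring
    · simp only
      field_simp
      ring

theorem card_normSol_aniso [Fintype F] (t d : F)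
    (h : ∀ x y : F, x ^ 2 + x * y * t + y ^ 2 * d = 0 → x = 0 ∧ y = 0) :
    Nat.card {p : F × F // p.1 ^ 2 + p.1 * p.2 * t + p.2 ^ 2 * d ≠ 0} = Fintype.card F ^ 2 - 1 := by
  classical
  have e : {p : F × F // p.1 ^ 2 + p.1 * p.2 * t + p.2 ^ 2 * d ≠ 0} ≃ {p : F × F // ¬ (p = 0)} := by
    refine Equiv.subtypeEquivRight (fun p => not_congr ⟨?_, ?_⟩)
    · intro hp
      obtain ⟨h1, h2⟩ := h p.1 p.2 hp
      exact Prod.ext h1 h2
    · rintro rfl
      simp
  rw [Nat.card_congr e, Nat.card_eq_fintype_card, Fintype.card_subtype_compl, Fintype.card_subtype_eq,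
    Fintype.card_prod, sq]

/-- `S2303`-type statement: centralisers of split regular semisimple and of elliptic elements of `GL₂(q)`. -/
theorem GL2_card_centralizer_diag [Fintype F] (g : GL (Fin 2) F)
    (h01 : (g : Matrix (Fin 2) (Fin 2) F) 0 1 = 0) (h10 : (g : Matrix (Fin 2) (Fin 2) F) 1 0 = 0)
    (hne : (g : Matrix (Fin 2) (Fin 2) F) 0 0 ≠ (g : Matrix (Fin 2) (Fin 2) F) 1 1) :
    Nat.card (Subgroup.centralizer ({g} : Set (GL (Fin 2) F))) = (Fintype.card F - 1) ^ 2 := by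
  have hns : ¬ ∃ a : F, (g : Matrix (Fin 2) (Fin 2) F) = a • (1 : Matrix (Fin 2) (Fin 2) F) := by
    rintro ⟨a, ha⟩
    apply hne
    rw [ha]
    simp
  rw [GL2_card_centralizer g hns, Matrix.trace_fin_two, Matrix.det_fin_two, h01, h10, mul_zero, sub_zero]
  exact card_normSol_split _ _ hne

theorem not_scalar_of_no_eigenvector (M : Matrix (Fin 2) (Fin 2) F)
    (hM : ∀ (c : F) (v : Fin 2 → F), v ≠ 0 → M.mulVec v ≠ c • v) :
    ¬ ∃ a : F, M = a • (1 : Matrix (Fin 2) (Fin 2) F) := by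
  rintro ⟨a, ha⟩
  refine hM a ![1, 0] ?_ ?_
  · intro h
    have := congrFun h 0
    simp at this
  · rw [ha]
    simp [Matrix.smul_mulVec]

theorem aniso_of_no_eigenvector (M : Matrix (Fin 2) (Fin 2) F)
    (hM : ∀ (c : F) (v : Fin 2 → F), v ≠ 0 → M.mulVec v ≠ c • v) (x y : F)
    (h : x ^ 2 + x * y * M.trace + y ^ 2 * M.det = 0) : x = 0 ∧ y = 0 := by
  rw [← det_smul_one_add_smul] at h
  obtain ⟨v, hv0, hv⟩ := Matrix.exists_mulVec_eq_zero_iff.mpr h
  rw [Matrix.add_mulVec, Matrix.smul_mulVec, Matrix.smul_mulVec, Matrix.one_mulVec] at hv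
  by_cases hy : y = 0
  · subst hy
    rw [zero_smul, add_zero] at hv
    refine ⟨?_, rfl⟩
    by_contra hx
    exact hv0 ((smul_eq_zero.mp hv).resolve_left hx)
  · exfalso
    refine hM (-x / y) v hv0 ?_
    have h1 : y • M.mulVec v = -(x • v) := eq_neg_of_add_eq_zero_right hv
    have h2 : M.mulVec v = y⁻¹ • (y • M.mulVec v) := by
      rw [smul_smul, inv_mul_cancel₀ hy, one_smul]
    rw [h2, h1, smul_neg, smul_smul, ← neg_smul]
    congr 1
    field_simp

theorem GL2_card_centralizer_elliptic [Fintype F] (g : GL (Fin 2) F)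
    (hg : ∀ (c : F) (v : Fin 2 → F), v ≠ 0 → (g : Matrix (Fin 2) (Fin 2) F).mulVec v ≠ c • v) :
    Nat.card (Subgroup.centralizer ({g} : Set (GL (Fin 2) F))) = Fintype.card F ^ 2 - 1 := by
  rw [GL2_card_centralizer g (not_scalar_of_no_eigenvector _ hg)]
  exact card_normSol_aniso _ _ (aniso_of_no_eigenvector _ hg)

end glcent

end Cfsg.Agent.Lib.helper12
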