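import Mathlib
import Cfsg.Prelude.Def_ParabolicCharacters
import Cfsg.Agent.Lib.helper12.GL2Cent

set_option autoImplicit false

namespace Cfsg.Agent.Lib.helper12

open Matrix

section borel

variable {F : Type*} [Field F]

theorem mem_upperTriangularGL_two_iff (x : GL (Fin 2) F) :
    x ∈ Cfsg.upperTriangularGL 2 F ↔ (x : Matrix (Fin 2) (Fin 2) F) 1 0 = 0 := by
  change (x : Matrix (Fin 2) (Fin 2) F).BlockTriangular id ↔ _
  constructor
  · intro h
    exact h (by decide)
  · intro h i j hij
    fin_cases i <;> fin_cases j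
    · exact absurd hij (by decide)
    · exact absurd hij (by decide)
    · exact h
    · exact absurd hij (by decide)

theorem inv_mul_apply_one_zero (x M : Matrix (Fin 2) (Fin 2) F) :
    (x⁻¹ * M) 1 0 = (x 0 0 * M 1 0 - x 1 0 * M 0 0) / x.det := by
  rw [Matrix.inv_def, Matrix.adjugate_fin_two, Ring.inverse_eq_inv']
  simp [Matrix.mul_apply, Fin.sum_univ_two]
  ring

theorem GL2_coset_eq_iff (x y : GL (Fin 2) F) :
    (x : GL (Fin 2) F ⧸ Cfsg.upperTriangularGL 2 F) = y ↔
      (x : Matrix (Fin 2) (Fin 2) F) 0 0 * (y : Matrix (Fin 2) (Fin 2) F) 1 0 -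
        (x : Matrix (Fin 2) (Fin 2) F) 1 0 * (y : Matrix (Fin 2) (Fin 2) F) 0 0 = 0 := by
  rw [QuotientGroup.eq, mem_upperTriangularGL_two_iff, Units.val_mul, Matrix.coe_units_inv,
    inv_mul_apply_one_zero, div_eq_zero_iff]
  constructor
  · rintro (h | h)
    · exact h
    · exact absurd h (GL2_det_ne_zero x)
  · intro h
    exact Or.inl h

/-- The column attached to a point of the projective line. -/
def colP1 : Option F → (Fin 2 → F)
  | none => ![1, 0]
  | some u => ![u, 1]

/-- Representative of the coset of the Borel subgroup attached to a point of the projective line. -/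
noncomputable def repP1 : Option F → GL (Fin 2) F
  | none => 1
  | some u => Matrix.GeneralLinearGroup.mkOfDetNeZero !![u, 1; 1, 0] (by simp [Matrix.det_fin_two])

theorem repP1_col (o : Option F) :
    ((repP1 o : GL (Fin 2) F) : Matrix (Fin 2) (Fin 2) F) 0 0 = colP1 o 0 ∧
      ((repP1 o : GL (Fin 2) F) : Matrix (Fin 2) (Fin 2) F) 1 0 = colP1 o 1 := by
  cases o <;> simp [repP1, colP1, Matrix.GeneralLinearGroup.mkOfDetNeZero]

theorem repP1_bijective :
    Function.Bijective (fun o : Option F => (repP1 o : GL (Fin 2) F ⧸ Cfsg.upperTriangularGL 2 F)) := by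
  constructor
  · intro o o' h
    simp only at h
    rw [GL2_coset_eq_iff, (repP1_col o).1, (repP1_col o).2, (repP1_col o').1, (repP1_col o').2] at h
    rcases o with _ | u <;> rcases o' with _ | v <;> simp [colP1] at h ⊢
    linear_combination h
  · intro c
    obtain ⟨y, rfl⟩ := QuotientGroup.mk_surjective c
    by_cases hy : (y : Matrix (Fin 2) (Fin 2) F) 1 0 = 0
    · refine ⟨none, ?_⟩
      simp only
      rw [GL2_coset_eq_iff, (repP1_col none).1, (repP1_col none).2]
      simp [colP1, hy]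
    · refine ⟨some ((y : Matrix (Fin 2) (Fin 2) F) 0 0 / (y : Matrix (Fin 2) (Fin 2) F) 1 0), ?_⟩
      simp only
      rw [GL2_coset_eq_iff, (repP1_col (some _)).1, (repP1_col (some _)).2]
      simp [colP1]
      field_simp
      ring

theorem GL2_smul_coset_eq_iff (g x : GL (Fin 2) F) :
    g • (x : GL (Fin 2) F ⧸ Cfsg.upperTriangularGL 2 F) = x ↔
      Qf (g : Matrix (Fin 2) (Fin 2) F) ![(x : Matrix (Fin 2) (Fin 2) F) 0 0, (x : Matrix (Fin 2) (Fin 2) F) 1 0] = 0 := by
  rw [MulAction.Quotient.smul_mk, eq_comm, GL2_coset_eq_iff]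
  simp only [smul_eq_mul, Units.val_mul, Matrix.mul_apply, Fin.sum_univ_two, Qf, Matrix.cons_val_zero,
    Matrix.cons_val_one]

/-- The number of cosets of the Borel subgroup of `GL₂` fixed by `g` is the number of points of the
projective line at which the form `Qf g` vanishes. -/
theorem GL2_card_fixedBy (g : GL (Fin 2) F) :
    Nat.card (MulAction.fixedBy (GL (Fin 2) F ⧸ Cfsg.upperTriangularGL 2 F) g) =
      Nat.card {o : Option F // Qf (g : Matrix (Fin 2) (Fin 2) F) (colP1 o) = 0} := by
  symm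
  refine Nat.card_congr (Equiv.subtypeEquiv (Equiv.ofBijective _ repP1_bijective) ?_)
  intro o
  rw [MulAction.mem_fixedBy]
  simp only [Equiv.ofBijective_apply]
  rw [GL2_smul_coset_eq_iff, (repP1_col o).1, (repP1_col o).2]
  have : ![colP1 o 0, colP1 o 1] = colP1 o := by
    ext i
    fin_cases i <;> rfl
  rw [this]

theorem Qf_colP1_none (M : Matrix (Fin 2) (Fin 2) F) : Qf M (colP1 none) = M 1 0 := by
  simp [Qf, colP1]

theorem Qf_colP1_some (M : Matrix (Fin 2) (Fin 2) F) (u : F) :
    Qf M (colP1 (some u)) = M 1 0 * u ^ 2 + (M 1 1 - M 0 0) * u - M 0 1 := by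
  simp [Qf, colP1]
  ring

theorem colP1_ne_zero (o : Option F) : colP1 o ≠ 0 := by
  intro h
  cases o
  · have := congrFun h 0
    simp [colP1] at this
  · have := congrFun h 1
    simp [colP1] at this

/-- A nonzero vector at which `Qf M` vanishes is an eigenvector. -/
theorem exists_eigen_of_Qf_eq_zero (M : Matrix (Fin 2) (Fin 2) F) (w : Fin 2 → F) (hw : w ≠ 0)
    (h : Qf M w = 0) : ∃ c : F, M.mulVec w = c • w := by
  simp only [Qf] at h
  by_cases h0 : w 0 = 0
  · have h1 : w 1 ≠ 0 := by
      intro h1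
      apply hw
      ext i
      fin_cases i
      · exact h0
      · exact h1
    refine ⟨(M 1 0 * w 0 + M 1 1 * w 1) / w 1, ?_⟩
    ext i
    fin_cases i
    · simp [Matrix.mulVec, dotProduct, Fin.sum_univ_two]
      rw [h0] at h ⊢
      simp at h ⊢
      rcases h with h | h
      · exact absurd h h1
      · exact h
    · simp [Matrix.mulVec, dotProduct, Fin.sum_univ_two]
      field_simp
  · refine ⟨(M 0 0 * w 0 + M 0 1 * w 1) / w 0, ?_⟩
    ext i
    fin_cases i
    · simp [Matrix.mulVec, dotProduct, Fin.sum_univ_two]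
      field_simp
    · simp [Matrix.mulVec, dotProduct, Fin.sum_univ_two]
      field_simp
      linear_combination h

theorem GL2_fixedPointCharacter_scalar [Fintype F] (g : GL (Fin 2) F)
    (hg : ∃ a : F, (g : Matrix (Fin 2) (Fin 2) F) = a • (1 : Matrix (Fin 2) (Fin 2) F)) :
    Cfsg.fixedPointCharacter (Cfsg.upperTriangularGL 2 F) g = Fintype.card F + 1 := by
  classical
  obtain ⟨a, ha⟩ := hg
  unfold Cfsg.fixedPointCharacter
  rw [GL2_card_fixedBy]
  have : Nat.card {o : Option F // Qf (g : Matrix (Fin 2) (Fin 2) F) (colP1 o) = 0} = Fintype.card F + 1 := by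
    have e : {o : Option F // Qf (g : Matrix (Fin 2) (Fin 2) F) (colP1 o) = 0} ≃ Option F :=
      Equiv.subtypeUnivEquiv (fun o => by rw [ha, Qf_scalar])
    rw [Nat.card_congr e, Nat.card_eq_fintype_card, Fintype.card_option]
  rw [this]
  push_cast
  ring

theorem GL2_fixedPointCharacter_diag (g : GL (Fin 2) F)
    (h01 : (g : Matrix (Fin 2) (Fin 2) F) 0 1 = 0) (h10 : (g : Matrix (Fin 2) (Fin 2) F) 1 0 = 0)
    (hne : (g : Matrix (Fin 2) (Fin 2) F) 0 0 ≠ (g : Matrix (Fin 2) (Fin 2) F) 1 1) :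
    Cfsg.fixedPointCharacter (Cfsg.upperTriangularGL 2 F) g = 2 := by
  unfold Cfsg.fixedPointCharacter
  rw [GL2_card_fixedBy]
  have : Nat.card {o : Option F // Qf (g : Matrix (Fin 2) (Fin 2) F) (colP1 o) = 0} = 2 := by
    rw [Nat.card_eq_two_iff]
    refine ⟨⟨none, by rw [Qf_colP1_none, h10]⟩, ⟨some 0, by rw [Qf_colP1_some, h10, h01]; ring⟩, ?_, ?_⟩
    · intro h
      have := congrArg Subtype.val h
      simp at this
    · ext ⟨o, ho⟩
      simp only [Set.mem_insert_iff, Set.mem_singleton_iff, Set.mem_univ, iff_true]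
      cases o with
      | none => left; rfl
      | some u =>
        right
        rw [Qf_colP1_some, h10, h01] at ho
        have : ((g : Matrix (Fin 2) (Fin 2) F) 1 1 - (g : Matrix (Fin 2) (Fin 2) F) 0 0) * u = 0 := by
          linear_combination ho
        have hu : u = 0 := (mul_eq_zero.mp this).resolve_left (sub_ne_zero.mpr hne.symm)
        subst hu
        rfl
  rw [this]
  norm_num

theorem GL2_fixedPointCharacter_elliptic (g : GL (Fin 2) F)
    (hg : ∀ (c : F) (v : Fin 2 → F), v ≠ 0 → (g : Matrix (Fin 2) (Fin 2) F).mulVec v ≠ c • v) :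
    Cfsg.fixedPointCharacter (Cfsg.upperTriangularGL 2 F) g = 0 := by
  unfold Cfsg.fixedPointCharacter
  rw [GL2_card_fixedBy]
  have : IsEmpty {o : Option F // Qf (g : Matrix (Fin 2) (Fin 2) F) (colP1 o) = 0} := by
    constructor
    rintro ⟨o, ho⟩
    obtain ⟨c, hc⟩ := exists_eigen_of_Qf_eq_zero _ _ (colP1_ne_zero o) ho
    exact hg c _ (colP1_ne_zero o) hc
  rw [Nat.card_of_isEmpty]
  norm_num

theorem GL2_fixedPointCharacter_unipotent (g : GL (Fin 2) F)
    (h10 : (g : Matrix (Fin 2) (Fin 2) F) 1 0 = 0)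
    (heq : (g : Matrix (Fin 2) (Fin 2) F) 0 0 = (g : Matrix (Fin 2) (Fin 2) F) 1 1)
    (h01 : (g : Matrix (Fin 2) (Fin 2) F) 0 1 ≠ 0) :
    Cfsg.fixedPointCharacter (Cfsg.upperTriangularGL 2 F) g = 1 := by
  unfold Cfsg.fixedPointCharacter
  rw [GL2_card_fixedBy]
  have : Nat.card {o : Option F // Qf (g : Matrix (Fin 2) (Fin 2) F) (colP1 o) = 0} = 1 := by
    rw [Nat.card_eq_one_iff_unique]
    refine ⟨⟨?_⟩, ⟨⟨none, by rw [Qf_colP1_none, h10]⟩⟩⟩
    rintro ⟨o, ho⟩ ⟨o', ho'⟩
    apply Subtype.ext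
    simp only
    cases o with
    | none =>
      cases o' with
      | none => rfl
      | some u =>
        exfalso
        rw [Qf_colP1_some, h10, heq] at ho'
        apply h01
        linear_combination -ho'
    | some u =>
      exfalso
      rw [Qf_colP1_some, h10, heq] at ho
      apply h01
      linear_combination -ho
  rw [this]
  norm_num

end borel

end Cfsg.Agent.Lib.helper12
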