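import Mathlib
import Cfsg.Agent.Lib.helper12.GL2Borel
import Cfsg.Agent.Lib.helper12.GL2Cent

set_option autoImplicit false

namespace Cfsg.Agent.Lib.helper12

open Matrix

section gen

variable {G : Type*} [Group G] [Finite G]

/-- Any Sylow subgroup is a conjugate of a given one, elementwise. -/
theorem sylow_exists_conj {p : ℕ} [Fact p.Prime] (U P : Sylow p G) :
    ∃ g : G, ∀ x : G, x ∈ P ↔ g⁻¹ * x * g ∈ U := by
  obtain ⟨g, hg⟩ := MulAction.exists_smul_eq G U P
  refine ⟨g, fun x => ?_⟩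
  rw [← hg]
  change x ∈ ((g • U : Sylow p G) : Subgroup G) ↔ _
  rw [Sylow.coe_subgroup_smul, Subgroup.mem_pointwise_smul_iff_inv_smul_mem]
  simp [MulAut.smul_def]
  rfl

end gen

section unip

variable {F : Type*} [Field F]

/-- The upper unitriangular element of `GL₂`. -/
noncomputable def uGL (z : F) : GL (Fin 2) F :=
  Matrix.GeneralLinearGroup.mkOfDetNeZero !![1, z; 0, 1] (by simp [Matrix.det_fin_two])

theorem uGL_val (z : F) : ((uGL z : GL (Fin 2) F) : Matrix (Fin 2) (Fin 2) F) = !![1, z; 0, 1] := rfl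

theorem uGL_add (y z : F) : uGL (y + z) = uGL y * uGL z := by
  apply Units.ext
  rw [Units.val_mul, uGL_val, uGL_val, uGL_val, Matrix.mul_fin_two]
  congr 2 <;> simp [add_comm]

theorem uGL_zero : uGL (0 : F) = 1 := by
  apply Units.ext
  rw [uGL_val, Units.val_one]
  exact Matrix.one_fin_two.symm

/-- The homomorphism `z ↦ uGL z`. -/
noncomputable def uGLHom : Multiplicative F →* GL (Fin 2) F where
  toFun z := uGL (Multiplicative.toAdd z)
  map_one' := uGL_zero
  map_mul' y z := uGL_add _ _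

theorem uGLHom_injective : Function.Injective (uGLHom : Multiplicative F →* GL (Fin 2) F) := by
  intro y z h
  have h' := congrArg (fun g : GL (Fin 2) F => (g : Matrix (Fin 2) (Fin 2) F) 0 1) h
  simpa [uGLHom, uGL_val] using h'

/-- The upper unitriangular subgroup of `GL₂`. -/
noncomputable def unipGL (F : Type*) [Field F] : Subgroup (GL (Fin 2) F) := (uGLHom (F := F)).range

theorem mem_unipGL_iff (g : GL (Fin 2) F) : g ∈ unipGL F ↔ ∃ z : F, g = uGL z := by
  constructor
  · rintro ⟨z, rfl⟩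
    exact ⟨Multiplicative.toAdd z, rfl⟩
  · rintro ⟨z, rfl⟩
    exact ⟨Multiplicative.ofAdd z, rfl⟩

theorem uGL_not_scalar {z : F} (hz : z ≠ 0) :
    ¬ ∃ a : F, ((uGL z : GL (Fin 2) F) : Matrix (Fin 2) (Fin 2) F) = a • (1 : Matrix (Fin 2) (Fin 2) F) := by
  rintro ⟨a, ha⟩
  have := congrFun (congrFun ha 0) 1
  rw [uGL_val] at this
  simp at this
  exact hz this

theorem uGL_ne_one {z : F} (hz : z ≠ 0) : uGL z ≠ 1 := by
  intro h
  apply uGL_not_scalar hz
  exact ⟨1, by rw [h, Units.val_one, one_smul]⟩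

/-- Upper triangular elements normalise the unitriangular group, elementwise. -/
theorem borel_mul_uGL (b : GL (Fin 2) F) (hb : (b : Matrix (Fin 2) (Fin 2) F) 1 0 = 0) (z : F) :
    b * uGL z * b⁻¹ = uGL ((b : Matrix (Fin 2) (Fin 2) F) 0 0 * z / (b : Matrix (Fin 2) (Fin 2) F) 1 1) := by
  have hdet := GL2_det_ne_zero b
  rw [Matrix.det_fin_two, hb, mul_zero, sub_zero] at hdet
  have h11 : (b : Matrix (Fin 2) (Fin 2) F) 1 1 ≠ 0 := right_ne_zero_of_mul hdet
  rw [mul_inv_eq_iff_eq_mul]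
  apply Units.ext
  rw [Units.val_mul, Units.val_mul, uGL_val, uGL_val, Matrix.eta_fin_two (b : Matrix (Fin 2) (Fin 2) F),
    Matrix.mul_fin_two, Matrix.mul_fin_two, hb]
  ext i j
  fin_cases i <;> fin_cases j <;> simp
  field_simp
  ring

/-- An element conjugating a non-trivial unitriangular element to a unitriangular one is upper
triangular. -/
theorem borel_of_conj_uGL (g : GL (Fin 2) F) {z z' : F} (hz : z ≠ 0)
    (h : g * uGL z * g⁻¹ = uGL z') : (g : Matrix (Fin 2) (Fin 2) F) 1 0 = 0 := by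
  rw [mul_inv_eq_iff_eq_mul] at h
  have h' := congrArg (fun x : GL (Fin 2) F => (x : Matrix (Fin 2) (Fin 2) F) 1 1) h
  simp only [Units.val_mul, uGL_val, Matrix.mul_apply, Fin.sum_univ_two] at h'
  simp at h'
  rcases h' with h' | h'
  · exact h'
  · exact absurd h' hz

theorem normalizer_unipGL :
    Subgroup.normalizer (unipGL F : Set (GL (Fin 2) F)) = Cfsg.upperTriangularGL 2 F := by
  ext g
  rw [mem_upperTriangularGL_two_iff, Subgroup.mem_normalizer_iff]
  constructor
  · intro h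
    have h1 := (h (uGL 1)).mp ((mem_unipGL_iff _).mpr ⟨1, rfl⟩)
    obtain ⟨z', hz'⟩ := (mem_unipGL_iff _).mp h1
    exact borel_of_conj_uGL g one_ne_zero hz'
  · intro hg x
    have hginv : ((g⁻¹ : GL (Fin 2) F) : Matrix (Fin 2) (Fin 2) F) 1 0 = 0 := by
      rw [← mem_upperTriangularGL_two_iff]
      exact (Cfsg.upperTriangularGL 2 F).inv_mem ((mem_upperTriangularGL_two_iff g).mpr hg)
    constructor
    · intro hx
      obtain ⟨z, rfl⟩ := (mem_unipGL_iff _).mp hx
      rw [borel_mul_uGL g hg z]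
      exact (mem_unipGL_iff _).mpr ⟨_, rfl⟩
    · intro hx
      obtain ⟨z, hz⟩ := (mem_unipGL_iff _).mp hx
      have e : x = g⁻¹ * uGL z * g⁻¹⁻¹ := by
        rw [← hz]
        group
      rw [e, borel_mul_uGL g⁻¹ hginv z]
      exact (mem_unipGL_iff _).mpr ⟨_, rfl⟩

end unip

section fin

variable {F : Type*} [Field F] [Fintype F]

theorem card_unipGL : Nat.card (unipGL F) = Fintype.card F := by
  rw [unipGL, ← Nat.card_congr (MonoidHom.ofInjective (uGLHom_injective (F := F))).toEquiv,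
    Nat.card_eq_fintype_card, Fintype.card_multiplicative]

theorem card_GL2 : Nat.card (GL (Fin 2) F) =
    (Fintype.card F + 1) * (Fintype.card F * (Fintype.card F - 1) ^ 2) := by
  rw [Matrix.card_GL_field, Fin.prod_univ_two]
  have hq : 2 ≤ Fintype.card F := Fintype.one_lt_card
  obtain ⟨k, hk⟩ : ∃ k, Fintype.card F = k + 1 := ⟨Fintype.card F - 1, by omega⟩
  rw [hk]
  simp only [Fin.val_zero, pow_zero, Fin.val_one, pow_one, Nat.add_sub_cancel]
  have h1 : (k + 1) ^ 2 - 1 = k * (k + 2) := by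
    have : (k + 1) ^ 2 = k * (k + 2) + 1 := by ring
    omega
  have h2 : (k + 1) ^ 2 - (k + 1) = k * (k + 1) := by
    have : (k + 1) ^ 2 = k * (k + 1) + (k + 1) := by ring
    omega
  rw [h1, h2]
  ring

theorem card_quotient_borelGL2 :
    Nat.card (GL (Fin 2) F ⧸ Cfsg.upperTriangularGL 2 F) = Fintype.card F + 1 := by
  rw [← Nat.card_congr (Equiv.ofBijective _ (repP1_bijective (F := F))), Nat.card_eq_fintype_card,
    Fintype.card_option]

theorem card_borelGL2 :
    Nat.card (Cfsg.upperTriangularGL 2 F) = Fintype.card F * (Fintype.card F - 1) ^ 2 := by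
  have h := Subgroup.card_eq_card_quotient_mul_card_subgroup (Cfsg.upperTriangularGL 2 F)
  rw [card_GL2, card_quotient_borelGL2] at h
  exact (Nat.eq_of_mul_eq_mul_left (by omega) h).symm

theorem card_eq_prime_pow_factorization (p : ℕ) [Fact p.Prime] [CharP F p] :
    Fintype.card F = p ^ (Fintype.card F).factorization p := by
  obtain ⟨n, hp, hn⟩ := FiniteField.card F p
  rw [hn, Nat.Prime.factorization_pow hp]
  simp

theorem char_not_dvd_card_add_one (p : ℕ) [Fact p.Prime] [CharP F p] : ¬ p ∣ Fintype.card F + 1 := by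
  obtain ⟨n, hp, hn⟩ := FiniteField.card F p
  intro h
  have h1 : p ∣ Fintype.card F := by
    rw [hn]
    exact dvd_pow_self p n.ne_zero
  have := (Nat.dvd_add_right h1).mp h
  exact hp.one_lt.ne' (Nat.dvd_one.mp this)

theorem char_not_dvd_card_sub_one (p : ℕ) [Fact p.Prime] [CharP F p] : ¬ p ∣ Fintype.card F - 1 := by
  obtain ⟨n, hp, hn⟩ := FiniteField.card F p
  have hq : 2 ≤ Fintype.card F := Fintype.one_lt_card
  intro h
  have h1 : p ∣ Fintype.card F := by
    rw [hn]
    exact dvd_pow_self p n.ne_zero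
  have h2 : p ∣ Fintype.card F - (Fintype.card F - 1) := Nat.dvd_sub h1 h
  have e : Fintype.card F - (Fintype.card F - 1) = 1 := by omega
  rw [e] at h2
  exact hp.one_lt.ne' (Nat.dvd_one.mp h2)

theorem factorization_card_GL2 (p : ℕ) [Fact p.Prime] [CharP F p] :
    (Nat.card (GL (Fin 2) F)).factorization p = (Fintype.card F).factorization p := by
  have hp : p.Prime := Fact.out
  have hq : 2 ≤ Fintype.card F := Fintype.one_lt_card
  rw [card_GL2, Nat.factorization_mul (by omega) (Nat.mul_ne_zero (by omega) (pow_ne_zero _ (by omega))),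
    Nat.factorization_mul (by omega) (pow_ne_zero _ (by omega)), Nat.factorization_pow]
  simp only [Finsupp.coe_add, Pi.add_apply, Finsupp.coe_smul, Pi.smul_apply, smul_eq_mul]
  rw [Nat.factorization_eq_zero_of_not_dvd (char_not_dvd_card_add_one p),
    Nat.factorization_eq_zero_of_not_dvd (char_not_dvd_card_sub_one p)]
  omega

/-- The unitriangular subgroup as a Sylow `p`-subgroup of `GL₂(q)`. -/
noncomputable def sylUnipGL (p : ℕ) [Fact p.Prime] [CharP F p] : Sylow p (GL (Fin 2) F) :=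
  Sylow.ofCard (unipGL F) (by
    rw [card_unipGL, factorization_card_GL2 p]
    exact card_eq_prime_pow_factorization p)

theorem mem_sylUnipGL (p : ℕ) [Fact p.Prime] [CharP F p] (x : GL (Fin 2) F) :
    x ∈ sylUnipGL (F := F) p ↔ ∃ z : F, x = uGL z :=
  mem_unipGL_iff x

theorem coe_sylUnipGL (p : ℕ) [Fact p.Prime] [CharP F p] :
    ((sylUnipGL (F := F) p : Sylow p (GL (Fin 2) F)) : Subgroup (GL (Fin 2) F)) = unipGL F := rfl

/-- `GL₂(q)` has exactly `q + 1` Sylow `p`-subgroups. -/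
theorem card_sylow_GL2 (p : ℕ) [Fact p.Prime] [CharP F p] :
    Nat.card (Sylow p (GL (Fin 2) F)) = Fintype.card F + 1 := by
  rw [Sylow.card_eq_index_normalizer (sylUnipGL p)]
  change (Subgroup.normalizer (unipGL F : Set (GL (Fin 2) F))).index = _
  rw [normalizer_unipGL, Subgroup.index_eq_card, card_quotient_borelGL2]

theorem card_normalizer_sylow_GL2 (p : ℕ) [Fact p.Prime] [CharP F p] (P : Sylow p (GL (Fin 2) F)) :
    Nat.card (Subgroup.normalizer ((P : Subgroup (GL (Fin 2) F)) : Set (GL (Fin 2) F))) =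
      Fintype.card F * (Fintype.card F - 1) ^ 2 := by
  have h1 : Fintype.card F + 1 =
      (Subgroup.normalizer ((P : Subgroup (GL (Fin 2) F)) : Set (GL (Fin 2) F))).index := by
    rw [← card_sylow_GL2 p]
    exact Sylow.card_eq_index_normalizer P
  have h2 := Subgroup.card_mul_index (Subgroup.normalizer ((P : Subgroup (GL (Fin 2) F)) : Set (GL (Fin 2) F)))
  rw [← h1, card_GL2, mul_comm] at h2
  exact Nat.eq_of_mul_eq_mul_left (by omega) h2

/-- Distinct Sylow `p`-subgroups of `GL₂(q)` intersect trivially. -/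
theorem sylow_GL2_inf_eq_bot (p : ℕ) [Fact p.Prime] [CharP F p] (P Q : Sylow p (GL (Fin 2) F))
    (h : P ≠ Q) : (P : Subgroup (GL (Fin 2) F)) ⊓ (Q : Subgroup (GL (Fin 2) F)) = ⊥ := by
  obtain ⟨g₁, hg₁⟩ := sylow_exists_conj (sylUnipGL p) P
  obtain ⟨g₂, hg₂⟩ := sylow_exists_conj (sylUnipGL p) Q
  rw [Subgroup.eq_bot_iff_forall]
  rintro x ⟨hxP, hxQ⟩
  by_contra hx1
  obtain ⟨z₁, hz₁⟩ := (mem_sylUnipGL p _).mp ((hg₁ x).mp hxP)
  obtain ⟨z₂, hz₂⟩ := (mem_sylUnipGL p _).mp ((hg₂ x).mp hxQ)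
  have hz₂0 : z₂ ≠ 0 := by
    rintro rfl
    rw [uGL_zero] at hz₂
    apply hx1
    have : x = g₂ * (g₂⁻¹ * x * g₂) * g₂⁻¹ := by group
    rw [this, hz₂]
    group
  have hh : (g₁⁻¹ * g₂) * uGL z₂ * (g₁⁻¹ * g₂)⁻¹ = uGL z₁ := by
    rw [← hz₁, ← hz₂]
    group
  have h10 := borel_of_conj_uGL _ hz₂0 hh
  have hN : g₁⁻¹ * g₂ ∈ Subgroup.normalizer (unipGL F : Set (GL (Fin 2) F)) := by
    rw [normalizer_unipGL, mem_upperTriangularGL_two_iff]
    exact h10
  apply h
  apply Sylow.ext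
  ext y
  change y ∈ P ↔ y ∈ Q
  rw [hg₁ y, hg₂ y]
  have key := (Subgroup.mem_normalizer_iff.mp hN) (g₂⁻¹ * y * g₂)
  have e : g₁⁻¹ * g₂ * (g₂⁻¹ * y * g₂) * (g₁⁻¹ * g₂)⁻¹ = g₁⁻¹ * y * g₁ := by group
  rw [e] at key
  exact key.symm

theorem card_pairs_sum_ne_zero :
    Nat.card {p : F × F // p.1 ^ 2 + p.1 * p.2 * 2 + p.2 ^ 2 * 1 ≠ 0} =
      Fintype.card F * (Fintype.card F - 1) := by
  classical
  have hsq : ∀ x y : F, x ^ 2 + x * y * 2 + y ^ 2 * 1 = (x + y) ^ 2 := fun x y => by ring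
  let e : {p : F × F // p.1 ^ 2 + p.1 * p.2 * 2 + p.2 ^ 2 * 1 ≠ 0} ≃ Fˣ × F :=
    { toFun := fun p => (Units.mk0 (p.1.1 + p.1.2) (by
          intro h
          apply p.2
          rw [hsq, h]
          simp), p.1.2)
      invFun := fun u => ⟨((u.1 : F) - u.2, u.2), by
          rw [hsq]
          simp⟩
      left_inv := by
        rintro ⟨⟨x, y⟩, h⟩
        simp
      right_inv := by
        rintro ⟨u, y⟩
        apply Prod.ext
        · apply Units.ext
          simp
        · rfl }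
  rw [Nat.card_congr e, Nat.card_prod, Nat.card_eq_fintype_card, Fintype.card_units,
    Nat.card_eq_fintype_card, mul_comm]

/-- The centraliser in `GL₂(q)` of a non-trivial `p`-element of a Sylow `p`-subgroup. -/
theorem card_centralizer_sylow_elt_GL2 (p : ℕ) [Fact p.Prime] [CharP F p] (P : Sylow p (GL (Fin 2) F))
    (a : GL (Fin 2) F) (ha : a ∈ P) (ha1 : a ≠ 1) :
    Nat.card (Subgroup.centralizer ({a} : Set (GL (Fin 2) F))) =
      Fintype.card F * (Fintype.card F - 1) := by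
  obtain ⟨g, hg⟩ := sylow_exists_conj (sylUnipGL p) P
  obtain ⟨z, hz⟩ := (mem_sylUnipGL p _).mp ((hg a).mp ha)
  have hz0 : z ≠ 0 := by
    rintro rfl
    rw [uGL_zero] at hz
    apply ha1
    have : a = g * (g⁻¹ * a * g) * g⁻¹ := by group
    rw [this, hz]
    group
  have hconj : IsConj (uGL z) a := isConj_iff.mpr ⟨g, by rw [← hz]; group⟩
  have htr : (a : Matrix (Fin 2) (Fin 2) F).trace = 2 := by
    rw [← GL2_trace_eq_of_isConj hconj, uGL_val, Matrix.trace_fin_two]
    simp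
    norm_num
  have hdet : (a : Matrix (Fin 2) (Fin 2) F).det = 1 := by
    rw [← GL2_det_eq_of_isConj hconj, uGL_val, Matrix.det_fin_two]
    simp
  have hns : ¬ ∃ c : F, (a : Matrix (Fin 2) (Fin 2) F) = c • (1 : Matrix (Fin 2) (Fin 2) F) := by
    rintro ⟨c, hc⟩
    apply uGL_not_scalar hz0
    refine ⟨c, ?_⟩
    rw [← hz, Units.val_mul, Units.val_mul, hc, Matrix.mul_smul, Matrix.mul_one, Matrix.smul_mul,
      ← Units.val_mul, inv_mul_cancel, Units.val_one]
  rw [GL2_card_centralizer a hns, htr, hdet]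
  exact card_pairs_sum_ne_zero

end fin

end Cfsg.Agent.Lib.helper12
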