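import Mathlib
import Cfsg.Agent.Lib.helper12.PSL2Spec
import Cfsg.Agent.Lib.helper12.Dicyclic
import Cfsg.Agent.Lib.helper12.GL2Cent

set_option autoImplicit false

namespace Cfsg.Agent.Lib.helper12

open Matrix QuadraticAlgebra

section tori

variable {F : Type*} [Field F]

theorem SL2_inv_val (s : Matrix.SpecialLinearGroup (Fin 2) F) :
    ((s⁻¹ : Matrix.SpecialLinearGroup (Fin 2) F) : Matrix (Fin 2) (Fin 2) F) =
      (s : Matrix (Fin 2) (Fin 2) F).trace • (1 : Matrix (Fin 2) (Fin 2) F) - (s : Matrix (Fin 2) (Fin 2) F) := by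
  have hsq := SL2_sq_eq s
  have h1 : (s : Matrix (Fin 2) (Fin 2) F) * ((s : Matrix (Fin 2) (Fin 2) F).trace • (1 : Matrix (Fin 2) (Fin 2) F) -
      (s : Matrix (Fin 2) (Fin 2) F)) = 1 := by
    rw [Matrix.mul_sub, hsq, Matrix.mul_smul, Matrix.mul_one]
    abel
  have h2 : ((s⁻¹ : Matrix.SpecialLinearGroup (Fin 2) F) : Matrix (Fin 2) (Fin 2) F) * (s : Matrix (Fin 2) (Fin 2) F) = 1 := by
    rw [← Matrix.SpecialLinearGroup.coe_mul, inv_mul_cancel, Matrix.SpecialLinearGroup.coe_one]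
  calc ((s⁻¹ : Matrix.SpecialLinearGroup (Fin 2) F) : Matrix (Fin 2) (Fin 2) F)
      = ((s⁻¹ : Matrix.SpecialLinearGroup (Fin 2) F) : Matrix (Fin 2) (Fin 2) F) *
        ((s : Matrix (Fin 2) (Fin 2) F) * ((s : Matrix (Fin 2) (Fin 2) F).trace • (1 : Matrix (Fin 2) (Fin 2) F) -
          (s : Matrix (Fin 2) (Fin 2) F))) := by rw [h1, Matrix.mul_one]
    _ = _ := by rw [← Matrix.mul_assoc, h2, Matrix.one_mul]

theorem SL2_trace_inv (s : Matrix.SpecialLinearGroup (Fin 2) F) :
    ((s⁻¹ : Matrix.SpecialLinearGroup (Fin 2) F) : Matrix (Fin 2) (Fin 2) F).trace =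
      (s : Matrix (Fin 2) (Fin 2) F).trace := by
  rw [SL2_inv_val, Matrix.trace_sub, Matrix.trace_smul, Matrix.trace_one]
  simp
  ring

theorem SL2_not_scalar_of_ne_inv (s : Matrix.SpecialLinearGroup (Fin 2) F) (hs : s ≠ s⁻¹) :
    ¬ ∃ a : F, (s : Matrix (Fin 2) (Fin 2) F) = a • (1 : Matrix (Fin 2) (Fin 2) F) := by
  intro h
  apply hs
  exact eq_inv_of_mul_eq_one_left (SL2_mul_self_eq_one_of_scalar s h)

/-- An element commuting with a regular semisimple `s` and having the same trace is `s` or `s⁻¹`. -/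
theorem SL2_eq_or_eq_inv_of_comm_trace (h2 : (2 : F) ≠ 0) (s h : Matrix.SpecialLinearGroup (Fin 2) F)
    (hns : ¬ ∃ a : F, (s : Matrix (Fin 2) (Fin 2) F) = a • (1 : Matrix (Fin 2) (Fin 2) F))
    (ht : (s : Matrix (Fin 2) (Fin 2) F).trace ^ 2 ≠ 4) (hc : h * s = s * h)
    (htr : (h : Matrix (Fin 2) (Fin 2) F).trace = (s : Matrix (Fin 2) (Fin 2) F).trace) :
    h = s ∨ h = s⁻¹ := by
  have hc' : (h : Matrix (Fin 2) (Fin 2) F) * (s : Matrix (Fin 2) (Fin 2) F) =
      (s : Matrix (Fin 2) (Fin 2) F) * (h : Matrix (Fin 2) (Fin 2) F) := by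
    rw [← Matrix.SpecialLinearGroup.coe_mul, ← Matrix.SpecialLinearGroup.coe_mul, hc]
  obtain ⟨x, y, hxy⟩ := (comm_iff_exists_smul _ _ hns).mp hc'
  have hdet := h.det_coe
  rw [hxy, det_smul_one_add_smul, s.det_coe, mul_one] at hdet
  rw [hxy, Matrix.trace_add, Matrix.trace_smul, Matrix.trace_smul, Matrix.trace_one] at htr
  simp only [Fintype.card_fin, smul_eq_mul, Nat.cast_ofNat] at htr
  set t := (s : Matrix (Fin 2) (Fin 2) F).trace with ht_def
  have hy : (1 - y ^ 2) * (t ^ 2 - 4) = 0 := by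
    linear_combination 4 * hdet - (2 * x + y * t + t) * htr
  have hy1 : (y - 1) * (y + 1) = 0 := by
    rcases mul_eq_zero.mp hy with h' | h'
    · linear_combination -h'
    · exact absurd (by linear_combination h') ht
  rcases mul_eq_zero.mp hy1 with h' | h'
  · left
    have hy' : y = 1 := by linear_combination h'
    have hx : x = 0 := by
      rw [hy'] at htr
      have : 2 * x = 0 := by linear_combination htr
      exact (mul_eq_zero.mp this).resolve_left h2
    apply Subtype.ext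
    rw [hxy, hx, hy', zero_smul, zero_add, one_smul]
  · right
    have hy' : y = -1 := by linear_combination h'
    have hx : x = t := by
      rw [hy'] at htr
      have : 2 * (x - t) = 0 := by linear_combination htr
      have := (mul_eq_zero.mp this).resolve_left h2
      linear_combination this
    apply Subtype.ext
    rw [hxy, hx, hy', SL2_inv_val, neg_smul, one_smul, sub_eq_add_neg]

end tori

section split

variable {F : Type*} [Field F]

/-- `diagSL` as a monoid homomorphism. -/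
def diagHom : Fˣ →* Matrix.SpecialLinearGroup (Fin 2) F where
  toFun := diagSL
  map_one' := diagSL_one
  map_mul' := diagSL_mul

theorem diagHom_apply (a : Fˣ) : (diagHom a : Matrix.SpecialLinearGroup (Fin 2) F) = diagSL a := rfl

theorem diagSL_injective : Function.Injective (diagSL : Fˣ → Matrix.SpecialLinearGroup (Fin 2) F) := by
  intro a b h
  have := congrArg (fun x : Matrix.SpecialLinearGroup (Fin 2) F => (x : Matrix (Fin 2) (Fin 2) F) 0 0) h
  simp [diagSL_val] at this
  exact Units.ext this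

theorem diagSL_inv (a : Fˣ) : (diagSL a)⁻¹ = diagSL a⁻¹ := (map_inv diagHom a).symm

theorem diagSL_zpow (a : Fˣ) (k : ℤ) : diagSL a ^ k = diagSL (a ^ k) := (map_zpow diagHom a k).symm

theorem orderOf_diagSL (a : Fˣ) : orderOf (diagSL a) = orderOf a :=
  orderOf_injective diagHom diagSL_injective a

/-- The Weyl element of `SL₂`. -/
def weylSL : Matrix.SpecialLinearGroup (Fin 2) F := mkSL 0 1 (-1) 0 (by ring)

theorem weylSL_conj_diagSL (a : Fˣ) : weylSL * diagSL a * weylSL⁻¹ = (diagSL a)⁻¹ := by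
  rw [mul_inv_eq_iff_eq_mul, diagSL_inv]
  apply SL2_ext <;>
    simp [Matrix.SpecialLinearGroup.coe_mul, diagSL_val, weylSL, mkSL_val, Matrix.mul_apply, Fin.sum_univ_two]

theorem SL2_diag_of_comm_diagSL (a : Fˣ) (ha : (a : F) ^ 2 ≠ 1) (g : Matrix.SpecialLinearGroup (Fin 2) F)
    (hg : g * diagSL a = diagSL a * g) :
    (g : Matrix (Fin 2) (Fin 2) F) 0 1 = 0 ∧ (g : Matrix (Fin 2) (Fin 2) F) 1 0 = 0 := by
  have ha0 : (a : F) ≠ 0 := a.ne_zero
  have hd : (a : F)⁻¹ - (a : F) ≠ 0 := by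
    intro h
    apply ha
    field_simp at h
    linear_combination -h
  have h' := congrArg (fun x : Matrix.SpecialLinearGroup (Fin 2) F => (x : Matrix (Fin 2) (Fin 2) F)) hg
  simp only [Matrix.SpecialLinearGroup.coe_mul, diagSL_val] at h'
  have e01 := congrFun (congrFun h' 0) 1
  have e10 := congrFun (congrFun h' 1) 0
  simp [Matrix.mul_apply, Fin.sum_univ_two] at e01 e10
  constructor
  · have : (g : Matrix (Fin 2) (Fin 2) F) 0 1 * ((a : F)⁻¹ - (a : F)) = 0 := by
      linear_combination e01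
    exact (mul_eq_zero.mp this).resolve_right hd
  · have : (g : Matrix (Fin 2) (Fin 2) F) 1 0 * ((a : F)⁻¹ - (a : F)) = 0 := by
      linear_combination -e10
    exact (mul_eq_zero.mp this).resolve_right hd

theorem SL2_eq_diagSL_of_diag (g : Matrix.SpecialLinearGroup (Fin 2) F)
    (h01 : (g : Matrix (Fin 2) (Fin 2) F) 0 1 = 0) (h10 : (g : Matrix (Fin 2) (Fin 2) F) 1 0 = 0) :
    ∃ b : Fˣ, g = diagSL b := by
  have hdet := SL2_det_eq g
  rw [h01, zero_mul, sub_zero] at hdet
  have h00 : (g : Matrix (Fin 2) (Fin 2) F) 0 0 ≠ 0 := left_ne_zero_of_mul_eq_one hdet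
  refine ⟨Units.mk0 _ h00, ?_⟩
  apply SL2_ext <;> simp [diagSL_val, h01, h10]
  exact eq_inv_of_mul_eq_one_right hdet

theorem diagSL_diag (b : Fˣ) :
    ((diagSL b : Matrix.SpecialLinearGroup (Fin 2) F) : Matrix (Fin 2) (Fin 2) F) 0 1 = 0 ∧
      ((diagSL b : Matrix.SpecialLinearGroup (Fin 2) F) : Matrix (Fin 2) (Fin 2) F) 1 0 = 0 := by
  simp [diagSL_val]

theorem mem_zpowers_diagSL_iff (a : Fˣ) (ha : ∀ x : Fˣ, x ∈ Subgroup.zpowers a)
    (g : Matrix.SpecialLinearGroup (Fin 2) F) :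
    g ∈ Subgroup.zpowers (diagSL a) ↔
      ((g : Matrix (Fin 2) (Fin 2) F) 0 1 = 0 ∧ (g : Matrix (Fin 2) (Fin 2) F) 1 0 = 0) := by
  constructor
  · intro hg
    obtain ⟨k, rfl⟩ := Subgroup.mem_zpowers_iff.mp hg
    rw [diagSL_zpow]
    exact diagSL_diag _
  · rintro ⟨h01, h10⟩
    obtain ⟨b, rfl⟩ := SL2_eq_diagSL_of_diag g h01 h10
    obtain ⟨k, rfl⟩ := Subgroup.mem_zpowers_iff.mp (ha b)
    rw [← diagSL_zpow]
    exact Subgroup.zpow_mem_zpowers _ k

theorem split_invTorus (h2 : (2 : F) ≠ 0) (a : Fˣ) (ha : ∀ x : Fˣ, x ∈ Subgroup.zpowers a)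
    (ha2 : (a : F) ^ 2 ≠ 1) : InvTorus (diagSL a) (weylSL : Matrix.SpecialLinearGroup (Fin 2) F) := by
  have ha0 : (a : F) ≠ 0 := a.ne_zero
  have hne : diagSL a ≠ (diagSL a)⁻¹ := by
    rw [diagSL_inv]
    intro h
    have h' := diagSL_injective h
    apply ha2
    have h'' : (a : F) = (a : F)⁻¹ := by
      conv_lhs => rw [h']
      simp
    field_simp at h''
    linear_combination h''
  have hns := SL2_not_scalar_of_ne_inv _ hne
  have htr : ((diagSL a : Matrix.SpecialLinearGroup (Fin 2) F) : Matrix (Fin 2) (Fin 2) F).trace ^ 2 ≠ 4 := by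
    rw [diagSL_trace]
    intro h
    apply ha2
    have h' : ((a : F) ^ 2 - 1) ^ 2 = 0 := by
      field_simp at h
      linear_combination h
    have := pow_eq_zero_iff (two_ne_zero) |>.mp h'
    linear_combination this
  refine ⟨?_, weylSL_conj_diagSL a, hne, ?_⟩
  · intro g hg
    rw [mem_zpowers_diagSL_iff a ha]
    exact SL2_diag_of_comm_diagSL a ha2 g hg
  · intro g hg
    apply SL2_eq_or_eq_inv_of_comm_trace h2 _ _ hns htr
    · exact zpowers_comm hg (Subgroup.mem_zpowers _)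
    · exact (SL2_trace_eq_of_isConj (isConj_iff.mpr ⟨g, rfl⟩)).symm

/-- In `SL₂` (odd characteristic), the elements of the normaliser of an inverted torus outside the torus
have square `-1`. -/
theorem SL2_sq_eq_neg_one_of_invTorus (h2 : (2 : F) ≠ 0) {s w : Matrix.SpecialLinearGroup (Fin 2) F}
    (h : InvTorus s w) (g : Matrix.SpecialLinearGroup (Fin 2) F)
    (hg : g ∈ Subgroup.normalizer (Subgroup.zpowers s : Set (Matrix.SpecialLinearGroup (Fin 2) F)))
    (hg' : g ∉ Subgroup.zpowers s) :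
    ((g * g : Matrix.SpecialLinearGroup (Fin 2) F) : Matrix (Fin 2) (Fin 2) F) = -1 := by
  have h1 := h.conj_of_not_mem hg hg' (Subgroup.mem_zpowers s)
  have h3 : (g * g) * s = s * (g * g) := by
    have : g * s = s⁻¹ * g := by rw [← h1]; group
    calc (g * g) * s = g * (g * s) := by group
      _ = g * (s⁻¹ * g) := by rw [this]
      _ = (g * s * g⁻¹)⁻¹ * (g * g) := by group
      _ = s * (g * g) := by rw [h1, inv_inv]
  have h4 : g * g ∈ Subgroup.zpowers s := h.cent _ h3
  have h5 := h.conj_of_not_mem hg hg' h4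
  have h6 : (g * g) * (g * g) = 1 := by
    have : g * (g * g) * g⁻¹ = g * g := by group
    rw [this] at h5
    calc (g * g) * (g * g) = (g * g) * (g * g)⁻¹ := by rw [← h5]
      _ = 1 := mul_inv_cancel _
  obtain ⟨c, hc⟩ := SL2_scalar_of_mul_self_eq_one h2 _ h6
  have hdet := SL2_det_eq (g * g)
  rw [hc] at hdet
  simp at hdet
  have hcc : (c - 1) * (c + 1) = 0 := by linear_combination hdet
  rcases mul_eq_zero.mp hcc with h' | h'
  · exfalso
    have hc1 : c = 1 := by linear_combination h'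
    have hgg : g * g = 1 := by
      apply Subtype.ext
      rw [hc, hc1, one_smul, Matrix.SpecialLinearGroup.coe_one]
    obtain ⟨c', hc'⟩ := SL2_scalar_of_mul_self_eq_one h2 _ hgg
    apply hg'
    apply h.cent
    apply Subtype.ext
    rw [Matrix.SpecialLinearGroup.coe_mul, Matrix.SpecialLinearGroup.coe_mul, hc']
    simp
  · have hc1 : c = -1 := by linear_combination h'
    rw [hc, hc1, neg_smul, one_smul]

end split

section splitfin

variable {F : Type*} [Field F] [Fintype F]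

theorem two_ne_zero_of_card_odd (hodd : Fintype.card F % 2 = 1) : (2 : F) ≠ 0 := by
  apply Ring.two_ne_zero
  intro h
  have := FiniteField.even_card_iff_char_two.mp h
  omega

/-- The split torus of `SL₂(q)`, `q` odd, and its normaliser. -/
theorem SL2_split_normalizer (hodd : Fintype.card F % 2 = 1)
    (d : Matrix.SpecialLinearGroup (Fin 2) F) (hd01 : (d : Matrix (Fin 2) (Fin 2) F) 0 1 = 0)
    (hd10 : (d : Matrix (Fin 2) (Fin 2) F) 1 0 = 0) (hda : (d : Matrix (Fin 2) (Fin 2) F) 0 0 ^ 2 ≠ 1) :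
    (∀ g : Matrix.SpecialLinearGroup (Fin 2) F,
      g ∈ Subgroup.centralizer ({d} : Set (Matrix.SpecialLinearGroup (Fin 2) F)) ↔
        ((g : Matrix (Fin 2) (Fin 2) F) 0 1 = 0 ∧ (g : Matrix (Fin 2) (Fin 2) F) 1 0 = 0)) ∧
    Nat.card (Subgroup.normalizer ((Subgroup.centralizer ({d} : Set (Matrix.SpecialLinearGroup (Fin 2) F))) :
      Set (Matrix.SpecialLinearGroup (Fin 2) F))) = 2 * (Fintype.card F - 1) ∧
    Nat.card (ConjClasses (Subgroup.normalizer ((Subgroup.centralizer ({d} : Set (Matrix.SpecialLinearGroup (Fin 2) F))) :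
      Set (Matrix.SpecialLinearGroup (Fin 2) F)))) = (Fintype.card F + 5) / 2 ∧
    ∀ g : Matrix.SpecialLinearGroup (Fin 2) F,
      g ∈ Subgroup.normalizer ((Subgroup.centralizer ({d} : Set (Matrix.SpecialLinearGroup (Fin 2) F))) :
        Set (Matrix.SpecialLinearGroup (Fin 2) F)) →
      g ∉ Subgroup.centralizer ({d} : Set (Matrix.SpecialLinearGroup (Fin 2) F)) →
      ((g * g : Matrix.SpecialLinearGroup (Fin 2) F) : Matrix (Fin 2) (Fin 2) F) = -1 := by
  classical
  have h2 : (2 : F) ≠ 0 := two_ne_zero_of_card_odd hodd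
  have hq : 2 ≤ Fintype.card F := Fintype.one_lt_card
  obtain ⟨b, rfl⟩ := SL2_eq_diagSL_of_diag d hd01 hd10
  have hb2 : (b : F) ^ 2 ≠ 1 := by simpa [diagSL_val] using hda
  obtain ⟨a, ha⟩ := IsCyclic.exists_generator (α := Fˣ)
  have ha2 : (a : F) ^ 2 ≠ 1 := by
    intro h
    apply hb2
    obtain ⟨k, rfl⟩ := Subgroup.mem_zpowers_iff.mp (ha b)
    have h' : a ^ 2 = 1 := Units.ext (by simpa using h)
    have h'' : (a ^ k) ^ 2 = 1 := by
      rw [← zpow_natCast, ← _root_.zpow_mul, mul_comm, _root_.zpow_mul, zpow_natCast, h', _root_.one_zpow]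
    have := congrArg (fun x : Fˣ => (x : F)) h''
    simpa using this
  have hcent : Subgroup.centralizer ({diagSL b} : Set (Matrix.SpecialLinearGroup (Fin 2) F)) =
      Subgroup.zpowers (diagSL a) := by
    ext g
    rw [Subgroup.mem_centralizer_singleton_iff, mem_zpowers_diagSL_iff a ha]
    constructor
    · exact SL2_diag_of_comm_diagSL b hb2 g
    · rintro ⟨h01, h10⟩
      obtain ⟨c, rfl⟩ := SL2_eq_diagSL_of_diag g h01 h10
      rw [← diagSL_mul, ← diagSL_mul, mul_comm]
  have hT := split_invTorus h2 a ha ha2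
  have hord : orderOf (diagSL a) = Fintype.card F - 1 := by
    rw [orderOf_diagSL, orderOf_eq_card_of_forall_mem_zpowers ha, Nat.card_eq_fintype_card, Fintype.card_units]
  refine ⟨?_, ?_, ?_, ?_⟩
  · intro g
    rw [hcent, mem_zpowers_diagSL_iff a ha]
  · rw [hcent, hT.card_normalizer, Nat.card_zpowers, hord]
  · rw [hcent, hT.card_conjClasses_normalizer ((Fintype.card F - 1) / 2) (by omega) (by rw [hord]; omega)]
    omega
  · intro g hg hg'
    rw [hcent] at hg hg'
    exact SL2_sq_eq_neg_one_of_invTorus h2 hT g hg hg'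

end splitfin

section nonsplit

variable {F : Type*} [Field F] [Fintype F]

omit [Fintype F] in
theorem qaMat_add_smul {a b : F} (x y : F) (z : QuadraticAlgebra F a b) :
    qaMat (algebraMap F (QuadraticAlgebra F a b) x + y • z) =
      x • (1 : Matrix (Fin 2) (Fin 2) F) + y • qaMat z := by
  ext i j
  fin_cases i <;> fin_cases j <;> simp [qaMat] <;> ring

/-- A generator of a non-split torus: an element of order `q + 1` whose centraliser is the cyclic group it
generates. -/
theorem exists_nonsplit_generator :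
    ∃ s : Matrix.SpecialLinearGroup (Fin 2) F, orderOf s = Fintype.card F + 1 ∧
      ∀ g : Matrix.SpecialLinearGroup (Fin 2) F, g * s = s * g → g ∈ Subgroup.zpowers s := by
  obtain ⟨a, b, hab⟩ := exists_quadratic_no_root (F := F)
  have : Fact (∀ r : F, r ^ 2 ≠ a + b * r) := ⟨hab⟩
  have : Finite (QuadraticAlgebra F a b) := qa_finite
  have hq : 2 ≤ Fintype.card F := Fintype.one_lt_card
  obtain ⟨ζ, hζ⟩ := IsCyclic.exists_generator (α := (QuadraticAlgebra F a b)ˣ)
  have hord : orderOf ζ = Fintype.card F ^ 2 - 1 := by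
    rw [orderOf_eq_card_of_forall_mem_zpowers hζ, Nat.card_units, qa_card]
  have hfac : Fintype.card F ^ 2 - 1 = (Fintype.card F - 1) * (Fintype.card F + 1) := by
    obtain ⟨k, hk⟩ : ∃ k, Fintype.card F = k + 1 := ⟨Fintype.card F - 1, by omega⟩
    rw [hk]
    simp only [Nat.add_sub_cancel]
    have : (k + 1) ^ 2 = k * (k + 1 + 1) + 1 := by ring
    omega
  have hη : orderOf (ζ ^ (Fintype.card F - 1)) = Fintype.card F + 1 := by
    rw [orderOf_pow, hord, hfac, Nat.gcd_mul_right_left, Nat.mul_div_cancel_left _ (by omega)]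
  have hnorm : QuadraticAlgebra.norm (((ζ ^ (Fintype.card F - 1) : (QuadraticAlgebra F a b)ˣ) : QuadraticAlgebra F a b)) = 1 := by
    rw [Units.val_pow_eq_pow_val, map_pow]
    apply FiniteField.pow_card_sub_one_eq_one
    intro h0
    exact ζ.ne_zero (norm_eq_zero_iff_eq_zero.mp h0)
  have hs : orderOf (qaSL _ hnorm) = Fintype.card F + 1 := by
    rw [qaSL_orderOf, orderOf_units, hη]
  refine ⟨qaSL _ hnorm, hs, ?_⟩
  intro g hg
  have hns : ¬ ∃ c : F, ((qaSL _ hnorm : Matrix.SpecialLinearGroup (Fin 2) F) : Matrix (Fin 2) (Fin 2) F) =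
      c • (1 : Matrix (Fin 2) (Fin 2) F) := by
    intro hsc
    have h1 := SL2_mul_self_eq_one_of_scalar _ hsc
    have h2 : orderOf (qaSL _ hnorm) ∣ 2 := orderOf_dvd_of_pow_eq_one (by rw [pow_two]; exact h1)
    rw [hs] at h2
    have := Nat.le_of_dvd (by norm_num) h2
    omega
  have hg' : (g : Matrix (Fin 2) (Fin 2) F) * (qaSL _ hnorm : Matrix.SpecialLinearGroup (Fin 2) F) =
      (qaSL _ hnorm : Matrix.SpecialLinearGroup (Fin 2) F) * (g : Matrix (Fin 2) (Fin 2) F) := by
    rw [← Matrix.SpecialLinearGroup.coe_mul, ← Matrix.SpecialLinearGroup.coe_mul, hg]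
  obtain ⟨x, y, hxy⟩ := (comm_iff_exists_smul _ _ hns).mp hg'
  rw [qaSL_val, ← qaMat_add_smul] at hxy
  set z : QuadraticAlgebra F a b := algebraMap F (QuadraticAlgebra F a b) x +
    y • ((ζ ^ (Fintype.card F - 1) : (QuadraticAlgebra F a b)ˣ) : QuadraticAlgebra F a b) with hz
  have hzn : QuadraticAlgebra.norm z = 1 := by
    rw [← qaMat_det, ← hxy]
    exact g.det_coe
  have hz0 : z ≠ 0 := by
    intro h0
    rw [h0, QuadraticAlgebra.norm_zero] at hzn
    exact zero_ne_one hzn
  have hzpow : (Units.mk0 z hz0) ^ (Fintype.card F + 1) = 1 := by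
    apply Units.ext
    rw [Units.val_pow_eq_pow_val, Units.val_mk0, qa_pow_card_add_one, hzn, map_one, Units.val_one]
  obtain ⟨j, hj⟩ := (mem_powers_iff_mem_zpowers.mpr (hζ (Units.mk0 z hz0)))
  simp only at hj
  rw [← hj, ← pow_mul] at hzpow
  have hdvd := orderOf_dvd_of_pow_eq_one hzpow
  rw [hord, hfac] at hdvd
  have hdvd' : Fintype.card F - 1 ∣ j := Nat.dvd_of_mul_dvd_mul_right (by omega) hdvd
  obtain ⟨j', rfl⟩ := hdvd'
  have hgz : g = qaSL z hzn := Subtype.ext (by rw [qaSL_val, hxy])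
  have hzz : z = (((ζ ^ (Fintype.card F - 1) : (QuadraticAlgebra F a b)ˣ) : QuadraticAlgebra F a b)) ^ j' := by
    have := congrArg (fun u : (QuadraticAlgebra F a b)ˣ => (u : QuadraticAlgebra F a b)) hj
    simp only [Units.val_mk0] at this
    rw [← this, pow_mul, Units.val_pow_eq_pow_val, Units.val_pow_eq_pow_val]
  have hfin : g = qaSL _ hnorm ^ j' := by
    rw [hgz, qaSL_pow]
    apply Subtype.ext
    rw [qaSL_val, qaSL_val, hzz]
  rw [hfin]
  exact Subgroup.pow_mem _ (Subgroup.mem_zpowers _) j'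

theorem nonsplit_elliptic (p : ℕ) [Fact p.Prime] [CharP F p] (s : Matrix.SpecialLinearGroup (Fin 2) F)
    (hs : orderOf s = Fintype.card F + 1) :
    ∀ r : F, r ^ 2 ≠ -1 + (s : Matrix (Fin 2) (Fin 2) F).trace * r := by
  classical
  have hp : p.Prime := Fact.out
  have hq : 2 ≤ Fintype.card F := Fintype.one_lt_card
  rcases SL2_trichotomy s with h | ⟨a, ha, htr⟩ | h
  · exfalso
    have h1 := SL2_mul_self_eq_one_of_scalar (s ^ p) (SL2_pow_char_scalar p s h)
    rw [← pow_add, ← two_mul] at h1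
    have h2 := orderOf_dvd_of_pow_eq_one h1
    rw [hs] at h2
    obtain ⟨n, -, hn⟩ := FiniteField.card F p
    have hpq : p ∣ Fintype.card F := by
      rw [hn]
      exact dvd_pow_self p n.ne_zero
    have hcop : Nat.Coprime (Fintype.card F + 1) p := by
      rw [Nat.coprime_comm, hp.coprime_iff_not_dvd]
      intro h3
      have h4 : p ∣ 1 := by
        have := Nat.dvd_sub h3 hpq
        have e : Fintype.card F + 1 - Fintype.card F = 1 := by omega
        rwa [e] at this
      exact hp.one_lt.ne' (Nat.dvd_one.mp h4)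
    have h5 := hcop.dvd_of_dvd_mul_right h2
    have := Nat.le_of_dvd (by norm_num) h5
    omega
  · exfalso
    obtain ⟨c, hc⟩ := isConj_iff.mp (SL2_isConj_diagSL s a ha htr)
    have h1 : s ^ (Fintype.card F - 1) = 1 := by
      rw [← hc, conj_pow, diagSL_pow]
      have : a ^ (Fintype.card F - 1) = 1 := by
        rw [← Fintype.card_units]
        exact pow_card_eq_one
      rw [this, diagSL_one, mul_one, mul_inv_cancel]
    have h2 := orderOf_dvd_of_pow_eq_one h1
    rw [hs] at h2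
    have := Nat.le_of_dvd (by omega) h2
    omega
  · exact h

theorem nonsplit_invTorus (p : ℕ) [Fact p.Prime] [CharP F p] (h2 : (2 : F) ≠ 0)
    (s : Matrix.SpecialLinearGroup (Fin 2) F) (hs : orderOf s = Fintype.card F + 1)
    (hcent : ∀ g : Matrix.SpecialLinearGroup (Fin 2) F, g * s = s * g → g ∈ Subgroup.zpowers s) :
    ∃ w : Matrix.SpecialLinearGroup (Fin 2) F, InvTorus s w := by
  have hq : 2 ≤ Fintype.card F := Fintype.one_lt_card
  have hell := nonsplit_elliptic p s hs
  have hne : s ≠ s⁻¹ := by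
    intro h
    have h1 : s * s = 1 := mul_eq_one_iff_eq_inv.mpr h
    have h3 : orderOf s ∣ 2 := orderOf_dvd_of_pow_eq_one (by rw [pow_two]; exact h1)
    rw [hs] at h3
    have := Nat.le_of_dvd (by norm_num) h3
    omega
  have hns := SL2_not_scalar_of_ne_inv s hne
  have htr4 : (s : Matrix (Fin 2) (Fin 2) F).trace ^ 2 ≠ 4 := by
    intro h4
    apply hell ((s : Matrix (Fin 2) (Fin 2) F).trace / 2)
    field_simp
    linear_combination -h4
  have c1 := SL2_isConj_compSL_of_elliptic s hell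
  have hell' : ∀ r : F, r ^ 2 ≠ -1 + ((s⁻¹ : Matrix.SpecialLinearGroup (Fin 2) F) : Matrix (Fin 2) (Fin 2) F).trace * r := by
    rw [SL2_trace_inv]
    exact hell
  have c2 := SL2_isConj_compSL_of_elliptic s⁻¹ hell'
  rw [SL2_trace_inv] at c2
  obtain ⟨w, hw⟩ := isConj_iff.mp (c1.symm.trans c2)
  refine ⟨w, hcent, hw, hne, ?_⟩
  intro g hg
  apply SL2_eq_or_eq_inv_of_comm_trace h2 _ _ hns htr4
  · exact zpowers_comm hg (Subgroup.mem_zpowers _)
  · exact (SL2_trace_eq_of_isConj (isConj_iff.mpr ⟨g, rfl⟩)).symm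

end nonsplit

section nonsplitfin

variable {F : Type*} [Field F] [Fintype F]

omit [Fintype F] in
theorem no_root_of_no_eigenvector (M : Matrix (Fin 2) (Fin 2) F) (hdet : M.det = 1)
    (hM : ∀ (c : F) (v : Fin 2 → F), v ≠ 0 → M.mulVec v ≠ c • v) :
    ∀ r : F, r ^ 2 ≠ -1 + M.trace * r := by
  intro r hr
  have := aniso_of_no_eigenvector M hM (-r) 1 (by rw [hdet]; linear_combination hr)
  exact one_ne_zero this.2

omit [Fintype F] in
theorem not_isSquare_disc_of_no_root (h2 : (2 : F) ≠ 0) (t : F) (ht : ∀ r : F, r ^ 2 ≠ -1 + t * r) :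
    ¬ IsSquare (t ^ 2 - 4) := by
  rintro ⟨c, hc⟩
  apply ht ((t + c) / 2)
  field_simp
  linear_combination -hc

/-- The non-split torus of `SL₂(q)`, `q` odd, and its normaliser. -/
theorem SL2_nonsplit_torus (hodd : Fintype.card F % 2 = 1) :
    ∃ T' : Subgroup (Matrix.SpecialLinearGroup (Fin 2) F), IsCyclic T' ∧ Nat.card T' = Fintype.card F + 1 ∧
      Subgroup.centralizer ((T' : Set (Matrix.SpecialLinearGroup (Fin 2) F))) = T' ∧
      (∀ g : Matrix.SpecialLinearGroup (Fin 2) F, g ∈ T' → (g : Matrix (Fin 2) (Fin 2) F) ≠ 1 →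
        (g : Matrix (Fin 2) (Fin 2) F) ≠ -1 →
        Subgroup.centralizer ({g} : Set (Matrix.SpecialLinearGroup (Fin 2) F)) = T') ∧
      (∀ g : Matrix.SpecialLinearGroup (Fin 2) F,
        (∀ (c : F) (v : Fin 2 → F), v ≠ 0 → (g : Matrix (Fin 2) (Fin 2) F).mulVec v ≠ c • v) →
        ∃ h : Matrix.SpecialLinearGroup (Fin 2) F, h * g * h⁻¹ ∈ T') ∧
      Nat.card (Subgroup.normalizer (T' : Set (Matrix.SpecialLinearGroup (Fin 2) F))) = 2 * (Fintype.card F + 1) ∧
      Nat.card (ConjClasses (Subgroup.normalizer (T' : Set (Matrix.SpecialLinearGroup (Fin 2) F)))) =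
        (Fintype.card F + 7) / 2 ∧
      ∀ g : Matrix.SpecialLinearGroup (Fin 2) F,
        g ∈ Subgroup.normalizer (T' : Set (Matrix.SpecialLinearGroup (Fin 2) F)) → g ∉ T' →
        ((g * g : Matrix.SpecialLinearGroup (Fin 2) F) : Matrix (Fin 2) (Fin 2) F) = -1 := by
  classical
  have h2 : (2 : F) ≠ 0 := two_ne_zero_of_card_odd hodd
  have h4 : (4 : F) ≠ 0 := by
    have : (4 : F) = 2 * 2 := by norm_num
    rw [this]
    exact mul_ne_zero h2 h2
  have hq : 2 ≤ Fintype.card F := Fintype.one_lt_card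
  obtain ⟨p, hchar, n, hp, hn⟩ := FiniteField.card' F
  have := hchar
  have : Fact p.Prime := ⟨hp⟩
  obtain ⟨s, hs, hcent⟩ := exists_nonsplit_generator (F := F)
  obtain ⟨w, hT⟩ := nonsplit_invTorus p h2 s hs hcent
  have hell := nonsplit_elliptic p s hs
  have hns := SL2_not_scalar_of_ne_inv s hT.ne
  refine ⟨Subgroup.zpowers s, inferInstance, ?_, ?_, ?_, ?_, ?_, ?_, ?_⟩
  · rw [Nat.card_zpowers, hs]
  · ext g
    rw [Subgroup.mem_centralizer_iff]
    constructor
    · intro hg
      exact hcent g (hg s (Subgroup.mem_zpowers s)).symm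
    · intro hg x hx
      exact zpowers_comm hx hg
  · intro g hg hg1 hg2
    have hgns : ¬ ∃ c : F, (g : Matrix (Fin 2) (Fin 2) F) = c • (1 : Matrix (Fin 2) (Fin 2) F) := by
      rintro ⟨c, hc⟩
      have hdet := SL2_det_eq g
      rw [hc] at hdet
      simp at hdet
      have hcc : (c - 1) * (c + 1) = 0 := by linear_combination hdet
      rcases mul_eq_zero.mp hcc with h' | h'
      · apply hg1
        rw [hc, show c = 1 by linear_combination h', one_smul]
      · apply hg2
        rw [hc, show c = -1 by linear_combination h', neg_smul, one_smul]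
    have hgs : (g : Matrix (Fin 2) (Fin 2) F) * (s : Matrix (Fin 2) (Fin 2) F) =
        (s : Matrix (Fin 2) (Fin 2) F) * (g : Matrix (Fin 2) (Fin 2) F) := by
      rw [← Matrix.SpecialLinearGroup.coe_mul, ← Matrix.SpecialLinearGroup.coe_mul,
        zpowers_comm hg (Subgroup.mem_zpowers s)]
    obtain ⟨x₀, y₀, hg0⟩ := (comm_iff_exists_smul _ _ hns).mp hgs
    ext h
    rw [Subgroup.mem_centralizer_singleton_iff]
    constructor
    · intro hh
      apply hcent
      have hh' : (h : Matrix (Fin 2) (Fin 2) F) * (g : Matrix (Fin 2) (Fin 2) F) =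
          (g : Matrix (Fin 2) (Fin 2) F) * (h : Matrix (Fin 2) (Fin 2) F) := by
        rw [← Matrix.SpecialLinearGroup.coe_mul, ← Matrix.SpecialLinearGroup.coe_mul, hh]
      obtain ⟨x, y, hxy⟩ := (comm_iff_exists_smul _ _ hgns).mp hh'
      apply Subtype.ext
      rw [Matrix.SpecialLinearGroup.coe_mul, Matrix.SpecialLinearGroup.coe_mul, hxy, hg0]
      simp only [Matrix.add_mul, Matrix.mul_add, Matrix.smul_mul, Matrix.mul_smul, Matrix.one_mul, Matrix.mul_one,
        smul_add]
    · intro hh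
      exact zpowers_comm hh hg
  · intro g hg
    have hgell := no_root_of_no_eigenvector _ g.det_coe hg
    have hDg := not_isSquare_disc_of_no_root h2 _ hgell
    have hDs := not_isSquare_disc_of_no_root h2 _ hell
    set t := (g : Matrix (Fin 2) (Fin 2) F).trace with ht
    set ts := (s : Matrix (Fin 2) (Fin 2) F).trace with hts
    have hDs0 : ts ^ 2 - 4 ≠ 0 := by
      intro h0
      apply hDs
      rw [h0]
      exact ⟨0, by simp⟩
    have ht4 : t ^ 2 ≠ 4 := by
      intro h0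
      apply hDg
      rw [h0, sub_self]
      exact ⟨0, by simp⟩
    obtain ⟨r, hr⟩ := isSquare_mul_of_not_isSquare hDg hDs
    set c := r / (ts ^ 2 - 4) with hc
    have hcc : c ^ 2 * (ts ^ 2 - 4) = t ^ 2 - 4 := by
      rw [hc]
      field_simp
      linear_combination -hr
    have hzdet : (((t - c * ts) / 2) • (1 : Matrix (Fin 2) (Fin 2) F) + c • (s : Matrix (Fin 2) (Fin 2) F)).det = 1 := by
      rw [det_smul_one_add_smul, s.det_coe, mul_one, ← hts]
      field_simp
      linear_combination -hcc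
    have hztr : (((t - c * ts) / 2) • (1 : Matrix (Fin 2) (Fin 2) F) + c • (s : Matrix (Fin 2) (Fin 2) F)).trace = t := by
      rw [Matrix.trace_add, Matrix.trace_smul, Matrix.trace_smul, Matrix.trace_one, ← hts]
      simp only [Fintype.card_fin, smul_eq_mul, Nat.cast_ofNat]
      field_simp
      ring
    have hzmem : sl2Of _ hzdet ∈ Subgroup.zpowers s := by
      apply hcent
      apply Subtype.ext
      rw [Matrix.SpecialLinearGroup.coe_mul, Matrix.SpecialLinearGroup.coe_mul, sl2Of_val]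
      simp only [Matrix.add_mul, Matrix.mul_add, Matrix.smul_mul, Matrix.mul_smul, Matrix.one_mul, Matrix.mul_one]
    have c1 := SL2_isConj_compSL_odd hodd g ht4
    have c2 := SL2_isConj_compSL_odd hodd (sl2Of _ hzdet) (by rw [sl2Of_val, hztr]; exact ht4)
    rw [sl2Of_val, hztr] at c2
    obtain ⟨h, hh⟩ := isConj_iff.mp (c1.symm.trans c2)
    exact ⟨h, by rw [hh]; exact hzmem⟩
  · rw [hT.card_normalizer, Nat.card_zpowers, hs]
  · rw [hT.card_conjClasses_normalizer ((Fintype.card F + 1) / 2) (by omega) (by rw [hs]; omega)]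
    omega
  · intro g hg hg'
    exact SL2_sq_eq_neg_one_of_invTorus h2 hT g hg hg'

end nonsplitfin

section sylow

variable {F : Type*} [Field F] [Fintype F]

theorem sq_sub_one_factor (q : ℕ) (hq : 2 ≤ q) : q ^ 2 - 1 = (q - 1) * (q + 1) := by
  obtain ⟨k, hk⟩ : ∃ k, q = k + 1 := ⟨q - 1, by omega⟩
  rw [hk]
  simp only [Nat.add_sub_cancel]
  have : (k + 1) ^ 2 = k * (k + 1 + 1) + 1 := by ring
  omega

theorem factorization_card_SL2_of_dvd_sub (q ℓ : ℕ) (hq : 2 ≤ q) (hℓ : ℓ.Prime) (hℓ2 : ℓ ≠ 2)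
    (h : ℓ ∣ q - 1) : (q * (q ^ 2 - 1)).factorization ℓ = (q - 1).factorization ℓ := by
  have h1 : ¬ ℓ ∣ q := by
    intro h'
    have h2 : ℓ ∣ 1 := by
      have := Nat.dvd_sub h' h
      have e : q - (q - 1) = 1 := by omega
      rwa [e] at this
    exact hℓ.one_lt.ne' (Nat.dvd_one.mp h2)
  have h3 : ¬ ℓ ∣ q + 1 := by
    intro h'
    have h2 : ℓ ∣ 2 := by
      have := Nat.dvd_sub h' h
      have e : q + 1 - (q - 1) = 2 := by omega
      rwa [e] at this
    exact hℓ2 ((Nat.prime_dvd_prime_iff_eq hℓ Nat.prime_two).mp h2)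
  rw [sq_sub_one_factor q hq, Nat.factorization_mul (by omega) (Nat.mul_ne_zero (by omega) (by omega)),
    Nat.factorization_mul (by omega) (by omega)]
  simp only [Finsupp.coe_add, Pi.add_apply]
  rw [Nat.factorization_eq_zero_of_not_dvd h1, Nat.factorization_eq_zero_of_not_dvd h3]
  omega

theorem factorization_card_SL2_of_dvd_add (q ℓ : ℕ) (hq : 2 ≤ q) (hℓ : ℓ.Prime) (hℓ2 : ℓ ≠ 2)
    (h : ℓ ∣ q + 1) : (q * (q ^ 2 - 1)).factorization ℓ = (q + 1).factorization ℓ := by
  have h1 : ¬ ℓ ∣ q := by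
    intro h'
    have h2 : ℓ ∣ 1 := by
      have := Nat.dvd_sub h h'
      have e : q + 1 - q = 1 := by omega
      rwa [e] at this
    exact hℓ.one_lt.ne' (Nat.dvd_one.mp h2)
  have h3 : ¬ ℓ ∣ q - 1 := by
    intro h'
    have h2 : ℓ ∣ 2 := by
      have := Nat.dvd_sub h h'
      have e : q + 1 - (q - 1) = 2 := by omega
      rwa [e] at this
    exact hℓ2 ((Nat.prime_dvd_prime_iff_eq hℓ Nat.prime_two).mp h2)
  rw [sq_sub_one_factor q hq, Nat.factorization_mul (by omega) (Nat.mul_ne_zero (by omega) (by omega)),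
    Nat.factorization_mul (by omega) (by omega)]
  simp only [Finsupp.coe_add, Pi.add_apply]
  rw [Nat.factorization_eq_zero_of_not_dvd h1, Nat.factorization_eq_zero_of_not_dvd h3]
  omega

omit [Fintype F] in
/-- Regularity in a self-centralising torus: a non-scalar element of `⟨s⟩` has centraliser `⟨s⟩`. -/
theorem SL2_torus_reg (s : Matrix.SpecialLinearGroup (Fin 2) F)
    (hns : ¬ ∃ c : F, (s : Matrix (Fin 2) (Fin 2) F) = c • (1 : Matrix (Fin 2) (Fin 2) F))
    (hcent : ∀ g : Matrix.SpecialLinearGroup (Fin 2) F, g * s = s * g → g ∈ Subgroup.zpowers s)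
    (x : Matrix.SpecialLinearGroup (Fin 2) F) (hx : x ∈ Subgroup.zpowers s) (hxne : x ≠ x⁻¹)
    (g : Matrix.SpecialLinearGroup (Fin 2) F) (hg : g * x = x * g) : g ∈ Subgroup.zpowers s := by
  have hxns := SL2_not_scalar_of_ne_inv x hxne
  have hxs : (x : Matrix (Fin 2) (Fin 2) F) * (s : Matrix (Fin 2) (Fin 2) F) =
      (s : Matrix (Fin 2) (Fin 2) F) * (x : Matrix (Fin 2) (Fin 2) F) := by
    rw [← Matrix.SpecialLinearGroup.coe_mul, ← Matrix.SpecialLinearGroup.coe_mul,
      zpowers_comm hx (Subgroup.mem_zpowers s)]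
  obtain ⟨x₀, y₀, hx0⟩ := (comm_iff_exists_smul _ _ hns).mp hxs
  apply hcent
  have hg' : (g : Matrix (Fin 2) (Fin 2) F) * (x : Matrix (Fin 2) (Fin 2) F) =
      (x : Matrix (Fin 2) (Fin 2) F) * (g : Matrix (Fin 2) (Fin 2) F) := by
    rw [← Matrix.SpecialLinearGroup.coe_mul, ← Matrix.SpecialLinearGroup.coe_mul, hg]
  obtain ⟨u, v, huv⟩ := (comm_iff_exists_smul _ _ hxns).mp hg'
  apply Subtype.ext
  rw [Matrix.SpecialLinearGroup.coe_mul, Matrix.SpecialLinearGroup.coe_mul, huv, hx0]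
  simp only [Matrix.add_mul, Matrix.mul_add, Matrix.smul_mul, Matrix.mul_smul, Matrix.one_mul, Matrix.mul_one,
    smul_add]

/-- Centralisers and normalisers of Sylow `ℓ`-subgroups of `SL₂(q)`, `q` and `ℓ` odd. -/
theorem SL2_sylow_odd (hodd : Fintype.card F % 2 = 1) (ℓ : ℕ) [Fact ℓ.Prime] (hℓ : ℓ ≠ 2)
    (P : Sylow ℓ (Matrix.SpecialLinearGroup (Fin 2) F)) :
    (ℓ ∣ Fintype.card F - 1 →
      Nat.card (Subgroup.centralizer ((P : Subgroup (Matrix.SpecialLinearGroup (Fin 2) F)) : Set (Matrix.SpecialLinearGroup (Fin 2) F))) = Fintype.card F - 1 ∧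
      IsCyclic (Subgroup.centralizer ((P : Subgroup (Matrix.SpecialLinearGroup (Fin 2) F)) : Set (Matrix.SpecialLinearGroup (Fin 2) F))) ∧
      Nat.card (Subgroup.normalizer ((P : Subgroup (Matrix.SpecialLinearGroup (Fin 2) F)) : Set (Matrix.SpecialLinearGroup (Fin 2) F))) = 2 * (Fintype.card F - 1)) ∧
    (ℓ ∣ Fintype.card F + 1 →
      Nat.card (Subgroup.centralizer ((P : Subgroup (Matrix.SpecialLinearGroup (Fin 2) F)) : Set (Matrix.SpecialLinearGroup (Fin 2) F))) = Fintype.card F + 1 ∧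
      IsCyclic (Subgroup.centralizer ((P : Subgroup (Matrix.SpecialLinearGroup (Fin 2) F)) : Set (Matrix.SpecialLinearGroup (Fin 2) F))) ∧
      Nat.card (Subgroup.normalizer ((P : Subgroup (Matrix.SpecialLinearGroup (Fin 2) F)) : Set (Matrix.SpecialLinearGroup (Fin 2) F))) = 2 * (Fintype.card F + 1)) := by
  classical
  have hℓp : ℓ.Prime := Fact.out
  have h2 : (2 : F) ≠ 0 := two_ne_zero_of_card_odd hodd
  have hq : 2 ≤ Fintype.card F := Fintype.one_lt_card
  constructor
  · intro hdvd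
    obtain ⟨a, ha⟩ := IsCyclic.exists_generator (α := Fˣ)
    have horda : orderOf a = Fintype.card F - 1 := by
      rw [orderOf_eq_card_of_forall_mem_zpowers ha, Nat.card_eq_fintype_card, Fintype.card_units]
    have hq3 : 3 ≤ Fintype.card F - 1 := by
      have h1 := Nat.le_of_dvd (by omega) hdvd
      have h3 := hℓp.two_le
      omega
    have ha2 : (a : F) ^ 2 ≠ 1 := by
      intro h
      have h' : a ^ 2 = 1 := Units.ext (by simpa using h)
      have := orderOf_dvd_of_pow_eq_one h'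
      rw [horda] at this
      have := Nat.le_of_dvd (by norm_num) this
      omega
    have hT := split_invTorus h2 a ha ha2
    have hord : orderOf (diagSL a) = Fintype.card F - 1 := by rw [orderOf_diagSL, horda]
    refine hT.sylow ℓ hℓ (Fintype.card F - 1) hord hdvd ?_ ?_ P
    · rw [card_SL2]
      exact factorization_card_SL2_of_dvd_sub _ ℓ hq hℓp hℓ hdvd
    · intro x hx hxne g hg
      exact SL2_torus_reg _ (SL2_not_scalar_of_ne_inv _ hT.ne) hT.cent x hx hxne g hg
  · intro hdvd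
    obtain ⟨p, hchar, n, hp, hn⟩ := FiniteField.card' F
    have := hchar
    have : Fact p.Prime := ⟨hp⟩
    obtain ⟨s, hs, hcent⟩ := exists_nonsplit_generator (F := F)
    obtain ⟨w, hT⟩ := nonsplit_invTorus p h2 s hs hcent
    refine hT.sylow ℓ hℓ (Fintype.card F + 1) hs hdvd ?_ ?_ P
    · rw [card_SL2]
      exact factorization_card_SL2_of_dvd_add _ ℓ hq hℓp hℓ hdvd
    · intro x hx hxne g hg
      exact SL2_torus_reg _ (SL2_not_scalar_of_ne_inv _ hT.ne) hT.cent x hx hxne g hg

end sylow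

end Cfsg.Agent.Lib.helper12
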