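import Mathlib
import Cfsg.Agent.Lib.helper12.GL2Syl
import Cfsg.Agent.Lib.helper12.PSL2Prod
import Cfsg.Agent.Lib.helper12.SL2Tori

set_option autoImplicit false

namespace Cfsg.Agent.Lib.helper12

open Matrix

section unipS

variable {F : Type*} [Field F]

/-- Upper unitriangular element of `SL₂`. -/
def uS (z : F) : Matrix.SpecialLinearGroup (Fin 2) F := mkSL 1 z 0 1 (by ring)

/-- Lower unitriangular element of `SL₂`. -/
def lS (z : F) : Matrix.SpecialLinearGroup (Fin 2) F := mkSL 1 0 z 1 (by ring)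

theorem uS_val (z : F) : ((uS z : Matrix.SpecialLinearGroup (Fin 2) F) : Matrix (Fin 2) (Fin 2) F) =
    !![1, z; 0, 1] := rfl

theorem lS_val (z : F) : ((lS z : Matrix.SpecialLinearGroup (Fin 2) F) : Matrix (Fin 2) (Fin 2) F) =
    !![1, 0; z, 1] := rfl

theorem uS_add (y z : F) : uS (y + z) = uS y * uS z := by
  apply Subtype.ext
  rw [Matrix.SpecialLinearGroup.coe_mul, uS_val, uS_val, uS_val, Matrix.mul_fin_two]
  congr 2 <;> simp [add_comm]

theorem uS_zero : uS (0 : F) = 1 := by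
  apply Subtype.ext
  rw [uS_val, Matrix.SpecialLinearGroup.coe_one]
  exact Matrix.one_fin_two.symm

/-- The homomorphism `z ↦ uS z`. -/
def uSHom : Multiplicative F →* Matrix.SpecialLinearGroup (Fin 2) F where
  toFun z := uS (Multiplicative.toAdd z)
  map_one' := uS_zero
  map_mul' _ _ := uS_add _ _

theorem uSHom_injective :
    Function.Injective (uSHom : Multiplicative F →* Matrix.SpecialLinearGroup (Fin 2) F) := by
  intro y z h
  have h' := congrArg (fun g : Matrix.SpecialLinearGroup (Fin 2) F => (g : Matrix (Fin 2) (Fin 2) F) 0 1) h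
  simpa [uSHom, uS_val] using h'

/-- The upper unitriangular subgroup of `SL₂`. -/
def unipSL (F : Type*) [Field F] : Subgroup (Matrix.SpecialLinearGroup (Fin 2) F) := (uSHom (F := F)).range

theorem mem_unipSL_iff (g : Matrix.SpecialLinearGroup (Fin 2) F) : g ∈ unipSL F ↔ ∃ z : F, g = uS z := by
  constructor
  · rintro ⟨z, rfl⟩
    exact ⟨Multiplicative.toAdd z, rfl⟩
  · rintro ⟨z, rfl⟩
    exact ⟨Multiplicative.ofAdd z, rfl⟩

/-- `SL₂` is generated by the upper and lower unitriangular elements. -/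
theorem SL2_eq_top_of_uS_lS (H : Subgroup (Matrix.SpecialLinearGroup (Fin 2) F)) (hu : ∀ y : F, uS y ∈ H)
    (hl : ∀ y : F, lS y ∈ H) : H = ⊤ := by
  have key : ∀ g : Matrix.SpecialLinearGroup (Fin 2) F, (g : Matrix (Fin 2) (Fin 2) F) 1 0 ≠ 0 → g ∈ H := by
    intro g hc
    have e : g = uS (((g : Matrix (Fin 2) (Fin 2) F) 0 0 - 1) / (g : Matrix (Fin 2) (Fin 2) F) 1 0) *
        lS ((g : Matrix (Fin 2) (Fin 2) F) 1 0) *
        uS (((g : Matrix (Fin 2) (Fin 2) F) 1 1 - 1) / (g : Matrix (Fin 2) (Fin 2) F) 1 0) := by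
      have hdet := SL2_det_eq g
      apply SL2_ext
      · simp only [Matrix.SpecialLinearGroup.coe_mul, uS_val, lS_val, Matrix.mul_apply,
          Fin.sum_univ_two, Matrix.of_apply, Matrix.cons_val_zero, Matrix.cons_val_one]
        field_simp
        ring
      · simp only [Matrix.SpecialLinearGroup.coe_mul, uS_val, lS_val, Matrix.mul_apply,
          Fin.sum_univ_two, Matrix.of_apply, Matrix.cons_val_zero, Matrix.cons_val_one]
        field_simp
        linear_combination (-1 : F) * hdet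
      · simp only [Matrix.SpecialLinearGroup.coe_mul, uS_val, lS_val, Matrix.mul_apply,
          Fin.sum_univ_two, Matrix.of_apply, Matrix.cons_val_zero, Matrix.cons_val_one]
        ring
      · simp only [Matrix.SpecialLinearGroup.coe_mul, uS_val, lS_val, Matrix.mul_apply,
          Fin.sum_univ_two, Matrix.of_apply, Matrix.cons_val_zero, Matrix.cons_val_one]
        field_simp
        ring
    rw [e]
    exact H.mul_mem (H.mul_mem (hu _) (hl _)) (hu _)
  rw [Subgroup.eq_top_iff']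
  intro g
  by_cases hc : (g : Matrix (Fin 2) (Fin 2) F) 1 0 = 0
  · have h00 : (g : Matrix (Fin 2) (Fin 2) F) 0 0 ≠ 0 := by
      have hdet := SL2_det_eq g
      rw [hc, mul_zero, sub_zero] at hdet
      exact left_ne_zero_of_mul_eq_one hdet
    have h1 : lS 1 * g ∈ H := by
      apply key
      rw [Matrix.SpecialLinearGroup.coe_mul]
      simp [lS_val, Matrix.mul_apply, Fin.sum_univ_two, hc, h00]
    have h2 := H.mul_mem (H.inv_mem (hl 1)) h1
    rwa [inv_mul_cancel_left] at h2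
  · exact key g hc

/-- Upper triangular elements normalise the unitriangular group, elementwise. -/
theorem borelSL_mul_uS (b : Matrix.SpecialLinearGroup (Fin 2) F)
    (hb : (b : Matrix (Fin 2) (Fin 2) F) 1 0 = 0) (z : F) :
    b * uS z * b⁻¹ = uS ((b : Matrix (Fin 2) (Fin 2) F) 0 0 * z / (b : Matrix (Fin 2) (Fin 2) F) 1 1) := by
  have hdet := SL2_det_eq b
  rw [hb, mul_zero, sub_zero] at hdet
  have h11 : (b : Matrix (Fin 2) (Fin 2) F) 1 1 ≠ 0 := right_ne_zero_of_mul_eq_one hdet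
  rw [mul_inv_eq_iff_eq_mul]
  apply Subtype.ext
  rw [Matrix.SpecialLinearGroup.coe_mul, Matrix.SpecialLinearGroup.coe_mul, uS_val, uS_val,
    Matrix.eta_fin_two (b : Matrix (Fin 2) (Fin 2) F), Matrix.mul_fin_two, Matrix.mul_fin_two, hb]
  ext i j
  fin_cases i <;> fin_cases j <;> simp
  field_simp
  ring

theorem borelSL_inv (b : Matrix.SpecialLinearGroup (Fin 2) F)
    (hb : (b : Matrix (Fin 2) (Fin 2) F) 1 0 = 0) :
    ((b⁻¹ : Matrix.SpecialLinearGroup (Fin 2) F) : Matrix (Fin 2) (Fin 2) F) 1 0 = 0 := by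
  rw [Matrix.SpecialLinearGroup.coe_inv, Matrix.adjugate_fin_two]
  simp [hb]

theorem borelSL_conj_mem (b : Matrix.SpecialLinearGroup (Fin 2) F)
    (hb : (b : Matrix (Fin 2) (Fin 2) F) 1 0 = 0) (x : Matrix.SpecialLinearGroup (Fin 2) F) :
    x ∈ unipSL F ↔ b * x * b⁻¹ ∈ unipSL F := by
  constructor
  · intro hx
    obtain ⟨z, rfl⟩ := (mem_unipSL_iff _).mp hx
    rw [borelSL_mul_uS b hb z]
    exact (mem_unipSL_iff _).mpr ⟨_, rfl⟩
  · intro hx
    obtain ⟨z, hz⟩ := (mem_unipSL_iff _).mp hx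
    have e : x = b⁻¹ * uS z * b⁻¹⁻¹ := by
      rw [← hz]
      group
    rw [e, borelSL_mul_uS b⁻¹ (borelSL_inv b hb) z]
    exact (mem_unipSL_iff _).mpr ⟨_, rfl⟩

/-- Conjugating the upper unitriangular group by an element with zero top left entry gives the
lower unitriangular group. -/
theorem conj_uS_eq_lS (k : Matrix.SpecialLinearGroup (Fin 2) F)
    (hk : (k : Matrix (Fin 2) (Fin 2) F) 0 0 = 0) (z : F) :
    k * uS z * k⁻¹ = lS (-((k : Matrix (Fin 2) (Fin 2) F) 1 0) ^ 2 * z) := by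
  have hdet := SL2_det_eq k
  rw [hk, zero_mul, zero_sub] at hdet
  rw [mul_inv_eq_iff_eq_mul]
  apply Subtype.ext
  rw [Matrix.SpecialLinearGroup.coe_mul, Matrix.SpecialLinearGroup.coe_mul, uS_val, lS_val,
    Matrix.eta_fin_two (k : Matrix (Fin 2) (Fin 2) F), Matrix.mul_fin_two, Matrix.mul_fin_two, hk]
  ext i j
  fin_cases i <;> fin_cases j <;> simp
  linear_combination -((k : Matrix (Fin 2) (Fin 2) F) 1 0 * z) * hdet

end unipS

section finS

variable {F : Type*} [Field F] [Fintype F]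

theorem card_unipSL : Nat.card (unipSL F) = Fintype.card F := by
  rw [unipSL, ← Nat.card_congr (MonoidHom.ofInjective (uSHom_injective (F := F))).toEquiv,
    Nat.card_eq_fintype_card, Fintype.card_multiplicative]

theorem factorization_card_SL2 (p : ℕ) [Fact p.Prime] [CharP F p] :
    (Nat.card (Matrix.SpecialLinearGroup (Fin 2) F)).factorization p =
      (Fintype.card F).factorization p := by
  have hp : p.Prime := Fact.out
  have hq : 2 ≤ Fintype.card F := Fintype.one_lt_card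
  rw [card_SL2, sq_sub_one_factor _ hq,
    Nat.factorization_mul (by omega) (Nat.mul_ne_zero (by omega) (by omega)),
    Nat.factorization_mul (by omega) (by omega)]
  simp only [Finsupp.coe_add, Pi.add_apply]
  rw [Nat.factorization_eq_zero_of_not_dvd (char_not_dvd_card_add_one p),
    Nat.factorization_eq_zero_of_not_dvd (char_not_dvd_card_sub_one p)]
  omega

/-- The unitriangular subgroup as a Sylow `p`-subgroup of `SL₂(q)`. -/
noncomputable def sylUnipSL (p : ℕ) [Fact p.Prime] [CharP F p] :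
    Sylow p (Matrix.SpecialLinearGroup (Fin 2) F) :=
  Sylow.ofCard (unipSL F) (by
    rw [card_unipSL, factorization_card_SL2 p]
    exact card_eq_prime_pow_factorization p)

theorem mem_sylUnipSL (p : ℕ) [Fact p.Prime] [CharP F p] (x : Matrix.SpecialLinearGroup (Fin 2) F) :
    x ∈ sylUnipSL (F := F) p ↔ x ∈ unipSL F := Iff.rfl

/-- Two distinct Sylow `p`-subgroups of `SL₂(q)` generate `SL₂(q)`. -/
theorem sylow_SL2_sup_eq_top (p : ℕ) [Fact p.Prime] [CharP F p]
    (P Q : Sylow p (Matrix.SpecialLinearGroup (Fin 2) F)) (h : P ≠ Q) :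
    (P : Subgroup (Matrix.SpecialLinearGroup (Fin 2) F)) ⊔ (Q : Subgroup (Matrix.SpecialLinearGroup (Fin 2) F)) = ⊤ := by
  obtain ⟨g₁, hg₁⟩ := sylow_exists_conj (sylUnipSL p) P
  obtain ⟨g₂, hg₂⟩ := sylow_exists_conj (sylUnipSL p) Q
  obtain ⟨k₀, hk₀⟩ : ∃ k₀ : Matrix.SpecialLinearGroup (Fin 2) F, k₀ = g₁⁻¹ * g₂ := ⟨_, rfl⟩
  have h10 : (k₀ : Matrix (Fin 2) (Fin 2) F) 1 0 ≠ 0 := by
    intro h0
    apply h
    apply Sylow.ext
    ext y
    change y ∈ P ↔ y ∈ Q
    rw [hg₁ y, hg₂ y, mem_sylUnipSL, mem_sylUnipSL]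
    have key := borelSL_conj_mem k₀ h0 (g₂⁻¹ * y * g₂)
    have e : k₀ * (g₂⁻¹ * y * g₂) * k₀⁻¹ = g₁⁻¹ * y * g₁ := by
      rw [hk₀]
      group
    rw [e] at key
    exact key.symm
  set c := (k₀ : Matrix (Fin 2) (Fin 2) F) 1 0 with hc
  set a := (k₀ : Matrix (Fin 2) (Fin 2) F) 0 0 with ha
  have hPmem : ∀ z : F, g₁ * uS z * g₁⁻¹ ∈ (P : Subgroup (Matrix.SpecialLinearGroup (Fin 2) F)) := by
    intro z
    change g₁ * uS z * g₁⁻¹ ∈ P
    rw [hg₁, mem_sylUnipSL]
    have : g₁⁻¹ * (g₁ * uS z * g₁⁻¹) * g₁ = uS z := by group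
    rw [this]
    exact (mem_unipSL_iff _).mpr ⟨z, rfl⟩
  have hQmem : ∀ z : F, g₂ * uS z * g₂⁻¹ ∈ (Q : Subgroup (Matrix.SpecialLinearGroup (Fin 2) F)) := by
    intro z
    change g₂ * uS z * g₂⁻¹ ∈ Q
    rw [hg₂, mem_sylUnipSL]
    have : g₂⁻¹ * (g₂ * uS z * g₂⁻¹) * g₂ = uS z := by group
    rw [this]
    exact (mem_unipSL_iff _).mpr ⟨z, rfl⟩
  have hk00 : ((uS (-a / c) * k₀ : Matrix.SpecialLinearGroup (Fin 2) F) :
      Matrix (Fin 2) (Fin 2) F) 0 0 = 0 := by
    rw [Matrix.SpecialLinearGroup.coe_mul, uS_val, Matrix.eta_fin_two (k₀ : Matrix (Fin 2) (Fin 2) F),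
      Matrix.mul_fin_two, ← ha, ← hc]
    simp
    field_simp
    ring
  have hk10 : ((uS (-a / c) * k₀ : Matrix.SpecialLinearGroup (Fin 2) F) :
      Matrix (Fin 2) (Fin 2) F) 1 0 = c := by
    rw [Matrix.SpecialLinearGroup.coe_mul, uS_val, Matrix.eta_fin_two (k₀ : Matrix (Fin 2) (Fin 2) F),
      Matrix.mul_fin_two, ← hc]
    simp
  have hH : ((P : Subgroup (Matrix.SpecialLinearGroup (Fin 2) F)) ⊔
      (Q : Subgroup (Matrix.SpecialLinearGroup (Fin 2) F))).comap (MulAut.conj g₁).toMonoidHom = ⊤ := by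
    apply SL2_eq_top_of_uS_lS
    · intro y
      rw [Subgroup.mem_comap]
      exact Subgroup.mem_sup_left (hPmem y)
    · intro y
      rw [Subgroup.mem_comap]
      have e1 : lS y = (uS (-a / c) * k₀) * uS (-y / c ^ 2) * (uS (-a / c) * k₀)⁻¹ := by
        rw [conj_uS_eq_lS _ hk00, hk10]
        congr 1
        field_simp
      have e2 : (MulAut.conj g₁).toMonoidHom (lS y) =
          (g₁ * uS (-a / c) * g₁⁻¹) * (g₂ * uS (-y / c ^ 2) * g₂⁻¹) * (g₁ * uS (-a / c) * g₁⁻¹)⁻¹ := by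
        rw [e1, hk₀]
        simp only [MulEquiv.coe_toMonoidHom, MulAut.conj_apply]
        group
      rw [e2]
      exact Subgroup.mul_mem _ (Subgroup.mul_mem _ (Subgroup.mem_sup_left (hPmem _))
        (Subgroup.mem_sup_right (hQmem _))) (Subgroup.inv_mem _ (Subgroup.mem_sup_left (hPmem _)))
  rw [Subgroup.eq_top_iff']
  intro x
  have hx : g₁⁻¹ * x * g₁ ∈ ((P : Subgroup (Matrix.SpecialLinearGroup (Fin 2) F)) ⊔
      (Q : Subgroup (Matrix.SpecialLinearGroup (Fin 2) F))).comap (MulAut.conj g₁).toMonoidHom := by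
    rw [hH]
    exact Subgroup.mem_top _
  rw [Subgroup.mem_comap] at hx
  simp only [MulEquiv.coe_toMonoidHom, MulAut.conj_apply] at hx
  have e : g₁ * (g₁⁻¹ * x * g₁) * g₁⁻¹ = x := by group
  rwa [e] at hx

end finS

end Cfsg.Agent.Lib.helper12
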