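import Mathlib
import Cfsg.Agent.Lib.helper12.PSL2Prod
import Cfsg.Agent.Lib.helper12.SL2SylP

set_option autoImplicit false

namespace Cfsg.Agent.Lib.helper12

section aut1

variable {F : Type*} [Field F]

/-- Two elements of `SL₂` have the same image in `PSL₂` iff they differ by a sign. -/
theorem PSL2_mk_eq_mk_iff (x y : Matrix.SpecialLinearGroup (Fin 2) F) :
    (QuotientGroup.mk x : Matrix.ProjectiveSpecialLinearGroup (Fin 2) F) = QuotientGroup.mk y ↔
      ∃ ε : F, ε * ε = 1 ∧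
        (y : Matrix (Fin 2) (Fin 2) F) = ε • (x : Matrix (Fin 2) (Fin 2) F) := by
  rw [QuotientGroup.eq, SL2_mem_center_iff]
  constructor
  · rintro ⟨a, ha⟩
    have hy : (y : Matrix (Fin 2) (Fin 2) F) = a • (x : Matrix (Fin 2) (Fin 2) F) := by
      have h1 : y = x * (x⁻¹ * y) := by group
      rw [h1, Matrix.SpecialLinearGroup.coe_mul, ha]
      simp
    refine ⟨a, ?_, hy⟩
    have hdet := y.det_coe
    rw [hy, Matrix.det_smul, x.det_coe] at hdet
    simpa [pow_two] using hdet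
  · rintro ⟨ε, hε, hy⟩
    refine ⟨ε, ?_⟩
    rw [Matrix.SpecialLinearGroup.coe_mul, hy, Matrix.mul_smul,
      ← Matrix.SpecialLinearGroup.coe_mul, inv_mul_cancel, Matrix.SpecialLinearGroup.coe_one]

/-- Conjugation by an element of `GL₂` as an automorphism of `SL₂`. -/
def conjSL (M : GL (Fin 2) F) :
    Matrix.SpecialLinearGroup (Fin 2) F ≃* Matrix.SpecialLinearGroup (Fin 2) F where
  toFun g := ⟨(M : Matrix (Fin 2) (Fin 2) F) * (g : Matrix (Fin 2) (Fin 2) F) *
      ((M⁻¹ : GL (Fin 2) F) : Matrix (Fin 2) (Fin 2) F), by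
    rw [Matrix.det_mul, Matrix.det_mul, g.det_coe, mul_one, ← Matrix.det_mul, M.mul_inv,
      Matrix.det_one]⟩
  invFun g := ⟨((M⁻¹ : GL (Fin 2) F) : Matrix (Fin 2) (Fin 2) F) *
      (g : Matrix (Fin 2) (Fin 2) F) * (M : Matrix (Fin 2) (Fin 2) F), by
    rw [Matrix.det_mul, Matrix.det_mul, g.det_coe, mul_one, ← Matrix.det_mul, M.inv_mul,
      Matrix.det_one]⟩
  left_inv g := by
    apply Subtype.ext
    show ((M⁻¹ : GL (Fin 2) F) : Matrix (Fin 2) (Fin 2) F) *
      ((M : Matrix (Fin 2) (Fin 2) F) * (g : Matrix (Fin 2) (Fin 2) F) *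
        ((M⁻¹ : GL (Fin 2) F) : Matrix (Fin 2) (Fin 2) F)) * (M : Matrix (Fin 2) (Fin 2) F) = g
    rw [Matrix.mul_assoc, Matrix.mul_assoc, M.inv_mul, Matrix.mul_one, ← Matrix.mul_assoc,
      M.inv_mul, Matrix.one_mul]
  right_inv g := by
    apply Subtype.ext
    show (M : Matrix (Fin 2) (Fin 2) F) *
      (((M⁻¹ : GL (Fin 2) F) : Matrix (Fin 2) (Fin 2) F) * (g : Matrix (Fin 2) (Fin 2) F) *
        (M : Matrix (Fin 2) (Fin 2) F)) * ((M⁻¹ : GL (Fin 2) F) : Matrix (Fin 2) (Fin 2) F) = g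
    rw [Matrix.mul_assoc, Matrix.mul_assoc, M.mul_inv, Matrix.mul_one, ← Matrix.mul_assoc,
      M.mul_inv, Matrix.one_mul]
  map_mul' g h := by
    apply Subtype.ext
    show (M : Matrix (Fin 2) (Fin 2) F) * ((g * h : Matrix.SpecialLinearGroup (Fin 2) F) :
        Matrix (Fin 2) (Fin 2) F) * ((M⁻¹ : GL (Fin 2) F) : Matrix (Fin 2) (Fin 2) F) =
      ((M : Matrix (Fin 2) (Fin 2) F) * (g : Matrix (Fin 2) (Fin 2) F) *
        ((M⁻¹ : GL (Fin 2) F) : Matrix (Fin 2) (Fin 2) F)) *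
      ((M : Matrix (Fin 2) (Fin 2) F) * (h : Matrix (Fin 2) (Fin 2) F) *
        ((M⁻¹ : GL (Fin 2) F) : Matrix (Fin 2) (Fin 2) F))
    rw [Matrix.SpecialLinearGroup.coe_mul]
    simp only [Matrix.mul_assoc]
    rw [← Matrix.mul_assoc ((M⁻¹ : GL (Fin 2) F) : Matrix (Fin 2) (Fin 2) F)
      (M : Matrix (Fin 2) (Fin 2) F), M.inv_mul, Matrix.one_mul]

theorem conjSL_val (M : GL (Fin 2) F) (g : Matrix.SpecialLinearGroup (Fin 2) F) :
    ((conjSL M g : Matrix.SpecialLinearGroup (Fin 2) F) : Matrix (Fin 2) (Fin 2) F) =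
      (M : Matrix (Fin 2) (Fin 2) F) * (g : Matrix (Fin 2) (Fin 2) F) *
        ((M⁻¹ : GL (Fin 2) F) : Matrix (Fin 2) (Fin 2) F) := rfl

theorem conjSL_mul (M N : GL (Fin 2) F) (g : Matrix.SpecialLinearGroup (Fin 2) F) :
    conjSL (M * N) g = conjSL M (conjSL N g) := by
  apply Subtype.ext
  rw [conjSL_val, conjSL_val, conjSL_val, mul_inv_rev, Units.val_mul, Units.val_mul]
  simp only [Matrix.mul_assoc]

theorem conjSL_toGL (h g : Matrix.SpecialLinearGroup (Fin 2) F) :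
    conjSL (Matrix.SpecialLinearGroup.toGL h) g = h * g * h⁻¹ := by
  apply Subtype.ext
  rw [conjSL_val, ← map_inv]
  rfl

/-- The automorphism of `SL₂` induced by a field automorphism. -/
def mapSL (σ : F ≃+* F) :
    Matrix.SpecialLinearGroup (Fin 2) F ≃* Matrix.SpecialLinearGroup (Fin 2) F where
  toFun := Matrix.SpecialLinearGroup.map (σ : F →+* F)
  invFun := Matrix.SpecialLinearGroup.map (σ.symm : F →+* F)
  left_inv g := by
    apply Subtype.ext
    ext i j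
    exact σ.symm_apply_apply _
  right_inv g := by
    apply Subtype.ext
    ext i j
    exact σ.apply_symm_apply _
  map_mul' := map_mul _

theorem mapSL_apply (σ : F ≃+* F) (g : Matrix.SpecialLinearGroup (Fin 2) F) (i j : Fin 2) :
    ((mapSL σ g : Matrix.SpecialLinearGroup (Fin 2) F) : Matrix (Fin 2) (Fin 2) F) i j =
      σ ((g : Matrix (Fin 2) (Fin 2) F) i j) := rfl

theorem mapSL_val (σ : F ≃+* F) (g : Matrix.SpecialLinearGroup (Fin 2) F) :
    ((mapSL σ g : Matrix.SpecialLinearGroup (Fin 2) F) : Matrix (Fin 2) (Fin 2) F) =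
      (σ : F →+* F).mapMatrix (g : Matrix (Fin 2) (Fin 2) F) := rfl

theorem mapSL_one (g : Matrix.SpecialLinearGroup (Fin 2) F) : mapSL (1 : F ≃+* F) g = g := by
  apply Subtype.ext
  ext i j
  rfl

theorem mapSL_mul (σ τ : F ≃+* F) (g : Matrix.SpecialLinearGroup (Fin 2) F) :
    mapSL (σ * τ) g = mapSL σ (mapSL τ g) := by
  apply Subtype.ext
  ext i j
  rfl

theorem mapSL_uS (σ : F ≃+* F) (x : F) : mapSL σ (uS x) = uS (σ x) := by
  apply Subtype.ext
  ext i j
  rw [mapSL_apply, uS_val, uS_val]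
  fin_cases i <;> fin_cases j <;> simp

theorem mapSL_lS (σ : F ≃+* F) (x : F) : mapSL σ (lS x) = lS (σ x) := by
  apply Subtype.ext
  ext i j
  rw [mapSL_apply, lS_val, lS_val]
  fin_cases i <;> fin_cases j <;> simp

theorem mapSL_conjSL (σ : F ≃+* F) (M : GL (Fin 2) F)
    (g : Matrix.SpecialLinearGroup (Fin 2) F) :
    mapSL σ (conjSL M g) =
      conjSL (Matrix.GeneralLinearGroup.map (σ : F →+* F) M) (mapSL σ g) := by
  apply Subtype.ext
  rw [mapSL_val, conjSL_val, conjSL_val, mapSL_val, map_mul, map_mul, ← map_inv]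
  rfl

/-- The automorphism of `PSL₂` induced by an automorphism of `SL₂`. -/
def autPSL (e : Matrix.SpecialLinearGroup (Fin 2) F ≃* Matrix.SpecialLinearGroup (Fin 2) F) :
    MulAut (Matrix.ProjectiveSpecialLinearGroup (Fin 2) F) :=
  QuotientGroup.congr (Subgroup.center (Matrix.SpecialLinearGroup (Fin 2) F))
    (Subgroup.center (Matrix.SpecialLinearGroup (Fin 2) F)) e
    (Subgroup.characteristic_iff_map_eq.mp Subgroup.centerCharacteristic e)

theorem autPSL_mk (e : Matrix.SpecialLinearGroup (Fin 2) F ≃* Matrix.SpecialLinearGroup (Fin 2) F)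
    (g : Matrix.SpecialLinearGroup (Fin 2) F) :
    autPSL e (QuotientGroup.mk g : Matrix.ProjectiveSpecialLinearGroup (Fin 2) F) =
      QuotientGroup.mk (e g) := rfl

/-- `AutRel α σ`: the automorphism `α` of `PSL₂` is a `GL₂`-conjugation composed with the field
automorphism `σ`. -/
def AutRel (α : MulAut (Matrix.ProjectiveSpecialLinearGroup (Fin 2) F)) (σ : F ≃+* F) : Prop :=
  ∃ M : GL (Fin 2) F, ∀ g : Matrix.SpecialLinearGroup (Fin 2) F,
    α (QuotientGroup.mk g) = QuotientGroup.mk (conjSL M (mapSL σ g))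

theorem autRel_conj (h : Matrix.SpecialLinearGroup (Fin 2) F) :
    AutRel (MulAut.conj (QuotientGroup.mk h :
      Matrix.ProjectiveSpecialLinearGroup (Fin 2) F)) (1 : F ≃+* F) := by
  refine ⟨Matrix.SpecialLinearGroup.toGL h, fun g => ?_⟩
  rw [mapSL_one, conjSL_toGL, MulAut.conj_apply]
  rfl

theorem autRel_mul {α β : MulAut (Matrix.ProjectiveSpecialLinearGroup (Fin 2) F)}
    {σ τ : F ≃+* F} (hα : AutRel α σ) (hβ : AutRel β τ) : AutRel (α * β) (σ * τ) := by
  obtain ⟨M, hM⟩ := hα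
  obtain ⟨N, hN⟩ := hβ
  refine ⟨M * Matrix.GeneralLinearGroup.map (σ : F →+* F) N, fun g => ?_⟩
  rw [MulAut.mul_apply, hN, hM, mapSL_conjSL, conjSL_mul, mapSL_mul]

theorem autRel_mapSL (σ : F ≃+* F) : AutRel (autPSL (mapSL σ)) σ := by
  refine ⟨1, fun g => ?_⟩
  rw [autPSL_mk]
  congr 1
  apply Subtype.ext
  rw [conjSL_val]
  simp

theorem autRel_conjSL (M : GL (Fin 2) F) : AutRel (autPSL (conjSL M)) (1 : F ≃+* F) := by
  refine ⟨M, fun g => ?_⟩
  rw [autPSL_mk, mapSL_one]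

theorem autRel_one_iff (α : MulAut (Matrix.ProjectiveSpecialLinearGroup (Fin 2) F)) :
    AutRel α (1 : F ≃+* F) ↔ ∃ M : GL (Fin 2) F, α = autPSL (conjSL M) := by
  constructor
  · rintro ⟨M, hM⟩
    refine ⟨M, ?_⟩
    ext x
    obtain ⟨g, rfl⟩ := QuotientGroup.mk_surjective x
    rw [hM, mapSL_one, autPSL_mk]
  · rintro ⟨M, rfl⟩
    exact autRel_conjSL M

end aut1

end Cfsg.Agent.Lib.helper12
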