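import Mathlib
import Cfsg.Agent.Lib.helper12.SL2Tori
import Cfsg.Agent.Lib.helper12.PSL2Prod

set_option autoImplicit false

namespace Cfsg.Agent.Lib.helper12

open Matrix QuadraticAlgebra

section gen

variable {G : Type*} [Group G]

theorem mem_comap_centralizer_mk (z g b : G) (hcen : ∀ c : G, c ∈ Subgroup.center G ↔ c = 1 ∨ c = z) :
    b ∈ (Subgroup.centralizer ({(QuotientGroup.mk g : G ⧸ Subgroup.center G)} :
      Set (G ⧸ Subgroup.center G))).comap (QuotientGroup.mk' (Subgroup.center G)) ↔
      (b * g = g * b ∨ g * b = b * g * z) := by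
  rw [Subgroup.mem_comap, Subgroup.mem_centralizer_singleton_iff, QuotientGroup.mk'_apply,
    ← QuotientGroup.mk_mul, ← QuotientGroup.mk_mul, QuotientGroup.eq, hcen, inv_mul_eq_one,
    inv_mul_eq_iff_eq_mul]

/-- If `g` is not conjugate to `z g`, the class of `g` in `G / Z(G)` has the same size as in `G`. -/
theorem index_centralizer_mk_of_not_twist (z g : G)
    (hcen : ∀ c : G, c ∈ Subgroup.center G ↔ c = 1 ∨ c = z) (hno : ∀ b : G, g * b ≠ b * g * z) :
    (Subgroup.centralizer ({(QuotientGroup.mk g : G ⧸ Subgroup.center G)} :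
      Set (G ⧸ Subgroup.center G))).index = (Subgroup.centralizer ({g} : Set G)).index := by
  rw [← Subgroup.index_comap_of_surjective _ (QuotientGroup.mk'_surjective (Subgroup.center G))]
  congr 1
  ext b
  rw [mem_comap_centralizer_mk z g b hcen, Subgroup.mem_centralizer_singleton_iff]
  constructor
  · rintro (h | h)
    · exact h
    · exact absurd h (hno b)
  · exact Or.inl

/-- If `g` is conjugate to `z g` (with `Z(G) = {1, z}`), the class of `g` in `G / Z(G)` has half the size. -/
theorem index_centralizer_mk_of_twist (z g h₀ : G)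
    (hcen : ∀ c : G, c ∈ Subgroup.center G ↔ c = 1 ∨ c = z) (hz1 : z ≠ 1) (hzz : z * z = 1)
    (hh₀ : g * h₀ = h₀ * g * z) :
    2 * (Subgroup.centralizer ({(QuotientGroup.mk g : G ⧸ Subgroup.center G)} :
      Set (G ⧸ Subgroup.center G))).index = (Subgroup.centralizer ({g} : Set G)).index := by
  rw [← Subgroup.index_comap_of_surjective _ (QuotientGroup.mk'_surjective (Subgroup.center G))]
  set K := (Subgroup.centralizer ({(QuotientGroup.mk g : G ⧸ Subgroup.center G)} :
      Set (G ⧸ Subgroup.center G))).comap (QuotientGroup.mk' (Subgroup.center G)) with hK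
  have hle : Subgroup.centralizer ({g} : Set G) ≤ K := by
    intro b hb
    rw [hK, mem_comap_centralizer_mk z g b hcen]
    exact Or.inl (Subgroup.mem_centralizer_singleton_iff.mp hb)
  rw [← Subgroup.relIndex_mul_index hle]
  congr 1
  symm
  rw [Subgroup.relIndex, Subgroup.index_eq_two_iff]
  have hzc : ∀ x : G, x * z = z * x := fun x =>
    (Subgroup.mem_center_iff.mp ((hcen z).mpr (Or.inr rfl))) x
  have hflip : ∀ b : G, g * b = b * g * z → b * g = g * b * z := by
    intro b hb
    rw [hb, mul_assoc (b * g), hzz, mul_one]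
  refine ⟨⟨h₀, ?_⟩, fun b => ?_⟩
  · rw [hK, mem_comap_centralizer_mk z g h₀ hcen]
    exact Or.inr hh₀
  · have hb := (mem_comap_centralizer_mk z g (b : G) hcen).mp b.2
    simp only [Subgroup.mem_subgroupOf, Subgroup.coe_mul, Subgroup.mem_centralizer_singleton_iff]
    rcases hb with hb | hb
    · refine Or.inr ⟨hb, ?_⟩
      intro h
      apply hz1
      have e : g * ((b : G) * h₀) = g * ((b : G) * h₀) * z := by
        calc g * ((b : G) * h₀) = (b : G) * (g * h₀) := by rw [← mul_assoc, ← hb, mul_assoc]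
          _ = (b : G) * (h₀ * g * z) := by rw [hh₀]
          _ = ((b : G) * h₀ * g) * z := by simp only [mul_assoc]
          _ = g * ((b : G) * h₀) * z := by rw [h]
      exact left_eq_mul.mp e
    · refine Or.inl ⟨?_, ?_⟩
      · calc (b : G) * h₀ * g = (b : G) * (h₀ * g) := mul_assoc _ _ _
          _ = (b : G) * (g * h₀ * z) := by rw [hflip h₀ hh₀]
          _ = ((b : G) * g) * (h₀ * z) := by simp only [mul_assoc]
          _ = (g * (b : G) * z) * (h₀ * z) := by rw [hflip b hb]
          _ = g * (b : G) * h₀ * (z * z) := by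
              rw [mul_assoc (g * (b : G)) z, ← mul_assoc z h₀ z, ← hzc h₀]
              simp only [mul_assoc]
          _ = g * ((b : G) * h₀) := by rw [hzz, mul_one, mul_assoc]
      · intro hcomm
        apply hz1
        have e : g * (b : G) = g * (b : G) * z := by
          calc g * (b : G) = (b : G) * g * z := hb
            _ = g * (b : G) * z := by rw [hcomm]
        exact left_eq_mul.mp e

end gen

section cls

variable {F : Type*} [Field F] [Fintype F]

/-- The number of norm one elements of an anisotropic binary form `x² + t x y + y²` is `q + 1`. -/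
theorem card_normSol_elliptic (t : F) (ht : ∀ r : F, r ^ 2 ≠ -1 + t * r) :
    Nat.card {p : F × F // p.1 ^ 2 + p.1 * p.2 * t + p.2 ^ 2 = 1} = Fintype.card F + 1 := by
  have : Fact (∀ r : F, r ^ 2 ≠ -1 + t * r) := ⟨ht⟩
  have : Finite (QuadraticAlgebra F (-1) t) := qa_finite
  have hq : 2 ≤ Fintype.card F := Fintype.one_lt_card
  have hker := IsCyclic.card_powMonoidHom_ker (QuadraticAlgebra F (-1) t)ˣ (Fintype.card F + 1)
  rw [Nat.card_units, qa_card] at hker
  have hgcd : (Fintype.card F ^ 2 - 1).gcd (Fintype.card F + 1) = Fintype.card F + 1 := by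
    apply Nat.gcd_eq_right
    refine ⟨Fintype.card F - 1, ?_⟩
    obtain ⟨k, hk⟩ : ∃ k, Fintype.card F = k + 1 := ⟨Fintype.card F - 1, by omega⟩
    rw [hk]
    simp only [Nat.add_sub_cancel]
    have : (k + 1) ^ 2 = (k + 1 + 1) * k + 1 := by ring
    omega
  rw [hgcd] at hker
  rw [← hker]
  have hiff : ∀ z : QuadraticAlgebra F (-1) t,
      z ^ (Fintype.card F + 1) = 1 ↔ z.re ^ 2 + z.re * z.im * t + z.im ^ 2 = 1 := by
    intro z
    rw [qa_pow_card_add_one, QuadraticAlgebra.norm_def]
    constructor
    · intro h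
      have h' := congrArg QuadraticAlgebra.re h
      simp at h'
      linear_combination h'
    · intro h
      have e : z.re * z.re + t * z.re * z.im - -1 * z.im * z.im = 1 := by linear_combination h
      rw [e, map_one]
  have hne : ∀ p : {p : F × F // p.1 ^ 2 + p.1 * p.2 * t + p.2 ^ 2 = 1},
      (⟨p.1.1, p.1.2⟩ : QuadraticAlgebra F (-1) t) ≠ 0 := by
    intro p h0
    have h1 := (hiff ⟨p.1.1, p.1.2⟩).mpr p.2
    rw [h0, zero_pow (by omega)] at h1
    exact zero_ne_one h1
  refine Nat.card_congr ⟨fun p => ⟨Units.mk0 _ (hne p), ?_⟩,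
    fun u => ⟨((u.1 : QuadraticAlgebra F (-1) t).re, (u.1 : QuadraticAlgebra F (-1) t).im), ?_⟩, ?_, ?_⟩
  · rw [MonoidHom.mem_ker, powMonoidHom_apply]
    apply Units.ext
    rw [Units.val_pow_eq_pow_val, Units.val_mk0, Units.val_one]
    exact (hiff _).mpr p.2
  · have hu := u.2
    rw [MonoidHom.mem_ker, powMonoidHom_apply] at hu
    have hu' := congrArg Units.val hu
    rw [Units.val_pow_eq_pow_val, Units.val_one] at hu'
    exact (hiff _).mp hu'
  · intro p
    rfl
  · intro u
    apply Subtype.ext
    apply Units.ext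
    rfl

/-- The number of norm one elements of a split binary form is `q - 1`. -/
theorem card_normSol_split_one (a : Fˣ) (ha : (a : F) ^ 2 ≠ 1) :
    Nat.card {p : F × F // p.1 ^ 2 + p.1 * p.2 * ((a : F) + (a : F)⁻¹) + p.2 ^ 2 = 1} =
      Fintype.card F - 1 := by
  classical
  have ha0 : (a : F) ≠ 0 := a.ne_zero
  have hd : (a : F) - (a : F)⁻¹ ≠ 0 := by
    intro h
    apply ha
    field_simp at h
    linear_combination h
  rw [← Fintype.card_units, ← Nat.card_eq_fintype_card]
  have key : ∀ x y : F, x ^ 2 + x * y * ((a : F) + (a : F)⁻¹) + y ^ 2 =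
      (x + a * y) * (x + (a : F)⁻¹ * y) := by
    intro x y
    field_simp
    ring
  refine Nat.card_congr ⟨fun p => Units.mk0 (p.1.1 + a * p.1.2) ?_,
    fun u => ⟨((u : F) - a * (((u : F) - (u : F)⁻¹) / ((a : F) - (a : F)⁻¹)),
      ((u : F) - (u : F)⁻¹) / ((a : F) - (a : F)⁻¹)), ?_⟩, ?_, ?_⟩
  · intro h0
    have := p.2
    rw [key, h0, zero_mul] at this
    exact zero_ne_one this
  · have hu0 : (u : F) ≠ 0 := u.ne_zero
    rw [key]
    field_simp
    ring
  · rintro ⟨⟨x, y⟩, hp⟩
    have hp' : (x + a * y) * (x + (a : F)⁻¹ * y) = 1 := by rw [← key]; exact hp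
    have hinv : (x + (a : F) * y)⁻¹ = x + (a : F)⁻¹ * y := inv_eq_of_mul_eq_one_right hp'
    apply Subtype.ext
    simp only [Units.val_mk0]
    rw [hinv]
    have hy : (x + (a : F) * y - (x + (a : F)⁻¹ * y)) / ((a : F) - (a : F)⁻¹) = y := by
      field_simp
      ring
    rw [hy]
    ext
    · simp
    · rfl
  · intro u
    apply Units.ext
    simp

omit [Fintype F] in
theorem not_scalar_of_no_root (g : Matrix.SpecialLinearGroup (Fin 2) F)
    (hg : ∀ r : F, r ^ 2 ≠ -1 + (g : Matrix (Fin 2) (Fin 2) F).trace * r) :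
    ¬ ∃ a : F, (g : Matrix (Fin 2) (Fin 2) F) = a • (1 : Matrix (Fin 2) (Fin 2) F) := by
  rintro ⟨c, hc⟩
  have hdet := SL2_det_eq g
  rw [hc] at hdet hg
  simp at hdet hg
  apply hg c
  linear_combination -hdet

omit [Fintype F] in
theorem not_scalar_of_split (g : Matrix.SpecialLinearGroup (Fin 2) F) (a : Fˣ) (ha : (a : F) ^ 2 ≠ 1)
    (htr : (g : Matrix (Fin 2) (Fin 2) F).trace = (a : F) + (a : F)⁻¹) :
    ¬ ∃ c : F, (g : Matrix (Fin 2) (Fin 2) F) = c • (1 : Matrix (Fin 2) (Fin 2) F) := by
  rintro ⟨c, hc⟩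
  have ha0 : (a : F) ≠ 0 := a.ne_zero
  have hdet := SL2_det_eq g
  rw [hc] at hdet htr
  simp at hdet htr
  have h1 : ((a : F) - c) * ((a : F) - c) = 0 := by
    field_simp at htr
    linear_combination -(htr) + hdet
  have h2 : (a : F) = c := sub_eq_zero.mp (mul_self_eq_zero.mp h1)
  apply ha
  rw [h2, sq]
  exact hdet

/-- Centralizer of an elliptic element has `q + 1` elements (any characteristic). -/
theorem card_centralizer_of_elliptic (g : Matrix.SpecialLinearGroup (Fin 2) F)
    (hg : ∀ r : F, r ^ 2 ≠ -1 + (g : Matrix (Fin 2) (Fin 2) F).trace * r) :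
    Nat.card (Subgroup.centralizer ({g} : Set (Matrix.SpecialLinearGroup (Fin 2) F))) =
      Fintype.card F + 1 := by
  rw [SL2_card_centralizer g (not_scalar_of_no_root g hg)]
  exact card_normSol_elliptic _ hg

/-- Centralizer of a split regular element has `q - 1` elements. -/
theorem card_centralizer_of_split (g : Matrix.SpecialLinearGroup (Fin 2) F) (a : Fˣ) (ha : (a : F) ^ 2 ≠ 1)
    (htr : (g : Matrix (Fin 2) (Fin 2) F).trace = (a : F) + (a : F)⁻¹) :
    Nat.card (Subgroup.centralizer ({g} : Set (Matrix.SpecialLinearGroup (Fin 2) F))) =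
      Fintype.card F - 1 := by
  rw [SL2_card_centralizer g (not_scalar_of_split g a ha htr), htr]
  exact card_normSol_split_one a ha

/-- Centralizer of a non-central unipotent element in characteristic two. -/
theorem card_centralizer_of_unip_char_two (h2 : (2 : F) = 0) (g : Matrix.SpecialLinearGroup (Fin 2) F)
    (hg : ¬ ∃ a : F, (g : Matrix (Fin 2) (Fin 2) F) = a • (1 : Matrix (Fin 2) (Fin 2) F))
    (htr : (g : Matrix (Fin 2) (Fin 2) F).trace ^ 2 = 4) :
    Nat.card (Subgroup.centralizer ({g} : Set (Matrix.SpecialLinearGroup (Fin 2) F))) =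
      Fintype.card F := by
  rw [SL2_card_centralizer g hg]
  apply card_normSol_parabolic_char_two h2
  have h4 : (4 : F) = 0 := by linear_combination 2 * h2
  rw [h4] at htr
  exact pow_eq_zero_iff (two_ne_zero) |>.mp htr

/-- Centralizer of a non-central element of trace `±2` in odd characteristic. -/
theorem card_centralizer_of_unip_odd (h2 : (2 : F) ≠ 0) (g : Matrix.SpecialLinearGroup (Fin 2) F)
    (hg : ¬ ∃ a : F, (g : Matrix (Fin 2) (Fin 2) F) = a • (1 : Matrix (Fin 2) (Fin 2) F))
    (htr : (g : Matrix (Fin 2) (Fin 2) F).trace ^ 2 = 4) :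
    Nat.card (Subgroup.centralizer ({g} : Set (Matrix.SpecialLinearGroup (Fin 2) F))) =
      2 * Fintype.card F := by
  rw [SL2_card_centralizer g hg]
  have h : ((g : Matrix (Fin 2) (Fin 2) F).trace - 2) * ((g : Matrix (Fin 2) (Fin 2) F).trace + 2) = 0 := by
    linear_combination htr
  rcases mul_eq_zero.mp h with h | h
  · apply card_normSol_parabolic_odd h2 true
    simp [sgnB]
    linear_combination h
  · apply card_normSol_parabolic_odd h2 false
    simp [sgnB]
    linear_combination h

/-- index of the centralizer times its order. -/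
theorem SL2_index_centralizer_mul (g : Matrix.SpecialLinearGroup (Fin 2) F) :
    (Subgroup.centralizer ({g} : Set (Matrix.SpecialLinearGroup (Fin 2) F))).index *
      Nat.card (Subgroup.centralizer ({g} : Set (Matrix.SpecialLinearGroup (Fin 2) F))) =
      Fintype.card F * (Fintype.card F ^ 2 - 1) := by
  rw [mul_comm, Subgroup.card_mul_index, card_SL2]

omit [Fintype F] in
/-- Membership in the preimage of the centralizer of the image in `PSL₂`. -/
theorem PSL2_mem_comap_centralizer (g h : Matrix.SpecialLinearGroup (Fin 2) F) :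
    h ∈ (Subgroup.centralizer ({(QuotientGroup.mk g : Matrix.ProjectiveSpecialLinearGroup (Fin 2) F)} :
        Set (Matrix.ProjectiveSpecialLinearGroup (Fin 2) F))).comap
        (QuotientGroup.mk' (Subgroup.center (Matrix.SpecialLinearGroup (Fin 2) F))) ↔
      ∃ c : F, (((h * g)⁻¹ * (g * h) : Matrix.SpecialLinearGroup (Fin 2) F) : Matrix (Fin 2) (Fin 2) F) =
        c • (1 : Matrix (Fin 2) (Fin 2) F) := by
  rw [Subgroup.mem_comap, Subgroup.mem_centralizer_singleton_iff, ← SL2_mem_center_iff]
  rw [QuotientGroup.mk'_apply, ← QuotientGroup.mk_mul, ← QuotientGroup.mk_mul, QuotientGroup.eq]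

omit [Fintype F] in
theorem PSL2_index_centralizer_comap (g : Matrix.SpecialLinearGroup (Fin 2) F) :
    ((Subgroup.centralizer ({(QuotientGroup.mk g : Matrix.ProjectiveSpecialLinearGroup (Fin 2) F)} :
        Set (Matrix.ProjectiveSpecialLinearGroup (Fin 2) F))).comap
        (QuotientGroup.mk' (Subgroup.center (Matrix.SpecialLinearGroup (Fin 2) F)))).index =
    (Subgroup.centralizer ({(QuotientGroup.mk g : Matrix.ProjectiveSpecialLinearGroup (Fin 2) F)} :
        Set (Matrix.ProjectiveSpecialLinearGroup (Fin 2) F))).index :=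
  Subgroup.index_comap_of_surjective _ (QuotientGroup.mk'_surjective _)

omit [Fintype F] in
/-- In characteristic two the class sizes of `PSL₂` and `SL₂` agree. -/
theorem PSL2_index_centralizer_char_two (h2 : (2 : F) = 0) (g : Matrix.SpecialLinearGroup (Fin 2) F) :
    (Subgroup.centralizer ({(QuotientGroup.mk g : Matrix.ProjectiveSpecialLinearGroup (Fin 2) F)} :
        Set (Matrix.ProjectiveSpecialLinearGroup (Fin 2) F))).index =
    (Subgroup.centralizer ({g} : Set (Matrix.SpecialLinearGroup (Fin 2) F))).index := by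
  rw [← PSL2_index_centralizer_comap]
  congr 1
  ext h
  rw [PSL2_mem_comap_centralizer, Subgroup.mem_centralizer_singleton_iff]
  constructor
  · intro hc
    have h1 := SL2_eq_one_of_scalar_char_two h2 _ hc
    rw [inv_mul_eq_one] at h1
    exact h1
  · intro hc
    refine ⟨1, ?_⟩
    rw [hc, inv_mul_cancel, one_smul, Matrix.SpecialLinearGroup.coe_one]

omit [Fintype F] in
theorem SL2_center_iff (c : Matrix.SpecialLinearGroup (Fin 2) F) :
    c ∈ Subgroup.center (Matrix.SpecialLinearGroup (Fin 2) F) ↔ c = 1 ∨ c = signSL false := by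
  rw [SL2_mem_center_iff]
  constructor
  · intro h
    obtain ⟨s, rfl⟩ := SL2_scalar_eq_signSL c h
    cases s
    · right; rfl
    · left
      apply Subtype.ext
      rw [signSL_val]
      simp [sgnB]
  · rintro (rfl | rfl)
    · exact ⟨1, by simp⟩
    · exact ⟨_, signSL_val false⟩

omit [Fintype F] in
theorem signSL_true_eq_one : (signSL true : Matrix.SpecialLinearGroup (Fin 2) F) = 1 := by
  apply Subtype.ext
  rw [signSL_val]
  simp [sgnB]

omit [Fintype F] in
theorem signSL_false_mul_self :
    (signSL false : Matrix.SpecialLinearGroup (Fin 2) F) * signSL false = 1 := by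
  apply Subtype.ext
  rw [Matrix.SpecialLinearGroup.coe_mul, signSL_val]
  simp [sgnB]

omit [Fintype F] in
theorem trace_mul_signSL_false (g : Matrix.SpecialLinearGroup (Fin 2) F) :
    ((g * signSL false : Matrix.SpecialLinearGroup (Fin 2) F) : Matrix (Fin 2) (Fin 2) F).trace =
      -(g : Matrix (Fin 2) (Fin 2) F).trace := by
  rw [Matrix.SpecialLinearGroup.coe_mul, signSL_val]
  simp [sgnB]

omit [Fintype F] in
/-- Odd characteristic, nonzero trace: class sizes of `g` in `SL₂` and of its image in `PSL₂` agree. -/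
theorem PSL2_index_centralizer_of_trace_ne_zero (h2 : (2 : F) ≠ 0)
    (g : Matrix.SpecialLinearGroup (Fin 2) F) (htr : (g : Matrix (Fin 2) (Fin 2) F).trace ≠ 0) :
    (Subgroup.centralizer ({(QuotientGroup.mk g : Matrix.ProjectiveSpecialLinearGroup (Fin 2) F)} :
        Set (Matrix.ProjectiveSpecialLinearGroup (Fin 2) F))).index =
    (Subgroup.centralizer ({g} : Set (Matrix.SpecialLinearGroup (Fin 2) F))).index := by
  apply index_centralizer_mk_of_not_twist (signSL false) g SL2_center_iff
  intro b hb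
  apply htr
  have h1 : IsConj (g * signSL false) g := by
    rw [isConj_iff]
    refine ⟨b, ?_⟩
    rw [← mul_assoc, ← hb]
    group
  have h3 := SL2_trace_eq_of_isConj h1
  rw [trace_mul_signSL_false] at h3
  have h4 : 2 * (g : Matrix (Fin 2) (Fin 2) F).trace = 0 := by linear_combination -h3
  exact (mul_eq_zero.mp h4).resolve_left h2

/-- Odd characteristic, trace zero: the class of the image in `PSL₂` has half the size. -/
theorem PSL2_index_centralizer_of_trace_eq_zero (h2 : (2 : F) ≠ 0)
    (g : Matrix.SpecialLinearGroup (Fin 2) F) (htr : (g : Matrix (Fin 2) (Fin 2) F).trace = 0) :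
    2 * (Subgroup.centralizer ({(QuotientGroup.mk g : Matrix.ProjectiveSpecialLinearGroup (Fin 2) F)} :
        Set (Matrix.ProjectiveSpecialLinearGroup (Fin 2) F))).index =
    (Subgroup.centralizer ({g} : Set (Matrix.SpecialLinearGroup (Fin 2) F))).index := by
  have hconj : IsConj g (g * signSL false) := by
    apply SL2_isConj_of_trace_eq
    · rw [trace_mul_signSL_false, htr, neg_zero]
    · rw [htr]
      intro h
      apply h2
      have h4 : (2 : F) * 2 = 0 := by linear_combination -h
      exact mul_self_eq_zero.mp h4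
  obtain ⟨c, hc⟩ := isConj_iff.mp hconj
  apply index_centralizer_mk_of_twist (signSL false) g c⁻¹ SL2_center_iff
  · intro h
    rw [← signSL_true_eq_one] at h
    have := signSL_injective h2 h
    exact Bool.false_ne_true this
  · exact signSL_false_mul_self
  · rw [mul_assoc, ← hc]
    group

/-- A generator of the multiplicative group. -/
theorem exists_unit_pow_ne_one :
    ∃ a : Fˣ, ∀ k : ℕ, 0 < k → k < Fintype.card F - 1 → (a : F) ^ k ≠ 1 := by
  classical
  obtain ⟨ζ, hζ⟩ := IsCyclic.exists_generator (α := Fˣ)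
  have hord : orderOf ζ = Fintype.card F - 1 := by
    rw [orderOf_eq_card_of_forall_mem_zpowers hζ, Nat.card_eq_fintype_card, Fintype.card_units]
  refine ⟨ζ, fun k hk0 hk h => ?_⟩
  have h1 : ζ ^ k = 1 := by
    apply Units.ext
    rw [Units.val_pow_eq_pow_val, h, Units.val_one]
  have h2 := orderOf_dvd_of_pow_eq_one h1
  rw [hord] at h2
  have := Nat.le_of_dvd hk0 h2
  omega

/-- Existence of an elliptic element of order `q + 1`. -/
theorem exists_elliptic_orderOf :
    ∃ s : Matrix.SpecialLinearGroup (Fin 2) F, orderOf s = Fintype.card F + 1 ∧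
      ∀ r : F, r ^ 2 ≠ -1 + (s : Matrix (Fin 2) (Fin 2) F).trace * r := by
  obtain ⟨p, hp⟩ := CharP.exists F
  have : Fact p.Prime := ⟨CharP.char_is_prime F p⟩
  obtain ⟨s, hs⟩ := exists_SL2_orderOf_card_add_one (F := F)
  exact ⟨s, hs, nonsplit_elliptic p s hs⟩

omit [Fintype F] in
theorem SL2_pow_four_of_trace_zero (g : Matrix.SpecialLinearGroup (Fin 2) F)
    (htr : (g : Matrix (Fin 2) (Fin 2) F).trace = 0) : g ^ 4 = 1 := by
  have hsq := SL2_sq_eq g
  rw [htr, zero_smul, zero_sub] at hsq
  apply Subtype.ext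
  have e : g ^ 4 = (g * g) * (g * g) := by
    rw [show (4 : ℕ) = 2 + 2 from rfl, pow_add, pow_two]
  rw [e, Matrix.SpecialLinearGroup.coe_mul, Matrix.SpecialLinearGroup.coe_mul, hsq,
    Matrix.SpecialLinearGroup.coe_one]
  simp

/-- index of the centralizer from its order. -/
theorem SL2_index_centralizer_of_card (g : Matrix.SpecialLinearGroup (Fin 2) F) (c n : ℕ)
    (hc : Nat.card (Subgroup.centralizer ({g} : Set (Matrix.SpecialLinearGroup (Fin 2) F))) = c)
    (hc0 : 0 < c) (hn : n * c = Fintype.card F * (Fintype.card F ^ 2 - 1)) :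
    (Subgroup.centralizer ({g} : Set (Matrix.SpecialLinearGroup (Fin 2) F))).index = n := by
  apply Nat.eq_of_mul_eq_mul_right hc0
  rw [hn, ← SL2_index_centralizer_mul g, hc]

omit [Fintype F] in
theorem PSL2_index_centralizer_one :
    (Subgroup.centralizer ({(1 : Matrix.ProjectiveSpecialLinearGroup (Fin 2) F)} :
        Set (Matrix.ProjectiveSpecialLinearGroup (Fin 2) F))).index = 1 := by
  rw [Subgroup.index_eq_one, Subgroup.centralizer_eq_top_iff_subset]
  simp

omit [Fintype F] in
theorem mkSL_unip_not_scalar :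
    ¬ ∃ a : F, ((mkSL (1 : F) 1 0 1 (by ring) : Matrix.SpecialLinearGroup (Fin 2) F) :
      Matrix (Fin 2) (Fin 2) F) = a • (1 : Matrix (Fin 2) (Fin 2) F) := by
  rintro ⟨a, ha⟩
  have := congrFun (congrFun ha 0) 1
  simp [mkSL_val] at this

omit [Fintype F] in
theorem mkSL_unip_trace :
    ((mkSL (1 : F) 1 0 1 (by ring) : Matrix.SpecialLinearGroup (Fin 2) F) :
      Matrix (Fin 2) (Fin 2) F).trace ^ 2 = 4 := by
  rw [mkSL_val, Matrix.trace_fin_two]
  simp
  norm_num

end cls

end Cfsg.Agent.Lib.helper12
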