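import Mathlib
import Cfsg.Agent.Lib.helper12.SL2Tori
import Cfsg.Agent.Lib.helper1.Quat

set_option autoImplicit false

namespace Cfsg.Agent.Lib.helper12

open Matrix

section gen

variable {G : Type*} [Group G] [Finite G]

/-- If some element has order with full `r`-part, the Sylow `r`-subgroups are cyclic. -/
theorem sylow_isCyclic_of_orderOf (r : ℕ) [Fact r.Prime] (s : G)
    (h : (Nat.card G).factorization r = (orderOf s).factorization r) (P : Sylow r G) :
    IsCyclic (P : Subgroup G) := by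
  have hm0 : orderOf s ≠ 0 := (orderOf_pos s).ne'
  set m := orderOf s with hm
  set e := m.factorization r with he
  have hdvd : r ^ e ∣ m := Nat.ordProj_dvd m r
  have hpos : 0 < r ^ e := Nat.pos_of_ne_zero (pow_ne_zero _ (Fact.out : r.Prime).ne_zero)
  have hd : m / r ^ e ∣ m := Nat.div_dvd_of_dvd hdvd
  have hd0 : m / r ^ e ≠ 0 := (Nat.div_pos (Nat.le_of_dvd (Nat.pos_of_ne_zero hm0) hdvd) hpos).ne'
  have hord : orderOf (s ^ (m / r ^ e)) = r ^ e := by
    rw [orderOf_pow_of_dvd hd0 hd, ← hm, Nat.div_div_self hdvd hm0]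
  have hcard : Nat.card (Subgroup.zpowers (s ^ (m / r ^ e))) = r ^ (Nat.card G).factorization r := by
    rw [Nat.card_zpowers, hord, h]
  let Q : Sylow r G := Sylow.ofCard (Subgroup.zpowers (s ^ (m / r ^ e))) hcard
  have hQ : IsCyclic (Q : Subgroup G) := by
    show IsCyclic (Subgroup.zpowers (s ^ (m / r ^ e)))
    infer_instance
  exact isCyclic_of_surjective (Sylow.equiv Q P) (Sylow.equiv Q P).surjective

/-- Generalised quaternion Sylow `2`-subgroups from an inverted cyclic subgroup. -/
theorem sylow_two_quat (s w : G) (M : ℕ) (hs : orderOf s = M) (h4 : 4 ∣ M)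
    (hinv : w * s * w⁻¹ = s⁻¹) (hw : w ∉ Subgroup.zpowers s) (hww : w * w = s ^ (M / 2))
    (hfac : (Nat.card G).factorization 2 = M.factorization 2 + 1) (P : Sylow 2 G) :
    ∃ k : ℕ, 1 ≤ k ∧ Nonempty ((P : Subgroup G) ≃* QuaternionGroup (2 ^ k)) := by
  have hM0 : M ≠ 0 := by
    rw [← hs]
    exact (orderOf_pos s).ne'
  set e := M.factorization 2 with he
  have he2 : 2 ≤ e :=
    (Nat.Prime.pow_dvd_iff_le_factorization Nat.prime_two hM0).mp (by simpa using h4)
  obtain ⟨k, hk⟩ : ∃ k, e = k + 1 := ⟨e - 1, by omega⟩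
  have hk1 : 1 ≤ k := by omega
  have hdvd : 2 ^ e ∣ M := Nat.ordProj_dvd M 2
  have hpos : 0 < 2 ^ e := Nat.pos_of_ne_zero (pow_ne_zero _ (by norm_num))
  set d := M / 2 ^ e with hd
  have hd0 : d ≠ 0 := (Nat.div_pos (Nat.le_of_dvd (Nat.pos_of_ne_zero hM0) hdvd) hpos).ne'
  have hdM : d ∣ M := Nat.div_dvd_of_dvd hdvd
  have hMd : M = d * 2 ^ e := (Nat.div_mul_cancel hdvd).symm
  set ρ := s ^ d with hρdef
  have hordρ : orderOf ρ = 2 * 2 ^ k := by
    rw [hρdef, orderOf_pow_of_dvd hd0 (by rw [hs]; exact hdM), hs, hd, Nat.div_div_self hdvd hM0, hk,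
      pow_succ]
    ring
  have hρ : ρ ^ (2 * 2 ^ k) = 1 := by
    rw [← hordρ]
    exact pow_orderOf_eq_one ρ
  have hx : w * w = ρ ^ (2 ^ k) := by
    rw [hww, hρdef, ← pow_mul]
    congr 1
    rw [hMd, hk, pow_succ, ← mul_assoc, Nat.mul_div_cancel _ (by norm_num)]
  have hconj : w * ρ * w⁻¹ = ρ⁻¹ := by
    rw [hρdef, ← conj_pow, hinv, inv_pow]
  have hnot : w ∉ Subgroup.zpowers ρ := fun h =>
    hw (Subgroup.zpowers_le.mpr (Subgroup.pow_mem _ (Subgroup.mem_zpowers s) d) h)
  have hf : Function.Injective (Cfsg.Agent.Lib.helper1.quatHom w ρ (2 ^ k) hρ hx hconj) :=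
    Cfsg.Agent.Lib.helper1.quatHom_injective w ρ (2 ^ k) hρ hx hconj hordρ hnot
  have hcard : Nat.card (Cfsg.Agent.Lib.helper1.quatHom w ρ (2 ^ k) hρ hx hconj).range =
      2 ^ (Nat.card G).factorization 2 := by
    rw [← Nat.card_congr (MonoidHom.ofInjective hf).toEquiv, Nat.card_eq_fintype_card,
      QuaternionGroup.card, hfac, hk]
    ring
  exact ⟨k, hk1, ⟨(Sylow.equiv P (Sylow.ofCard _ hcard)).trans (MonoidHom.ofInjective hf).symm⟩⟩

end gen

section sl2

variable {F : Type*} [Field F] [Fintype F]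

/-- Sylow `r`-subgroups of `SL₂(q)` are cyclic for odd `r` different from the characteristic. -/
theorem SL2_sylow_cyclic (p : ℕ) [Fact p.Prime] [CharP F p] (r : ℕ) [Fact r.Prime] (hr : r ≠ 2)
    (hrp : r ≠ p) (R : Sylow r (Matrix.SpecialLinearGroup (Fin 2) F)) :
    IsCyclic (R : Subgroup (Matrix.SpecialLinearGroup (Fin 2) F)) := by
  classical
  have hrP : r.Prime := Fact.out
  have hpP : p.Prime := Fact.out
  have hq : 2 ≤ Fintype.card F := Fintype.one_lt_card
  have hrq : ¬ r ∣ Fintype.card F := by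
    obtain ⟨n, -, hn⟩ := FiniteField.card F p
    rw [hn]
    intro h
    exact hrp ((Nat.prime_dvd_prime_iff_eq hrP hpP).mp (hrP.dvd_of_dvd_pow h))
  by_cases h1 : r ∣ Fintype.card F - 1
  · obtain ⟨a, ha⟩ := IsCyclic.exists_generator (α := Fˣ)
    have horda : orderOf a = Fintype.card F - 1 := by
      rw [orderOf_eq_card_of_forall_mem_zpowers ha, Nat.card_eq_fintype_card, Fintype.card_units]
    apply sylow_isCyclic_of_orderOf r (diagSL a)
    rw [orderOf_diagSL, horda, card_SL2]
    exact factorization_card_SL2_of_dvd_sub _ r hq hrP hr h1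
  · by_cases h2 : r ∣ Fintype.card F + 1
    · obtain ⟨s, hs⟩ := exists_SL2_orderOf_card_add_one (F := F)
      apply sylow_isCyclic_of_orderOf r s
      rw [hs, card_SL2]
      exact factorization_card_SL2_of_dvd_add _ r hq hrP hr h2
    · apply sylow_isCyclic_of_orderOf r (1 : Matrix.SpecialLinearGroup (Fin 2) F)
      rw [orderOf_one, card_SL2, Nat.factorization_one, sq_sub_one_factor _ hq]
      simp only [Finsupp.coe_zero, Pi.zero_apply]
      apply Nat.factorization_eq_zero_of_not_dvd
      intro h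
      rcases (Nat.Prime.dvd_mul hrP).mp h with h | h
      · exact hrq h
      · rcases (Nat.Prime.dvd_mul hrP).mp h with h | h
        · exact h1 h
        · exact h2 h

theorem card_center_SL2_odd (h2 : (2 : F) ≠ 0) :
    Nat.card (Subgroup.center (Matrix.SpecialLinearGroup (Fin 2) F)) = 2 := by
  have e : Bool ≃ Subgroup.center (Matrix.SpecialLinearGroup (Fin 2) F) :=
    Equiv.ofBijective
      (fun s => ⟨signSL s, by rw [SL2_mem_center_iff]; exact ⟨_, signSL_val s⟩⟩)
      ⟨fun a b hab => signSL_injective h2 (congrArg Subtype.val hab),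
       fun ⟨g, hg⟩ => by
        obtain ⟨s, hs⟩ := SL2_scalar_eq_signSL g ((SL2_mem_center_iff g).mp hg)
        exact ⟨s, Subtype.ext hs.symm⟩⟩
  rw [← Nat.card_congr e]
  simp

theorem card_PSL2_odd (h2 : (2 : F) ≠ 0) :
    2 * Nat.card (Matrix.ProjectiveSpecialLinearGroup (Fin 2) F) =
      Fintype.card F * (Fintype.card F ^ 2 - 1) := by
  have h := Subgroup.card_eq_card_quotient_mul_card_subgroup
    (Subgroup.center (Matrix.SpecialLinearGroup (Fin 2) F))
  rw [card_SL2, card_center_SL2_odd h2] at h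
  rw [h]
  exact mul_comm _ _

/-- For `q ≡ 3, 5 (mod 8)` the Sylow `2`-subgroups of `PSL₂(q)` are Klein four groups. -/
theorem PSL2_sylow_two_klein {q : ℕ} (hF : Fintype.card F = q) (hq : q % 8 = 3 ∨ q % 8 = 5)
    (P : Sylow 2 (Matrix.ProjectiveSpecialLinearGroup (Fin 2) F)) :
    IsKleinFour (P : Subgroup (Matrix.ProjectiveSpecialLinearGroup (Fin 2) F)) := by
  classical
  obtain ⟨p, hp⟩ := CharP.exists F
  have hpP : p.Prime := (CharP.char_is_prime_or_zero F p).resolve_right (by
    intro h0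
    subst h0
    have : CharZero F := CharP.charP_to_charZero F
    exact not_finite F)
  have : Fact p.Prime := ⟨hpP⟩
  have hodd : Fintype.card F % 2 = 1 := by omega
  have h2 : (2 : F) ≠ 0 := two_ne_zero_of_card_odd hodd
  have hcard := card_PSL2_odd h2
  rw [hF] at hcard
  -- the order of `PSL₂(q)` is `4 * odd`
  obtain ⟨m, hm, hmodd⟩ : ∃ m : ℕ, Nat.card (Matrix.ProjectiveSpecialLinearGroup (Fin 2) F) = 4 * m ∧
      m % 2 = 1 := by
    rcases hq with hq | hq
    · obtain ⟨k, hk⟩ : ∃ k, q = 8 * k + 3 := ⟨q / 8, by omega⟩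
      refine ⟨(8 * k + 3) * (4 * k + 1) * (2 * k + 1), ?_, ?_⟩
      · have e : q * (q ^ 2 - 1) = 2 * (4 * ((8 * k + 3) * (4 * k + 1) * (2 * k + 1))) := by
          rw [sq_sub_one_factor q (by omega), hk]
          have : 8 * k + 3 - 1 = 8 * k + 2 := by omega
          rw [this]
          ring
        rw [e] at hcard
        omega
      · simp [Nat.mul_mod, Nat.add_mod]
    · obtain ⟨k, hk⟩ : ∃ k, q = 8 * k + 5 := ⟨q / 8, by omega⟩
      refine ⟨(8 * k + 5) * (2 * k + 1) * (4 * k + 3), ?_, ?_⟩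
      · have e : q * (q ^ 2 - 1) = 2 * (4 * ((8 * k + 5) * (2 * k + 1) * (4 * k + 3))) := by
          rw [sq_sub_one_factor q (by omega), hk]
          have : 8 * k + 5 - 1 = 8 * k + 4 := by omega
          rw [this]
          ring
        rw [e] at hcard
        omega
      · simp [Nat.mul_mod, Nat.add_mod]
  have hm0 : m ≠ 0 := by
    rintro rfl
    omega
  have hfac : (Nat.card (Matrix.ProjectiveSpecialLinearGroup (Fin 2) F)).factorization 2 = 2 := by
    rw [hm, Nat.factorization_mul (by norm_num) hm0]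
    have h4 : (4 : ℕ) = 2 ^ 2 := by norm_num
    rw [h4, Nat.Prime.factorization_pow Nat.prime_two]
    simp only [Finsupp.coe_add, Pi.add_apply, Finsupp.single_eq_same]
    rw [Nat.factorization_eq_zero_of_not_dvd (by omega)]
  have hPcard : Nat.card (P : Subgroup (Matrix.ProjectiveSpecialLinearGroup (Fin 2) F)) = 4 := by
    rw [Sylow.card_eq_multiplicity, hfac]
    norm_num
  have hsq : ∀ x : (P : Subgroup (Matrix.ProjectiveSpecialLinearGroup (Fin 2) F)), x ^ 2 = 1 := by
    intro x
    obtain ⟨j, hj⟩ := (IsPGroup.iff_orderOf.mp P.isPGroup') x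
    have hgcd : Nat.gcd 2 (Fintype.card F - 1) = 2 := by
      rcases card_parity_cases (F := F) with ⟨-, -, h⟩ | ⟨-, h, -⟩
      · exact h
      · omega
    have hdvd := PSL2_orderOf_dvd p (x : Matrix.ProjectiveSpecialLinearGroup (Fin 2) F)
    rw [hgcd, hF, Subgroup.orderOf_coe, hj] at hdvd
    have hj1 : j ≤ 1 := by
      by_contra hcon
      push Not at hcon
      have h4 : 4 ∣ 2 ^ j := by
        have : (4 : ℕ) = 2 ^ 2 := by norm_num
        rw [this]
        exact pow_dvd_pow 2 hcon
      rcases hdvd with h | h | h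
      · have h4p := h4.trans h
        rcases (Nat.dvd_prime hpP).mp h4p with h' | h'
        · omega
        · rw [← h'] at hpP
          exact absurd hpP (by norm_num)
      · have := h4.trans h
        omega
      · have := h4.trans h
        omega
    have : orderOf x ∣ 2 := by
      rw [hj]
      interval_cases j <;> norm_num
    exact orderOf_dvd_iff_pow_eq_one.mp this
  refine ⟨hPcard, ?_⟩
  have hexp : Monoid.exponent (P : Subgroup (Matrix.ProjectiveSpecialLinearGroup (Fin 2) F)) ∣ 2 :=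
    Monoid.exponent_dvd_of_forall_pow_eq_one hsq
  rcases (Nat.dvd_prime Nat.prime_two).mp hexp with h | h
  · have hsub := Monoid.exp_eq_one_iff.mp h
    haveI := hsub
    have := Nat.card_of_subsingleton (1 : (P : Subgroup (Matrix.ProjectiveSpecialLinearGroup (Fin 2) F)))
    omega
  · exact h

theorem factorization_two_of_mod_four (n : ℕ) (h : n % 4 = 2) : n.factorization 2 = 1 := by
  obtain ⟨m, hm⟩ : ∃ m, n = 2 * m := ⟨n / 2, by omega⟩
  have hm0 : m ≠ 0 := by
    rintro rfl
    omega
  rw [hm, Nat.factorization_mul (by norm_num) hm0]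
  simp only [Finsupp.coe_add, Pi.add_apply]
  rw [Nat.Prime.factorization_self Nat.prime_two, Nat.factorization_eq_zero_of_not_dvd (by omega)]

theorem factorization_two_card_SL2 (q : ℕ) (hq : 2 ≤ q) (hodd : q % 2 = 1) :
    (q * (q ^ 2 - 1)).factorization 2 = (q - 1).factorization 2 + (q + 1).factorization 2 := by
  rw [sq_sub_one_factor q hq, Nat.factorization_mul (by omega) (Nat.mul_ne_zero (by omega) (by omega)),
    Nat.factorization_mul (by omega) (by omega)]
  simp only [Finsupp.coe_add, Pi.add_apply]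
  rw [Nat.factorization_eq_zero_of_not_dvd (by omega)]
  omega

/-- For `q` odd, the Sylow `2`-subgroups of `SL₂(q)` are generalised quaternion. -/
theorem SL2_sylow_two_quat (hodd : Fintype.card F % 2 = 1)
    (P : Sylow 2 (Matrix.SpecialLinearGroup (Fin 2) F)) :
    ∃ k : ℕ, 1 ≤ k ∧ Nonempty ((P : Subgroup (Matrix.SpecialLinearGroup (Fin 2) F)) ≃*
      QuaternionGroup (2 ^ k)) := by
  classical
  have h2 : (2 : F) ≠ 0 := two_ne_zero_of_card_odd hodd
  have hq : 2 ≤ Fintype.card F := Fintype.one_lt_card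
  obtain ⟨p, hchar, n, hp, hn⟩ := FiniteField.card' F
  have := hchar
  have : Fact p.Prime := ⟨hp⟩
  have key : ∀ (s w : Matrix.SpecialLinearGroup (Fin 2) F) (M : ℕ), InvTorus s w → orderOf s = M →
      4 ∣ M → (Fintype.card F * (Fintype.card F ^ 2 - 1)).factorization 2 = M.factorization 2 + 1 →
      ∃ k : ℕ, 1 ≤ k ∧ Nonempty ((P : Subgroup (Matrix.SpecialLinearGroup (Fin 2) F)) ≃*
        QuaternionGroup (2 ^ k)) := by
    intro s w M hT hs h4 hfac
    have hM0 : M ≠ 0 := by
      rw [← hs]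
      exact (orderOf_pos s).ne'
    have hM2 : 2 ∣ M := Dvd.dvd.trans (by norm_num) h4
    have hww : ((w * w : Matrix.SpecialLinearGroup (Fin 2) F) : Matrix (Fin 2) (Fin 2) F) = -1 :=
      SL2_sq_eq_neg_one_of_invTorus h2 hT w hT.w_mem_normalizer hT.w_not_mem
    have hsM : ((s ^ (M / 2) : Matrix.SpecialLinearGroup (Fin 2) F) : Matrix (Fin 2) (Fin 2) F) = -1 := by
      have h1 : s ^ (M / 2) * s ^ (M / 2) = 1 := by
        rw [← pow_add, ← two_mul, Nat.mul_div_cancel' hM2, ← hs, pow_orderOf_eq_one]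
      obtain ⟨c, hc⟩ := SL2_scalar_of_mul_self_eq_one h2 _ h1
      obtain ⟨b, hb⟩ := SL2_scalar_eq_signSL _ ⟨c, hc⟩
      cases b
      · rw [hb, signSL_val]
        simp [sgnB]
      · exfalso
        have h1' : s ^ (M / 2) = 1 := by
          rw [hb]
          apply Subtype.ext
          rw [signSL_val]
          simp [sgnB]
        have h3 := orderOf_dvd_of_pow_eq_one h1'
        rw [hs] at h3
        have h5 := Nat.le_of_dvd (Nat.div_pos (Nat.le_of_dvd (Nat.pos_of_ne_zero hM0) hM2) (by norm_num)) h3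
        omega
    exact sylow_two_quat s w M hs h4 hT.inv hT.w_not_mem (Subtype.ext (hww.trans hsM.symm))
      (by rw [card_SL2]; exact hfac) P
  have hfac := factorization_two_card_SL2 (Fintype.card F) hq hodd
  by_cases h41 : Fintype.card F % 4 = 1
  · obtain ⟨a, ha⟩ := IsCyclic.exists_generator (α := Fˣ)
    have horda : orderOf a = Fintype.card F - 1 := by
      rw [orderOf_eq_card_of_forall_mem_zpowers ha, Nat.card_eq_fintype_card, Fintype.card_units]
    have ha2 : (a : F) ^ 2 ≠ 1 := by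
      intro h
      have h' : a ^ 2 = 1 := Units.ext (by simpa using h)
      have := orderOf_dvd_of_pow_eq_one h'
      rw [horda] at this
      have := Nat.le_of_dvd (by norm_num) this
      omega
    have hT := split_invTorus h2 a ha ha2
    apply key (diagSL a) weylSL (Fintype.card F - 1) hT (by rw [orderOf_diagSL, horda]) (by omega)
    rw [hfac, factorization_two_of_mod_four (Fintype.card F + 1) (by omega)]
  · obtain ⟨s, hs, hcent⟩ := exists_nonsplit_generator (F := F)
    obtain ⟨w, hT⟩ := nonsplit_invTorus p h2 s hs hcent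
    apply key s w (Fintype.card F + 1) hT hs (by omega)
    rw [hfac, factorization_two_of_mod_four (Fintype.card F - 1) (by omega)]
    omega

end sl2

end Cfsg.Agent.Lib.helper12
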