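import Mathlib
import Cfsg.Agent.Lib.helper12.SL2Syl
import Cfsg.Agent.Lib.helper12.PSL2Cls

set_option autoImplicit false

namespace Cfsg.Agent.Lib.helper12


section dih

variable {G : Type*} [Group G]

/-- The subgroup `⟨x⟩ ∪ w⟨x⟩` for an involution `w` inverting `x`. -/
def dihSub (x w : G) (hx : w * x * w⁻¹ = x⁻¹) (hww : w * w = 1) : Subgroup G where
  carrier := {g | g ∈ Subgroup.zpowers x ∨ w * g ∈ Subgroup.zpowers x}
  one_mem' := Or.inl (one_mem _)
  mul_mem' := by
    have hwi : w⁻¹ = w := inv_eq_of_mul_eq_one_left hww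
    have hconj : ∀ a ∈ Subgroup.zpowers x, w * a * w⁻¹ = a⁻¹ := by
      intro a ha
      obtain ⟨i, rfl⟩ := Subgroup.mem_zpowers_iff.mp ha
      rw [← conj_zpow, hx, inv_zpow]
    rintro a b (ha | ha) (hb | hb)
    · exact Or.inl (mul_mem ha hb)
    · right
      have e : w * (a * b) = (w * a * w⁻¹) * (w * b) := by group
      rw [e, hconj a ha]
      exact mul_mem (inv_mem ha) hb
    · right
      rw [← mul_assoc]
      exact mul_mem ha hb
    · left
      have e : a * b = w⁻¹ * (w * a) * w⁻¹ * (w * b) := by group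
      rw [e, hwi]
      have e2 : w * (w * a) * w * (w * b) = (w * (w * a) * w⁻¹) * (w * b) := by rw [hwi]
      rw [e2, hconj _ ha]
      exact mul_mem (inv_mem ha) hb
  inv_mem' := by
    have hwi : w⁻¹ = w := inv_eq_of_mul_eq_one_left hww
    have hconj : ∀ a ∈ Subgroup.zpowers x, w * a * w⁻¹ = a⁻¹ := by
      intro a ha
      obtain ⟨i, rfl⟩ := Subgroup.mem_zpowers_iff.mp ha
      rw [← conj_zpow, hx, inv_zpow]
    rintro a (ha | ha)
    · exact Or.inl (inv_mem ha)
    · right
      have e : w * a⁻¹ = w * (w * a)⁻¹ * w := by group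
      have e2 : w * (w * a)⁻¹ * w = w * (w * a)⁻¹ * w⁻¹ := by rw [hwi]
      rw [e, e2, hconj _ (inv_mem ha), inv_inv]
      exact ha

theorem mem_dihSub (x w : G) (hx : w * x * w⁻¹ = x⁻¹) (hww : w * w = 1) (g : G) :
    g ∈ dihSub x w hx hww ↔ g ∈ Subgroup.zpowers x ∨ w * g ∈ Subgroup.zpowers x := Iff.rfl

end dih

section dihsyl

variable {G : Type*} [Group G]

theorem InvTorus.mem_or_of_conj_mem {s w : G} (h : InvTorus s w) (g : G)
    (h1 : g * s * g⁻¹ ∈ Subgroup.zpowers s) :
    g ∈ Subgroup.zpowers s ∨ w⁻¹ * g ∈ Subgroup.zpowers s := by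
  rcases h.conj g h1 with h2 | h2
  · left
    apply h.cent
    have h3 : g * s = (g * s * g⁻¹) * g := by group
    rw [h3, h2]
  · right
    apply h.cent
    have h3 : w⁻¹ * g * s = w⁻¹ * (g * s * g⁻¹) * g := by group
    rw [h3, h2]
    have h4 := h.inv
    have h5 : w⁻¹ * s⁻¹ = s * w⁻¹ := by
      rw [← h4]
      group
    rw [h5]
    group

/-- A dihedral Sylow `2`-subgroup built from an inverted self-centralising cyclic subgroup, with the
properties needed for the simplicity of the `2`-fusion system. -/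
theorem exists_dihedral_sylow [Finite G] (s w : G) (h : InvTorus s w)
    (hww : w * w = 1) (m : ℕ) (hs : orderOf s = m) (h4 : 4 ∣ m)
    (hfac : (Nat.card G).factorization 2 = m.factorization 2 + 1)
    (hreg : ∀ y ∈ Subgroup.zpowers s, y * y ≠ 1 → ∀ g : G, g * y = y * g → g ∈ Subgroup.zpowers s) :
    ∃ (S0 : Subgroup G) (z : G), Nat.card S0 = 2 ^ (Nat.card G).factorization 2 ∧
      z ∈ S0 ∧ z ≠ 1 ∧ z * z = 1 ∧
      (∀ c ∈ S0, (∀ y ∈ S0, c * y = y * c) → c = 1 ∨ c = z) ∧
      S0 ≤ Subgroup.closure {y : G | y ∈ S0 ∧ y ≠ 1 ∧ y * y = 1} ∧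
      Subgroup.normalizer (S0 : Set G) = S0 := by
  classical
  have hm0 : m ≠ 0 := by rw [← hs]; exact (orderOf_pos s).ne'
  set e := m.factorization 2 with he
  have he2 : 2 ≤ e :=
    (Nat.Prime.pow_dvd_iff_le_factorization Nat.prime_two hm0).mp (by simpa using h4)
  have hdvd : 2 ^ e ∣ m := Nat.ordProj_dvd m 2
  have hpos : 0 < 2 ^ e := Nat.pos_of_ne_zero (pow_ne_zero _ (by norm_num))
  set d := m / 2 ^ e with hd
  have hd0 : d ≠ 0 := (Nat.div_pos (Nat.le_of_dvd (Nat.pos_of_ne_zero hm0) hdvd) hpos).ne'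
  have hdm : d ∣ m := Nat.div_dvd_of_dvd hdvd
  have hmd : m = d * 2 ^ e := (Nat.div_mul_cancel hdvd).symm
  have hdodd : ¬ 2 ∣ d := Nat.not_dvd_ordCompl Nat.prime_two hm0
  set x := s ^ d with hxdef
  have hordx : orderOf x = 2 ^ e := by
    rw [hxdef, orderOf_pow_of_dvd hd0 (by rw [hs]; exact hdm), hs, hd, Nat.div_div_self hdvd hm0]
  have hxT : x ∈ Subgroup.zpowers s := Subgroup.pow_mem _ (Subgroup.mem_zpowers s) d
  have hXT : Subgroup.zpowers x ≤ Subgroup.zpowers s := Subgroup.zpowers_le.mpr hxT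
  have hxinv : w * x * w⁻¹ = x⁻¹ := h.w_conj hxT
  have hwi : w⁻¹ = w := inv_eq_of_mul_eq_one_left hww
  have hwT : w ∉ Subgroup.zpowers s := h.w_not_mem
  have hxx : x * x ≠ 1 := by
    intro hxx
    have h1 : orderOf x ∣ 2 := orderOf_dvd_of_pow_eq_one (by rw [pow_two]; exact hxx)
    rw [hordx] at h1
    have h2 := Nat.le_of_dvd (by norm_num) h1
    have h3 : 2 ^ 2 ≤ 2 ^ e := Nat.pow_le_pow_right (by norm_num) he2
    omega
  set S0 := dihSub x w hxinv hww with hS0
  have hXS : Subgroup.zpowers x ≤ S0 := fun g hg => Or.inl hg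
  have hwS : w ∈ S0 := Or.inr (by rw [hww]; exact one_mem _)
  -- elements of the coset are involutions
  have hsq : ∀ g : G, w * g ∈ Subgroup.zpowers x → g * g = 1 := by
    intro g hg
    have h1 : w * (w * g) * w⁻¹ = (w * g)⁻¹ := h.w_conj (hXT hg)
    have h2 : g * w = (w * g)⁻¹ := by rw [← h1, hwi, ← mul_assoc w w g, hww, one_mul]
    rw [mul_inv_rev, hwi] at h2
    have h3 : g = g⁻¹ := mul_right_cancel h2
    exact mul_eq_one_iff_eq_inv.mpr h3
  have hcard : Nat.card S0 = 2 ^ (Nat.card G).factorization 2 := by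
    have hb : Nat.card (Bool × Subgroup.zpowers x) = 2 * 2 ^ e := by
      rw [Nat.card_prod, Nat.card_eq_fintype_card, Fintype.card_bool, Nat.card_zpowers, hordx]
    rw [hfac, pow_succ, mul_comm, ← hb]
    symm
    refine Nat.card_congr (Equiv.ofBijective
      (fun p : Bool × Subgroup.zpowers x =>
        (⟨if p.1 then w * (p.2 : G) else (p.2 : G), by
          cases hp : p.1
          · simp only [Bool.false_eq_true, if_false]
            exact Or.inl p.2.2
          · simp only [if_true]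
            right
            rw [← mul_assoc, hww, one_mul]
            exact p.2.2⟩ : S0)) ⟨?_, ?_⟩)
    · rintro ⟨b, z⟩ ⟨b', z'⟩ hzz
      have h1 := congrArg Subtype.val hzz
      simp only at h1
      cases b <;> cases b' <;> simp only [Bool.false_eq_true, if_false, if_true] at h1
      · rw [Subtype.ext h1]
      · exfalso
        apply hwT
        have : w = (z : G) * (z' : G)⁻¹ := by rw [h1]; group
        rw [this]
        exact mul_mem (hXT z.2) (Subgroup.inv_mem _ (hXT z'.2))
      · exfalso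
        apply hwT
        have : w = (z' : G) * (z : G)⁻¹ := by rw [← h1]; group
        rw [this]
        exact mul_mem (hXT z'.2) (Subgroup.inv_mem _ (hXT z.2))
      · rw [Subtype.ext (mul_left_cancel h1)]
    · rintro ⟨g, hg⟩
      rcases hg with h1 | h1
      · refine ⟨(false, ⟨g, h1⟩), ?_⟩
        apply Subtype.ext
        simp
      · refine ⟨(true, ⟨w * g, h1⟩), ?_⟩
        apply Subtype.ext
        simp [← mul_assoc, hww]
  obtain ⟨k, hk⟩ : ∃ k, e = k + 1 := ⟨e - 1, by omega⟩
  set z := x ^ (2 ^ k) with hz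
  have hzX : z ∈ Subgroup.zpowers x := Subgroup.pow_mem _ (Subgroup.mem_zpowers x) _
  have hzz : z * z = 1 := by
    rw [hz, ← pow_add, ← two_mul, ← pow_succ', ← hk, ← hordx, pow_orderOf_eq_one]
  have hz1 : z ≠ 1 := by
    intro h1
    have h2 := orderOf_dvd_of_pow_eq_one h1
    rw [hordx, hk] at h2
    have h3 := Nat.le_of_dvd (by positivity) h2
    have h4 : 2 ^ k < 2 ^ (k + 1) := Nat.pow_lt_pow_right (by norm_num) (by omega)
    omega
  have hcent : ∀ c ∈ S0, (∀ y ∈ S0, c * y = y * c) → c = 1 ∨ c = z := by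
    intro c hc hcomm
    rcases hc with hc | hc
    · have h1 := hcomm w hwS
      have h2 := h.w_conj (hXT hc)
      have h3 : c = c⁻¹ := by rw [← h2, ← h1, mul_inv_cancel_right]
      have h4 : c * c = 1 := mul_eq_one_iff_eq_inv.mpr h3
      obtain ⟨i, rfl⟩ := Subgroup.mem_zpowers_iff.mp hc
      have h5 : x ^ (2 * i) = 1 := by rw [two_mul, zpow_add]; exact h4
      have h6 := orderOf_dvd_iff_zpow_eq_one.mpr h5
      rw [hordx, hk] at h6
      have h7 : ((2 : ℤ) ^ k) ∣ i := by
        push_cast at h6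
        rw [pow_succ, mul_comm] at h6
        exact (mul_dvd_mul_iff_left (by norm_num : (2 : ℤ) ≠ 0)).mp h6
      obtain ⟨j, rfl⟩ := h7
      have h8 : x ^ ((2 : ℤ) ^ k * j) = z ^ j := by
        rw [zpow_mul, hz]
        congr 1
        exact_mod_cast zpow_natCast x (2 ^ k)
      rw [h8]
      rcases Int.even_or_odd j with ⟨t, rfl⟩ | ⟨t, rfl⟩
      · left
        rw [← two_mul, zpow_mul, zpow_two, hzz, one_zpow]
      · right
        rw [zpow_add, zpow_mul, zpow_two, hzz, one_zpow, one_mul, zpow_one]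
    · exfalso
      apply hxx
      have h1 := hcomm x (hXS (Subgroup.mem_zpowers x))
      have h2 : (w * c) * x = x * (w * c) := zpowers_comm hc (Subgroup.mem_zpowers x)
      have h3 : w * x = x * w := by
        have h3' : w * (c * x) = x * (w * c) := by rw [← mul_assoc]; exact h2
        rw [h1, ← mul_assoc, ← mul_assoc] at h3'
        exact mul_right_cancel h3'
      have h4 : x⁻¹ = x := by rw [← hxinv, h3, mul_inv_cancel_right]
      exact mul_eq_one_iff_eq_inv.mpr h4.symm
  have hgen : S0 ≤ Subgroup.closure {y : G | y ∈ S0 ∧ y ≠ 1 ∧ y * y = 1} := by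
    have hwI : w ∈ Subgroup.closure {y : G | y ∈ S0 ∧ y ≠ 1 ∧ y * y = 1} := by
      apply Subgroup.subset_closure
      refine ⟨hwS, ?_, hww⟩
      intro h1
      rw [h1] at hwT
      exact hwT (one_mem _)
    have hwxI : w * x ∈ Subgroup.closure {y : G | y ∈ S0 ∧ y ≠ 1 ∧ y * y = 1} := by
      apply Subgroup.subset_closure
      refine ⟨mul_mem hwS (hXS (Subgroup.mem_zpowers x)), ?_, ?_⟩
      · intro h1
        apply hwT
        have h2 : w = x⁻¹ := mul_eq_one_iff_eq_inv.mp h1
        rw [h2]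
        exact inv_mem hxT
      · apply hsq
        rw [← mul_assoc, hww, one_mul]
        exact Subgroup.mem_zpowers x
    have hxI : x ∈ Subgroup.closure {y : G | y ∈ S0 ∧ y ≠ 1 ∧ y * y = 1} := by
      have h1 : x = w * (w * x) := by rw [← mul_assoc, hww, one_mul]
      rw [h1]
      exact mul_mem hwI hwxI
    intro g hg
    rcases hg with hg | hg
    · exact Subgroup.zpowers_le.mpr hxI hg
    · have h1 : g = w * (w * g) := by rw [← mul_assoc, hww, one_mul]
      rw [h1]
      exact mul_mem hwI (Subgroup.zpowers_le.mpr hxI hg)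
  have hnorm : Subgroup.normalizer (S0 : Set G) = S0 := by
    apply le_antisymm _ Subgroup.le_normalizer
    intro g hg
    have hgx : g * x * g⁻¹ ∈ S0 :=
      (Subgroup.mem_normalizer_iff.mp hg x).mp (hXS (Subgroup.mem_zpowers x))
    have hyy : (g * x * g⁻¹) * (g * x * g⁻¹) ≠ 1 := by
      intro h2
      apply hxx
      have h3 : g * (x * x) * g⁻¹ = 1 := by rw [← h2]; group
      exact conj_eq_one_iff.mp h3
    have hyX : g * x * g⁻¹ ∈ Subgroup.zpowers x := by
      rcases hgx with h1 | h1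
      · exact h1
      · exact absurd (hsq _ h1) hyy
    have hyT := hXT hyX
    have hconjT : ∀ t ∈ Subgroup.zpowers s, g⁻¹ * t * g ∈ Subgroup.zpowers s := by
      intro t ht
      apply hreg x hxT hxx
      have h1 : t * (g * x * g⁻¹) = (g * x * g⁻¹) * t := zpowers_comm ht hyT
      calc g⁻¹ * t * g * x = g⁻¹ * (t * (g * x * g⁻¹)) * g := by group
        _ = g⁻¹ * ((g * x * g⁻¹) * t) * g := by rw [h1]
        _ = x * (g⁻¹ * t * g) := by group
    have h1 : g⁻¹ * s * g⁻¹⁻¹ ∈ Subgroup.zpowers s := by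
      rw [inv_inv]
      exact hconjT s (Subgroup.mem_zpowers s)
    have hkey : ∀ t ∈ Subgroup.zpowers s, t ∈ Subgroup.normalizer (S0 : Set G) →
        t ∈ Subgroup.zpowers x := by
      intro t ht htN
      have h2 : t * w * t⁻¹ ∈ S0 := (Subgroup.mem_normalizer_iff.mp htN w).mp hwS
      have h3 : w * (t * w * t⁻¹) = t⁻¹ * t⁻¹ := by
        have h4 := h.w_conj ht
        calc w * (t * w * t⁻¹) = (w * t * w⁻¹) * (w * w) * t⁻¹ := by group
          _ = t⁻¹ * t⁻¹ := by rw [h4, hww, mul_one]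
      have h5 : t⁻¹ * t⁻¹ ∈ Subgroup.zpowers x := by
        rcases h2 with h2 | h2
        · exfalso
          apply hwT
          have h6 : w = t⁻¹ * (t * w * t⁻¹) * t := by group
          rw [h6]
          exact mul_mem (mul_mem (inv_mem ht) (hXT h2)) ht
        · rw [← h3]
          exact h2
      have h6 : t * t ∈ Subgroup.zpowers x := by
        have h6' := inv_mem h5
        rwa [mul_inv_rev, inv_inv] at h6'
      have h7 : (t * t) ^ (2 ^ e) = 1 := by
        obtain ⟨i, hi⟩ := Subgroup.mem_zpowers_iff.mp h6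
        rw [← hi, ← zpow_natCast, ← zpow_mul, mul_comm, zpow_mul, zpow_natCast, ← hordx,
          pow_orderOf_eq_one, one_zpow]
      have h8 : t ^ (2 ^ (e + 1)) = 1 := by
        rw [pow_succ, mul_comm, pow_mul, pow_two]
        exact h7
      have h9 : t ^ m = 1 := by
        obtain ⟨i, hi⟩ := Subgroup.mem_zpowers_iff.mp ht
        rw [← hi, ← zpow_natCast, ← zpow_mul, mul_comm, zpow_mul, zpow_natCast, ← hs,
          pow_orderOf_eq_one, one_zpow]
      have h10 : t ^ (2 ^ e) = 1 := by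
        have hg : Nat.gcd (2 ^ (e + 1)) m = 2 ^ e := by
          rw [hmd, pow_succ, mul_comm (2 ^ e) 2, Nat.gcd_mul_right,
            (Nat.Prime.coprime_iff_not_dvd Nat.prime_two).mpr hdodd, one_mul]
        rw [← hg]
        exact pow_gcd_eq_one.mpr ⟨h8, h9⟩
      obtain ⟨i, hi⟩ := Subgroup.mem_zpowers_iff.mp ht
      have h11 : s ^ (i * ((2 ^ e : ℕ) : ℤ)) = 1 := by
        rw [zpow_mul, hi, zpow_natCast]
        exact h10
      have h12 := orderOf_dvd_iff_zpow_eq_one.mpr h11
      rw [hs, hmd] at h12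
      have h13 : (d : ℤ) ∣ i := by
        push_cast at h12
        exact (mul_dvd_mul_iff_right (by positivity : ((2 : ℤ) ^ e) ≠ 0)).mp h12
      obtain ⟨j, rfl⟩ := h13
      rw [← hi, zpow_mul, zpow_natCast]
      exact Subgroup.zpow_mem_zpowers x j
    rcases h.mem_or_of_conj_mem g⁻¹ h1 with h2 | h2
    · have hgT : g ∈ Subgroup.zpowers s := by simpa using inv_mem h2
      exact hXS (hkey g hgT hg)
    · have hgT : g * w ∈ Subgroup.zpowers s := by
        have h3 := inv_mem h2
        rwa [mul_inv_rev, inv_inv, inv_inv] at h3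
      have h3 := hkey (g * w) hgT (mul_mem hg (Subgroup.le_normalizer hwS))
      have h4 : g = (g * w) * w := by rw [mul_assoc, hww, mul_one]
      rw [h4]
      exact mul_mem (hXS h3) hwS
  exact ⟨S0, z, hcard, hXS hzX, hz1, hzz, hcent, hgen, hnorm⟩

end dihsyl

section quot

variable {G : Type*} [Group G]

/-- An inverted torus passes to a central-type quotient. -/
theorem InvTorus.quot {s w : G} (h : InvTorus s w) (N : Subgroup G) [N.Normal]
    (hN : N ≤ Subgroup.zpowers s)
    (htw : ∀ g : G, (g * s)⁻¹ * (s * g) ∈ N → g * s = s * g)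
    (hs2 : s * s ∉ N) :
    InvTorus (QuotientGroup.mk s : G ⧸ N) (QuotientGroup.mk w) where
  cent := by
    intro g
    obtain ⟨g, rfl⟩ := QuotientGroup.mk_surjective g
    intro hc
    rw [← QuotientGroup.mk_mul, ← QuotientGroup.mk_mul, QuotientGroup.eq] at hc
    have h1 := h.cent g (htw g hc)
    obtain ⟨i, rfl⟩ := Subgroup.mem_zpowers_iff.mp h1
    rw [QuotientGroup.mk_zpow]
    exact Subgroup.zpow_mem_zpowers _ i
  inv := by
    rw [← QuotientGroup.mk_inv, ← QuotientGroup.mk_mul, ← QuotientGroup.mk_mul, h.inv,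
      QuotientGroup.mk_inv]
  ne := by
    intro h1
    apply hs2
    have h2 : (QuotientGroup.mk s : G ⧸ N) * QuotientGroup.mk s = 1 := mul_eq_one_iff_eq_inv.mpr h1
    rw [← QuotientGroup.mk_mul, QuotientGroup.eq_one_iff] at h2
    exact h2
  conj := by
    intro g
    obtain ⟨g, rfl⟩ := QuotientGroup.mk_surjective g
    intro hc
    obtain ⟨i, hi⟩ := Subgroup.mem_zpowers_iff.mp hc
    rw [← QuotientGroup.mk_inv, ← QuotientGroup.mk_mul, ← QuotientGroup.mk_mul,
      ← QuotientGroup.mk_zpow, QuotientGroup.eq] at hi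
    have h1 : g * s * g⁻¹ ∈ Subgroup.zpowers s := by
      have h2 := hN hi
      have h3 : g * s * g⁻¹ = s ^ i * ((s ^ i)⁻¹ * (g * s * g⁻¹)) := by group
      rw [h3]
      exact mul_mem (Subgroup.zpow_mem_zpowers s i) h2
    rcases h.conj g h1 with h2 | h2
    · left
      rw [← QuotientGroup.mk_inv, ← QuotientGroup.mk_mul, ← QuotientGroup.mk_mul, h2]
    · right
      rw [← QuotientGroup.mk_inv, ← QuotientGroup.mk_mul, ← QuotientGroup.mk_mul, h2,
        QuotientGroup.mk_inv]

end quot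

section psl

variable {F : Type*} [Field F]

/-- If `g` commutes with `t` modulo the centre of `SL₂` and `t²` is not central, then `g` commutes with `t`. -/
theorem SL2_comm_of_center_comm (h2 : (2 : F) ≠ 0) (t g : Matrix.SpecialLinearGroup (Fin 2) F)
    (ht : t * t ∉ Subgroup.center (Matrix.SpecialLinearGroup (Fin 2) F))
    (hc : (g * t)⁻¹ * (t * g) ∈ Subgroup.center (Matrix.SpecialLinearGroup (Fin 2) F)) :
    g * t = t * g := by
  rcases (SL2_center_iff _).mp hc with h1 | h1
  · exact inv_mul_eq_one.mp h1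
  · exfalso
    apply ht
    have h3 : t * g = g * t * signSL false := inv_mul_eq_iff_eq_mul.mp h1
    have hconj : IsConj (t * signSL false) t := by
      rw [isConj_iff]
      refine ⟨g, ?_⟩
      rw [← mul_assoc, ← h3]
      group
    have h4 := SL2_trace_eq_of_isConj hconj
    rw [trace_mul_signSL_false] at h4
    have h5 : 2 * (t : Matrix (Fin 2) (Fin 2) F).trace = 0 := by linear_combination -h4
    have h6 : (t : Matrix (Fin 2) (Fin 2) F).trace = 0 := (mul_eq_zero.mp h5).resolve_left h2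
    have h7 := SL2_pow_four_of_trace_zero t h6
    have h8 : (t * t) * (t * t) = 1 := by
      rw [← h7, show (4 : ℕ) = 2 + 2 from rfl, pow_add, pow_two]
    rw [SL2_mem_center_iff]
    exact SL2_scalar_of_mul_self_eq_one h2 _ h8

/-- Involutions of `PSL₂` in odd characteristic form one conjugacy class. -/
theorem PSL2_involutions_isConj [Fintype F] (h2 : (2 : F) ≠ 0)
    (x y : Matrix.ProjectiveSpecialLinearGroup (Fin 2) F)
    (hx : x ≠ 1) (hxx : x * x = 1) (hy : y ≠ 1) (hyy : y * y = 1) : IsConj x y := by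
  have key : ∀ g : Matrix.SpecialLinearGroup (Fin 2) F,
      (QuotientGroup.mk g : Matrix.ProjectiveSpecialLinearGroup (Fin 2) F) ≠ 1 →
      (QuotientGroup.mk g : Matrix.ProjectiveSpecialLinearGroup (Fin 2) F) * QuotientGroup.mk g = 1 →
      (g : Matrix (Fin 2) (Fin 2) F).trace = 0 := by
    intro g hg hgg
    rw [← QuotientGroup.mk_mul, PSL2_mk_eq_one_iff] at hgg
    obtain ⟨c, hc⟩ := hgg
    rw [Matrix.SpecialLinearGroup.coe_mul, SL2_sq_eq] at hc
    by_contra htr
    apply hg
    rw [PSL2_mk_eq_one_iff]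
    refine ⟨(c + 1) / (g : Matrix (Fin 2) (Fin 2) F).trace, ?_⟩
    have h1 : (g : Matrix (Fin 2) (Fin 2) F).trace • (g : Matrix (Fin 2) (Fin 2) F) =
        (c + 1) • (1 : Matrix (Fin 2) (Fin 2) F) := by
      rw [add_smul, one_smul, ← hc]
      abel
    calc (g : Matrix (Fin 2) (Fin 2) F)
        = ((g : Matrix (Fin 2) (Fin 2) F).trace)⁻¹ •
            ((g : Matrix (Fin 2) (Fin 2) F).trace • (g : Matrix (Fin 2) (Fin 2) F)) := by
          rw [smul_smul, inv_mul_cancel₀ htr, one_smul]
      _ = ((c + 1) / (g : Matrix (Fin 2) (Fin 2) F).trace) • (1 : Matrix (Fin 2) (Fin 2) F) := by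
          rw [h1, smul_smul, div_eq_inv_mul]
  obtain ⟨g, rfl⟩ := QuotientGroup.mk_surjective x
  obtain ⟨k, rfl⟩ := QuotientGroup.mk_surjective y
  have hg := key g hx hxx
  have hk := key k hy hyy
  have hconj : IsConj g k := by
    apply SL2_isConj_of_trace_eq
    · rw [hg, hk]
    · rw [hg]
      intro h
      apply h2
      have h4 : (2 : F) * 2 = 0 := by linear_combination -h
      exact mul_self_eq_zero.mp h4
  obtain ⟨c, hc⟩ := isConj_iff.mp hconj
  rw [isConj_iff]
  refine ⟨QuotientGroup.mk c, ?_⟩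
  rw [← QuotientGroup.mk_inv, ← QuotientGroup.mk_mul, ← QuotientGroup.mk_mul, hc]

end psl

section pslfin

variable {F : Type*} [Field F] [Fintype F]

/-- An inverted torus of `SL₂(q)`, `q` odd, whose order carries the `2`-part of `|SL₂(q)|`. -/
theorem SL2_exists_invTorus_two (hodd : Fintype.card F % 2 = 1) :
    ∃ (s w : Matrix.SpecialLinearGroup (Fin 2) F) (M : ℕ), InvTorus s w ∧ orderOf s = M ∧ 4 ∣ M ∧
      (Fintype.card F * (Fintype.card F ^ 2 - 1)).factorization 2 = M.factorization 2 + 1 := by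
  classical
  have h2 : (2 : F) ≠ 0 := two_ne_zero_of_card_odd hodd
  have hq : 2 ≤ Fintype.card F := Fintype.one_lt_card
  obtain ⟨p, hchar, n, hp, hn⟩ := FiniteField.card' F
  have := hchar
  have : Fact p.Prime := ⟨hp⟩
  have hfac := factorization_two_card_SL2 (Fintype.card F) hq hodd
  by_cases h41 : Fintype.card F % 4 = 1
  · obtain ⟨a, ha⟩ := IsCyclic.exists_generator (α := Fˣ)
    have horda : orderOf a = Fintype.card F - 1 := by
      rw [orderOf_eq_card_of_forall_mem_zpowers ha, Nat.card_eq_fintype_card, Fintype.card_units]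
    have ha2 : (a : F) ^ 2 ≠ 1 := by
      intro h
      have h' : a ^ 2 = 1 := Units.ext (by simpa using h)
      have h3 := orderOf_dvd_of_pow_eq_one h'
      rw [horda] at h3
      have h5 := Nat.le_of_dvd (by norm_num) h3
      omega
    have hT := split_invTorus h2 a ha ha2
    refine ⟨diagSL a, weylSL, Fintype.card F - 1, hT, by rw [orderOf_diagSL, horda], by omega, ?_⟩
    rw [hfac, factorization_two_of_mod_four (Fintype.card F + 1) (by omega)]
  · obtain ⟨s, hs, hcent⟩ := exists_nonsplit_generator (F := F)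
    obtain ⟨w, hT⟩ := nonsplit_invTorus p h2 s hs hcent
    refine ⟨s, w, Fintype.card F + 1, hT, hs, by omega, ?_⟩
    rw [hfac, factorization_two_of_mod_four (Fintype.card F - 1) (by omega)]
    omega

/-- The dihedral configuration in `PSL₂(q)`, `q² ≡ 1 mod 16`. -/
theorem PSL2_exists_invTorus (hodd : Fintype.card F % 2 = 1) (h16 : 16 ∣ Fintype.card F ^ 2 - 1) :
    ∃ (s w : Matrix.ProjectiveSpecialLinearGroup (Fin 2) F) (m : ℕ), InvTorus s w ∧ w * w = 1 ∧
      orderOf s = m ∧ 4 ∣ m ∧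
      (Nat.card (Matrix.ProjectiveSpecialLinearGroup (Fin 2) F)).factorization 2 =
        m.factorization 2 + 1 ∧
      (∀ y ∈ Subgroup.zpowers s, y * y ≠ 1 →
        ∀ g : Matrix.ProjectiveSpecialLinearGroup (Fin 2) F, g * y = y * g → g ∈ Subgroup.zpowers s) := by
  classical
  have h2 : (2 : F) ≠ 0 := two_ne_zero_of_card_odd hodd
  have hq : 2 ≤ Fintype.card F := Fintype.one_lt_card
  obtain ⟨s, w, M, hT, hs, h4, hfac⟩ := SL2_exists_invTorus_two hodd
  have hM0 : M ≠ 0 := by rw [← hs]; exact (orderOf_pos s).ne'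
  have h8 : 8 ∣ M := by
    have h16' : 2 ^ 4 ∣ Fintype.card F * (Fintype.card F ^ 2 - 1) :=
      Dvd.dvd.mul_left (by simpa using h16) _
    have hne : Fintype.card F * (Fintype.card F ^ 2 - 1) ≠ 0 := by
      have h1 : 1 < Fintype.card F ^ 2 := Nat.one_lt_pow (by norm_num) (by omega)
      exact Nat.mul_ne_zero (by omega) (by omega)
    have h5 := (Nat.Prime.pow_dvd_iff_le_factorization Nat.prime_two hne).mp h16'
    rw [hfac] at h5
    have h6 : 2 ^ 3 ∣ M := (Nat.Prime.pow_dvd_iff_le_factorization Nat.prime_two hM0).mpr (by omega)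
    simpa using h6
  obtain ⟨m, rfl⟩ : ∃ m, M = 2 * m := ⟨M / 2, by omega⟩
  have hm4 : 4 ∣ m := by omega
  have hm0 : m ≠ 0 := by omega
  have hZle : Subgroup.center (Matrix.SpecialLinearGroup (Fin 2) F) ≤ Subgroup.zpowers s := by
    intro c hc
    apply hT.cent
    exact (Subgroup.mem_center_iff.mp hc s).symm
  have hpow4 : ∀ t : Matrix.SpecialLinearGroup (Fin 2) F,
      t * t ∈ Subgroup.center (Matrix.SpecialLinearGroup (Fin 2) F) → t ^ 4 = 1 := by
    intro t ht
    rw [SL2_mem_center_iff] at ht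
    have h1 := SL2_mul_self_eq_one_of_scalar _ ht
    rw [show (4 : ℕ) = 2 + 2 from rfl, pow_add, pow_two]
    exact h1
  have hs2 : s * s ∉ Subgroup.center (Matrix.SpecialLinearGroup (Fin 2) F) := by
    intro h
    have h1 := orderOf_dvd_of_pow_eq_one (hpow4 s h)
    rw [hs] at h1
    have h3 := Nat.le_of_dvd (by norm_num) h1
    omega
  have hTq := hT.quot (Subgroup.center (Matrix.SpecialLinearGroup (Fin 2) F)) hZle
    (fun g hg => SL2_comm_of_center_comm h2 s g hs2 hg) hs2
  have hww : ((w * w : Matrix.SpecialLinearGroup (Fin 2) F) : Matrix (Fin 2) (Fin 2) F) = -1 :=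
    SL2_sq_eq_neg_one_of_invTorus h2 hT w hT.w_mem_normalizer hT.w_not_mem
  have hwwq : (QuotientGroup.mk w : Matrix.ProjectiveSpecialLinearGroup (Fin 2) F) *
      QuotientGroup.mk w = 1 := by
    rw [← QuotientGroup.mk_mul, PSL2_mk_eq_one_iff]
    exact ⟨-1, by rw [hww]; simp⟩
  have hord : orderOf (QuotientGroup.mk s : Matrix.ProjectiveSpecialLinearGroup (Fin 2) F) = m := by
    apply Nat.dvd_antisymm
    · apply orderOf_dvd_of_pow_eq_one
      rw [← QuotientGroup.mk_pow, PSL2_mk_eq_one_iff]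
      apply SL2_scalar_of_mul_self_eq_one h2
      rw [← pow_add, ← two_mul, ← hs, pow_orderOf_eq_one]
    · have h1 := pow_orderOf_eq_one
        (QuotientGroup.mk s : Matrix.ProjectiveSpecialLinearGroup (Fin 2) F)
      rw [← QuotientGroup.mk_pow, PSL2_mk_eq_one_iff] at h1
      have h3 := SL2_mul_self_eq_one_of_scalar _ h1
      rw [← pow_add, ← two_mul] at h3
      have h5 := orderOf_dvd_of_pow_eq_one h3
      rw [hs] at h5
      exact Nat.dvd_of_mul_dvd_mul_left (by norm_num) h5
  have hfacq : (Nat.card (Matrix.ProjectiveSpecialLinearGroup (Fin 2) F)).factorization 2 =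
      m.factorization 2 + 1 := by
    have h1 := card_PSL2_odd (F := F) h2
    have hne : Nat.card (Matrix.ProjectiveSpecialLinearGroup (Fin 2) F) ≠ 0 := Nat.card_pos.ne'
    have h3 : (2 * Nat.card (Matrix.ProjectiveSpecialLinearGroup (Fin 2) F)).factorization 2 =
        (Nat.card (Matrix.ProjectiveSpecialLinearGroup (Fin 2) F)).factorization 2 + 1 := by
      rw [Nat.factorization_mul (by norm_num) hne]
      simp [Nat.Prime.factorization_self Nat.prime_two]
      ring
    have h4 : (2 * m).factorization 2 = m.factorization 2 + 1 := by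
      rw [Nat.factorization_mul (by norm_num) hm0]
      simp [Nat.Prime.factorization_self Nat.prime_two]
      ring
    rw [h1, hfac, h4] at h3
    omega
  refine ⟨QuotientGroup.mk s, QuotientGroup.mk w, m, hTq, hwwq, hord, hm4, hfacq, ?_⟩
  intro y hy hyy g hgy
  obtain ⟨i, rfl⟩ := Subgroup.mem_zpowers_iff.mp hy
  obtain ⟨g, rfl⟩ := QuotientGroup.mk_surjective g
  rw [← QuotientGroup.mk_zpow] at hyy hgy
  have ht : s ^ i * s ^ i ∉ Subgroup.center (Matrix.SpecialLinearGroup (Fin 2) F) := by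
    intro h
    apply hyy
    rw [← QuotientGroup.mk_mul]
    exact (QuotientGroup.eq_one_iff _).mpr h
  rw [← QuotientGroup.mk_mul, ← QuotientGroup.mk_mul, QuotientGroup.eq] at hgy
  have hcomm := SL2_comm_of_center_comm h2 (s ^ i) g ht hgy
  have hns : ¬ ∃ c : F, (s : Matrix (Fin 2) (Fin 2) F) = c • (1 : Matrix (Fin 2) (Fin 2) F) := by
    intro hc
    apply hs2
    exact mul_mem ((SL2_mem_center_iff s).mpr hc) ((SL2_mem_center_iff s).mpr hc)
  have hne : s ^ i ≠ (s ^ i)⁻¹ := by
    intro h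
    apply ht
    rw [mul_eq_one_iff_eq_inv.mpr h]
    exact one_mem _
  have hgT := SL2_torus_reg s hns hT.cent (s ^ i) (Subgroup.zpow_mem_zpowers s i) hne g hcomm
  obtain ⟨j, rfl⟩ := Subgroup.mem_zpowers_iff.mp hgT
  rw [QuotientGroup.mk_zpow]
  exact Subgroup.zpow_mem_zpowers _ j

/-- Group-theoretic data for the simplicity of the `2`-fusion system of `PSL₂(q)`, `q² ≡ 1 mod 16`:
an explicit dihedral Sylow `2`-subgroup `S0` with central involution `z`, generated by conjugates of `z`,
and self-normalising. -/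
theorem PSL2_fusion_data (hodd : Fintype.card F % 2 = 1) (h16 : 16 ∣ Fintype.card F ^ 2 - 1) :
    ∃ (S0 : Subgroup (Matrix.ProjectiveSpecialLinearGroup (Fin 2) F))
      (z : Matrix.ProjectiveSpecialLinearGroup (Fin 2) F),
      Nat.card S0 = 2 ^ (Nat.card (Matrix.ProjectiveSpecialLinearGroup (Fin 2) F)).factorization 2 ∧
      z ∈ S0 ∧ z ≠ 1 ∧ z * z = 1 ∧
      (∀ c ∈ S0, (∀ y ∈ S0, c * y = y * c) → c = 1 ∨ c = z) ∧
      S0 ≤ Subgroup.closure {y : Matrix.ProjectiveSpecialLinearGroup (Fin 2) F | y ∈ S0 ∧ IsConj z y} ∧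
      Subgroup.normalizer (S0 : Set (Matrix.ProjectiveSpecialLinearGroup (Fin 2) F)) = S0 := by
  have h2 : (2 : F) ≠ 0 := two_ne_zero_of_card_odd hodd
  obtain ⟨s, w, m, hT, hww, hs, h4, hfac, hreg⟩ := PSL2_exists_invTorus hodd h16
  obtain ⟨S0, z, hcard, hz, hz1, hzz, hcent, hgen, hnorm⟩ :=
    exists_dihedral_sylow s w hT hww m hs h4 hfac hreg
  refine ⟨S0, z, hcard, hz, hz1, hzz, hcent, hgen.trans (Subgroup.closure_mono ?_), hnorm⟩
  rintro y ⟨hy, hy1, hyy⟩
  exact ⟨hy, PSL2_involutions_isConj h2 z y hz1 hzz hy1 hyy⟩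

end pslfin

end Cfsg.Agent.Lib.helper12
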