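import Mathlib
import Cfsg.Agent.Lib.helper12.PSL2Fus

set_option autoImplicit false

namespace Cfsg.Agent.Lib.helper12

section

variable {F : Type*} [Field F]

/-- A subgroup of order 4 of `SL₂(F)`, `2 ≠ 0`, is cyclic, generated by an element of trace zero
whose square is `-1`. -/
theorem SL2_order_four (h2 : (2 : F) ≠ 0) (A : Subgroup (Matrix.SpecialLinearGroup (Fin 2) F))
    (hA : Nat.card A = 4) :
    ∃ g : Matrix.SpecialLinearGroup (Fin 2) F, g ∈ A ∧ (g : Matrix (Fin 2) (Fin 2) F).trace = 0 ∧
      A = Subgroup.zpowers g ∧ g * g = signSL false ∧ g ^ 4 = 1 ∧ orderOf g = 4 := by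
  classical
  have hfin : Finite A := Nat.finite_of_card_ne_zero (by omega)
  have hex : ∃ g : A, (g : Matrix.SpecialLinearGroup (Fin 2) F) ≠ 1 ∧
      (g : Matrix.SpecialLinearGroup (Fin 2) F) ≠ signSL false := by
    by_contra hcon
    push_neg at hcon
    have hinj : Function.Injective
        (fun g : A => decide ((g : Matrix.SpecialLinearGroup (Fin 2) F) = 1)) := by
      intro a b hab
      simp only [decide_eq_decide] at hab
      apply Subtype.ext
      by_cases ha : (a : Matrix.SpecialLinearGroup (Fin 2) F) = 1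
      · rw [ha, hab.mp ha]
      · have hb : (b : Matrix.SpecialLinearGroup (Fin 2) F) ≠ 1 := fun hb => ha (hab.mpr hb)
        rw [hcon a ha, hcon b hb]
    have := Nat.card_le_card_of_injective _ hinj
    rw [hA] at this
    simp at this
  obtain ⟨⟨g, hgA⟩, hg1, hgz⟩ := hex
  simp only at hg1 hgz
  have hgg1 : g * g ≠ 1 := by
    intro h
    obtain ⟨s, hs⟩ := SL2_scalar_eq_signSL g (SL2_scalar_of_mul_self_eq_one h2 g h)
    cases s
    · exact hgz hs
    · exact hg1 (hs.trans signSL_true_eq_one)
  have hg4 : g ^ 4 = 1 := by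
    have h := pow_card_eq_one' (G := A) (x := ⟨g, hgA⟩)
    rw [hA] at h
    have h' := congrArg (Subtype.val) h
    simpa using h'
  have hggz : g * g = signSL false := by
    have h : (g * g) * (g * g) = 1 := by
      rw [← hg4]
      simp [pow_succ, mul_assoc]
    obtain ⟨s, hs⟩ := SL2_scalar_eq_signSL (g * g) (SL2_scalar_of_mul_self_eq_one h2 (g * g) h)
    cases s
    · exact hs
    · exact absurd (hs.trans signSL_true_eq_one) hgg1
  have htr : (g : Matrix (Fin 2) (Fin 2) F).trace = 0 := by
    have hsq := SL2_sq_eq g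
    rw [← Matrix.SpecialLinearGroup.coe_mul, hggz, signSL_val] at hsq
    have h0 : (g : Matrix (Fin 2) (Fin 2) F).trace • (g : Matrix (Fin 2) (Fin 2) F) = 0 := by
      have : (sgnB false : F) • (1 : Matrix (Fin 2) (Fin 2) F) = -1 := by simp [sgnB]
      rw [this] at hsq
      have h3 := sub_eq_iff_eq_add.mp hsq.symm
      rw [h3]
      simp
    rcases smul_eq_zero.mp h0 with h | h
    · exact h
    · exfalso
      have hdet := g.det_coe
      rw [h] at hdet
      simp at hdet
  have hord : orderOf g = 4 := by
    have := orderOf_eq_prime_pow (x := g) (p := 2) (n := 1) (by rw [pow_one, pow_two]; exact hgg1)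
      (by simpa using hg4)
    simpa using this
  refine ⟨g, hgA, htr, ?_, hggz, hg4, hord⟩
  symm
  apply Subgroup.eq_of_le_of_card_ge ((Subgroup.zpowers_le).mpr hgA)
  rw [Nat.card_zpowers, hord, hA]

/-- Normaliser of a cyclic subgroup of order 4 as the preimage of a centraliser in `PSL₂`. -/
theorem SL2_normalizer_order_four (h2 : (2 : F) ≠ 0) (g : Matrix.SpecialLinearGroup (Fin 2) F)
    (hggz : g * g = signSL false) :
    Subgroup.normalizer ((Subgroup.zpowers g : Subgroup (Matrix.SpecialLinearGroup (Fin 2) F)) :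
        Set (Matrix.SpecialLinearGroup (Fin 2) F)) =
      (Subgroup.centralizer ({(QuotientGroup.mk g : Matrix.ProjectiveSpecialLinearGroup (Fin 2) F)} :
        Set (Matrix.ProjectiveSpecialLinearGroup (Fin 2) F))).comap
        (QuotientGroup.mk' (Subgroup.center (Matrix.SpecialLinearGroup (Fin 2) F))) := by
  have hz1 : (signSL false : Matrix.SpecialLinearGroup (Fin 2) F) ≠ 1 := by
    intro h
    rw [← signSL_true_eq_one] at h
    exact Bool.false_ne_true (signSL_injective h2 h)
  have hzz : (signSL false : Matrix.SpecialLinearGroup (Fin 2) F) * signSL false = 1 :=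
    signSL_false_mul_self
  have hzc : ∀ c : Matrix.SpecialLinearGroup (Fin 2) F, c * signSL false = signSL false * c :=
    fun c => signSL_central false c
  have hg4 : g ^ 4 = 1 := by
    have e : g ^ 4 = (g * g) * (g * g) := by simp [pow_succ, mul_assoc]
    rw [e, hggz, hzz]
  have hg1 : g ≠ 1 := by
    intro h
    rw [h, one_mul] at hggz
    exact hz1 hggz.symm
  have hgz : g ≠ signSL false := by
    intro h
    rw [h, hzz] at hggz
    exact hz1 hggz.symm
  -- key: conjugate in the subgroup iff in the comap
  have key : ∀ n : Matrix.SpecialLinearGroup (Fin 2) F,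
      (n * g = g * n ∨ g * n = n * g * signSL false) → ∀ x ∈ Subgroup.zpowers g,
        n * x * n⁻¹ ∈ Subgroup.zpowers g := by
    intro n hn x hx
    obtain ⟨k, rfl⟩ := Subgroup.mem_zpowers_iff.mp hx
    have e : n * g ^ k * n⁻¹ = (n * g * n⁻¹) ^ k := by
      rw [← MulAut.conj_apply, map_zpow, MulAut.conj_apply]
    rw [e]
    apply zpow_mem
    rcases hn with hn | hn
    · rw [hn, mul_inv_cancel_right]
      exact Subgroup.mem_zpowers g
    · have e2 : n * g * n⁻¹ = g ^ (3 : ℕ) := by
        have e3 : n * g = g * n * signSL false := by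
          rw [hn, mul_assoc (n * g), hzz, mul_one]
        rw [e3, mul_assoc g n, hzc n, ← mul_assoc g, mul_inv_cancel_right, ← hggz]
        simp [pow_succ, mul_assoc]
      rw [e2]
      exact pow_mem (Subgroup.mem_zpowers g) 3
  ext n
  rw [mem_comap_centralizer_mk (signSL false) g n SL2_center_iff]
  constructor
  · intro hn
    have hmem : n * g * n⁻¹ ∈ Subgroup.zpowers g :=
      (Subgroup.mem_normalizer_iff.mp hn g).mp (Subgroup.mem_zpowers g)
    obtain ⟨k, hk⟩ := Subgroup.mem_zpowers_iff.mp hmem
    have hk4 : g ^ k = g ^ (k % 4) := by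
      conv_lhs => rw [← Int.mul_ediv_add_emod k 4]
      rw [zpow_add, zpow_mul]
      have : g ^ (4 : ℤ) = 1 := by exact_mod_cast hg4
      rw [this, one_zpow, one_mul]
    rw [hk4] at hk
    have hk0 : 0 ≤ k % 4 := Int.emod_nonneg _ (by norm_num)
    have hk3 : k % 4 < 4 := Int.emod_lt_of_pos _ (by norm_num)
    obtain ⟨j, hj⟩ : ∃ j : ℕ, k % 4 = j := ⟨(k % 4).toNat, (Int.toNat_of_nonneg hk0).symm⟩
    rw [hj] at hk hk3
    rw [zpow_natCast] at hk
    have hj4 : j < 4 := by exact_mod_cast hk3
    interval_cases j
    · exfalso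
      rw [pow_zero] at hk
      apply hg1
      have : n * g * n⁻¹ = 1 := hk.symm
      rw [mul_inv_eq_one] at this
      exact mul_left_cancel (this.trans (mul_one n).symm)
    · left
      rw [pow_one] at hk
      rw [← mul_inv_eq_iff_eq_mul]
      exact hk.symm
    · exfalso
      rw [pow_two, hggz] at hk
      apply hgz
      have h1 : n * g = signSL false * n := by
        rw [← mul_inv_eq_iff_eq_mul]
        exact hk.symm
      rw [← hzc n] at h1
      exact mul_left_cancel h1
    · right
      have h1 : n * g = g ^ 3 * n := by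
        rw [← mul_inv_eq_iff_eq_mul]
        exact hk.symm
      have e3 : g ^ 3 = g * signSL false := by
        rw [← hggz]
        simp [pow_succ, mul_assoc]
      rw [h1, e3, mul_assoc g, ← hzc n, mul_assoc, mul_assoc, hzz, mul_one]
  · intro hn
    have hn' : n⁻¹ * g = g * n⁻¹ ∨ g * n⁻¹ = n⁻¹ * g * signSL false := by
      rcases hn with hn | hn
      · left
        rw [inv_mul_eq_iff_eq_mul, ← mul_assoc, hn, mul_inv_cancel_right]
      · right
        have e3 : n * g = g * n * signSL false := by
          rw [hn, mul_assoc (n * g), hzz, mul_one]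
        calc g * n⁻¹ = n⁻¹ * (n * g) * n⁻¹ := by group
          _ = n⁻¹ * (g * n * signSL false) * n⁻¹ := by rw [e3]
          _ = n⁻¹ * g * (n * signSL false * n⁻¹) := by group
          _ = n⁻¹ * g * signSL false := by rw [hzc n, mul_inv_cancel_right]
    rw [Subgroup.mem_normalizer_iff]
    intro x
    constructor
    · exact key n hn x
    · intro hx
      have := key n⁻¹ hn' _ hx
      rw [inv_inv] at this
      have e : n⁻¹ * (n * x * n⁻¹) * n = x := by group
      rw [e] at this
      exact this

variable [Fintype F]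

/-- Order of the normaliser of a cyclic subgroup of order 4. -/
theorem SL2_card_normalizer_order_four (h2 : (2 : F) ≠ 0) (g : Matrix.SpecialLinearGroup (Fin 2) F)
    (hggz : g * g = signSL false) (htr : (g : Matrix (Fin 2) (Fin 2) F).trace = 0) :
    Nat.card (Subgroup.normalizer ((Subgroup.zpowers g :
        Subgroup (Matrix.SpecialLinearGroup (Fin 2) F)) :
        Set (Matrix.SpecialLinearGroup (Fin 2) F))) =
      2 * Nat.card (Subgroup.centralizer ({g} : Set (Matrix.SpecialLinearGroup (Fin 2) F))) := by
  rw [SL2_normalizer_order_four h2 g hggz]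
  set K := (Subgroup.centralizer ({(QuotientGroup.mk g :
        Matrix.ProjectiveSpecialLinearGroup (Fin 2) F)} :
        Set (Matrix.ProjectiveSpecialLinearGroup (Fin 2) F))).comap
        (QuotientGroup.mk' (Subgroup.center (Matrix.SpecialLinearGroup (Fin 2) F))) with hK
  have h1 : K.index = (Subgroup.centralizer ({(QuotientGroup.mk g :
        Matrix.ProjectiveSpecialLinearGroup (Fin 2) F)} :
        Set (Matrix.ProjectiveSpecialLinearGroup (Fin 2) F))).index :=
    Subgroup.index_comap_of_surjective _ (QuotientGroup.mk'_surjective _)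
  have h3 := PSL2_index_centralizer_of_trace_eq_zero h2 g htr
  rw [← h1] at h3
  have h4 := Subgroup.card_mul_index K
  have h5 := Subgroup.card_mul_index
    (Subgroup.centralizer ({g} : Set (Matrix.SpecialLinearGroup (Fin 2) F)))
  rw [← h4, ← h3] at h5
  have hpos : 0 < K.index := Nat.pos_of_ne_zero Subgroup.index_ne_zero_of_finite
  apply Nat.eq_of_mul_eq_mul_right hpos
  rw [← h5]
  ring

end

end Cfsg.Agent.Lib.helper12
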