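import Mathlib
import Cfsg.Agent.Lib.helper12.SL2Ord4
import Cfsg.Agent.Lib.helper12.KleinCount

set_option autoImplicit false

namespace Cfsg.Agent.Lib.helper12

section

variable {F : Type*} [Field F]

theorem SL2_trace_zero_of_sq (g : Matrix.SpecialLinearGroup (Fin 2) F)
    (hggz : g * g = signSL false) : (g : Matrix (Fin 2) (Fin 2) F).trace = 0 := by
  have hsq := SL2_sq_eq g
  rw [← Matrix.SpecialLinearGroup.coe_mul, hggz, signSL_val] at hsq
  have h0 : (g : Matrix (Fin 2) (Fin 2) F).trace • (g : Matrix (Fin 2) (Fin 2) F) = 0 := by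
    have : (sgnB false : F) • (1 : Matrix (Fin 2) (Fin 2) F) = -1 := by simp [sgnB]
    rw [this] at hsq
    have h3 := sub_eq_iff_eq_add.mp hsq.symm
    rw [h3]
    simp
  rcases smul_eq_zero.mp h0 with h | h
  · exact h
  · exfalso
    have hdet := g.det_coe
    rw [h] at hdet
    simp at hdet

theorem SL2_sq_of_trace_zero (g : Matrix.SpecialLinearGroup (Fin 2) F)
    (htr : (g : Matrix (Fin 2) (Fin 2) F).trace = 0) : g * g = signSL false := by
  apply Subtype.ext
  rw [Matrix.SpecialLinearGroup.coe_mul, SL2_sq_eq, htr, zero_smul, zero_sub, signSL_val]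
  simp [sgnB]

theorem signSL_false_ne_one (h2 : (2 : F) ≠ 0) :
    (signSL false : Matrix.SpecialLinearGroup (Fin 2) F) ≠ 1 := by
  intro h
  rw [← signSL_true_eq_one] at h
  exact Bool.false_ne_true (signSL_injective h2 h)

theorem PSL2_involution_lift (h2 : (2 : F) ≠ 0) (a : Matrix.ProjectiveSpecialLinearGroup (Fin 2) F)
    (ha1 : a ≠ 1) (haa : a * a = 1) :
    ∃ g : Matrix.SpecialLinearGroup (Fin 2) F,
      (QuotientGroup.mk g : Matrix.ProjectiveSpecialLinearGroup (Fin 2) F) = a ∧
        g * g = signSL false := by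
  obtain ⟨g, rfl⟩ := QuotientGroup.mk_surjective a
  refine ⟨g, rfl, ?_⟩
  rw [← QuotientGroup.mk_mul, QuotientGroup.eq_one_iff, SL2_center_iff] at haa
  rcases haa with h | h
  · exfalso
    apply ha1
    rw [PSL2_mk_eq_one_iff]
    exact SL2_scalar_of_mul_self_eq_one h2 g h
  · exact h

theorem PSL2_commuting_involutions_iff (h2 : (2 : F) ≠ 0) (g : Matrix.SpecialLinearGroup (Fin 2) F)
    (hggz : g * g = signSL false) (b : Matrix.ProjectiveSpecialLinearGroup (Fin 2) F) :
    (b ≠ 1 ∧ b * b = 1 ∧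
        (QuotientGroup.mk g : Matrix.ProjectiveSpecialLinearGroup (Fin 2) F) ≠ b ∧
        (QuotientGroup.mk g : Matrix.ProjectiveSpecialLinearGroup (Fin 2) F) * b =
          b * QuotientGroup.mk g) ↔
      (b ∈ Subgroup.centralizer ({(QuotientGroup.mk g :
          Matrix.ProjectiveSpecialLinearGroup (Fin 2) F)} :
          Set (Matrix.ProjectiveSpecialLinearGroup (Fin 2) F)) ∧
        b ∉ (Subgroup.centralizer ({g} : Set (Matrix.SpecialLinearGroup (Fin 2) F))).map
          (QuotientGroup.mk' (Subgroup.center (Matrix.SpecialLinearGroup (Fin 2) F)))) := by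
  have hgns : ¬ ∃ a : F, (g : Matrix (Fin 2) (Fin 2) F) = a • (1 : Matrix (Fin 2) (Fin 2) F) := by
    intro hs
    have := SL2_mul_self_eq_one_of_scalar g hs
    rw [hggz] at this
    exact signSL_false_ne_one h2 this
  constructor
  · rintro ⟨hb1, hbb, hne, hcomm⟩
    refine ⟨Subgroup.mem_centralizer_singleton_iff.mpr hcomm.symm, ?_⟩
    rintro ⟨h, hh, rfl⟩
    have hcg : h * g = g * h := Subgroup.mem_centralizer_singleton_iff.mp hh
    have hcomm' : (h : Matrix (Fin 2) (Fin 2) F) * (g : Matrix (Fin 2) (Fin 2) F) =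
        (g : Matrix (Fin 2) (Fin 2) F) * (h : Matrix (Fin 2) (Fin 2) F) := by
      rw [← Matrix.SpecialLinearGroup.coe_mul, hcg, Matrix.SpecialLinearGroup.coe_mul]
    obtain ⟨x, y, hxy⟩ := (comm_iff_exists_smul (g : Matrix (Fin 2) (Fin 2) F)
      (h : Matrix (Fin 2) (Fin 2) F) hgns).mp hcomm'
    have hbb' : ∃ c : F, ((h * h : Matrix.SpecialLinearGroup (Fin 2) F) :
        Matrix (Fin 2) (Fin 2) F) = c • (1 : Matrix (Fin 2) (Fin 2) F) := by
      rw [← PSL2_mk_eq_one_iff, QuotientGroup.mk_mul]
      exact hbb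
    obtain ⟨c, hc⟩ := hbb'
    have hgg : (g : Matrix (Fin 2) (Fin 2) F) * (g : Matrix (Fin 2) (Fin 2) F) = -1 := by
      rw [← Matrix.SpecialLinearGroup.coe_mul, hggz, signSL_val]
      simp [sgnB]
    have hhh : (h : Matrix (Fin 2) (Fin 2) F) * (h : Matrix (Fin 2) (Fin 2) F) =
        (x * x - y * y) • (1 : Matrix (Fin 2) (Fin 2) F) +
          (2 * x * y) • (g : Matrix (Fin 2) (Fin 2) F) := by
      rw [hxy]
      simp only [add_mul, mul_add, smul_mul_assoc, mul_smul_comm, one_mul, mul_one, hgg]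
      module
    have hxy0 : x * y = 0 := by
      by_contra hne0
      apply hgns
      have h2xy : 2 * x * y ≠ 0 := by
        rw [mul_assoc]
        exact mul_ne_zero h2 hne0
      refine ⟨(2 * x * y)⁻¹ * (c - (x * x - y * y)), ?_⟩
      have h3 : (2 * x * y) • (g : Matrix (Fin 2) (Fin 2) F) =
          (c - (x * x - y * y)) • (1 : Matrix (Fin 2) (Fin 2) F) := by
        rw [Matrix.SpecialLinearGroup.coe_mul, hhh] at hc
        rw [sub_smul, ← hc]
        abel
      calc (g : Matrix (Fin 2) (Fin 2) F)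
          = (2 * x * y)⁻¹ • ((2 * x * y) • (g : Matrix (Fin 2) (Fin 2) F)) := by
            rw [smul_smul, inv_mul_cancel₀ h2xy, one_smul]
        _ = ((2 * x * y)⁻¹ * (c - (x * x - y * y))) • (1 : Matrix (Fin 2) (Fin 2) F) := by
            rw [h3, smul_smul]
    rcases mul_eq_zero.mp hxy0 with hx0 | hy0
    · apply hne
      rw [QuotientGroup.mk'_apply, QuotientGroup.eq, SL2_mem_center_iff]
      refine ⟨y, ?_⟩
      rw [Matrix.SpecialLinearGroup.coe_mul, hxy, hx0, zero_smul, zero_add, Matrix.mul_smul,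
        ← Matrix.SpecialLinearGroup.coe_mul, inv_mul_cancel, Matrix.SpecialLinearGroup.coe_one]
    · apply hb1
      rw [QuotientGroup.mk'_apply, PSL2_mk_eq_one_iff]
      exact ⟨x, by rw [hxy, hy0, zero_smul, add_zero]⟩
  · rintro ⟨hbC, hbK⟩
    obtain ⟨h, rfl⟩ := QuotientGroup.mk_surjective b
    have hmem : h ∈ (Subgroup.centralizer ({(QuotientGroup.mk g :
          Matrix.ProjectiveSpecialLinearGroup (Fin 2) F)} :
          Set (Matrix.ProjectiveSpecialLinearGroup (Fin 2) F))).comap
          (QuotientGroup.mk' (Subgroup.center (Matrix.SpecialLinearGroup (Fin 2) F))) := hbC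
    rw [mem_comap_centralizer_mk (signSL false) g h SL2_center_iff] at hmem
    have hnc : ¬ h * g = g * h := fun hc =>
      hbK ⟨h, Subgroup.mem_centralizer_singleton_iff.mpr hc, rfl⟩
    have htw : g * h = h * g * signSL false := hmem.resolve_left hnc
    have hconj : IsConj h (h * signSL false) := by
      rw [isConj_iff]
      refine ⟨g, ?_⟩
      rw [htw, mul_assoc h g, signSL_central false g, ← mul_assoc h, mul_inv_cancel_right]
    have htr : (h : Matrix (Fin 2) (Fin 2) F).trace = 0 := by
      have h3 := SL2_trace_eq_of_isConj hconj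
      rw [trace_mul_signSL_false] at h3
      have h4 : 2 * (h : Matrix (Fin 2) (Fin 2) F).trace = 0 := by linear_combination h3
      exact (mul_eq_zero.mp h4).resolve_left h2
    have hhh := SL2_sq_of_trace_zero h htr
    refine ⟨?_, ?_, ?_, ?_⟩
    · intro hb1
      apply hbK
      rw [hb1]
      exact one_mem _
    · rw [← QuotientGroup.mk_mul, hhh, QuotientGroup.eq_one_iff]
      exact (SL2_center_iff _).mpr (Or.inr rfl)
    · intro hab
      apply hbK
      rw [← hab]
      exact ⟨g, Subgroup.mem_centralizer_singleton_iff.mpr rfl, rfl⟩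
    · exact (Subgroup.mem_centralizer_singleton_iff.mp hbC).symm

variable [Fintype F]

theorem PSL2_card_centralizer_involution (h2 : (2 : F) ≠ 0)
    (g : Matrix.SpecialLinearGroup (Fin 2) F) (hggz : g * g = signSL false) :
    Nat.card (Subgroup.centralizer ({(QuotientGroup.mk g :
          Matrix.ProjectiveSpecialLinearGroup (Fin 2) F)} :
          Set (Matrix.ProjectiveSpecialLinearGroup (Fin 2) F))) =
      Nat.card (Subgroup.centralizer ({g} : Set (Matrix.SpecialLinearGroup (Fin 2) F))) := by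
  have h1 := card_comap_mk' (Subgroup.center (Matrix.SpecialLinearGroup (Fin 2) F))
    (Subgroup.centralizer ({(QuotientGroup.mk g :
          Matrix.ProjectiveSpecialLinearGroup (Fin 2) F)} :
          Set (Matrix.ProjectiveSpecialLinearGroup (Fin 2) F)))
  rw [← SL2_normalizer_order_four h2 g hggz,
    SL2_card_normalizer_order_four h2 g hggz (SL2_trace_zero_of_sq g hggz),
    card_center_SL2_odd h2] at h1
  exact (Nat.eq_of_mul_eq_mul_left (by norm_num) h1).symm

theorem PSL2_card_map_centralizer (h2 : (2 : F) ≠ 0) (g : Matrix.SpecialLinearGroup (Fin 2) F) :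
    2 * Nat.card ((Subgroup.centralizer ({g} : Set (Matrix.SpecialLinearGroup (Fin 2) F))).map
          (QuotientGroup.mk' (Subgroup.center (Matrix.SpecialLinearGroup (Fin 2) F)))) =
      Nat.card (Subgroup.centralizer ({g} : Set (Matrix.SpecialLinearGroup (Fin 2) F))) := by
  have h1 := card_comap_mk' (Subgroup.center (Matrix.SpecialLinearGroup (Fin 2) F))
    ((Subgroup.centralizer ({g} : Set (Matrix.SpecialLinearGroup (Fin 2) F))).map
          (QuotientGroup.mk' (Subgroup.center (Matrix.SpecialLinearGroup (Fin 2) F))))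
  rw [Subgroup.comap_map_eq, QuotientGroup.ker_mk',
    sup_of_le_left (Subgroup.center_le_centralizer _), card_center_SL2_odd h2] at h1
  exact h1.symm

theorem PSL2_card_commuting_involutions (h2 : (2 : F) ≠ 0)
    (a : Matrix.ProjectiveSpecialLinearGroup (Fin 2) F) (ha1 : a ≠ 1) (haa : a * a = 1) :
    2 * Nat.card {b : Matrix.ProjectiveSpecialLinearGroup (Fin 2) F //
        b ≠ 1 ∧ b * b = 1 ∧ a ≠ b ∧ a * b = b * a} =
      Nat.card (Subgroup.centralizer ({a} : Set (Matrix.ProjectiveSpecialLinearGroup (Fin 2) F))) := by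
  obtain ⟨g, rfl, hggz⟩ := PSL2_involution_lift h2 a ha1 haa
  set C := Subgroup.centralizer ({(QuotientGroup.mk g :
          Matrix.ProjectiveSpecialLinearGroup (Fin 2) F)} :
          Set (Matrix.ProjectiveSpecialLinearGroup (Fin 2) F)) with hC
  set K := (Subgroup.centralizer ({g} : Set (Matrix.SpecialLinearGroup (Fin 2) F))).map
          (QuotientGroup.mk' (Subgroup.center (Matrix.SpecialLinearGroup (Fin 2) F))) with hK
  have hKC : (K : Set (Matrix.ProjectiveSpecialLinearGroup (Fin 2) F)) ⊆ C := by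
    rintro _ ⟨h, hh, rfl⟩
    have hcg : h * g = g * h := Subgroup.mem_centralizer_singleton_iff.mp hh
    apply Subgroup.mem_centralizer_singleton_iff.mpr
    rw [QuotientGroup.mk'_apply, ← QuotientGroup.mk_mul, ← QuotientGroup.mk_mul, hcg]
  have hcard : Nat.card {b : Matrix.ProjectiveSpecialLinearGroup (Fin 2) F //
        b ≠ 1 ∧ b * b = 1 ∧
        (QuotientGroup.mk g : Matrix.ProjectiveSpecialLinearGroup (Fin 2) F) ≠ b ∧
        (QuotientGroup.mk g : Matrix.ProjectiveSpecialLinearGroup (Fin 2) F) * b =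
          b * QuotientGroup.mk g} = Nat.card C - Nat.card K := by
    rw [Nat.card_congr (Equiv.subtypeEquivRight (PSL2_commuting_involutions_iff h2 g hggz))]
    have e : Nat.card {b : Matrix.ProjectiveSpecialLinearGroup (Fin 2) F // b ∈ C ∧ b ∉ K} =
        ((C : Set (Matrix.ProjectiveSpecialLinearGroup (Fin 2) F)) \
          (K : Set (Matrix.ProjectiveSpecialLinearGroup (Fin 2) F))).ncard := rfl
    rw [e, Set.ncard_diff hKC]
    rfl
  have h1 : Nat.card C =
      Nat.card (Subgroup.centralizer ({g} : Set (Matrix.SpecialLinearGroup (Fin 2) F))) :=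
    PSL2_card_centralizer_involution h2 g hggz
  have h3 : 2 * Nat.card K =
      Nat.card (Subgroup.centralizer ({g} : Set (Matrix.SpecialLinearGroup (Fin 2) F))) :=
    PSL2_card_map_centralizer h2 g
  have h4 : 2 * Nat.card K = Nat.card C := h3.trans h1.symm
  rw [hcard]
  omega

/-- Twelve times the number of Klein four-subgroups of `PSL₂(q)`, `q` odd, is `|PSL₂(q)|`. -/
theorem PSL2_klein_count (h2 : (2 : F) ≠ 0) :
    12 * Nat.card {V : Subgroup (Matrix.ProjectiveSpecialLinearGroup (Fin 2) F) // IsKleinFour V} =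
      Nat.card (Matrix.ProjectiveSpecialLinearGroup (Fin 2) F) := by
  apply klein_count_of_centralizer (PSL2_card_commuting_involutions h2)
    (fun a b ha haa hb hbb => PSL2_involutions_isConj h2 a b ha haa hb hbb)
  have htr : ((mkSL (0 : F) 1 (-1) 0 (by ring) : Matrix.SpecialLinearGroup (Fin 2) F) :
      Matrix (Fin 2) (Fin 2) F).trace = 0 := by
    rw [mkSL_val, Matrix.trace_fin_two]
    simp
  have hsq := SL2_sq_of_trace_zero _ htr
  refine ⟨QuotientGroup.mk (mkSL (0 : F) 1 (-1) 0 (by ring)), ?_, ?_⟩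
  · rw [Ne, PSL2_mk_eq_one_iff]
    intro hs
    have := SL2_mul_self_eq_one_of_scalar _ hs
    rw [hsq] at this
    exact signSL_false_ne_one h2 this
  · rw [← QuotientGroup.mk_mul, hsq, QuotientGroup.eq_one_iff]
    exact (SL2_center_iff _).mpr (Or.inr rfl)

end

end Cfsg.Agent.Lib.helper12
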