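import Mathlib
import Cfsg.Prelude.Def_OddOrderLocal
import Cfsg.Agent.Lib.helper12.PSL2Cls

set_option autoImplicit false

namespace Cfsg.Agent.Lib.helper12

section gen

variable {G : Type*} [Group G]

/-- In a group with trivial centre in which commuting is transitive on non-identity elements,
centralisers are TI-subsets. -/
theorem isTISubset_centralizer_of_commTrans
    (hct : ∀ a b c : G, b ≠ 1 → a * b = b * a → b * c = c * b → a * c = c * a)
    (x : G) : Cfsg.IsTISubset ((Subgroup.centralizer ({x} : Set G) : Subgroup G) : Set G) := by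
  intro g hg y hy hgy
  by_contra hy1
  apply hg
  by_cases hx1 : x = 1
  · subst hx1
    rw [Subgroup.mem_normalizer_iff]
    intro h
    have : ∀ k : G, k ∈ ((Subgroup.centralizer ({1} : Set G) : Subgroup G) : Set G) := by
      intro k
      apply Subgroup.mem_centralizer_singleton_iff.mpr
      rw [mul_one, one_mul]
    exact ⟨fun _ => this _, fun _ => this _⟩
  have hyx : y * x = x * y := Subgroup.mem_centralizer_singleton_iff.mp hy
  have hgyx : g * y * g⁻¹ * x = x * (g * y * g⁻¹) := Subgroup.mem_centralizer_singleton_iff.mp hgy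
  have hgy1 : g * y * g⁻¹ ≠ 1 := by
    intro h
    apply hy1
    have : g * y = g := by rw [← mul_inv_eq_one, h]
    exact mul_left_cancel (this.trans (mul_one g).symm)
  -- `h` commutes with `x` iff with `y`
  have key : ∀ (y' : G), y' ≠ 1 → y' * x = x * y' → ∀ h : G, h * x = x * h ↔ h * y' = y' * h := by
    intro y' hy'1 hy'x h
    constructor
    · intro hh
      exact hct h x y' hx1 hh hy'x.symm
    · intro hh
      exact hct h y' x hy'1 hh hy'x
  rw [Subgroup.mem_normalizer_iff]
  intro h
  rw [Subgroup.mem_centralizer_singleton_iff,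
    Subgroup.mem_centralizer_singleton_iff, key y hy1 hyx h, key (g * y * g⁻¹) hgy1 hgyx]
  constructor
  · intro hh
    calc g * h * g⁻¹ * (g * y * g⁻¹) = g * (h * y) * g⁻¹ := by group
      _ = g * (y * h) * g⁻¹ := by rw [hh]
      _ = g * y * g⁻¹ * (g * h * g⁻¹) := by group
  · intro hh
    calc h * y = g⁻¹ * (g * h * g⁻¹ * (g * y * g⁻¹)) * g := by group
      _ = g⁻¹ * (g * y * g⁻¹ * (g * h * g⁻¹)) * g := by rw [hh]
      _ = y * h := by group

end gen

section sl

variable {F : Type*} [Field F]

/-- Commuting is transitive on non-scalar elements of `SL₂`. -/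
theorem SL2_comm_trans (a b c : Matrix.SpecialLinearGroup (Fin 2) F)
    (hb : ¬ ∃ r : F, (b : Matrix (Fin 2) (Fin 2) F) = r • (1 : Matrix (Fin 2) (Fin 2) F))
    (hab : a * b = b * a) (hbc : b * c = c * b) : a * c = c * a := by
  have h1 : (a : Matrix (Fin 2) (Fin 2) F) * (b : Matrix (Fin 2) (Fin 2) F) =
      (b : Matrix (Fin 2) (Fin 2) F) * (a : Matrix (Fin 2) (Fin 2) F) := by
    rw [← Matrix.SpecialLinearGroup.coe_mul, hab, Matrix.SpecialLinearGroup.coe_mul]
  have h2 : (c : Matrix (Fin 2) (Fin 2) F) * (b : Matrix (Fin 2) (Fin 2) F) =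
      (b : Matrix (Fin 2) (Fin 2) F) * (c : Matrix (Fin 2) (Fin 2) F) := by
    rw [← Matrix.SpecialLinearGroup.coe_mul, ← hbc, Matrix.SpecialLinearGroup.coe_mul]
  obtain ⟨x, y, hxy⟩ := (comm_iff_exists_smul _ _ hb).mp h1
  obtain ⟨x', y', hxy'⟩ := (comm_iff_exists_smul _ _ hb).mp h2
  apply Subtype.ext
  rw [Matrix.SpecialLinearGroup.coe_mul, Matrix.SpecialLinearGroup.coe_mul, hxy, hxy']
  simp only [add_mul, mul_add, smul_mul_assoc, mul_smul_comm, one_mul, mul_one]
  module

/-- In characteristic two the projection `SL₂ → PSL₂` is injective. -/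
theorem PSL2_mk_injective_char_two (h2 : (2 : F) = 0) :
    Function.Injective (QuotientGroup.mk : Matrix.SpecialLinearGroup (Fin 2) F →
      Matrix.ProjectiveSpecialLinearGroup (Fin 2) F) := by
  intro a b hab
  rw [QuotientGroup.eq, SL2_mem_center_iff] at hab
  have := SL2_eq_one_of_scalar_char_two h2 _ hab
  exact (inv_mul_eq_one.mp this)

/-- Centralisers in `PSL₂` over a field of characteristic two are TI-subsets. -/
theorem PSL2_isTISubset_centralizer_char_two (h2 : (2 : F) = 0)
    (x : Matrix.ProjectiveSpecialLinearGroup (Fin 2) F) :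
    Cfsg.IsTISubset ((Subgroup.centralizer ({x} :
      Set (Matrix.ProjectiveSpecialLinearGroup (Fin 2) F)) :
      Subgroup (Matrix.ProjectiveSpecialLinearGroup (Fin 2) F)) :
      Set (Matrix.ProjectiveSpecialLinearGroup (Fin 2) F)) := by
  apply isTISubset_centralizer_of_commTrans
  intro a b c hb hab hbc
  obtain ⟨A, rfl⟩ := QuotientGroup.mk_surjective a
  obtain ⟨B, rfl⟩ := QuotientGroup.mk_surjective b
  obtain ⟨C, rfl⟩ := QuotientGroup.mk_surjective c
  have hinj := PSL2_mk_injective_char_two h2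
  rw [← QuotientGroup.mk_mul, ← QuotientGroup.mk_mul] at hab hbc ⊢
  have hAB := hinj hab
  have hBC := hinj hbc
  rw [Ne, PSL2_mk_eq_one_iff] at hb
  rw [SL2_comm_trans A B C hb hAB hBC]

end sl

end Cfsg.Agent.Lib.helper12
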