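import Mathlib
import Cfsg.Agent.Lib.helper12.DkNum
import Cfsg.Agent.Lib.helper12.PSL2TI
import Cfsg.Agent.Lib.helper12.PSL2Aut1
import Cfsg.Agent.Lib.helper12.SL2SylP
import Cfsg.Agent.Lib.helper12.PSL2Klein

set_option autoImplicit false

namespace Cfsg.Agent.Lib.helper12

open scoped MatrixGroups

section dkpart

variable {F : Type*} [Field F]

/-- The piece of `x` in the partition of `PSL₂`: the image of the centraliser of a lift. -/
noncomputable def Mq (x : PSL(2, F)) : Subgroup PSL(2, F) :=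
  (Subgroup.centralizer ({Quotient.out x} : Set SL(2, F))).map
    (QuotientGroup.mk' (Subgroup.center SL(2, F)))

theorem SL2_comm_smul_iff (g g' k : SL(2, F)) (ε : F) (hε : ε * ε = 1)
    (h : (g' : Matrix (Fin 2) (Fin 2) F) = ε • (g : Matrix (Fin 2) (Fin 2) F)) :
    k * g' = g' * k ↔ k * g = g * k := by
  have hε0 : ε ≠ 0 := left_ne_zero_of_mul_eq_one hε
  constructor
  · intro hc
    apply Subtype.ext
    have h1 := congrArg (fun m : SL(2, F) => (m : Matrix (Fin 2) (Fin 2) F)) hc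
    simp only [Matrix.SpecialLinearGroup.coe_mul, h, Matrix.smul_mul, Matrix.mul_smul] at h1
    rw [Matrix.SpecialLinearGroup.coe_mul, Matrix.SpecialLinearGroup.coe_mul]
    exact smul_right_injective _ hε0 h1
  · intro hc
    apply Subtype.ext
    rw [Matrix.SpecialLinearGroup.coe_mul, Matrix.SpecialLinearGroup.coe_mul, h, Matrix.smul_mul,
      Matrix.mul_smul, ← Matrix.SpecialLinearGroup.coe_mul, ← Matrix.SpecialLinearGroup.coe_mul, hc]

theorem PSL2_out_smul (g : SL(2, F)) :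
    ∃ ε : F, ε * ε = 1 ∧
      ((Quotient.out (QuotientGroup.mk g : PSL(2, F)) : SL(2, F)) : Matrix (Fin 2) (Fin 2) F) =
        ε • (g : Matrix (Fin 2) (Fin 2) F) := by
  have h1 : (QuotientGroup.mk g : PSL(2, F)) =
      QuotientGroup.mk (Quotient.out (QuotientGroup.mk g : PSL(2, F))) :=
    (QuotientGroup.out_eq' _).symm
  exact (PSL2_mk_eq_mk_iff _ _).1 h1

theorem mk_mem_Mq_iff (g h : SL(2, F)) :
    (QuotientGroup.mk h : PSL(2, F)) ∈ Mq (QuotientGroup.mk g : PSL(2, F)) ↔ h * g = g * h := by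
  obtain ⟨ε, hε, hout⟩ := PSL2_out_smul g
  rw [Mq, Subgroup.mem_map]
  constructor
  · rintro ⟨h', hh', hmk⟩
    rw [Subgroup.mem_centralizer_singleton_iff, SL2_comm_smul_iff g _ h' ε hε hout] at hh'
    obtain ⟨δ, hδ, hh⟩ := (PSL2_mk_eq_mk_iff _ _).1 hmk
    have h2 : g * h = h * g ↔ g * h' = h' * g := SL2_comm_smul_iff h' h g δ hδ hh
    exact (h2.2 hh'.symm).symm
  · intro hc
    refine ⟨h, ?_, rfl⟩
    rw [Subgroup.mem_centralizer_singleton_iff, SL2_comm_smul_iff g _ h ε hε hout]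
    exact hc

theorem PSL2_mk_ne_one_iff (g : SL(2, F)) :
    (QuotientGroup.mk g : PSL(2, F)) ≠ 1 ↔
      ¬ ∃ a : F, (g : Matrix (Fin 2) (Fin 2) F) = a • (1 : Matrix (Fin 2) (Fin 2) F) := by
  rw [Ne, QuotientGroup.eq_one_iff, SL2_mem_center_iff]

theorem tiPart_Mq : TIPart (Mq (F := F)) where
  mem := by
    intro x _
    obtain ⟨g, rfl⟩ := QuotientGroup.mk_surjective x
    rw [mk_mem_Mq_iff]
  eq_of_mem := by
    intro x y hx hy hmem
    obtain ⟨g, rfl⟩ := QuotientGroup.mk_surjective x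
    obtain ⟨h, rfl⟩ := QuotientGroup.mk_surjective y
    rw [mk_mem_Mq_iff] at hmem
    rw [PSL2_mk_ne_one_iff] at hx hy
    ext z
    obtain ⟨k, rfl⟩ := QuotientGroup.mk_surjective z
    rw [mk_mem_Mq_iff, mk_mem_Mq_iff]
    constructor
    · intro hk
      exact SL2_comm_trans k h g hy hk hmem
    · intro hk
      exact SL2_comm_trans k g h hx hk hmem.symm
  conj := by
    intro a x _
    obtain ⟨α, rfl⟩ := QuotientGroup.mk_surjective a
    obtain ⟨g, rfl⟩ := QuotientGroup.mk_surjective x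
    ext z
    obtain ⟨k, rfl⟩ := QuotientGroup.mk_surjective z
    rw [mem_map_conj]
    have e1 : (QuotientGroup.mk α : PSL(2, F)) * QuotientGroup.mk g * (QuotientGroup.mk α)⁻¹ =
        QuotientGroup.mk (α * g * α⁻¹) := rfl
    have e2 : (QuotientGroup.mk α : PSL(2, F))⁻¹ * QuotientGroup.mk k * QuotientGroup.mk α =
        QuotientGroup.mk (α⁻¹ * k * α) := rfl
    rw [e1, e2, mk_mem_Mq_iff, mk_mem_Mq_iff]
    constructor
    · intro hc
      calc α⁻¹ * k * α * g = α⁻¹ * (k * (α * g * α⁻¹)) * α := by group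
        _ = α⁻¹ * (α * g * α⁻¹ * k) * α := by rw [hc]
        _ = g * (α⁻¹ * k * α) := by group
    · intro hc
      calc k * (α * g * α⁻¹) = α * (α⁻¹ * k * α * g) * α⁻¹ := by group
        _ = α * (g * (α⁻¹ * k * α)) * α⁻¹ := by rw [hc]
        _ = α * g * α⁻¹ * k := by group

theorem Mq_mk (g : SL(2, F)) :
    Mq (QuotientGroup.mk g : PSL(2, F)) =
      (Subgroup.centralizer ({g} : Set SL(2, F))).map
        (QuotientGroup.mk' (Subgroup.center SL(2, F))) := by
  obtain ⟨ε, hε, hout⟩ := PSL2_out_smul g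
  have : Subgroup.centralizer ({Quotient.out (QuotientGroup.mk g : PSL(2, F))} : Set SL(2, F)) =
      Subgroup.centralizer ({g} : Set SL(2, F)) := by
    ext k
    rw [Subgroup.mem_centralizer_singleton_iff, Subgroup.mem_centralizer_singleton_iff]
    exact SL2_comm_smul_iff g _ k ε hε hout
  rw [Mq, this]

theorem SL2_inv_00 (g : SL(2, F)) : ((g⁻¹ : SL(2, F)) : Matrix (Fin 2) (Fin 2) F) 0 0 =
    (g : Matrix (Fin 2) (Fin 2) F) 1 1 := by
  rw [Matrix.SpecialLinearGroup.coe_inv, Matrix.adjugate_fin_two]; rfl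

theorem SL2_inv_01 (g : SL(2, F)) : ((g⁻¹ : SL(2, F)) : Matrix (Fin 2) (Fin 2) F) 0 1 =
    -(g : Matrix (Fin 2) (Fin 2) F) 0 1 := by
  rw [Matrix.SpecialLinearGroup.coe_inv, Matrix.adjugate_fin_two]; rfl

theorem SL2_inv_10 (g : SL(2, F)) : ((g⁻¹ : SL(2, F)) : Matrix (Fin 2) (Fin 2) F) 1 0 =
    -(g : Matrix (Fin 2) (Fin 2) F) 1 0 := by
  rw [Matrix.SpecialLinearGroup.coe_inv, Matrix.adjugate_fin_two]; rfl

theorem SL2_inv_11 (g : SL(2, F)) : ((g⁻¹ : SL(2, F)) : Matrix (Fin 2) (Fin 2) F) 1 1 =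
    (g : Matrix (Fin 2) (Fin 2) F) 0 0 := by
  rw [Matrix.SpecialLinearGroup.coe_inv, Matrix.adjugate_fin_two]; rfl

theorem SL2_mul_00 (g h : SL(2, F)) : ((g * h : SL(2, F)) : Matrix (Fin 2) (Fin 2) F) 0 0 =
    (g : Matrix (Fin 2) (Fin 2) F) 0 0 * (h : Matrix (Fin 2) (Fin 2) F) 0 0 +
      (g : Matrix (Fin 2) (Fin 2) F) 0 1 * (h : Matrix (Fin 2) (Fin 2) F) 1 0 := by
  rw [Matrix.SpecialLinearGroup.coe_mul, Matrix.mul_apply, Fin.sum_univ_two]

theorem SL2_mul_01 (g h : SL(2, F)) : ((g * h : SL(2, F)) : Matrix (Fin 2) (Fin 2) F) 0 1 =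
    (g : Matrix (Fin 2) (Fin 2) F) 0 0 * (h : Matrix (Fin 2) (Fin 2) F) 0 1 +
      (g : Matrix (Fin 2) (Fin 2) F) 0 1 * (h : Matrix (Fin 2) (Fin 2) F) 1 1 := by
  rw [Matrix.SpecialLinearGroup.coe_mul, Matrix.mul_apply, Fin.sum_univ_two]

theorem SL2_mul_10 (g h : SL(2, F)) : ((g * h : SL(2, F)) : Matrix (Fin 2) (Fin 2) F) 1 0 =
    (g : Matrix (Fin 2) (Fin 2) F) 1 0 * (h : Matrix (Fin 2) (Fin 2) F) 0 0 +
      (g : Matrix (Fin 2) (Fin 2) F) 1 1 * (h : Matrix (Fin 2) (Fin 2) F) 1 0 := by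
  rw [Matrix.SpecialLinearGroup.coe_mul, Matrix.mul_apply, Fin.sum_univ_two]

theorem SL2_mul_11 (g h : SL(2, F)) : ((g * h : SL(2, F)) : Matrix (Fin 2) (Fin 2) F) 1 1 =
    (g : Matrix (Fin 2) (Fin 2) F) 1 0 * (h : Matrix (Fin 2) (Fin 2) F) 0 1 +
      (g : Matrix (Fin 2) (Fin 2) F) 1 1 * (h : Matrix (Fin 2) (Fin 2) F) 1 1 := by
  rw [Matrix.SpecialLinearGroup.coe_mul, Matrix.mul_apply, Fin.sum_univ_two]

theorem uS_00 (z : F) : ((uS z : SL(2, F)) : Matrix (Fin 2) (Fin 2) F) 0 0 = 1 := rfl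
theorem uS_01 (z : F) : ((uS z : SL(2, F)) : Matrix (Fin 2) (Fin 2) F) 0 1 = z := rfl
theorem uS_10 (z : F) : ((uS z : SL(2, F)) : Matrix (Fin 2) (Fin 2) F) 1 0 = 0 := rfl
theorem uS_11 (z : F) : ((uS z : SL(2, F)) : Matrix (Fin 2) (Fin 2) F) 1 1 = 1 := rfl
theorem lS_00 (z : F) : ((lS z : SL(2, F)) : Matrix (Fin 2) (Fin 2) F) 0 0 = 1 := rfl
theorem lS_01 (z : F) : ((lS z : SL(2, F)) : Matrix (Fin 2) (Fin 2) F) 0 1 = 0 := rfl
theorem lS_10 (z : F) : ((lS z : SL(2, F)) : Matrix (Fin 2) (Fin 2) F) 1 0 = z := rfl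
theorem lS_11 (z : F) : ((lS z : SL(2, F)) : Matrix (Fin 2) (Fin 2) F) 1 1 = 1 := rfl

theorem SL2_not_scalar_iff (g : SL(2, F)) :
    (¬ ∃ a : F, (g : Matrix (Fin 2) (Fin 2) F) = a • (1 : Matrix (Fin 2) (Fin 2) F)) ↔
      ((g : Matrix (Fin 2) (Fin 2) F) 0 1 ≠ 0 ∨ (g : Matrix (Fin 2) (Fin 2) F) 1 0 ≠ 0 ∨
        (g : Matrix (Fin 2) (Fin 2) F) 0 0 ≠ (g : Matrix (Fin 2) (Fin 2) F) 1 1) := by
  constructor
  · intro h
    by_contra hcon
    push Not at hcon
    obtain ⟨h1, h2, h3⟩ := hcon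
    apply h
    refine ⟨(g : Matrix (Fin 2) (Fin 2) F) 0 0, ?_⟩
    ext i j
    fin_cases i <;> fin_cases j <;> simp [h1, h2, h3]
  · rintro h ⟨a, ha⟩
    rw [ha] at h
    simp at h

/-- Trace squared equal to four is inherited by elements commuting with a non-scalar element. -/
theorem SL2_trace_sq_of_comm (g h : SL(2, F))
    (hg : ¬ ∃ a : F, (g : Matrix (Fin 2) (Fin 2) F) = a • (1 : Matrix (Fin 2) (Fin 2) F))
    (hc : h * g = g * h) (ht : (g : Matrix (Fin 2) (Fin 2) F).trace ^ 2 = 4) :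
    (h : Matrix (Fin 2) (Fin 2) F).trace ^ 2 = 4 := by
  have hc' : (h : Matrix (Fin 2) (Fin 2) F) * (g : Matrix (Fin 2) (Fin 2) F) = g * h := by
    rw [← Matrix.SpecialLinearGroup.coe_mul, hc, Matrix.SpecialLinearGroup.coe_mul]
  obtain ⟨x, y, hxy⟩ := (comm_iff_exists_smul _ _ hg).1 hc'
  have hd := h.det_coe
  rw [hxy, det_smul_one_add_smul, g.det_coe, mul_one] at hd
  rw [hxy]
  simp only [Matrix.trace_add, Matrix.trace_smul, Matrix.trace_one, Fintype.card_fin, smul_eq_mul]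
  push_cast
  linear_combination 4 * hd + y ^ 2 * ht

/-- An element commuting with a regular semisimple `g` and having the same trace is `g` or
its inverse. -/
theorem SL2_eq_or_eq_inv_of_comm (g g' : SL(2, F))
    (hg : ¬ ∃ a : F, (g : Matrix (Fin 2) (Fin 2) F) = a • (1 : Matrix (Fin 2) (Fin 2) F))
    (ht : (g : Matrix (Fin 2) (Fin 2) F).trace ^ 2 ≠ 4)
    (hc : g' * g = g * g')
    (htr : (g' : Matrix (Fin 2) (Fin 2) F).trace = (g : Matrix (Fin 2) (Fin 2) F).trace) :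
    g' = g ∨ g' = g⁻¹ := by
  have hc' : (g' : Matrix (Fin 2) (Fin 2) F) * (g : Matrix (Fin 2) (Fin 2) F) = g * g' := by
    rw [← Matrix.SpecialLinearGroup.coe_mul, hc, Matrix.SpecialLinearGroup.coe_mul]
  obtain ⟨x, y, hxy⟩ := (comm_iff_exists_smul _ _ hg).1 hc'
  obtain ⟨t, htdef⟩ : ∃ t, t = (g : Matrix (Fin 2) (Fin 2) F).trace := ⟨_, rfl⟩
  have hd := g'.det_coe
  rw [hxy, det_smul_one_add_smul, g.det_coe, mul_one, ← htdef] at hd
  have htr' : 2 * x + y * t = t := by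
    rw [hxy] at htr
    simp only [Matrix.trace_add, Matrix.trace_smul, Matrix.trace_one, Fintype.card_fin,
      smul_eq_mul] at htr
    push_cast at htr
    rw [← htdef] at htr
    linear_combination htr
  rw [← htdef] at ht
  have hinv := SL2_inv_val g
  rw [← htdef] at hinv
  have hy2 : (y - 1) * (y + 1) = 0 := by
    have h4 : (t ^ 2 - 4) * (y ^ 2 - 1) = 0 := by
      linear_combination (-4 : F) * hd + (2 * x + y * t + t) * htr'
    rcases mul_eq_zero.1 h4 with h | h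
    · exact absurd (by linear_combination h) ht
    · linear_combination h
  rcases mul_eq_zero.1 hy2 with hy | hy
  · have hy1 : y = 1 := by linear_combination hy
    rw [hy1] at hd htr' hxy
    have hx2 : 2 * x = 0 := by linear_combination htr'
    have hxx : x * (x + t) = 0 := by linear_combination hd
    by_cases h0 : x = 0
    · left
      apply Subtype.ext
      rw [hxy, h0, zero_smul, zero_add, one_smul]
    · right
      have hx : x + t = 0 := (mul_eq_zero.1 hxx).resolve_left h0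
      have h2 : (2 : F) = 0 := (mul_eq_zero.1 hx2).resolve_right h0
      have hxt : x = t := by linear_combination hx - t * h2
      apply Subtype.ext
      rw [hxy, hinv, hxt, one_smul, sub_eq_add_neg]
      congr 1
      rw [eq_neg_iff_add_eq_zero, ← two_smul F, h2, zero_smul]
  · have hy1 : y = -1 := by linear_combination hy
    rw [hy1] at hd htr' hxy
    have hx2 : 2 * x = 2 * t := by linear_combination htr'
    have hxx : x * (x - t) = 0 := by linear_combination hd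
    rcases mul_eq_zero.1 hxx with hx | hx
    · by_cases h2 : (2 : F) = 0
      · left
        apply Subtype.ext
        rw [hxy, hx, zero_smul, zero_add, neg_smul, one_smul, neg_eq_iff_add_eq_zero,
          ← two_smul F, h2, zero_smul]
      · right
        have ht0 : t = 0 := by
          rw [hx, mul_zero] at hx2
          exact ((mul_eq_zero.1 hx2.symm).resolve_left h2)
        apply Subtype.ext
        rw [hxy, hinv, hx, ht0, zero_smul, zero_add, neg_smul, one_smul, zero_sub]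
    · right
      have hxt : x = t := by linear_combination hx
      apply Subtype.ext
      rw [hxy, hinv, hxt, neg_smul, one_smul, sub_eq_add_neg]

/-- An element inverting a non-scalar element has trace zero. -/
theorem SL2_trace_zero_of_conj_inv (g ν : SL(2, F))
    (hg : ¬ ∃ a : F, (g : Matrix (Fin 2) (Fin 2) F) = a • (1 : Matrix (Fin 2) (Fin 2) F))
    (h : ν * g = g⁻¹ * ν) : (ν : Matrix (Fin 2) (Fin 2) F).trace = 0 := by
  have e00 := congrArg (fun m : SL(2, F) => (m : Matrix (Fin 2) (Fin 2) F) 0 0) h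
  have e01 := congrArg (fun m : SL(2, F) => (m : Matrix (Fin 2) (Fin 2) F) 0 1) h
  have e10 := congrArg (fun m : SL(2, F) => (m : Matrix (Fin 2) (Fin 2) F) 1 0) h
  have e11 := congrArg (fun m : SL(2, F) => (m : Matrix (Fin 2) (Fin 2) F) 1 1) h
  simp only [SL2_mul_00, SL2_mul_01, SL2_mul_10, SL2_mul_11, SL2_inv_00, SL2_inv_01, SL2_inv_10,
    SL2_inv_11] at e00 e01 e10 e11
  rw [Matrix.trace_fin_two]
  by_contra hne
  rw [SL2_not_scalar_iff] at hg
  rcases hg with h1 | h1 | h1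
  · apply h1
    have : ((ν : Matrix (Fin 2) (Fin 2) F) 0 0 + (ν : Matrix (Fin 2) (Fin 2) F) 1 1) *
        (g : Matrix (Fin 2) (Fin 2) F) 0 1 = 0 := by linear_combination e01
    exact (mul_eq_zero.1 this).resolve_left hne
  · apply h1
    have : ((ν : Matrix (Fin 2) (Fin 2) F) 0 0 + (ν : Matrix (Fin 2) (Fin 2) F) 1 1) *
        (g : Matrix (Fin 2) (Fin 2) F) 1 0 = 0 := by linear_combination e10
    exact (mul_eq_zero.1 this).resolve_left hne
  · apply h1
    have : ((ν : Matrix (Fin 2) (Fin 2) F) 0 0 + (ν : Matrix (Fin 2) (Fin 2) F) 1 1) *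
        ((g : Matrix (Fin 2) (Fin 2) F) 0 0 - (g : Matrix (Fin 2) (Fin 2) F) 1 1) = 0 := by
      linear_combination e00 - e11
    exact sub_eq_zero.1 ((mul_eq_zero.1 this).resolve_left hne)

/-- An element inverting a non-scalar `g` inverts every element commuting with `g`. -/
theorem SL2_conj_inv_of_comm (g ν h : SL(2, F))
    (hg : ¬ ∃ a : F, (g : Matrix (Fin 2) (Fin 2) F) = a • (1 : Matrix (Fin 2) (Fin 2) F))
    (hν : ν * g * ν⁻¹ = g⁻¹) (hc : h * g = g * h) : ν * h * ν⁻¹ = h⁻¹ := by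
  have hc' : (h : Matrix (Fin 2) (Fin 2) F) * (g : Matrix (Fin 2) (Fin 2) F) = g * h := by
    rw [← Matrix.SpecialLinearGroup.coe_mul, hc, Matrix.SpecialLinearGroup.coe_mul]
  obtain ⟨x, y, hxy⟩ := (comm_iff_exists_smul _ _ hg).1 hc'
  obtain ⟨t, htdef⟩ : ∃ t, t = (g : Matrix (Fin 2) (Fin 2) F).trace := ⟨_, rfl⟩
  have hd := h.det_coe
  rw [hxy, det_smul_one_add_smul, g.det_coe, mul_one, ← htdef] at hd
  have hinv := SL2_inv_val g
  rw [← htdef] at hinv
  have hsq := SL2_sq_eq g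
  rw [← htdef] at hsq
  apply eq_inv_of_mul_eq_one_left
  apply Subtype.ext
  have e1 : ((ν * h * ν⁻¹ : SL(2, F)) : Matrix (Fin 2) (Fin 2) F) =
      x • (1 : Matrix (Fin 2) (Fin 2) F) + y • ((g⁻¹ : SL(2, F)) : Matrix (Fin 2) (Fin 2) F) := by
    rw [← hν]
    simp only [Matrix.SpecialLinearGroup.coe_mul]
    rw [hxy, Matrix.mul_add, Matrix.add_mul, Matrix.mul_smul, Matrix.smul_mul, Matrix.mul_one,
      Matrix.mul_smul, Matrix.smul_mul, ← Matrix.SpecialLinearGroup.coe_mul ν ν⁻¹, mul_inv_cancel,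
      Matrix.SpecialLinearGroup.coe_one]
  rw [Matrix.SpecialLinearGroup.coe_mul, e1, hinv, hxy, Matrix.SpecialLinearGroup.coe_one]
  calc (x • (1 : Matrix (Fin 2) (Fin 2) F) + y • (t • (1 : Matrix (Fin 2) (Fin 2) F) -
          (g : Matrix (Fin 2) (Fin 2) F))) * (x • (1 : Matrix (Fin 2) (Fin 2) F) +
          y • (g : Matrix (Fin 2) (Fin 2) F))
      = (x ^ 2 + x * y * t) • (1 : Matrix (Fin 2) (Fin 2) F) +
          y ^ 2 • (t • (g : Matrix (Fin 2) (Fin 2) F) -
            (g : Matrix (Fin 2) (Fin 2) F) * (g : Matrix (Fin 2) (Fin 2) F)) := by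
        simp only [add_mul, mul_add, smul_mul_assoc, mul_smul_comm, one_mul, mul_one, sub_mul,
          smul_sub, smul_add]
        module
    _ = (x ^ 2 + x * y * t + y ^ 2) • (1 : Matrix (Fin 2) (Fin 2) F) := by
        rw [hsq]
        module
    _ = 1 := by rw [hd, one_smul]

end dkpart

section dkcyc

variable {F : Type*} [Field F] [Finite F]

/-- The centraliser of a regular semisimple element of `SL₂` over a finite field is cyclic. -/
theorem SL2_centralizer_cyclic (g : SL(2, F))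
    (hg : ¬ ∃ a : F, (g : Matrix (Fin 2) (Fin 2) F) = a • (1 : Matrix (Fin 2) (Fin 2) F))
    (ht : (g : Matrix (Fin 2) (Fin 2) F).trace ^ 2 ≠ 4) :
    IsCyclic (Subgroup.centralizer ({g} : Set SL(2, F))) := by
  classical
  haveI : Finite SL(2, F) := Subtype.finite
  obtain ⟨t, htdef⟩ : ∃ t, t = (g : Matrix (Fin 2) (Fin 2) F).trace := ⟨_, rfl⟩
  rw [← htdef] at ht
  obtain ⟨lam, hlam⟩ : ∃ lam : AlgebraicClosure F,
      lam ^ 2 - algebraMap F (AlgebraicClosure F) t * lam + 1 = 0 := by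
    have hdeg : (Polynomial.C (1 : AlgebraicClosure F) * Polynomial.X ^ 2 +
        Polynomial.C (-(algebraMap F (AlgebraicClosure F) t)) * Polynomial.X +
        Polynomial.C 1).degree ≠ 0 := by
      rw [Polynomial.degree_quadratic one_ne_zero]
      decide
    obtain ⟨lam, hl⟩ := IsAlgClosed.exists_root _ hdeg
    refine ⟨lam, ?_⟩
    simp only [Polynomial.IsRoot, Polynomial.eval_add, Polynomial.eval_mul, Polynomial.eval_C,
      Polynomial.eval_pow, Polynomial.eval_X] at hl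
    linear_combination hl
  have hex : ∀ h : Subgroup.centralizer ({g} : Set SL(2, F)), ∃ x y : F,
      ((h : SL(2, F)) : Matrix (Fin 2) (Fin 2) F) =
        x • (1 : Matrix (Fin 2) (Fin 2) F) + y • (g : Matrix (Fin 2) (Fin 2) F) :=
    fun h => (SL2_mem_centralizer_iff g h hg).1 h.2
  choose X Y hXY using hex
  have hdet : ∀ h, X h ^ 2 + X h * Y h * t + Y h ^ 2 = 1 := by
    intro h
    have hd := (h : SL(2, F)).det_coe
    rw [hXY h, det_smul_one_add_smul, g.det_coe, mul_one, ← htdef] at hd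
    exact hd
  have hone : X 1 = 1 ∧ Y 1 = 0 := by
    have h1 := hXY 1
    have h2 : (1 : F) • (1 : Matrix (Fin 2) (Fin 2) F) + (0 : F) • (g : Matrix (Fin 2) (Fin 2) F) =
        X 1 • (1 : Matrix (Fin 2) (Fin 2) F) + Y 1 • (g : Matrix (Fin 2) (Fin 2) F) := by
      rw [← h1]
      simp
    obtain ⟨h3, h4⟩ := smul_one_add_smul_injective _ hg h2
    exact ⟨h3.symm, h4.symm⟩
  have hsq := SL2_sq_eq g
  rw [← htdef] at hsq
  have hmul : ∀ h h', X (h * h') = X h * X h' - Y h * Y h' ∧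
      Y (h * h') = X h * Y h' + X h' * Y h + Y h * Y h' * t := by
    intro h h'
    have h1 := hXY (h * h')
    have h2 : (((h * h' : Subgroup.centralizer ({g} : Set SL(2, F))) : SL(2, F)) :
        Matrix (Fin 2) (Fin 2) F) = (X h * X h' - Y h * Y h') • (1 : Matrix (Fin 2) (Fin 2) F) +
          (X h * Y h' + X h' * Y h + Y h * Y h' * t) • (g : Matrix (Fin 2) (Fin 2) F) := by
      rw [Subgroup.coe_mul, Matrix.SpecialLinearGroup.coe_mul, hXY h, hXY h']
      simp only [add_mul, mul_add, smul_mul_assoc, mul_smul_comm, one_mul, mul_one, hsq]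
      module
    rw [h1] at h2
    exact smul_one_add_smul_injective _ hg h2
  let f : Subgroup.centralizer ({g} : Set SL(2, F)) →* AlgebraicClosure F :=
    { toFun := fun h => algebraMap F (AlgebraicClosure F) (X h) +
        algebraMap F (AlgebraicClosure F) (Y h) * lam
      map_one' := by rw [hone.1, hone.2]; simp
      map_mul' := by
        intro h h'
        rw [(hmul h h').1, (hmul h h').2]
        simp only [map_sub, map_add, map_mul]
        linear_combination (-(algebraMap F (AlgebraicClosure F) (Y h)) *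
          algebraMap F (AlgebraicClosure F) (Y h')) * hlam }
  have hinj : Function.Injective f := by
    rw [injective_iff_map_eq_one]
    intro h hh
    have hh' : algebraMap F (AlgebraicClosure F) (X h) +
        algebraMap F (AlgebraicClosure F) (Y h) * lam = 1 := hh
    have hd' : algebraMap F (AlgebraicClosure F) (X h) ^ 2 +
        algebraMap F (AlgebraicClosure F) (X h) * algebraMap F (AlgebraicClosure F) (Y h) *
          algebraMap F (AlgebraicClosure F) t + algebraMap F (AlgebraicClosure F) (Y h) ^ 2 = 1 := by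
      rw [← map_pow, ← map_mul, ← map_mul, ← map_pow, ← map_add, ← map_add, hdet h, map_one]
    have h1 : algebraMap F (AlgebraicClosure F) (Y h) *
        (2 * lam - algebraMap F (AlgebraicClosure F) t) = 0 := by
      have h2 : algebraMap F (AlgebraicClosure F) (X h) + algebraMap F (AlgebraicClosure F) (Y h) *
          (algebraMap F (AlgebraicClosure F) t - lam) = 1 := by
        have h3 : (algebraMap F (AlgebraicClosure F) (X h) +
            algebraMap F (AlgebraicClosure F) (Y h) * lam) *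
            (algebraMap F (AlgebraicClosure F) (X h) + algebraMap F (AlgebraicClosure F) (Y h) *
              (algebraMap F (AlgebraicClosure F) t - lam)) = 1 := by
          linear_combination hd' - (algebraMap F (AlgebraicClosure F) (Y h)) ^ 2 * hlam
        rw [hh', one_mul] at h3
        exact h3
      linear_combination hh' - h2
    have h4 : (2 * lam - algebraMap F (AlgebraicClosure F) t) ≠ 0 := by
      intro h0
      apply ht
      have h5 : algebraMap F (AlgebraicClosure F) (t ^ 2) = algebraMap F (AlgebraicClosure F) 4 := by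
        rw [map_pow, map_ofNat]
        linear_combination (2 * lam - algebraMap F (AlgebraicClosure F) t) * h0 - 4 * hlam
      exact (algebraMap F (AlgebraicClosure F)).injective h5
    have hy : Y h = 0 := by
      have := (mul_eq_zero.1 h1).resolve_right h4
      exact (map_eq_zero _).1 this
    have hx : X h = 1 := by
      rw [hy, map_zero, zero_mul, add_zero] at hh'
      exact (algebraMap F (AlgebraicClosure F)).injective (by rw [hh', map_one])
    apply Subtype.ext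
    apply Subtype.ext
    rw [hXY h, hx, hy]
    simp
  exact isCyclic_of_subgroup_isDomain f hinj

end dkcyc

section dklevel

variable {F : Type*} [Field F]

/-- The square of the trace of a lift (well defined on `PSL₂`). -/
noncomputable def trSq (x : PSL(2, F)) : F :=
  ((Quotient.out x : SL(2, F)) : Matrix (Fin 2) (Fin 2) F).trace ^ 2

theorem trSq_mk (g : SL(2, F)) :
    trSq (QuotientGroup.mk g : PSL(2, F)) = (g : Matrix (Fin 2) (Fin 2) F).trace ^ 2 := by
  obtain ⟨ε, hε, hout⟩ := PSL2_out_smul g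
  rw [trSq, hout, Matrix.trace_smul, smul_eq_mul]
  linear_combination (g : Matrix (Fin 2) (Fin 2) F).trace ^ 2 * hε

theorem trSq_of_mem_Mq {x c : PSL(2, F)} (hx : x ≠ 1) (hc : c ∈ Mq x) (ht : trSq x = 4) :
    trSq c = 4 := by
  obtain ⟨g, rfl⟩ := QuotientGroup.mk_surjective x
  obtain ⟨h, rfl⟩ := QuotientGroup.mk_surjective c
  rw [mk_mem_Mq_iff] at hc
  rw [trSq_mk] at ht ⊢
  rw [PSL2_mk_ne_one_iff] at hx
  exact SL2_trace_sq_of_comm g h hx hc ht

theorem Mq_semi_inv (g ν : SL(2, F))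
    (hg : ¬ ∃ a : F, (g : Matrix (Fin 2) (Fin 2) F) = a • (1 : Matrix (Fin 2) (Fin 2) F))
    (ht : (g : Matrix (Fin 2) (Fin 2) F).trace ^ 2 ≠ 4)
    (hn : (QuotientGroup.mk (ν * g * ν⁻¹) : PSL(2, F)) ∈ Mq (QuotientGroup.mk g : PSL(2, F)))
    (hnot : (QuotientGroup.mk ν : PSL(2, F)) ∉ Mq (QuotientGroup.mk g : PSL(2, F))) :
    ν * g * ν⁻¹ = g⁻¹ := by
  rw [mk_mem_Mq_iff] at hn hnot
  have htr : ((ν * g * ν⁻¹ : SL(2, F)) : Matrix (Fin 2) (Fin 2) F).trace =
      (g : Matrix (Fin 2) (Fin 2) F).trace := by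
    rw [Matrix.SpecialLinearGroup.coe_mul, Matrix.trace_mul_comm,
      ← Matrix.SpecialLinearGroup.coe_mul, inv_mul_cancel_left]
  rcases SL2_eq_or_eq_inv_of_comm g _ hg ht hn htr with h | h
  · exfalso
    apply hnot
    calc ν * g = (ν * g * ν⁻¹) * ν := by group
      _ = g * ν := by rw [h]
  · exact h

theorem Mq_semi_normalizer (x n : PSL(2, F)) (hx : x ≠ 1) (hs : trSq x ≠ 4)
    (hn : n * x * n⁻¹ ∈ Mq x) (hnot : n ∉ Mq x) :
    n * n = 1 ∧ ∀ c ∈ Mq x, n * c * n⁻¹ = c⁻¹ := by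
  obtain ⟨g, rfl⟩ := QuotientGroup.mk_surjective x
  obtain ⟨ν, rfl⟩ := QuotientGroup.mk_surjective n
  rw [trSq_mk] at hs
  rw [PSL2_mk_ne_one_iff] at hx
  have hν := Mq_semi_inv g ν hx hs hn hnot
  constructor
  · have h1 : ν * g = g⁻¹ * ν := by rw [← hν]; group
    have htr := SL2_trace_zero_of_conj_inv g ν hx h1
    have hsq := SL2_sq_of_trace_zero ν htr
    rw [← QuotientGroup.mk_mul, hsq, QuotientGroup.eq_one_iff, SL2_mem_center_iff]
    exact ⟨_, signSL_val false⟩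
  · intro c hc
    obtain ⟨h, rfl⟩ := QuotientGroup.mk_surjective c
    rw [mk_mem_Mq_iff] at hc
    have := SL2_conj_inv_of_comm g ν h hx hν hc
    calc (QuotientGroup.mk ν : PSL(2, F)) * QuotientGroup.mk h * (QuotientGroup.mk ν)⁻¹
        = QuotientGroup.mk (ν * h * ν⁻¹) := rfl
      _ = (QuotientGroup.mk h)⁻¹ := by rw [this]; rfl

theorem Mq_semi_index (x n n' : PSL(2, F)) (hx : x ≠ 1) (hs : trSq x ≠ 4)
    (hn : n * x * n⁻¹ ∈ Mq x) (hnot : n ∉ Mq x)
    (hn' : n' * x * n'⁻¹ ∈ Mq x) (hnot' : n' ∉ Mq x) : n⁻¹ * n' ∈ Mq x := by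
  obtain ⟨g, rfl⟩ := QuotientGroup.mk_surjective x
  obtain ⟨ν, rfl⟩ := QuotientGroup.mk_surjective n
  obtain ⟨ν', rfl⟩ := QuotientGroup.mk_surjective n'
  rw [trSq_mk] at hs
  rw [PSL2_mk_ne_one_iff] at hx
  have hν := Mq_semi_inv g ν hx hs hn hnot
  have hν' := Mq_semi_inv g ν' hx hs hn' hnot'
  have e : (QuotientGroup.mk ν : PSL(2, F))⁻¹ * QuotientGroup.mk ν' =
      QuotientGroup.mk (ν⁻¹ * ν') := rfl
  rw [e, mk_mem_Mq_iff]
  calc ν⁻¹ * ν' * g = ν⁻¹ * (ν' * g * ν'⁻¹) * ν' := by group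
    _ = ν⁻¹ * (ν * g * ν⁻¹) * ν' := by rw [hν, hν']
    _ = g * (ν⁻¹ * ν') := by group

theorem Mq_unip_pow (p : ℕ) [Fact p.Prime] [CharP F p] (x c : PSL(2, F)) (hx : x ≠ 1)
    (ht : trSq x = 4) (hc : c ∈ Mq x) : c ^ p = 1 := by
  obtain ⟨g, rfl⟩ := QuotientGroup.mk_surjective x
  obtain ⟨h, rfl⟩ := QuotientGroup.mk_surjective c
  rw [mk_mem_Mq_iff] at hc
  rw [trSq_mk] at ht
  rw [PSL2_mk_ne_one_iff] at hx
  rw [PSL2_mk_pow_eq_one_iff]
  exact SL2_pow_char_scalar p h (SL2_trace_sq_of_comm g h hx hc ht)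

theorem Mq_unip_comm (x w : PSL(2, F)) (ht : trSq x = 4) (hw : w * x = x * w) : w ∈ Mq x := by
  obtain ⟨g, rfl⟩ := QuotientGroup.mk_surjective x
  obtain ⟨ω, rfl⟩ := QuotientGroup.mk_surjective w
  rw [trSq_mk] at ht
  have h1 : (QuotientGroup.mk g : PSL(2, F)) = QuotientGroup.mk (ω * g * ω⁻¹) := by
    have : (QuotientGroup.mk (ω * g * ω⁻¹) : PSL(2, F)) =
        QuotientGroup.mk ω * QuotientGroup.mk g * (QuotientGroup.mk ω)⁻¹ := rfl
    rw [this, hw, mul_inv_cancel_right]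
  obtain ⟨ε, hε, hmat⟩ := (PSL2_mk_eq_mk_iff _ _).1 h1
  have htr : (g : Matrix (Fin 2) (Fin 2) F).trace = ε * (g : Matrix (Fin 2) (Fin 2) F).trace := by
    have h2 := congrArg Matrix.trace hmat
    rw [Matrix.trace_smul, smul_eq_mul, Matrix.SpecialLinearGroup.coe_mul, Matrix.trace_mul_comm,
      ← Matrix.SpecialLinearGroup.coe_mul, inv_mul_cancel_left] at h2
    exact h2
  have hε1 : ε = 1 := by
    by_contra hne
    have h0 : (g : Matrix (Fin 2) (Fin 2) F).trace = 0 := by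
      have : (1 - ε) * (g : Matrix (Fin 2) (Fin 2) F).trace = 0 := by linear_combination htr
      rcases mul_eq_zero.1 this with h | h
      · exact absurd (by linear_combination -h) hne
      · exact h
    rw [h0] at ht
    have h2 : (2 : F) = 0 := by
      have : (2 : F) * 2 = 0 := by linear_combination -ht
      exact mul_self_eq_zero.1 this
    apply hne
    have : (ε - 1) * (ε - 1) = 0 := by linear_combination hε + (1 - ε) * h2
    linear_combination mul_self_eq_zero.1 this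
  rw [hε1, one_smul] at hmat
  rw [mk_mem_Mq_iff]
  have h3 : ω * g * ω⁻¹ = g := Subtype.ext hmat
  calc ω * g = (ω * g * ω⁻¹) * ω := by group
    _ = g * ω := by rw [h3]

end dklevel

section dkunip

variable {F : Type*} [Field F]

theorem SL2_unip_form (g : SL(2, F))
    (hg : ¬ ∃ a : F, (g : Matrix (Fin 2) (Fin 2) F) = a • (1 : Matrix (Fin 2) (Fin 2) F))
    (ht : (g : Matrix (Fin 2) (Fin 2) F).trace ^ 2 = 4) :
    ∃ (k : SL(2, F)) (a : F), a ≠ 0 ∧
      (QuotientGroup.mk g : PSL(2, F)) = QuotientGroup.mk (k * uS a * k⁻¹) := by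
  obtain ⟨s, hs⟩ : ∃ s : Bool, (g : Matrix (Fin 2) (Fin 2) F).trace = 2 * sgnB s := by
    have : ((g : Matrix (Fin 2) (Fin 2) F).trace - 2) *
        ((g : Matrix (Fin 2) (Fin 2) F).trace + 2) = 0 := by linear_combination ht
    rcases mul_eq_zero.1 this with h | h
    · refine ⟨true, ?_⟩
      simp only [sgnB, if_true]
      linear_combination h
    · refine ⟨false, ?_⟩
      simp only [sgnB]
      simp only [Bool.false_eq_true, if_false]
      linear_combination h
  obtain ⟨w, hw⟩ := exists_Qf_ne_zero _ hg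
  obtain ⟨c, hc⟩ := isConj_iff.1 (SL2_isConj_lowSL_of_Qf g s hs w hw)
  obtain ⟨z, hz⟩ : ∃ z, z = Qf (g : Matrix (Fin 2) (Fin 2) F) w := ⟨_, rfl⟩
  rw [← hz] at hc hw
  have he : (sgnB s : F) * sgnB s = 1 := sgnB_mul_self s
  have he0 : (sgnB s : F) ≠ 0 := left_ne_zero_of_mul_eq_one he
  have hweyl : (weylSL : SL(2, F)) * uS (-(sgnB s * z)) * weylSL⁻¹ = lS (sgnB s * z) := by
    have h00 : ((weylSL : SL(2, F)) : Matrix (Fin 2) (Fin 2) F) 0 0 = 0 := rfl
    have h10 : ((weylSL : SL(2, F)) : Matrix (Fin 2) (Fin 2) F) 1 0 = -1 := rfl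
    rw [conj_uS_eq_lS weylSL h00, h10]
    congr 1
    ring
  have hlow : (QuotientGroup.mk (lS (sgnB s * z)) : PSL(2, F)) = QuotientGroup.mk (lowSL s z) := by
    rw [PSL2_mk_eq_mk_iff]
    refine ⟨sgnB s, he, ?_⟩
    rw [lowSL_val, lS_val]
    ext i j
    fin_cases i <;> fin_cases j <;> simp
    linear_combination (-z) * he
  refine ⟨c * weylSL, -(sgnB s * z), neg_ne_zero.2 (mul_ne_zero he0 hw), ?_⟩
  calc (QuotientGroup.mk g : PSL(2, F)) = QuotientGroup.mk (c * lowSL s z * c⁻¹) := by rw [hc]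
    _ = QuotientGroup.mk c * QuotientGroup.mk (lowSL s z) * (QuotientGroup.mk c)⁻¹ := rfl
    _ = QuotientGroup.mk c * QuotientGroup.mk (lS (sgnB s * z)) * (QuotientGroup.mk c)⁻¹ := by
        rw [hlow]
    _ = QuotientGroup.mk (c * (weylSL * uS (-(sgnB s * z)) * weylSL⁻¹) * c⁻¹) := by
        rw [hweyl]; rfl
    _ = QuotientGroup.mk (c * weylSL * uS (-(sgnB s * z)) * (c * weylSL)⁻¹) := by
        congr 1
        group

theorem SL2_comm_uS_iff {a : F} (ha : a ≠ 0) (h : SL(2, F)) :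
    h * uS a = uS a * h ↔ (h : Matrix (Fin 2) (Fin 2) F) 1 0 = 0 ∧
      (h : Matrix (Fin 2) (Fin 2) F) 0 0 = (h : Matrix (Fin 2) (Fin 2) F) 1 1 := by
  constructor
  · intro hc
    have e00 := congrArg (fun m : SL(2, F) => (m : Matrix (Fin 2) (Fin 2) F) 0 0) hc
    have e01 := congrArg (fun m : SL(2, F) => (m : Matrix (Fin 2) (Fin 2) F) 0 1) hc
    simp only [SL2_mul_00, SL2_mul_01, uS_00, uS_01, uS_10, uS_11] at e00 e01
    have h10 : (h : Matrix (Fin 2) (Fin 2) F) 1 0 = 0 := by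
      have : a * (h : Matrix (Fin 2) (Fin 2) F) 1 0 = 0 := by linear_combination -e00
      exact (mul_eq_zero.1 this).resolve_left ha
    refine ⟨h10, ?_⟩
    have : a * ((h : Matrix (Fin 2) (Fin 2) F) 0 0 - (h : Matrix (Fin 2) (Fin 2) F) 1 1) = 0 := by
      linear_combination e01
    exact sub_eq_zero.1 ((mul_eq_zero.1 this).resolve_left ha)
  · rintro ⟨h10, h00⟩
    apply SL2_ext <;>
      simp only [SL2_mul_00, SL2_mul_01, SL2_mul_10, SL2_mul_11, uS_00, uS_01, uS_10, uS_11, h10,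
        h00] <;> ring

theorem mk_mem_Mq_uS_iff {a : F} (ha : a ≠ 0) (h : SL(2, F)) :
    (QuotientGroup.mk h : PSL(2, F)) ∈ Mq (QuotientGroup.mk (uS a) : PSL(2, F)) ↔
      (h : Matrix (Fin 2) (Fin 2) F) 1 0 = 0 ∧
      (h : Matrix (Fin 2) (Fin 2) F) 0 0 = (h : Matrix (Fin 2) (Fin 2) F) 1 1 := by
  rw [mk_mem_Mq_iff, SL2_comm_uS_iff ha]

theorem mk_uS_ne_one {a : F} (ha : a ≠ 0) : (QuotientGroup.mk (uS a) : PSL(2, F)) ≠ 1 := by
  rw [PSL2_mk_ne_one_iff, SL2_not_scalar_iff]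
  left
  rw [uS_01]
  exact ha

theorem trSq_mk_uS (a : F) : trSq (QuotientGroup.mk (uS a) : PSL(2, F)) = 4 := by
  rw [trSq_mk, Matrix.trace_fin_two, uS_00, uS_11]
  norm_num

theorem mk_mem_normalizer_uS_iff {a : F} (ha : a ≠ 0) (ν : SL(2, F)) :
    (QuotientGroup.mk ν : PSL(2, F)) ∈
        Subgroup.normalizer ((Mq (QuotientGroup.mk (uS a) : PSL(2, F))) : Set PSL(2, F)) ↔
      (ν : Matrix (Fin 2) (Fin 2) F) 1 0 = 0 := by
  have hx : (QuotientGroup.mk (uS a) : PSL(2, F)) ≠ 1 := mk_uS_ne_one ha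
  constructor
  · intro hn
    have h1 : (QuotientGroup.mk ν : PSL(2, F)) * QuotientGroup.mk (uS a) *
        (QuotientGroup.mk ν)⁻¹ ∈ Mq (QuotientGroup.mk (uS a) : PSL(2, F)) :=
      (Subgroup.mem_normalizer_iff.1 hn _).1 (tiPart_Mq.mem _ hx)
    have h2 : (QuotientGroup.mk (ν * uS a * ν⁻¹) : PSL(2, F)) ∈
        Mq (QuotientGroup.mk (uS a) : PSL(2, F)) := h1
    rw [mk_mem_Mq_uS_iff ha] at h2
    have h3 := h2.1
    simp only [SL2_mul_10, SL2_mul_11, SL2_mul_00, SL2_mul_01, SL2_inv_00, SL2_inv_10, uS_00,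
      uS_01, uS_10, uS_11] at h3
    have : a * ((ν : Matrix (Fin 2) (Fin 2) F) 1 0 * (ν : Matrix (Fin 2) (Fin 2) F) 1 0) = 0 := by
      linear_combination -h3
    exact mul_self_eq_zero.1 ((mul_eq_zero.1 this).resolve_left ha)
  · intro h10
    apply tiPart_Mq.mem_normalizer_of_conj_mem hx (tiPart_Mq.mem _ hx) hx
    have : ((QuotientGroup.mk ν : PSL(2, F)) * QuotientGroup.mk (uS a) *
        (QuotientGroup.mk ν)⁻¹ : PSL(2, F)) = QuotientGroup.mk (ν * uS a * ν⁻¹) := rfl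
    rw [this, borelSL_mul_uS ν h10, mk_mem_Mq_uS_iff ha]
    exact ⟨rfl, rfl⟩

theorem Mq_std_hom {a : F} (ha : a ≠ 0) :
    ∃ f : Subgroup.normalizer ((Mq (QuotientGroup.mk (uS a) : PSL(2, F))) : Set PSL(2, F)) →* Fˣ,
      ∀ n, f n = 1 ↔ (n : PSL(2, F)) ∈ Mq (QuotientGroup.mk (uS a) : PSL(2, F)) := by
  have h10 : ∀ n : Subgroup.normalizer ((Mq (QuotientGroup.mk (uS a) : PSL(2, F))) :
      Set PSL(2, F)),
      ((Quotient.out (n : PSL(2, F)) : SL(2, F)) : Matrix (Fin 2) (Fin 2) F) 1 0 = 0 := by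
    intro n
    have h := n.2
    have e := QuotientGroup.out_eq' (n : PSL(2, F))
    rw [← e] at h
    exact (mk_mem_normalizer_uS_iff ha _).1 h
  let f₀ : Subgroup.normalizer ((Mq (QuotientGroup.mk (uS a) : PSL(2, F))) : Set PSL(2, F)) →* F :=
    { toFun := fun n =>
        ((Quotient.out (n : PSL(2, F)) : SL(2, F)) : Matrix (Fin 2) (Fin 2) F) 0 0 ^ 2
      map_one' := by
        obtain ⟨ε, hε, hout⟩ := PSL2_out_smul (1 : SL(2, F))
        show ((Quotient.out ((1 : PSL(2, F))) : SL(2, F)) : Matrix (Fin 2) (Fin 2) F) 0 0 ^ 2 = 1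
        have e : (1 : PSL(2, F)) = QuotientGroup.mk (1 : SL(2, F)) := rfl
        rw [e, hout, Matrix.smul_apply, Matrix.SpecialLinearGroup.coe_one, Matrix.one_apply_eq,
          smul_eq_mul, mul_one]
        linear_combination hε
      map_mul' := by
        intro n n'
        have e : ((n * n' : Subgroup.normalizer
            ((Mq (QuotientGroup.mk (uS a) : PSL(2, F))) : Set PSL(2, F))) : PSL(2, F)) =
            QuotientGroup.mk (Quotient.out (n : PSL(2, F)) * Quotient.out (n' : PSL(2, F))) := by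
          rw [QuotientGroup.mk_mul, QuotientGroup.out_eq', QuotientGroup.out_eq', Subgroup.coe_mul]
        obtain ⟨ε, hε, hout⟩ :=
          PSL2_out_smul (Quotient.out (n : PSL(2, F)) * Quotient.out (n' : PSL(2, F)))
        show ((Quotient.out ((n * n' : Subgroup.normalizer
            ((Mq (QuotientGroup.mk (uS a) : PSL(2, F))) : Set PSL(2, F))) : PSL(2, F)) : SL(2, F)) :
              Matrix (Fin 2) (Fin 2) F) 0 0 ^ 2 =
          ((Quotient.out (n : PSL(2, F)) : SL(2, F)) : Matrix (Fin 2) (Fin 2) F) 0 0 ^ 2 *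
          ((Quotient.out (n' : PSL(2, F)) : SL(2, F)) : Matrix (Fin 2) (Fin 2) F) 0 0 ^ 2
        rw [e, hout, Matrix.smul_apply, SL2_mul_00, h10 n', smul_eq_mul]
        linear_combination
          (((Quotient.out (n : PSL(2, F)) : SL(2, F)) : Matrix (Fin 2) (Fin 2) F) 0 0 *
           ((Quotient.out (n' : PSL(2, F)) : SL(2, F)) : Matrix (Fin 2) (Fin 2) F) 0 0) ^ 2 * hε }
  refine ⟨f₀.toHomUnits, fun n => ?_⟩
  rw [← Units.val_eq_one, MonoidHom.coe_toHomUnits]
  show ((Quotient.out (n : PSL(2, F)) : SL(2, F)) : Matrix (Fin 2) (Fin 2) F) 0 0 ^ 2 = 1 ↔ _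
  have e := QuotientGroup.out_eq' (n : PSL(2, F))
  have hmem : (n : PSL(2, F)) ∈ Mq (QuotientGroup.mk (uS a) : PSL(2, F)) ↔
      ((Quotient.out (n : PSL(2, F)) : SL(2, F)) : Matrix (Fin 2) (Fin 2) F) 1 0 = 0 ∧
      ((Quotient.out (n : PSL(2, F)) : SL(2, F)) : Matrix (Fin 2) (Fin 2) F) 0 0 =
        ((Quotient.out (n : PSL(2, F)) : SL(2, F)) : Matrix (Fin 2) (Fin 2) F) 1 1 := by
    conv_lhs => rw [← e]
    exact mk_mem_Mq_uS_iff ha _
  rw [hmem]
  have hdet := SL2_det_eq (Quotient.out (n : PSL(2, F)))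
  rw [h10 n, mul_zero, sub_zero] at hdet
  constructor
  · intro h
    refine ⟨h10 n, ?_⟩
    have hA := left_ne_zero_of_mul_eq_one hdet
    have : ((Quotient.out (n : PSL(2, F)) : SL(2, F)) : Matrix (Fin 2) (Fin 2) F) 0 0 *
        (((Quotient.out (n : PSL(2, F)) : SL(2, F)) : Matrix (Fin 2) (Fin 2) F) 0 0 -
          ((Quotient.out (n : PSL(2, F)) : SL(2, F)) : Matrix (Fin 2) (Fin 2) F) 1 1) = 0 := by
      linear_combination h - hdet
    exact sub_eq_zero.1 ((mul_eq_zero.1 this).resolve_left hA)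
  · rintro ⟨-, h⟩
    rw [← h] at hdet
    linear_combination hdet

theorem Mq_std_UN {a : F} (ha : a ≠ 0) (n : PSL(2, F))
    (hn : n ∈ Subgroup.normalizer ((Mq (QuotientGroup.mk (uS a) : PSL(2, F))) : Set PSL(2, F)))
    (hnot : n ∉ Mq (QuotientGroup.mk (uS a) : PSL(2, F))) :
    Mq n ≤ Subgroup.normalizer ((Mq (QuotientGroup.mk (uS a) : PSL(2, F))) : Set PSL(2, F)) := by
  obtain ⟨ν, rfl⟩ := QuotientGroup.mk_surjective n
  have h10 := (mk_mem_normalizer_uS_iff ha ν).1 hn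
  have hns : ¬ ∃ c : F, (ν : Matrix (Fin 2) (Fin 2) F) = c • (1 : Matrix (Fin 2) (Fin 2) F) := by
    rw [← PSL2_mk_ne_one_iff]
    intro h1
    exact hnot (by rw [h1]; exact one_mem _)
  intro z hz
  obtain ⟨ζ, rfl⟩ := QuotientGroup.mk_surjective z
  rw [mk_mem_Mq_iff] at hz
  have hz' : (ζ : Matrix (Fin 2) (Fin 2) F) * (ν : Matrix (Fin 2) (Fin 2) F) = ν * ζ := by
    rw [← Matrix.SpecialLinearGroup.coe_mul, hz, Matrix.SpecialLinearGroup.coe_mul]
  obtain ⟨x, y, hxy⟩ := (comm_iff_exists_smul _ _ hns).1 hz'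
  rw [mk_mem_normalizer_uS_iff ha, hxy]
  simp [h10]

theorem mem_normalizer_map_conj {G : Type*} [Group G] (K : Subgroup G) (κ n : G) :
    n ∈ Subgroup.normalizer ((K.map (MulAut.conj κ).toMonoidHom : Subgroup G) : Set G) ↔
      κ⁻¹ * n * κ ∈ Subgroup.normalizer (K : Set G) := by
  rw [← Subgroup.map_equiv_normalizer_eq, mem_map_conj]

theorem normalizer_hom_transport {G C : Type*} [Group G] [Group C] (K : Subgroup G) (κ : G)
    (f₀ : Subgroup.normalizer (K : Set G) →* C) (hf₀ : ∀ n, f₀ n = 1 ↔ (n : G) ∈ K) :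
    ∃ f : Subgroup.normalizer ((K.map (MulAut.conj κ).toMonoidHom : Subgroup G) : Set G) →* C,
      ∀ n, f n = 1 ↔ (n : G) ∈ K.map (MulAut.conj κ).toMonoidHom := by
  let j : Subgroup.normalizer ((K.map (MulAut.conj κ).toMonoidHom : Subgroup G) : Set G) →*
      Subgroup.normalizer (K : Set G) :=
    { toFun := fun n => ⟨κ⁻¹ * (n : G) * κ, (mem_normalizer_map_conj K κ n).1 n.2⟩
      map_one' := by
        apply Subtype.ext
        simp
      map_mul' := by
        intro a b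
        apply Subtype.ext
        show κ⁻¹ * ((a : G) * (b : G)) * κ = κ⁻¹ * (a : G) * κ * (κ⁻¹ * (b : G) * κ)
        group }
  refine ⟨f₀.comp j, fun n => ?_⟩
  rw [MonoidHom.comp_apply, hf₀, mem_map_conj]
  rfl

theorem Mq_unip_conj (g : SL(2, F))
    (hg : ¬ ∃ a : F, (g : Matrix (Fin 2) (Fin 2) F) = a • (1 : Matrix (Fin 2) (Fin 2) F))
    (ht : (g : Matrix (Fin 2) (Fin 2) F).trace ^ 2 = 4) :
    ∃ (k : SL(2, F)) (a : F), a ≠ 0 ∧
      (QuotientGroup.mk g : PSL(2, F)) = QuotientGroup.mk (k * uS a * k⁻¹) ∧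
      Mq (QuotientGroup.mk g : PSL(2, F)) = (Mq (QuotientGroup.mk (uS a) : PSL(2, F))).map
        (MulAut.conj (QuotientGroup.mk k : PSL(2, F))).toMonoidHom := by
  obtain ⟨k, a, ha, hka⟩ := SL2_unip_form g hg ht
  refine ⟨k, a, ha, hka, ?_⟩
  rw [hka]
  exact tiPart_Mq.conj (QuotientGroup.mk k) (QuotientGroup.mk (uS a)) (mk_uS_ne_one ha)

theorem Mq_unip_hom (x : PSL(2, F)) (hx : x ≠ 1) (ht : trSq x = 4) :
    ∃ f : Subgroup.normalizer ((Mq x : Subgroup PSL(2, F)) : Set PSL(2, F)) →* Fˣ,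
      ∀ n, f n = 1 ↔ (n : PSL(2, F)) ∈ Mq x := by
  obtain ⟨g, rfl⟩ := QuotientGroup.mk_surjective x
  rw [trSq_mk] at ht
  rw [PSL2_mk_ne_one_iff] at hx
  obtain ⟨k, a, ha, -, e⟩ := Mq_unip_conj g hx ht
  rw [e]
  obtain ⟨f₀, hf₀⟩ := Mq_std_hom ha
  exact normalizer_hom_transport _ _ f₀ hf₀

theorem Mq_unip_UN (x n : PSL(2, F)) (hx : x ≠ 1) (ht : trSq x = 4)
    (hn : n ∈ Subgroup.normalizer ((Mq x : Subgroup PSL(2, F)) : Set PSL(2, F)))
    (hnot : n ∉ Mq x) :
    Mq n ≤ Subgroup.normalizer ((Mq x : Subgroup PSL(2, F)) : Set PSL(2, F)) := by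
  obtain ⟨g, rfl⟩ := QuotientGroup.mk_surjective x
  rw [trSq_mk] at ht
  rw [PSL2_mk_ne_one_iff] at hx
  obtain ⟨k, a, ha, -, e⟩ := Mq_unip_conj g hx ht
  rw [e] at hn hnot ⊢
  rw [mem_normalizer_map_conj] at hn
  rw [mem_map_conj] at hnot
  have h1 := Mq_std_UN ha _ hn hnot
  intro z hz
  rw [mem_normalizer_map_conj]
  apply h1
  have hn1 : n ≠ 1 := by
    rintro rfl
    apply hnot
    simp [one_mem]
  have e2 := tiPart_Mq.conj (QuotientGroup.mk k : PSL(2, F))⁻¹ n hn1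
  rw [inv_inv] at e2
  rw [e2, mem_map_conj]
  have : ((QuotientGroup.mk k : PSL(2, F))⁻¹)⁻¹ * ((QuotientGroup.mk k)⁻¹ * z * QuotientGroup.mk k) *
      (QuotientGroup.mk k)⁻¹ = z := by group
  rw [this]
  exact hz

end dkunip

section dkfin

variable {F : Type*} [Field F] [Fintype F]

theorem Mq_semi_cyclic (x : PSL(2, F)) (hx : x ≠ 1) (hs : trSq x ≠ 4) : IsCyclic (Mq x) := by
  obtain ⟨g, rfl⟩ := QuotientGroup.mk_surjective x
  rw [trSq_mk] at hs
  rw [PSL2_mk_ne_one_iff] at hx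
  haveI := SL2_centralizer_cyclic g hx hs
  rw [Mq_mk]
  exact isCyclic_of_surjective _ ((QuotientGroup.mk' _).subgroupMap_surjective _)

theorem Mq_semi_card (x : PSL(2, F)) (hs : trSq x ≠ 4) :
    Nat.card (Mq x) * Nat.gcd 2 (Fintype.card F - 1) = Fintype.card F - 1 ∨
    Nat.card (Mq x) * Nat.gcd 2 (Fintype.card F - 1) = Fintype.card F + 1 := by
  obtain ⟨g, rfl⟩ := QuotientGroup.mk_surjective x
  rw [trSq_mk] at hs
  rw [Mq_mk]
  have hc : Nat.card (Subgroup.centralizer ({g} : Set SL(2, F))) = Fintype.card F - 1 ∨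
      Nat.card (Subgroup.centralizer ({g} : Set SL(2, F))) = Fintype.card F + 1 := by
    rcases SL2_trichotomy g with h | ⟨a, ha, htr⟩ | h
    · exact absurd h hs
    · left; exact card_centralizer_of_split g a ha htr
    · right; exact card_centralizer_of_elliptic g h
  rcases card_parity_cases (F := F) with ⟨h2, -, hgcd⟩ | ⟨h2, -, hgcd⟩
  · rw [hgcd, mul_comm, PSL2_card_map_centralizer h2 g]
    exact hc
  · rw [hgcd, mul_one, Subgroup.card_map_of_injective (PSL2_mk_injective_char_two h2)]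
    exact hc

end dkfin

end Cfsg.Agent.Lib.helper12
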