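import Mathlib
import Cfsg.Agent.Lib.helper12.DkPart

set_option autoImplicit false

namespace Cfsg.Agent.Lib.helper12

open scoped MatrixGroups

section dkpgl

theorem GL2_mem_center_entries {R : Type*} [Field R] (M : GL (Fin 2) R) :
    M ∈ Subgroup.center (GL (Fin 2) R) ↔ M 0 1 = 0 ∧ M 1 0 = 0 ∧ M 0 0 = M 1 1 := by
  rw [Matrix.GeneralLinearGroup.mem_center_iff_val_mem_range_scalar]
  constructor
  · rintro ⟨a, ha⟩
    have h := fun i j => congrFun (congrFun ha i) j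
    refine ⟨?_, ?_, ?_⟩
    · rw [← h 0 1]; simp
    · rw [← h 1 0]; simp
    · rw [← h 0 0, ← h 1 1]; simp
  · rintro ⟨h1, h2, h3⟩
    refine ⟨M 0 0, ?_⟩
    ext i j
    fin_cases i <;> fin_cases j <;> simp [h1, h2, h3]

variable {K F : Type*} [Field K] [Field F]

/-- A subgroup of `SL₂(F)` containing `SL₂(K)` and contained in the scalar multiples of
`GL₂(K)` has image `PSL₂(K)` or `PGL₂(K)` in `PSL₂(F)`. -/
theorem pgl_dichotomy [Fintype K] (ι : K →+* F) (Hh : Subgroup SL(2, F))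
    (hI1 : ∀ N : SL(2, K), Matrix.SpecialLinearGroup.map ι N ∈ Hh)
    (hI2 : ∀ ν ∈ Hh, ∃ (M : GL (Fin 2) K) (u : Fˣ), ∀ i j,
      (ν : Matrix (Fin 2) (Fin 2) F) i j * (u : F) = ι (M i j)) :
    Nonempty (Hh.map (QuotientGroup.mk' (Subgroup.center SL(2, F))) ≃* PSL(2, K)) ∨
    Nonempty (Hh.map (QuotientGroup.mk' (Subgroup.center SL(2, F))) ≃* PGL(2, K)) := by
  classical
  have hι : Function.Injective ι := ι.injective
  obtain ⟨Φ, hΦ⟩ : ∃ Φ : GL (Fin 2) K →* PGL(2, F),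
      Φ = (Matrix.ProjGenLinGroup.mk).comp (Matrix.GeneralLinearGroup.map ι) := ⟨_, rfl⟩
  obtain ⟨tF, htF⟩ : ∃ t : PSL(2, F) →* PGL(2, F),
      t = Matrix.ProjectiveSpecialLinearGroup.toPGL := ⟨_, rfl⟩
  have htFinj : Function.Injective tF := by
    rw [htF]
    exact Matrix.ProjectiveSpecialLinearGroup.toPGL_injective
  obtain ⟨𝓗, h𝓗⟩ : ∃ 𝓗 : Subgroup PGL(2, F),
      𝓗 = (Hh.map (QuotientGroup.mk' (Subgroup.center SL(2, F)))).map tF := ⟨_, rfl⟩
  have e𝓗 : Hh.map (QuotientGroup.mk' (Subgroup.center SL(2, F))) ≃* 𝓗 := by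
    rw [h𝓗]
    exact Subgroup.equivMapOfInjective _ tF htFinj
  have F1 : ∀ ν ∈ Hh, Matrix.ProjGenLinGroup.mk (Matrix.SpecialLinearGroup.toGL ν) ∈ 𝓗 := by
    intro ν hν
    rw [h𝓗]
    refine ⟨QuotientGroup.mk ν, ⟨ν, hν, rfl⟩, ?_⟩
    rw [htF]
    rfl
  have F2 : ∀ x ∈ 𝓗, ∃ ν ∈ Hh,
      x = Matrix.ProjGenLinGroup.mk (Matrix.SpecialLinearGroup.toGL ν) := by
    intro x hx
    rw [h𝓗] at hx
    obtain ⟨y, ⟨ν, hν, rfl⟩, rfl⟩ := hx
    refine ⟨ν, hν, ?_⟩
    rw [htF]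
    rfl
  have F3 : ∀ (ν : SL(2, F)) (M : GL (Fin 2) K) (u : Fˣ),
      (∀ i j, (ν : Matrix (Fin 2) (Fin 2) F) i j * (u : F) = ι (M i j)) →
      Matrix.ProjGenLinGroup.mk (Matrix.SpecialLinearGroup.toGL ν) = Φ M := by
    intro ν M u h
    rw [hΦ, MonoidHom.comp_apply, Matrix.ProjGenLinGroup.mk_eq_mk_iff]
    refine ⟨u, ?_⟩
    apply Units.ext
    ext i j
    rw [Units.val_mul, Matrix.GeneralLinearGroup.coe_scalar, Matrix.scalar_apply,
      Matrix.mul_diagonal]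
    exact h i j
  have F4 : ∀ x ∈ 𝓗, ∃ M : GL (Fin 2) K, Φ M = x := by
    intro x hx
    obtain ⟨ν, hν, rfl⟩ := F2 x hx
    obtain ⟨M, u, h⟩ := hI2 ν hν
    exact ⟨M, (F3 ν M u h).symm⟩
  have F5 : ∀ N : SL(2, K), Φ (Matrix.SpecialLinearGroup.toGL N) ∈ 𝓗 := by
    intro N
    have : Φ (Matrix.SpecialLinearGroup.toGL N) =
        Matrix.ProjGenLinGroup.mk (Matrix.SpecialLinearGroup.toGL
          (Matrix.SpecialLinearGroup.map ι N)) := by
      symm
      apply F3 _ _ 1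
      intro i j
      rw [Units.val_one, mul_one]
      rfl
    rw [this]
    exact F1 _ (hI1 N)
  have hker : Φ.ker = Subgroup.center (GL (Fin 2) K) := by
    ext M
    rw [MonoidHom.mem_ker, hΦ, MonoidHom.comp_apply, Matrix.ProjGenLinGroup.mk_eq_one,
      GL2_mem_center_entries, GL2_mem_center_entries]
    simp only [Matrix.GeneralLinearGroup.map_apply]
    constructor
    · rintro ⟨h1, h2, h3⟩
      exact ⟨hι (by rw [h1, map_zero]), hι (by rw [h2, map_zero]), hι h3⟩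
    · rintro ⟨h1, h2, h3⟩
      exact ⟨by rw [h1, map_zero], by rw [h2, map_zero], by rw [h3]⟩
  have hdet0 : ∀ M : GL (Fin 2) K, (M : Matrix (Fin 2) (Fin 2) K).det ≠ 0 := by
    intro M
    rw [← Matrix.GeneralLinearGroup.val_det_apply]
    exact Units.ne_zero _
  by_cases hcase : ∀ x ∈ 𝓗, ∃ N : SL(2, K), x = Φ (Matrix.SpecialLinearGroup.toGL N)
  · left
    have hrange : (Φ.comp (Matrix.SpecialLinearGroup.toGL)).range = 𝓗 := by
      ext x
      constructor
      · rintro ⟨N, rfl⟩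
        exact F5 N
      · intro hx
        obtain ⟨N, rfl⟩ := hcase x hx
        exact ⟨N, rfl⟩
    have hker2 : (Φ.comp (Matrix.SpecialLinearGroup.toGL)).ker = Subgroup.center SL(2, K) := by
      ext N
      rw [MonoidHom.mem_ker, MonoidHom.comp_apply, ← MonoidHom.mem_ker, hker,
        Matrix.SpecialLinearGroup.toGL_mem_center_iff]
    exact ⟨e𝓗.trans ((MulEquiv.subgroupCongr hrange.symm).trans
      ((QuotientGroup.quotientKerEquivRange _).symm.trans
        (QuotientGroup.quotientMulEquivOfEq hker2)))⟩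
  · right
    push Not at hcase
    obtain ⟨x₀, hx₀, hx₀'⟩ := hcase
    obtain ⟨M₀, hM₀⟩ := F4 x₀ hx₀
    have hsq : ∀ M : GL (Fin 2) K, IsSquare ((M : Matrix (Fin 2) (Fin 2) K).det) →
        ∃ N : SL(2, K), Φ M = Φ (Matrix.SpecialLinearGroup.toGL N) := by
      rintro M ⟨f, hf⟩
      have hf0 : f ≠ 0 := by
        rintro rfl
        rw [mul_zero] at hf
        exact hdet0 M hf
      have hNdet : (f⁻¹ • (M : Matrix (Fin 2) (Fin 2) K)).det = 1 := by
        rw [Matrix.det_smul, Fintype.card_fin, hf]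
        field_simp
      refine ⟨⟨f⁻¹ • (M : Matrix (Fin 2) (Fin 2) K), hNdet⟩, ?_⟩
      rw [hΦ, MonoidHom.comp_apply, MonoidHom.comp_apply, eq_comm,
        Matrix.ProjGenLinGroup.mk_eq_mk_iff]
      refine ⟨Units.mk0 (ι f) ((map_ne_zero ι).2 hf0), ?_⟩
      apply Units.ext
      ext i j
      rw [Units.val_mul, Matrix.GeneralLinearGroup.coe_scalar, Matrix.scalar_apply,
        Matrix.mul_diagonal]
      show ι ((f⁻¹ • (M : Matrix (Fin 2) (Fin 2) K)) i j) * ι f = ι (M i j)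
      rw [Matrix.smul_apply, smul_eq_mul, ← map_mul]
      congr 1
      field_simp
    have hM₀ns : ¬ IsSquare ((M₀ : Matrix (Fin 2) (Fin 2) K).det) := by
      intro h
      obtain ⟨N, hN⟩ := hsq M₀ h
      exact hx₀' N (by rw [← hM₀, hN])
    have hall : ∀ M : GL (Fin 2) K, Φ M ∈ 𝓗 := by
      intro M
      by_cases hM : IsSquare ((M : Matrix (Fin 2) (Fin 2) K).det)
      · obtain ⟨N, hN⟩ := hsq M hM
        rw [hN]
        exact F5 N
      · have h1 : IsSquare (((M * M₀⁻¹ : GL (Fin 2) K) : Matrix (Fin 2) (Fin 2) K).det) := by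
          obtain ⟨r, hr⟩ := isSquare_mul_of_not_isSquare hM hM₀ns
          have hd : ((M * M₀⁻¹ : GL (Fin 2) K) : Matrix (Fin 2) (Fin 2) K).det =
              (M : Matrix (Fin 2) (Fin 2) K).det * ((M₀ : Matrix (Fin 2) (Fin 2) K).det)⁻¹ := by
            rw [Units.val_mul, Matrix.det_mul, Matrix.coe_units_inv, Matrix.det_nonsing_inv,
              Ring.inverse_eq_inv]
          rw [hd]
          refine ⟨r * ((M₀ : Matrix (Fin 2) (Fin 2) K).det)⁻¹, ?_⟩
          have hd0 := hdet0 M₀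
          rw [mul_mul_mul_comm, ← hr]
          field_simp
        obtain ⟨N, hN⟩ := hsq _ h1
        have h2 : Φ M = Φ (M * M₀⁻¹) * Φ M₀ := by rw [← map_mul, inv_mul_cancel_right]
        rw [h2, hN, hM₀]
        exact 𝓗.mul_mem (F5 N) hx₀
    have hrange : Φ.range = 𝓗 := by
      ext x
      constructor
      · rintro ⟨M, rfl⟩
        exact hall M
      · intro hx
        exact F4 x hx
    exact ⟨e𝓗.trans ((MulEquiv.subgroupCongr hrange.symm).trans
      ((QuotientGroup.quotientKerEquivRange Φ).symm.trans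
        (QuotientGroup.quotientMulEquivOfEq hker)))⟩

end dkpgl

end Cfsg.Agent.Lib.helper12
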