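import Mathlib
import Cfsg.Agent.Lib.helper12.DkPGL
import Cfsg.Agent.Lib.helper12.DkField

set_option autoImplicit false

namespace Cfsg.Agent.Lib.helper12

open scoped MatrixGroups

section dkmain

variable {F : Type*} [Field F]

theorem mkSL_00 (a b c d : F) (h : a * d - b * c = 1) :
    ((mkSL a b c d h : SL(2, F)) : Matrix (Fin 2) (Fin 2) F) 0 0 = a := rfl
theorem mkSL_01 (a b c d : F) (h : a * d - b * c = 1) :
    ((mkSL a b c d h : SL(2, F)) : Matrix (Fin 2) (Fin 2) F) 0 1 = b := rfl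
theorem mkSL_10 (a b c d : F) (h : a * d - b * c = 1) :
    ((mkSL a b c d h : SL(2, F)) : Matrix (Fin 2) (Fin 2) F) 1 0 = c := rfl
theorem mkSL_11 (a b c d : F) (h : a * d - b * c = 1) :
    ((mkSL a b c d h : SL(2, F)) : Matrix (Fin 2) (Fin 2) F) 1 1 = d := rfl

/-- Conjugation by `diag(l, 1)` as an automorphism of `SL₂`. -/
def dcSL (l : F) (hl : l ≠ 0) : SL(2, F) ≃* SL(2, F) where
  toFun g := mkSL ((g : Matrix (Fin 2) (Fin 2) F) 0 0) (l * (g : Matrix (Fin 2) (Fin 2) F) 0 1)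
    (l⁻¹ * (g : Matrix (Fin 2) (Fin 2) F) 1 0) ((g : Matrix (Fin 2) (Fin 2) F) 1 1) (by
      have := SL2_det_eq g
      have h1 : l * l⁻¹ = 1 := mul_inv_cancel₀ hl
      linear_combination this - (g : Matrix (Fin 2) (Fin 2) F) 0 1 *
        (g : Matrix (Fin 2) (Fin 2) F) 1 0 * h1)
  invFun g := mkSL ((g : Matrix (Fin 2) (Fin 2) F) 0 0) (l⁻¹ * (g : Matrix (Fin 2) (Fin 2) F) 0 1)
    (l * (g : Matrix (Fin 2) (Fin 2) F) 1 0) ((g : Matrix (Fin 2) (Fin 2) F) 1 1) (by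
      have := SL2_det_eq g
      have h1 : l * l⁻¹ = 1 := mul_inv_cancel₀ hl
      linear_combination this - (g : Matrix (Fin 2) (Fin 2) F) 0 1 *
        (g : Matrix (Fin 2) (Fin 2) F) 1 0 * h1)
  left_inv g := by
    apply SL2_ext
    · rfl
    · show l⁻¹ * (l * (g : Matrix (Fin 2) (Fin 2) F) 0 1) = _
      rw [← mul_assoc, inv_mul_cancel₀ hl, one_mul]
    · show l * (l⁻¹ * (g : Matrix (Fin 2) (Fin 2) F) 1 0) = _
      rw [← mul_assoc, mul_inv_cancel₀ hl, one_mul]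
    · rfl
  right_inv g := by
    apply SL2_ext
    · rfl
    · show l * (l⁻¹ * (g : Matrix (Fin 2) (Fin 2) F) 0 1) = _
      rw [← mul_assoc, mul_inv_cancel₀ hl, one_mul]
    · show l⁻¹ * (l * (g : Matrix (Fin 2) (Fin 2) F) 1 0) = _
      rw [← mul_assoc, inv_mul_cancel₀ hl, one_mul]
    · rfl
  map_mul' g h := by
    have h1 : l * l⁻¹ = 1 := mul_inv_cancel₀ hl
    apply SL2_ext <;>
      simp only [SL2_mul_00, SL2_mul_01, SL2_mul_10, SL2_mul_11, mkSL_00, mkSL_01, mkSL_10, mkSL_11]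
    · linear_combination (-((g : Matrix (Fin 2) (Fin 2) F) 0 1 *
        (h : Matrix (Fin 2) (Fin 2) F) 1 0)) * h1
    · ring
    · ring
    · linear_combination (-((g : Matrix (Fin 2) (Fin 2) F) 1 0 *
        (h : Matrix (Fin 2) (Fin 2) F) 0 1)) * h1

theorem dcSL_00 (l : F) (hl : l ≠ 0) (g : SL(2, F)) :
    ((dcSL l hl g : SL(2, F)) : Matrix (Fin 2) (Fin 2) F) 0 0 =
      (g : Matrix (Fin 2) (Fin 2) F) 0 0 := rfl
theorem dcSL_10 (l : F) (hl : l ≠ 0) (g : SL(2, F)) :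
    ((dcSL l hl g : SL(2, F)) : Matrix (Fin 2) (Fin 2) F) 1 0 =
      l⁻¹ * (g : Matrix (Fin 2) (Fin 2) F) 1 0 := rfl
theorem dcSL_symm_uS (l : F) (hl : l ≠ 0) (b : F) : (dcSL l hl).symm (uS b) = uS (l⁻¹ * b) := by
  apply SL2_ext
  · rfl
  · rfl
  · show l * (0 : F) = 0
    rw [mul_zero]
  · rfl

theorem uS_neg_eq_inv (a : F) : uS (-a) = (uS a)⁻¹ := by
  apply eq_inv_of_mul_eq_one_left
  rw [← uS_add, neg_add_cancel, uS_zero]

/-- The conclusion (d) of Dickson's theorem for a subgroup of `PSL₂(F)`. -/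
def DkD [Fintype F] (H : Subgroup PSL(2, F)) : Prop :=
  ∃ (K : Type) (_ : Field K) (_ : Fintype K) (m : ℕ), Fintype.card K ^ m = Fintype.card F ∧
    (Nonempty (H ≃* Matrix.ProjectiveSpecialLinearGroup (Fin 2) K) ∨
      Nonempty (H ≃* Matrix.ProjGenLinGroup (Fin 2) K))

theorem DkD_of_equiv [Fintype F] {H H' : Subgroup PSL(2, F)} (e : Nonempty (H ≃* H'))
    (h : DkD H') : DkD H := by
  obtain ⟨e⟩ := e
  obtain ⟨K, iK, iF, m, hm, h⟩ := h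
  refine ⟨K, iK, iF, m, hm, ?_⟩
  rcases h with h | h
  · obtain ⟨f⟩ := h
    exact Or.inl ⟨e.trans f⟩
  · obtain ⟨f⟩ := h
    exact Or.inr ⟨e.trans f⟩

theorem map_mk_equiv (e : SL(2, F) ≃* SL(2, F)) (Hh : Subgroup SL(2, F)) :
    Nonempty (Hh.map (QuotientGroup.mk' (Subgroup.center SL(2, F))) ≃*
      (Hh.map e.toMonoidHom).map (QuotientGroup.mk' (Subgroup.center SL(2, F)))) := by
  have h : (Hh.map e.toMonoidHom).map (QuotientGroup.mk' (Subgroup.center SL(2, F))) =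
      (Hh.map (QuotientGroup.mk' (Subgroup.center SL(2, F)))).map (autPSL e).toMonoidHom := by
    ext x
    constructor
    · rintro ⟨y, ⟨g, hg, rfl⟩, rfl⟩
      exact ⟨QuotientGroup.mk g, ⟨g, hg, rfl⟩, rfl⟩
    · rintro ⟨y, ⟨g, hg, rfl⟩, rfl⟩
      exact ⟨e g, ⟨g, hg, rfl⟩, rfl⟩
  rw [h]
  exact ⟨Subgroup.equivMapOfInjective _ _ (autPSL e).injective⟩

theorem ks_mul (K : Subfield F) (A B : SL(2, F)) (γ γ' : F)
    (hA : ∀ i j, (A : Matrix (Fin 2) (Fin 2) F) i j * γ ∈ K)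
    (hB : ∀ i j, (B : Matrix (Fin 2) (Fin 2) F) i j * γ' ∈ K) :
    ∀ i j, ((A * B : SL(2, F)) : Matrix (Fin 2) (Fin 2) F) i j * (γ * γ') ∈ K := by
  intro i j
  rw [Matrix.SpecialLinearGroup.coe_mul, Matrix.mul_apply, Fin.sum_univ_two]
  have : ((A : Matrix (Fin 2) (Fin 2) F) i 0 * (B : Matrix (Fin 2) (Fin 2) F) 0 j +
      (A : Matrix (Fin 2) (Fin 2) F) i 1 * (B : Matrix (Fin 2) (Fin 2) F) 1 j) * (γ * γ') =
      ((A : Matrix (Fin 2) (Fin 2) F) i 0 * γ) * ((B : Matrix (Fin 2) (Fin 2) F) 0 j * γ') +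
      ((A : Matrix (Fin 2) (Fin 2) F) i 1 * γ) * ((B : Matrix (Fin 2) (Fin 2) F) 1 j * γ') := by
    ring
  rw [this]
  exact K.add_mem (K.mul_mem (hA i 0) (hB 0 j)) (K.mul_mem (hA i 1) (hB 1 j))

theorem ks_inv (K : Subfield F) (A : SL(2, F)) (γ : F)
    (hA : ∀ i j, (A : Matrix (Fin 2) (Fin 2) F) i j * γ ∈ K) :
    ∀ i j, ((A⁻¹ : SL(2, F)) : Matrix (Fin 2) (Fin 2) F) i j * γ ∈ K := by
  have h00 : ((A⁻¹ : SL(2, F)) : Matrix (Fin 2) (Fin 2) F) 0 0 * γ ∈ K := by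
    rw [SL2_inv_00]; exact hA 1 1
  have h01 : ((A⁻¹ : SL(2, F)) : Matrix (Fin 2) (Fin 2) F) 0 1 * γ ∈ K := by
    rw [SL2_inv_01, neg_mul]; exact K.neg_mem (hA 0 1)
  have h10 : ((A⁻¹ : SL(2, F)) : Matrix (Fin 2) (Fin 2) F) 1 0 * γ ∈ K := by
    rw [SL2_inv_10, neg_mul]; exact K.neg_mem (hA 1 0)
  have h11 : ((A⁻¹ : SL(2, F)) : Matrix (Fin 2) (Fin 2) F) 1 1 * γ ∈ K := by
    rw [SL2_inv_11]; exact hA 0 0
  intro i j
  fin_cases i <;> fin_cases j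
  · exact h00
  · exact h01
  · exact h10
  · exact h11

/-- The normalised situation: the structure of the subgroup. -/
theorem dk_norm (Hh : Subgroup SL(2, F)) (K : Subfield F)
    (hn1 : ∀ b : F, uS b ∈ Hh ↔ b ∈ K)
    (W : SL(2, F)) (hW : W ∈ Hh) (hW0 : (W : Matrix (Fin 2) (Fin 2) F) 0 0 = 0)
    (hWs : (W : Matrix (Fin 2) (Fin 2) F) 1 0 * (W : Matrix (Fin 2) (Fin 2) F) 1 0 ∈ K)
    (hn3 : ∀ ν ∈ Hh, (ν : Matrix (Fin 2) (Fin 2) F) 1 0 ≠ 0 →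
      (ν : Matrix (Fin 2) (Fin 2) F) 0 0 / (ν : Matrix (Fin 2) (Fin 2) F) 1 0 ∈ K) :
    (∀ ν : SL(2, F), (∀ i j, (ν : Matrix (Fin 2) (Fin 2) F) i j ∈ K) → ν ∈ Hh) ∧
    (∀ ν ∈ Hh, ∃ γ : F, γ ≠ 0 ∧ ∀ i j, (ν : Matrix (Fin 2) (Fin 2) F) i j * γ ∈ K) := by
  obtain ⟨s, hs⟩ : ∃ s, s = (W : Matrix (Fin 2) (Fin 2) F) 1 0 := ⟨_, rfl⟩
  rw [← hs] at hWs
  have hs0 : s ≠ 0 := by
    have hdet := SL2_det_eq W
    rw [hW0, zero_mul, zero_sub, ← hs] at hdet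
    intro h0
    rw [h0, mul_zero, neg_zero] at hdet
    exact zero_ne_one hdet
  have hl : ∀ b ∈ K, lS b ∈ Hh := by
    intro b hb
    have h1 := conj_uS_eq_lS W hW0 (-b / (s * s))
    rw [← hs] at h1
    have e : -s ^ 2 * (-b / (s * s)) = b := by field_simp
    rw [e] at h1
    rw [← h1]
    exact Hh.mul_mem (Hh.mul_mem hW ((hn1 _).2 (K.div_mem (K.neg_mem hb) hWs))) (Hh.inv_mem hW)
  have hsq : ∀ ν ∈ Hh, (ν : Matrix (Fin 2) (Fin 2) F) 1 0 ≠ 0 →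
      (ν : Matrix (Fin 2) (Fin 2) F) 1 0 * (ν : Matrix (Fin 2) (Fin 2) F) 1 0 ∈ K := by
    intro ν hν hc
    have hz := hn3 ν hν hc
    have hμ : uS (-((ν : Matrix (Fin 2) (Fin 2) F) 0 0 / (ν : Matrix (Fin 2) (Fin 2) F) 1 0)) * ν ∈
        Hh := Hh.mul_mem ((hn1 _).2 (K.neg_mem hz)) hν
    have hμ0 : ((uS (-((ν : Matrix (Fin 2) (Fin 2) F) 0 0 / (ν : Matrix (Fin 2) (Fin 2) F) 1 0)) *
        ν : SL(2, F)) : Matrix (Fin 2) (Fin 2) F) 0 0 = 0 := by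
      rw [SL2_mul_00, uS_00, uS_01]
      field_simp
      ring
    have hμ1 : ((uS (-((ν : Matrix (Fin 2) (Fin 2) F) 0 0 / (ν : Matrix (Fin 2) (Fin 2) F) 1 0)) *
        ν : SL(2, F)) : Matrix (Fin 2) (Fin 2) F) 1 0 = (ν : Matrix (Fin 2) (Fin 2) F) 1 0 := by
      rw [SL2_mul_10, uS_10, uS_11]
      ring
    have h1 := conj_uS_eq_lS _ hμ0 1
    rw [hμ1, mul_one] at h1
    have h2 : lS (-(ν : Matrix (Fin 2) (Fin 2) F) 1 0 ^ 2) ∈ Hh := by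
      rw [← h1]
      exact Hh.mul_mem (Hh.mul_mem hμ ((hn1 1).2 K.one_mem)) (Hh.inv_mem hμ)
    have hne : -(ν : Matrix (Fin 2) (Fin 2) F) 1 0 ^ 2 ≠ 0 := neg_ne_zero.2 (pow_ne_zero 2 hc)
    have h3 := hn3 _ h2 (by rw [lS_10]; exact hne)
    rw [lS_00, lS_10] at h3
    have h4 := K.neg_mem (K.inv_mem h3)
    have e : -(1 / -(ν : Matrix (Fin 2) (Fin 2) F) 1 0 ^ 2)⁻¹ =
        (ν : Matrix (Fin 2) (Fin 2) F) 1 0 * (ν : Matrix (Fin 2) (Fin 2) F) 1 0 := by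
      rw [one_div, inv_inv]
      ring
    rw [e] at h4
    exact h4
  have case1 : ∀ ν ∈ Hh, (ν : Matrix (Fin 2) (Fin 2) F) 1 0 ≠ 0 →
      ∀ i j, (ν : Matrix (Fin 2) (Fin 2) F) i j * (ν : Matrix (Fin 2) (Fin 2) F) 1 0 ∈ K := by
    intro ν hν hc
    have hz := hn3 ν hν hc
    have hc2 := hsq ν hν hc
    have hz' : (ν : Matrix (Fin 2) (Fin 2) F) 1 1 / (ν : Matrix (Fin 2) (Fin 2) F) 1 0 ∈ K := by
      have h1 := hn3 ν⁻¹ (Hh.inv_mem hν) (by rw [SL2_inv_10]; exact neg_ne_zero.2 hc)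
      rw [SL2_inv_00, SL2_inv_10] at h1
      have h2 := K.neg_mem h1
      have e : -((ν : Matrix (Fin 2) (Fin 2) F) 1 1 / -(ν : Matrix (Fin 2) (Fin 2) F) 1 0) =
          (ν : Matrix (Fin 2) (Fin 2) F) 1 1 / (ν : Matrix (Fin 2) (Fin 2) F) 1 0 := by
        field_simp
      rw [e] at h2
      exact h2
    have hdet := SL2_det_eq ν
    have h00 : (ν : Matrix (Fin 2) (Fin 2) F) 0 0 * (ν : Matrix (Fin 2) (Fin 2) F) 1 0 ∈ K := by
      have e : (ν : Matrix (Fin 2) (Fin 2) F) 0 0 * (ν : Matrix (Fin 2) (Fin 2) F) 1 0 =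
          (ν : Matrix (Fin 2) (Fin 2) F) 0 0 / (ν : Matrix (Fin 2) (Fin 2) F) 1 0 *
            ((ν : Matrix (Fin 2) (Fin 2) F) 1 0 * (ν : Matrix (Fin 2) (Fin 2) F) 1 0) := by
        field_simp
      rw [e]
      exact K.mul_mem hz hc2
    have h11 : (ν : Matrix (Fin 2) (Fin 2) F) 1 1 * (ν : Matrix (Fin 2) (Fin 2) F) 1 0 ∈ K := by
      have e : (ν : Matrix (Fin 2) (Fin 2) F) 1 1 * (ν : Matrix (Fin 2) (Fin 2) F) 1 0 =
          (ν : Matrix (Fin 2) (Fin 2) F) 1 1 / (ν : Matrix (Fin 2) (Fin 2) F) 1 0 *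
            ((ν : Matrix (Fin 2) (Fin 2) F) 1 0 * (ν : Matrix (Fin 2) (Fin 2) F) 1 0) := by
        field_simp
      rw [e]
      exact K.mul_mem hz' hc2
    have h01 : (ν : Matrix (Fin 2) (Fin 2) F) 0 1 * (ν : Matrix (Fin 2) (Fin 2) F) 1 0 ∈ K := by
      have e : (ν : Matrix (Fin 2) (Fin 2) F) 0 1 * (ν : Matrix (Fin 2) (Fin 2) F) 1 0 =
          (ν : Matrix (Fin 2) (Fin 2) F) 0 0 * (ν : Matrix (Fin 2) (Fin 2) F) 1 0 *
            ((ν : Matrix (Fin 2) (Fin 2) F) 1 1 / (ν : Matrix (Fin 2) (Fin 2) F) 1 0) - 1 := by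
        field_simp
        linear_combination (-1 : F) * hdet
      rw [e]
      exact K.sub_mem (K.mul_mem h00 hz') K.one_mem
    intro i j
    fin_cases i <;> fin_cases j
    · exact h00
    · exact h01
    · exact hc2
    · exact h11
  constructor
  · intro ν hν
    have htop : Hh.comap (Matrix.SpecialLinearGroup.map K.subtype) = ⊤ := by
      apply SL2_eq_top_of_uS_lS
      · intro y
        rw [Subgroup.mem_comap]
        have : Matrix.SpecialLinearGroup.map K.subtype (uS y) = uS (y : F) := by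
          apply SL2_ext <;>
            simp only [Matrix.SpecialLinearGroup.map_apply_coe, RingHom.mapMatrix_apply,
              Matrix.map_apply, uS_00, uS_01, uS_10, uS_11] <;> simp
        rw [this, hn1]
        exact y.2
      · intro y
        rw [Subgroup.mem_comap]
        have : Matrix.SpecialLinearGroup.map K.subtype (lS y) = lS (y : F) := by
          apply SL2_ext <;>
            simp only [Matrix.SpecialLinearGroup.map_apply_coe, RingHom.mapMatrix_apply,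
              Matrix.map_apply, lS_00, lS_01, lS_10, lS_11] <;> simp
        rw [this]
        exact hl _ y.2
    have hdet : (Matrix.of fun i j => (⟨(ν : Matrix (Fin 2) (Fin 2) F) i j, hν i j⟩ : K)).det = 1 := by
      apply Subtype.ext
      rw [Matrix.det_fin_two]
      simp only [Matrix.of_apply]
      have := SL2_det_eq ν
      simpa using this
    obtain ⟨N₀, hN₀⟩ : ∃ N₀ : SL(2, K), ∀ i j, (N₀ : Matrix (Fin 2) (Fin 2) K) i j =
        (⟨(ν : Matrix (Fin 2) (Fin 2) F) i j, hν i j⟩ : K) :=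
      ⟨⟨Matrix.of fun i j => (⟨(ν : Matrix (Fin 2) (Fin 2) F) i j, hν i j⟩ : K), hdet⟩,
        fun i j => rfl⟩
    have hmem : N₀ ∈ Hh.comap (Matrix.SpecialLinearGroup.map K.subtype) := by
      rw [htop]
      trivial
    have hmem' : Matrix.SpecialLinearGroup.map K.subtype N₀ ∈ Hh := hmem
    have e : Matrix.SpecialLinearGroup.map K.subtype N₀ = ν := by
      apply Subtype.ext
      ext i j
      show K.subtype ((N₀ : Matrix (Fin 2) (Fin 2) K) i j) = (ν : Matrix (Fin 2) (Fin 2) F) i j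
      rw [hN₀]
      rfl
    rw [e] at hmem'
    exact hmem'
  · intro ν hν
    by_cases hc : (ν : Matrix (Fin 2) (Fin 2) F) 1 0 = 0
    · have h11 : (ν : Matrix (Fin 2) (Fin 2) F) 1 1 ≠ 0 := by
        have hdet := SL2_det_eq ν
        rw [hc, mul_zero, sub_zero] at hdet
        exact right_ne_zero_of_mul_eq_one hdet
      have hν' : ((ν * W : SL(2, F)) : Matrix (Fin 2) (Fin 2) F) 1 0 ≠ 0 := by
        rw [SL2_mul_10, hc, zero_mul, zero_add, ← hs]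
        exact mul_ne_zero h11 hs0
      have h1 := case1 (ν * W) (Hh.mul_mem hν hW) hν'
      have h2 := case1 W hW (by rw [← hs]; exact hs0)
      have h3 := ks_mul K (ν * W) W⁻¹ _ _ h1 (ks_inv K W _ h2)
      rw [mul_inv_cancel_right] at h3
      exact ⟨_, mul_ne_zero hν' (by rw [← hs]; exact hs0), h3⟩
    · exact ⟨_, hc, case1 ν hν hc⟩

end dkmain

section dkmain2

variable {F : Type*} [Field F] [Fintype F]

theorem exists_galois_model (K : Subfield F) :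
    ∃ (K' : Type) (_ : Field K') (_ : Fintype K') (ι : K' →+* F) (m : ℕ),
      Fintype.card K' ^ m = Fintype.card F ∧ ∀ x : F, x ∈ K ↔ ∃ y : K', ι y = x := by
  classical
  haveI : Fintype K := Fintype.ofFinite K
  obtain ⟨p', k, hp', hk, hcard⟩ := Fintype.isPrimePow_card_of_field (α := K)
  haveI : Fact p'.Prime := ⟨Nat.prime_iff.2 hp'⟩
  letI : Fintype (GaloisField p' k) := Fintype.ofFinite _
  have hc : Fintype.card K = Fintype.card (GaloisField p' k) := by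
    rw [← hcard, ← Nat.card_eq_fintype_card (α := GaloisField p' k), GaloisField.card p' k hk.ne']
  obtain ⟨e⟩ : Nonempty (K ≃+* GaloisField p' k) := ⟨FiniteField.ringEquivOfCardEq hc⟩
  refine ⟨GaloisField p' k, inferInstance, inferInstance,
    K.subtype.comp e.symm.toRingHom, Module.finrank K F, ?_, ?_⟩
  · rw [← hc]
    exact (Module.card_eq_pow_finrank (K := K) (V := F)).symm
  · intro x
    constructor
    · intro hx
      exact ⟨e ⟨x, hx⟩, by simp⟩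
    · rintro ⟨y, rfl⟩
      exact (e.symm y).2

omit [Fintype F] in
theorem exists_GL_entries {K' : Type*} [Field K'] (ι : K' →+* F) (ν : SL(2, F)) (γ : F)
    (hγ : γ ≠ 0) (h : ∀ i j, ∃ y : K', ι y = (ν : Matrix (Fin 2) (Fin 2) F) i j * γ) :
    ∃ (M : GL (Fin 2) K') (u : Fˣ), ∀ i j,
      (ν : Matrix (Fin 2) (Fin 2) F) i j * (u : F) = ι (M i j) := by
  choose m hm using h
  have hdet : (Matrix.of m : Matrix (Fin 2) (Fin 2) K').det ≠ 0 := by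
    intro h0
    have h1 : ι ((Matrix.of m : Matrix (Fin 2) (Fin 2) K').det) = 0 := by rw [h0, map_zero]
    rw [Matrix.det_fin_two, map_sub, map_mul, map_mul] at h1
    simp only [Matrix.of_apply, hm] at h1
    have hd := SL2_det_eq ν
    apply hγ
    have : γ * γ = 0 := by linear_combination h1 - γ * γ * hd
    exact mul_self_eq_zero.1 this
  refine ⟨Matrix.GeneralLinearGroup.mkOfDetNeZero (Matrix.of m) hdet, Units.mk0 γ hγ,
    fun i j => ?_⟩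
  rw [Units.val_mk0, ← hm i j]
  rfl

theorem dk_norm_concl (Hh : Subgroup SL(2, F)) (K : Subfield F)
    (hn1 : ∀ b : F, uS b ∈ Hh ↔ b ∈ K)
    (W : SL(2, F)) (hW : W ∈ Hh) (hW0 : (W : Matrix (Fin 2) (Fin 2) F) 0 0 = 0)
    (hWs : (W : Matrix (Fin 2) (Fin 2) F) 1 0 * (W : Matrix (Fin 2) (Fin 2) F) 1 0 ∈ K)
    (hn3 : ∀ ν ∈ Hh, (ν : Matrix (Fin 2) (Fin 2) F) 1 0 ≠ 0 →
      (ν : Matrix (Fin 2) (Fin 2) F) 0 0 / (ν : Matrix (Fin 2) (Fin 2) F) 1 0 ∈ K) :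
    DkD (Hh.map (QuotientGroup.mk' (Subgroup.center SL(2, F)))) := by
  obtain ⟨hI1, hI2⟩ := dk_norm Hh K hn1 W hW hW0 hWs hn3
  obtain ⟨K', iK, iF, ι, m, hm, hK'⟩ := exists_galois_model K
  have h1 : ∀ N : SL(2, K'), Matrix.SpecialLinearGroup.map ι N ∈ Hh :=
    fun N => hI1 _ (fun i j => (hK' _).2 ⟨(N : Matrix (Fin 2) (Fin 2) K') i j, rfl⟩)
  have h2 : ∀ ν ∈ Hh, ∃ (M : GL (Fin 2) K') (u : Fˣ), ∀ i j,
      (ν : Matrix (Fin 2) (Fin 2) F) i j * (u : F) = ι (M i j) := by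
    intro ν hν
    obtain ⟨γ, hγ, h⟩ := hI2 ν hν
    exact exists_GL_entries ι ν γ hγ (fun i j => (hK' _).1 (h i j))
  exact ⟨K', iK, iF, m, hm, pgl_dichotomy ι Hh h1 h2⟩

theorem dk_main_aux (Hh : Subgroup SL(2, F)) (a₀ : F) (ha₀ : a₀ ≠ 0) (hu : uS a₀ ∈ Hh)
    (ν₀ : SL(2, F)) (hν₀ : ν₀ ∈ Hh) (hν₀0 : (ν₀ : Matrix (Fin 2) (Fin 2) F) 0 0 = 0)
    (hrat : ∀ ν ∈ Hh, (ν : Matrix (Fin 2) (Fin 2) F) 1 0 ≠ 0 →
      uS ((ν : Matrix (Fin 2) (Fin 2) F) 0 0 / (ν : Matrix (Fin 2) (Fin 2) F) 1 0) ∈ Hh) :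
    DkD (Hh.map (QuotientGroup.mk' (Subgroup.center SL(2, F)))) := by
  obtain ⟨c, hc⟩ : ∃ c, c = (ν₀ : Matrix (Fin 2) (Fin 2) F) 1 0 := ⟨_, rfl⟩
  have hc0 : c ≠ 0 := by
    have hdet := SL2_det_eq ν₀
    rw [hν₀0, zero_mul, zero_sub, ← hc] at hdet
    intro h0
    rw [h0, mul_zero, neg_zero] at hdet
    exact zero_ne_one hdet
  obtain ⟨A, hA⟩ : ∃ A : AddSubgroup F, ∀ a, a ∈ A ↔ uS a ∈ Hh :=
    ⟨{ carrier := {a | uS a ∈ Hh}
       add_mem' := by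
         intro a b ha hb
         show uS (a + b) ∈ Hh
         rw [uS_add]
         exact Hh.mul_mem ha hb
       zero_mem' := by
         show uS (0 : F) ∈ Hh
         rw [uS_zero]
         exact Hh.one_mem
       neg_mem' := by
         intro a ha
         show uS (-a) ∈ Hh
         rw [uS_neg_eq_inv]
         exact Hh.inv_mem ha }, fun a => Iff.rfl⟩
  have hAinv : ∀ a ∈ A, a ≠ 0 → -(c * c * a)⁻¹ ∈ A := by
    intro a ha ha0
    have h1 := conj_uS_eq_lS ν₀ hν₀0 a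
    rw [← hc] at h1
    have h2 : lS (-c ^ 2 * a) ∈ Hh := by
      rw [← h1]
      exact Hh.mul_mem (Hh.mul_mem hν₀ ((hA a).1 ha)) (Hh.inv_mem hν₀)
    have hne : -c ^ 2 * a ≠ 0 := mul_ne_zero (neg_ne_zero.2 (pow_ne_zero 2 hc0)) ha0
    have h3 := hrat _ h2 (by rw [lS_10]; exact hne)
    rw [lS_00, lS_10] at h3
    have e : (1 : F) / (-c ^ 2 * a) = -(c * c * a)⁻¹ := by
      field_simp
    rw [e] at h3
    exact (hA _).2 h3
  obtain ⟨A', hA'⟩ : ∃ A' : AddSubgroup F, ∀ x, x ∈ A' ↔ c⁻¹ * x ∈ A :=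
    ⟨{ carrier := {x | c⁻¹ * x ∈ A}
       add_mem' := by
         intro a b ha hb
         show c⁻¹ * (a + b) ∈ A
         rw [mul_add]
         exact A.add_mem ha hb
       zero_mem' := by
         show c⁻¹ * 0 ∈ A
         rw [mul_zero]
         exact A.zero_mem
       neg_mem' := by
         intro a ha
         show c⁻¹ * -a ∈ A
         rw [mul_neg]
         exact A.neg_mem ha }, fun a => Iff.rfl⟩
  have hA'inv : ∀ x ∈ A', x⁻¹ ∈ A' := by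
    intro x hx
    by_cases hx0 : x = 0
    · rw [hx0, inv_zero]
      exact A'.zero_mem
    · rw [hA'] at hx ⊢
      have h1 := hAinv (c⁻¹ * x) hx (mul_ne_zero (inv_ne_zero hc0) hx0)
      have e : -(c * c * (c⁻¹ * x))⁻¹ = -(c⁻¹ * x⁻¹) := by
        field_simp
      rw [e] at h1
      have := A.neg_mem h1
      rwa [neg_neg] at this
  have hs₀ : c * a₀ ∈ A' := by
    rw [hA', inv_mul_cancel_left₀ hc0, hA]
    exact hu
  obtain ⟨K, hKs, hK⟩ := hua_general A' (c * a₀) hs₀ (mul_ne_zero hc0 ha₀) hA'inv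
  have hK' : ∀ x, x ∈ K ↔ uS (a₀ * x) ∈ Hh := by
    intro x
    rw [hK, hA', hA]
    have : c⁻¹ * (c * a₀ * x) = a₀ * x := by field_simp
    rw [this]
  obtain ⟨e₂, he₂⟩ : ∃ e : SL(2, F) ≃* SL(2, F), e = dcSL a₀⁻¹ (inv_ne_zero ha₀) := ⟨_, rfl⟩
  apply DkD_of_equiv (map_mk_equiv e₂ Hh)
  have hmem : ∀ g, g ∈ Hh.map e₂.toMonoidHom ↔ e₂.symm g ∈ Hh := by
    intro g
    constructor
    · rintro ⟨h, hh, rfl⟩
      simpa using hh
    · intro h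
      exact ⟨e₂.symm g, h, by simp⟩
  refine dk_norm_concl (Hh.map e₂.toMonoidHom) K ?_ (e₂ ν₀) ⟨ν₀, hν₀, rfl⟩ ?_ ?_ ?_
  · intro b
    rw [hmem, hK', he₂, dcSL_symm_uS, inv_inv]
  · rw [he₂, dcSL_00]
    exact hν₀0
  · rw [he₂, dcSL_10, inv_inv, ← hc]
    have : a₀ * c * (a₀ * c) = c * a₀ * (c * a₀) := by ring
    rw [this]
    exact hKs
  · rintro ν ⟨μ, hμ, rfl⟩ hν10
    have hν10' : ((dcSL a₀⁻¹ (inv_ne_zero ha₀) μ : SL(2, F)) : Matrix (Fin 2) (Fin 2) F) 1 0 ≠ 0 := by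
      rw [he₂] at hν10
      exact hν10
    rw [dcSL_10, inv_inv] at hν10'
    have hμ10 : (μ : Matrix (Fin 2) (Fin 2) F) 1 0 ≠ 0 := right_ne_zero_of_mul hν10'
    have h1 := hrat μ hμ hμ10
    show ((e₂ μ : SL(2, F)) : Matrix (Fin 2) (Fin 2) F) 0 0 /
      ((e₂ μ : SL(2, F)) : Matrix (Fin 2) (Fin 2) F) 1 0 ∈ K
    rw [he₂, dcSL_00, dcSL_10, inv_inv, hK']
    have : a₀ * ((μ : Matrix (Fin 2) (Fin 2) F) 0 0 / (a₀ * (μ : Matrix (Fin 2) (Fin 2) F) 1 0)) =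
        (μ : Matrix (Fin 2) (Fin 2) F) 0 0 / (μ : Matrix (Fin 2) (Fin 2) F) 1 0 := by
      field_simp
    rw [this]
    exact h1

/-- The matrix identification: a subgroup of `SL₂(F)` containing a nontrivial upper unipotent
element, an element not fixing the point at infinity, and such that all the ratios differ by
translations in the group, has image `PSL₂(K)` or `PGL₂(K)`. -/
theorem dk_main (Hh : Subgroup SL(2, F)) (a₀ : F) (ha₀ : a₀ ≠ 0) (hu : uS a₀ ∈ Hh)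
    (ν₁ : SL(2, F)) (hν₁ : ν₁ ∈ Hh) (hν₁c : (ν₁ : Matrix (Fin 2) (Fin 2) F) 1 0 ≠ 0)
    (hrat : ∀ ν ∈ Hh, ∀ ν' ∈ Hh, (ν : Matrix (Fin 2) (Fin 2) F) 1 0 ≠ 0 →
      (ν' : Matrix (Fin 2) (Fin 2) F) 1 0 ≠ 0 →
      uS ((ν' : Matrix (Fin 2) (Fin 2) F) 0 0 / (ν' : Matrix (Fin 2) (Fin 2) F) 1 0 -
        (ν : Matrix (Fin 2) (Fin 2) F) 0 0 / (ν : Matrix (Fin 2) (Fin 2) F) 1 0) ∈ Hh) :
    DkD (Hh.map (QuotientGroup.mk' (Subgroup.center SL(2, F)))) := by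
  obtain ⟨z₁, hz₁⟩ : ∃ z, z = (ν₁ : Matrix (Fin 2) (Fin 2) F) 0 0 /
      (ν₁ : Matrix (Fin 2) (Fin 2) F) 1 0 := ⟨_, rfl⟩
  obtain ⟨e₁, he₁⟩ : ∃ e : SL(2, F) ≃* SL(2, F), e = MulAut.conj (uS (-z₁)) := ⟨_, rfl⟩
  apply DkD_of_equiv (map_mk_equiv e₁ Hh)
  have hent : ∀ μ : SL(2, F),
      ((e₁ μ : SL(2, F)) : Matrix (Fin 2) (Fin 2) F) 1 0 = (μ : Matrix (Fin 2) (Fin 2) F) 1 0 ∧
      ((e₁ μ : SL(2, F)) : Matrix (Fin 2) (Fin 2) F) 0 0 =
        (μ : Matrix (Fin 2) (Fin 2) F) 0 0 - z₁ * (μ : Matrix (Fin 2) (Fin 2) F) 1 0 := by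
    intro μ
    rw [he₁, MulAut.conj_apply]
    constructor
    · simp only [SL2_mul_10, SL2_mul_00, SL2_mul_11, SL2_inv_00, SL2_inv_10, uS_00, uS_01, uS_10,
        uS_11]
      ring
    · simp only [SL2_mul_00, SL2_mul_01, SL2_inv_00, SL2_inv_10, uS_00, uS_01, uS_10, uS_11]
      ring
  have huS : ∀ b, e₁ (uS b) = uS b := by
    intro b
    rw [he₁, MulAut.conj_apply, ← uS_neg_eq_inv, ← uS_add, ← uS_add]
    congr 1
    ring
  refine dk_main_aux (Hh.map e₁.toMonoidHom) a₀ ha₀ ⟨uS a₀, hu, huS a₀⟩ (e₁ ν₁) ⟨ν₁, hν₁, rfl⟩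
    ?_ ?_
  · rw [(hent ν₁).2, hz₁]
    field_simp
    ring
  · rintro ν ⟨μ, hμ, rfl⟩ hν10
    obtain ⟨h1, h2⟩ := hent μ
    have hν10' : ((e₁ μ : SL(2, F)) : Matrix (Fin 2) (Fin 2) F) 1 0 ≠ 0 := hν10
    rw [h1] at hν10'
    show uS (((e₁ μ : SL(2, F)) : Matrix (Fin 2) (Fin 2) F) 0 0 /
      ((e₁ μ : SL(2, F)) : Matrix (Fin 2) (Fin 2) F) 1 0) ∈ Hh.map e₁.toMonoidHom
    rw [h1, h2]
    have h3 := hrat ν₁ hν₁ μ hμ hν₁c hν10'
    have e : ((μ : Matrix (Fin 2) (Fin 2) F) 0 0 - z₁ * (μ : Matrix (Fin 2) (Fin 2) F) 1 0) /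
        (μ : Matrix (Fin 2) (Fin 2) F) 1 0 =
        (μ : Matrix (Fin 2) (Fin 2) F) 0 0 / (μ : Matrix (Fin 2) (Fin 2) F) 1 0 -
          (ν₁ : Matrix (Fin 2) (Fin 2) F) 0 0 / (ν₁ : Matrix (Fin 2) (Fin 2) F) 1 0 := by
      rw [hz₁]
      field_simp
    rw [e]
    exact ⟨_, h3, huS _⟩

end dkmain2

end Cfsg.Agent.Lib.helper12
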