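import Mathlib
import Cfsg.Agent.Lib.helper12.DkPart

set_option autoImplicit false

namespace Cfsg.Agent.Lib.helper12

open scoped MatrixGroups

section dksubgen

variable {G : Type*} [Group G]

theorem tiPart_subgroupOf {M : G → Subgroup G} (hM : TIPart M) (H : Subgroup G) :
    TIPart (fun y : H => (M (y : G)).subgroupOf H) where
  mem := by
    intro y hy
    rw [Subgroup.mem_subgroupOf]
    exact hM.mem _ (fun h => hy (Subtype.ext h))
  eq_of_mem := by
    intro x y hx hy hmem
    rw [Subgroup.mem_subgroupOf] at hmem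
    show (M (y : G)).subgroupOf H = (M (x : G)).subgroupOf H
    rw [hM.eq_of_mem _ _ (fun h => hx (Subtype.ext h)) (fun h => hy (Subtype.ext h)) hmem]
  conj := by
    intro g x hx
    show (M ((g * x * g⁻¹ : H) : G)).subgroupOf H =
      ((M (x : G)).subgroupOf H).map (MulAut.conj g).toMonoidHom
    have e : ((g * x * g⁻¹ : H) : G) = (g : G) * (x : G) * (g : G)⁻¹ := by simp
    rw [e, hM.conj _ _ (fun h => hx (Subtype.ext h))]
    ext z
    rw [Subgroup.mem_subgroupOf, mem_map_conj, mem_map_conj, Subgroup.mem_subgroupOf]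
    simp

end dksubgen

section dksub

variable {F : Type*} [Field F] [Fintype F]

/-- The partition induced on a subgroup of `PSL₂`. -/
noncomputable def MqH (H : Subgroup PSL(2, F)) (y : H) : Subgroup H :=
  (Mq (y : PSL(2, F))).subgroupOf H

omit [Fintype F] in
theorem tiPart_MqH (H : Subgroup PSL(2, F)) : TIPart (MqH H) := tiPart_subgroupOf tiPart_Mq H

omit [Fintype F] in
theorem mem_MqH (H : Subgroup PSL(2, F)) (y z : H) :
    z ∈ MqH H y ↔ (z : PSL(2, F)) ∈ Mq (y : PSL(2, F)) := Subgroup.mem_subgroupOf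

theorem MqH_card_dvd (H : Subgroup PSL(2, F)) (y : H) :
    Nat.card (MqH H y) ∣ Nat.card (Mq (y : PSL(2, F))) := by
  let f : MqH H y →* Mq (y : PSL(2, F)) :=
    ((H.subtype).comp (MqH H y).subtype).codRestrict (Mq (y : PSL(2, F)))
      (fun z => (mem_MqH H y z).1 z.2)
  apply Subgroup.card_dvd_of_injective f
  intro a b h
  have h1 : ((a : H) : PSL(2, F)) = ((b : H) : PSL(2, F)) :=
    congrArg (fun z : Mq (y : PSL(2, F)) => (z : PSL(2, F))) h
  exact Subtype.ext (Subtype.ext h1)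

theorem torT_MqH (p : ℕ) [Fact p.Prime] [CharP F p] (H : Subgroup PSL(2, F)) (y : H) (hy : y ≠ 1)
    (hs : trSq (y : PSL(2, F)) ≠ 4) : TorT p (MqH H) y := by
  have hy' : (y : PSL(2, F)) ≠ 1 := fun h => hy (Subtype.ext h)
  have hconj : ∀ n : H, n ∈ Subgroup.normalizer ((MqH H y : Subgroup H) : Set H) →
      (n : PSL(2, F)) * y * (n : PSL(2, F))⁻¹ ∈ Mq (y : PSL(2, F)) := by
    intro n hn
    have h1 := (Subgroup.mem_normalizer_iff.1 hn y).1 ((tiPart_MqH H).mem y hy)
    have h2 : ((n * y * n⁻¹ : H) : PSL(2, F)) ∈ Mq (y : PSL(2, F)) := (mem_MqH H y _).1 h1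
    simpa using h2
  refine ⟨?_, ?_, ?_⟩
  · have hd := MqH_card_dvd H y
    have hcop : Nat.Coprime p (Nat.card (Mq (y : PSL(2, F)))) := by
      rcases Mq_semi_card (y : PSL(2, F)) hs with h | h
      · have : Nat.Coprime p (Fintype.card F - 1) :=
          (Nat.Prime.coprime_iff_not_dvd Fact.out).2 (char_not_dvd_card_sub_one p)
        rw [← h] at this
        exact Nat.Coprime.coprime_mul_right_right this
      · have : Nat.Coprime p (Fintype.card F + 1) :=
          (Nat.Prime.coprime_iff_not_dvd Fact.out).2 (char_not_dvd_card_add_one p)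
        rw [← h] at this
        exact Nat.Coprime.coprime_mul_right_right this
    exact Nat.Coprime.coprime_dvd_right hd hcop
  · intro n hn hnot
    have hnot' : (n : PSL(2, F)) ∉ Mq (y : PSL(2, F)) := fun h => hnot ((mem_MqH H y n).2 h)
    obtain ⟨h1, h2⟩ := Mq_semi_normalizer _ _ hy' hs (hconj n hn) hnot'
    refine ⟨Subtype.ext (by simpa using h1), fun c hc => ?_⟩
    apply Subtype.ext
    have := h2 _ ((mem_MqH H y c).1 hc)
    simpa using this
  · intro n hn n' hn' hnot hnot'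
    rw [mem_MqH]
    have := Mq_semi_index _ _ _ hy' hs (hconj n hn) (fun h => hnot ((mem_MqH H y n).2 h))
      (hconj n' hn') (fun h => hnot' ((mem_MqH H y n').2 h))
    simpa using this

theorem uniT_MqH (p : ℕ) [Fact p.Prime] [CharP F p] (H : Subgroup PSL(2, F)) (y : H) (hy : y ≠ 1)
    (hs : trSq (y : PSL(2, F)) = 4) : UniT p (MqH H) y := by
  classical
  have hy' : (y : PSL(2, F)) ≠ 1 := fun h => hy (Subtype.ext h)
  have hMH := tiPart_MqH H
  have hnorm : ∀ n : H, n ∈ Subgroup.normalizer ((MqH H y : Subgroup H) : Set H) →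
      (n : PSL(2, F)) ∈ Subgroup.normalizer
        ((Mq (y : PSL(2, F)) : Subgroup PSL(2, F)) : Set PSL(2, F)) := by
    intro n hn
    apply tiPart_Mq.mem_normalizer_of_conj_mem hy' (tiPart_Mq.mem _ hy') hy'
    have h1 := (Subgroup.mem_normalizer_iff.1 hn y).1 (hMH.mem y hy)
    have h2 : ((n * y * n⁻¹ : H) : PSL(2, F)) ∈ Mq (y : PSL(2, F)) := (mem_MqH H y _).1 h1
    simpa using h2
  have hback : ∀ w : H, (w : PSL(2, F)) ∈ Subgroup.normalizer
      ((Mq (y : PSL(2, F)) : Subgroup PSL(2, F)) : Set PSL(2, F)) →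
      w ∈ Subgroup.normalizer ((MqH H y : Subgroup H) : Set H) := by
    intro w hw
    rw [Subgroup.mem_normalizer_iff]
    intro h
    have := Subgroup.mem_normalizer_iff.1 hw (h : PSL(2, F))
    rw [mem_MqH, mem_MqH]
    simpa using this
  refine ⟨?_, ?_, ?_, ?_, ?_⟩
  · intro c
    refine ⟨1, ?_⟩
    rw [pow_one]
    apply Subtype.ext
    apply Subtype.ext
    have := Mq_unip_pow p _ _ hy' hs ((mem_MqH H y c).1 c.2)
    simpa using this
  · intro Q hQ hle
    have hyQ : y ∈ Q := hle (hMH.mem y hy)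
    haveI : Nontrivial Q := ⟨⟨⟨y, hyQ⟩, 1, fun h => hy (congrArg Subtype.val h)⟩⟩
    haveI : Finite PSL(2, F) := inferInstance
    haveI := hQ.center_nontrivial
    obtain ⟨⟨z, hzc⟩, hz1⟩ := exists_ne (1 : Subgroup.center Q)
    have hz1' : (z : H) ≠ 1 := fun h => hz1 (Subtype.ext (Subtype.ext h))
    have hz1'' : ((z : H) : PSL(2, F)) ≠ 1 := fun h => hz1' (Subtype.ext h)
    have hzy : ((z : H) : PSL(2, F)) * y = y * ((z : H) : PSL(2, F)) := by
      have := Subgroup.mem_center_iff.1 hzc ⟨y, hyQ⟩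
      have h2 := congrArg (fun q : Q => ((q : H) : PSL(2, F))) this
      simpa using h2.symm
    have hzM : ((z : H) : PSL(2, F)) ∈ Mq (y : PSL(2, F)) := Mq_unip_comm _ _ hs hzy
    have hzt : trSq ((z : H) : PSL(2, F)) = 4 := trSq_of_mem_Mq hy' hzM hs
    have hMz : Mq ((z : H) : PSL(2, F)) = Mq (y : PSL(2, F)) :=
      tiPart_Mq.eq_of_mem _ _ hy' hz1'' hzM
    intro w hw
    rw [mem_MqH, ← hMz]
    apply Mq_unip_comm _ _ hzt
    have := Subgroup.mem_center_iff.1 hzc ⟨w, hw⟩
    have h2 := congrArg (fun q : Q => ((q : H) : PSL(2, F))) this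
    simpa using h2
  · intro c hc hc1 g hg
    have hc' : (c : PSL(2, F)) ∈ Mq (y : PSL(2, F)) := (mem_MqH H y c).1 hc
    have hc1' : (c : PSL(2, F)) ≠ 1 := fun h => hc1 (Subtype.ext h)
    have hct := trSq_of_mem_Mq hy' hc' hs
    have hMc := tiPart_Mq.eq_of_mem _ _ hy' hc1' hc'
    rw [mem_MqH, ← hMc]
    apply Mq_unip_comm _ _ hct
    have h2 := congrArg (fun q : H => (q : PSL(2, F))) hg
    simpa using h2
  · obtain ⟨f, hf⟩ := Mq_unip_hom (y : PSL(2, F)) hy' hs
    let j : Subgroup.normalizer ((MqH H y : Subgroup H) : Set H) →*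
        Subgroup.normalizer ((Mq (y : PSL(2, F)) : Subgroup PSL(2, F)) : Set PSL(2, F)) :=
      { toFun := fun n => ⟨((n : H) : PSL(2, F)), hnorm n n.2⟩
        map_one' := rfl
        map_mul' := fun a b => rfl }
    refine ⟨Fˣ, inferInstance, inferInstance, f.comp j, fun n => ?_⟩
    rw [MonoidHom.comp_apply, hf]
    exact (mem_MqH H y n).symm
  · intro z hz hnot w hw
    apply hback
    have h1 := Mq_unip_UN _ _ hy' hs (hnorm z hz) (fun h => hnot ((mem_MqH H y z).2 h))
    exact h1 ((mem_MqH H z w).1 hw)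

end dksub

end Cfsg.Agent.Lib.helper12
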