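import Mathlib
import Cfsg.Agent.Lib.helper12.DkSub
import Cfsg.Agent.Lib.helper12.DkMain

set_option autoImplicit false

namespace Cfsg.Agent.Lib.helper12

open scoped MatrixGroups

section dkfinalgen

theorem card_ne_sub_one {α : Type*} [Finite α] (a : α) :
    Nat.card {x : α // x ≠ a} = Nat.card α - 1 := by
  have h2 : Nat.card {x : α // x ≠ a} = ((Set.univ : Set α) \ {a}).ncard := by
    rw [← Nat.card_coe_set_eq]
    apply Nat.card_congr
    exact Equiv.subtypeEquivRight (fun c => by simp)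
  rw [h2, Set.ncard_diff_singleton_of_mem (Set.mem_univ _), Set.ncard_univ]

theorem coset_of_card {F : Type*} [Field F] [Finite F] (A : AddSubgroup F) (Ω : Set F) (z₁ : F)
    (hcl : ∀ a ∈ A, z₁ + a ∈ Ω) (hcard : Ω.ncard ≤ Nat.card A) : ∀ z ∈ Ω, z - z₁ ∈ A := by
  have hsub : (fun a => z₁ + a) '' (A : Set F) ⊆ Ω := by
    rintro _ ⟨a, ha, rfl⟩
    exact hcl a ha
  have hc : ((fun a => z₁ + a) '' (A : Set F)).ncard = Nat.card A := by
    rw [Set.ncard_image_of_injective _ (add_right_injective z₁), ← Nat.card_coe_set_eq]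
    rfl
  have heq := Set.eq_of_subset_of_ncard_le hsub (by rw [hc]; exact hcard) (Set.toFinite _)
  intro z hz
  rw [← heq] at hz
  obtain ⟨a, ha, rfl⟩ := hz
  simpa using ha

end dkfinalgen

section dkfinal

variable {F : Type*} [Field F] [Fintype F]

/-- The conclusion of Dickson's theorem. -/
def DkConcl (p : ℕ) [Fact p.Prime] (H : Subgroup PSL(2, F)) : Prop :=
  (∃ k : ℕ, (k ∣ (Fintype.card F + 1) / Nat.gcd 2 (Fintype.card F - 1) ∨
      k ∣ (Fintype.card F - 1) / Nat.gcd 2 (Fintype.card F - 1)) ∧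
    ((IsCyclic H ∧ Nat.card H = k) ∨ Nonempty (H ≃* DihedralGroup k))) ∨
  (∃ (P : Sylow p PSL(2, F)) (K : Subgroup PSL(2, F)),
    K ≤ Subgroup.normalizer ((P : Subgroup PSL(2, F)) : Set PSL(2, F)) ∧ Nonempty (H ≃* K)) ∨
  Nonempty (H ≃* alternatingGroup (Fin 4)) ∨ Nonempty (H ≃* Equiv.Perm (Fin 4)) ∨
  Nonempty (H ≃* alternatingGroup (Fin 5)) ∨ DkD H

theorem DkConcl_of_equiv (p : ℕ) [Fact p.Prime] {H H' : Subgroup PSL(2, F)} (e : H ≃* H')
    (h : DkConcl p H') : DkConcl p H := by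
  rcases h with ⟨k, hk, h⟩ | ⟨P, K, hK, ⟨f⟩⟩ | ⟨⟨f⟩⟩ | ⟨⟨f⟩⟩ | ⟨⟨f⟩⟩ | h
  · refine Or.inl ⟨k, hk, ?_⟩
    rcases h with ⟨hc, hcard⟩ | ⟨⟨f⟩⟩
    · left
      refine ⟨isCyclic_of_surjective e.symm e.symm.surjective, ?_⟩
      rw [← hcard]
      exact Nat.card_congr e.toEquiv
    · right
      exact ⟨e.trans f⟩
  · exact Or.inr (Or.inl ⟨P, K, hK, ⟨e.trans f⟩⟩)
  · exact Or.inr (Or.inr (Or.inl ⟨e.trans f⟩))
  · exact Or.inr (Or.inr (Or.inr (Or.inl ⟨e.trans f⟩)))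
  · exact Or.inr (Or.inr (Or.inr (Or.inr (Or.inl ⟨e.trans f⟩))))
  · exact Or.inr (Or.inr (Or.inr (Or.inr (Or.inr (DkD_of_equiv ⟨e⟩ h)))))

omit [Fintype F] in
theorem normalizer_MqH_le (H : Subgroup PSL(2, F)) (y : H) (hy : y ≠ 1) (n : H)
    (hn : n ∈ Subgroup.normalizer ((MqH H y : Subgroup H) : Set H)) :
    (n : PSL(2, F)) ∈ Subgroup.normalizer
      ((Mq (y : PSL(2, F)) : Subgroup PSL(2, F)) : Set PSL(2, F)) := by
  have hy' : (y : PSL(2, F)) ≠ 1 := fun h => hy (Subtype.ext h)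
  apply tiPart_Mq.mem_normalizer_of_conj_mem hy' (tiPart_Mq.mem _ hy') hy'
  have h1 := (Subgroup.mem_normalizer_iff.1 hn y).1 ((tiPart_MqH H).mem y hy)
  have h2 : ((n * y * n⁻¹ : H) : PSL(2, F)) ∈ Mq (y : PSL(2, F)) := (mem_MqH H y _).1 h1
  simpa using h2

omit [Fintype F] in
theorem mem_normalizer_MqH (H : Subgroup PSL(2, F)) (y w : H)
    (hw : (w : PSL(2, F)) ∈ Subgroup.normalizer
      ((Mq (y : PSL(2, F)) : Subgroup PSL(2, F)) : Set PSL(2, F))) :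
    w ∈ Subgroup.normalizer ((MqH H y : Subgroup H) : Set H) := by
  rw [Subgroup.mem_normalizer_iff]
  intro h
  have := Subgroup.mem_normalizer_iff.1 hw (h : PSL(2, F))
  rw [mem_MqH, mem_MqH]
  simpa using this

theorem Mq_unip_max (p : ℕ) [Fact p.Prime] (x : PSL(2, F)) (hx : x ≠ 1) (ht : trSq x = 4)
    (Q : Subgroup PSL(2, F)) (hQ : IsPGroup p Q) (hle : Mq x ≤ Q) : Q ≤ Mq x := by
  have hxQ : x ∈ Q := hle (tiPart_Mq.mem x hx)
  haveI : Nontrivial Q := ⟨⟨⟨x, hxQ⟩, 1, fun h => hx (congrArg Subtype.val h)⟩⟩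
  haveI : Finite PSL(2, F) := inferInstance
  haveI := hQ.center_nontrivial
  obtain ⟨⟨z, hzc⟩, hz1⟩ := exists_ne (1 : Subgroup.center Q)
  have hz1' : (z : PSL(2, F)) ≠ 1 := fun h => hz1 (Subtype.ext (Subtype.ext h))
  have hzx : (z : PSL(2, F)) * x = x * (z : PSL(2, F)) := by
    have := Subgroup.mem_center_iff.1 hzc ⟨x, hxQ⟩
    have h2 := congrArg (fun q : Q => (q : PSL(2, F))) this
    simpa using h2.symm
  have hzM : (z : PSL(2, F)) ∈ Mq x := Mq_unip_comm _ _ ht hzx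
  have hzt : trSq (z : PSL(2, F)) = 4 := trSq_of_mem_Mq hx hzM ht
  have hMz : Mq (z : PSL(2, F)) = Mq x := tiPart_Mq.eq_of_mem _ _ hx hz1' hzM
  intro w hw
  rw [← hMz]
  apply Mq_unip_comm _ _ hzt
  have := Subgroup.mem_center_iff.1 hzc ⟨w, hw⟩
  have h2 := congrArg (fun q : Q => (q : PSL(2, F))) this
  simpa using h2

theorem trSq_ne_of_torT (p : ℕ) [Fact p.Prime] [CharP F p] (H : Subgroup PSL(2, F)) (y : H)
    (hy : y ≠ 1) (ht : TorT p (MqH H) y) : trSq (y : PSL(2, F)) ≠ 4 := fun h =>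
  tor_not_uni (tiPart_MqH H) hy ht (uniT_MqH p H y hy h)

theorem trSq_eq_of_uniT (p : ℕ) [Fact p.Prime] [CharP F p] (H : Subgroup PSL(2, F)) (y : H)
    (hy : y ≠ 1) (hu : UniT p (MqH H) y) : trSq (y : PSL(2, F)) = 4 := by
  by_contra h
  exact tor_not_uni (tiPart_MqH H) hy (torT_MqH p H y hy h) hu

theorem MqH_cyclic (H : Subgroup PSL(2, F)) (y : H) (hy : y ≠ 1)
    (hs : trSq (y : PSL(2, F)) ≠ 4) : IsCyclic (MqH H y) := by
  haveI := Mq_semi_cyclic (y : PSL(2, F)) (fun h => hy (Subtype.ext h)) hs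
  let f : MqH H y →* Mq (y : PSL(2, F)) :=
    ((H.subtype).comp (MqH H y).subtype).codRestrict (Mq (y : PSL(2, F)))
      (fun z => (mem_MqH H y z).1 z.2)
  apply isCyclic_of_injective f
  intro a b h
  have h1 : ((a : H) : PSL(2, F)) = ((b : H) : PSL(2, F)) :=
    congrArg (fun z : Mq (y : PSL(2, F)) => (z : PSL(2, F))) h
  exact Subtype.ext (Subtype.ext h1)

theorem Mq_semi_card_dvd (x : PSL(2, F)) (hs : trSq x ≠ 4) :
    Nat.card (Mq x) ∣ (Fintype.card F + 1) / Nat.gcd 2 (Fintype.card F - 1) ∨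
    Nat.card (Mq x) ∣ (Fintype.card F - 1) / Nat.gcd 2 (Fintype.card F - 1) := by
  have hd : 0 < Nat.gcd 2 (Fintype.card F - 1) := Nat.gcd_pos_of_pos_left _ (by norm_num)
  rcases Mq_semi_card x hs with h | h
  · right
    rw [Nat.div_eq_of_eq_mul_left hd h.symm]
  · left
    rw [Nat.div_eq_of_eq_mul_left hd h.symm]

omit [Fintype F] in
theorem uS_addSubgroup (Hh : Subgroup SL(2, F)) :
    ∃ A : AddSubgroup F, ∀ a, a ∈ A ↔ uS a ∈ Hh :=
  ⟨{ carrier := {a | uS a ∈ Hh}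
     add_mem' := by
       intro a b ha hb
       show uS (a + b) ∈ Hh
       rw [uS_add]
       exact Hh.mul_mem ha hb
     zero_mem' := by
       show uS (0 : F) ∈ Hh
       rw [uS_zero]
       exact Hh.one_mem
     neg_mem' := by
       intro a ha
       show uS (-a) ∈ Hh
       rw [uS_neg_eq_inv]
       exact Hh.inv_mem ha }, fun a => Iff.rfl⟩

/-- The main case: two Sylow `p`-subgroups and the index condition give `PSL₂(K)` or
`PGL₂(K)`. -/
theorem dk_core_main (H : Subgroup PSL(2, F)) (a₀ : F) (ha₀ : a₀ ≠ 0)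
    (x₀ : H) (hx₀v : (x₀ : PSL(2, F)) = QuotientGroup.mk (uS a₀))
    (hidx : (Subgroup.normalizer ((MqH H x₀ : Subgroup H) : Set H)).index =
      Nat.card (MqH H x₀) + 1) : DkD H := by
  classical
  have hx₀1 : x₀ ≠ 1 := by
    intro h
    apply mk_uS_ne_one (F := F) ha₀
    rw [← hx₀v, h]
    rfl
  obtain ⟨Hh, hHh⟩ : ∃ Hh : Subgroup SL(2, F),
      Hh = H.comap (QuotientGroup.mk' (Subgroup.center SL(2, F))) := ⟨_, rfl⟩
  have hmemHh : ∀ ν : SL(2, F), ν ∈ Hh ↔ (QuotientGroup.mk ν : PSL(2, F)) ∈ H := by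
    intro ν
    rw [hHh]
    rfl
  have hmap : Hh.map (QuotientGroup.mk' (Subgroup.center SL(2, F))) = H := by
    rw [hHh]
    exact Subgroup.map_comap_eq_self_of_surjective (QuotientGroup.mk'_surjective _) H
  rw [← hmap]
  obtain ⟨N', hN'⟩ : ∃ N' : Subgroup H,
      N' = Subgroup.normalizer ((MqH H x₀ : Subgroup H) : Set H) := ⟨_, rfl⟩
  rw [← hN'] at hidx
  let toH : Hh →* H :=
    ((QuotientGroup.mk' (Subgroup.center SL(2, F))).comp Hh.subtype).codRestrict H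
      (fun ν => (hmemHh _).1 ν.2)
  have htoH : ∀ ν : Hh, ((toH ν : H) : PSL(2, F)) = QuotientGroup.mk (ν : SL(2, F)) :=
    fun ν => rfl
  have hN'mem : ∀ ν : Hh, toH ν ∈ N' ↔ ((ν : SL(2, F)) : Matrix (Fin 2) (Fin 2) F) 1 0 = 0 := by
    intro ν
    rw [hN', ← mk_mem_normalizer_uS_iff ha₀ (ν : SL(2, F)), ← hx₀v, ← htoH]
    constructor
    · intro h
      exact normalizer_MqH_le H x₀ hx₀1 _ h
    · intro h
      exact mem_normalizer_MqH H x₀ _ h
  have hcardA : Nat.card (MqH H x₀) = Nat.card {a : F // uS a ∈ Hh} := by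
    symm
    apply Nat.card_congr
    have hmemA : ∀ a : {a : F // uS a ∈ Hh}, toH ⟨uS a.1, a.2⟩ ∈ MqH H x₀ := by
      intro a
      rw [mem_MqH, hx₀v, htoH, mk_mem_Mq_uS_iff ha₀]
      exact ⟨rfl, rfl⟩
    refine Equiv.ofBijective (fun a => (⟨toH ⟨uS a.1, a.2⟩, hmemA a⟩ : MqH H x₀)) ⟨?_, ?_⟩
    · intro a b hab
      have h1 : (QuotientGroup.mk (uS a.1) : PSL(2, F)) = QuotientGroup.mk (uS b.1) :=
        congrArg (fun z : MqH H x₀ => ((z : H) : PSL(2, F))) hab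
      obtain ⟨ε, hε, hmat⟩ := (PSL2_mk_eq_mk_iff _ _).1 h1
      have h00 := congrFun (congrFun hmat 0) 0
      have h01 := congrFun (congrFun hmat 0) 1
      rw [Matrix.smul_apply, uS_00, uS_00, smul_eq_mul, mul_one] at h00
      rw [Matrix.smul_apply, uS_01, uS_01, smul_eq_mul, ← h00, one_mul] at h01
      exact Subtype.ext h01.symm
    · rintro ⟨⟨y, hyH⟩, hy⟩
      obtain ⟨h, rfl⟩ := QuotientGroup.mk_surjective y
      rw [mem_MqH, hx₀v] at hy
      have hy' : (QuotientGroup.mk h : PSL(2, F)) ∈ Mq (QuotientGroup.mk (uS a₀) : PSL(2, F)) := hy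
      rw [mk_mem_Mq_uS_iff ha₀] at hy'
      obtain ⟨h10, h00⟩ := hy'
      have hdet := SL2_det_eq h
      rw [h10, mul_zero, sub_zero, ← h00] at hdet
      have hmk : (QuotientGroup.mk (uS ((h : Matrix (Fin 2) (Fin 2) F) 0 0 *
          (h : Matrix (Fin 2) (Fin 2) F) 0 1)) : PSL(2, F)) = QuotientGroup.mk h := by
        rw [PSL2_mk_eq_mk_iff]
        refine ⟨(h : Matrix (Fin 2) (Fin 2) F) 0 0, hdet, ?_⟩
        have e00 : (h : Matrix (Fin 2) (Fin 2) F) 0 0 = ((h : Matrix (Fin 2) (Fin 2) F) 0 0 •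
            ((uS ((h : Matrix (Fin 2) (Fin 2) F) 0 0 * (h : Matrix (Fin 2) (Fin 2) F) 0 1) :
              SL(2, F)) : Matrix (Fin 2) (Fin 2) F)) 0 0 := by
          rw [Matrix.smul_apply, uS_00, smul_eq_mul, mul_one]
        have e01 : (h : Matrix (Fin 2) (Fin 2) F) 0 1 = ((h : Matrix (Fin 2) (Fin 2) F) 0 0 •
            ((uS ((h : Matrix (Fin 2) (Fin 2) F) 0 0 * (h : Matrix (Fin 2) (Fin 2) F) 0 1) :
              SL(2, F)) : Matrix (Fin 2) (Fin 2) F)) 0 1 := by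
          rw [Matrix.smul_apply, uS_01, smul_eq_mul, ← mul_assoc, hdet, one_mul]
        have e10 : (h : Matrix (Fin 2) (Fin 2) F) 1 0 = ((h : Matrix (Fin 2) (Fin 2) F) 0 0 •
            ((uS ((h : Matrix (Fin 2) (Fin 2) F) 0 0 * (h : Matrix (Fin 2) (Fin 2) F) 0 1) :
              SL(2, F)) : Matrix (Fin 2) (Fin 2) F)) 1 0 := by
          rw [Matrix.smul_apply, uS_10, smul_eq_mul, mul_zero, h10]
        have e11 : (h : Matrix (Fin 2) (Fin 2) F) 1 1 = ((h : Matrix (Fin 2) (Fin 2) F) 0 0 •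
            ((uS ((h : Matrix (Fin 2) (Fin 2) F) 0 0 * (h : Matrix (Fin 2) (Fin 2) F) 0 1) :
              SL(2, F)) : Matrix (Fin 2) (Fin 2) F)) 1 1 := by
          rw [Matrix.smul_apply, uS_11, smul_eq_mul, mul_one, h00]
        ext i j
        fin_cases i <;> fin_cases j
        · exact e00
        · exact e01
        · exact e10
        · exact e11
      have hmem : uS ((h : Matrix (Fin 2) (Fin 2) F) 0 0 * (h : Matrix (Fin 2) (Fin 2) F) 0 1) ∈
          Hh := by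
        rw [hmemHh, hmk]
        exact hyH
      refine ⟨⟨_, hmem⟩, ?_⟩
      apply Subtype.ext
      apply Subtype.ext
      exact hmk
  obtain ⟨Ω, hΩ⟩ : ∃ Ω : Set F, Ω = {z | ∃ ν ∈ Hh, (ν : Matrix (Fin 2) (Fin 2) F) 1 0 ≠ 0 ∧
      z = (ν : Matrix (Fin 2) (Fin 2) F) 0 0 / (ν : Matrix (Fin 2) (Fin 2) F) 1 0} := ⟨_, rfl⟩
  have hΩdef : ∀ w : F, w ∈ Ω ↔ ∃ ν ∈ Hh, (ν : Matrix (Fin 2) (Fin 2) F) 1 0 ≠ 0 ∧
      w = (ν : Matrix (Fin 2) (Fin 2) F) 0 0 / (ν : Matrix (Fin 2) (Fin 2) F) 1 0 := by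
    intro w
    rw [hΩ]
    rfl
  have hΩcard : Ω.ncard ≤ Nat.card {a : F // uS a ∈ Hh} := by
    rw [← hcardA]
    have h1 : Nat.card {c : H ⧸ N' // c ≠ QuotientGroup.mk 1} = Nat.card (MqH H x₀) := by
      rw [card_ne_sub_one]
      have : Nat.card (H ⧸ N') = N'.index := rfl
      rw [this, hidx]
      omega
    rw [← h1, ← Nat.card_coe_set_eq]
    have hex : ∀ z : Ω, ∃ ν : Hh, ((ν : SL(2, F)) : Matrix (Fin 2) (Fin 2) F) 1 0 ≠ 0 ∧
        (z : F) = ((ν : SL(2, F)) : Matrix (Fin 2) (Fin 2) F) 0 0 /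
          ((ν : SL(2, F)) : Matrix (Fin 2) (Fin 2) F) 1 0 := by
      intro z
      obtain ⟨ν, hν, h1, h2⟩ := (hΩdef _).1 z.2
      exact ⟨⟨ν, hν⟩, h1, h2⟩
    choose νz hνz10 hνzr using hex
    have hne : ∀ z : Ω, (QuotientGroup.mk (toH (νz z)) : H ⧸ N') ≠ QuotientGroup.mk 1 := by
      intro z h
      rw [QuotientGroup.eq, mul_one, inv_mem_iff] at h
      exact hνz10 z ((hN'mem _).1 h)
    apply Nat.card_le_card_of_injective (fun z : Ω =>
      (⟨QuotientGroup.mk (toH (νz z)), hne z⟩ : {c : H ⧸ N' // c ≠ QuotientGroup.mk 1}))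
    intro z z' hzz
    have h2 : (QuotientGroup.mk (toH (νz z)) : H ⧸ N') = QuotientGroup.mk (toH (νz z')) :=
      congrArg Subtype.val hzz
    rw [QuotientGroup.eq, ← map_inv, ← map_mul, hN'mem] at h2
    have h3 : (((νz z)⁻¹ * νz z' : Hh) : SL(2, F)) = ((νz z : Hh) : SL(2, F))⁻¹ * (νz z' : SL(2, F)) :=
      rfl
    rw [h3, SL2_mul_10, SL2_inv_10, SL2_inv_11] at h2
    apply Subtype.ext
    rw [hνzr z, hνzr z']
    have ha := hνz10 z
    have hb := hνz10 z'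
    field_simp
    linear_combination h2
  have hex1 : ∃ ν₁ ∈ Hh, (ν₁ : Matrix (Fin 2) (Fin 2) F) 1 0 ≠ 0 := by
    by_contra hcon
    push Not at hcon
    have htop : N' = ⊤ := by
      rw [Subgroup.eq_top_iff']
      rintro ⟨y, hy⟩
      obtain ⟨ν, rfl⟩ := QuotientGroup.mk_surjective y
      have hν : ν ∈ Hh := (hmemHh ν).2 hy
      exact (hN'mem ⟨ν, hν⟩).2 (hcon ν hν)
    rw [htop, Subgroup.index_top] at hidx
    have := Nat.card_pos (α := MqH H x₀)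
    omega
  obtain ⟨ν₁, hν₁, hν₁c⟩ := hex1
  obtain ⟨A, hA⟩ := uS_addSubgroup Hh
  have hcardA' : Nat.card {a : F // uS a ∈ Hh} = Nat.card A :=
    Nat.card_congr (Equiv.subtypeEquivRight (fun a => (hA a).symm))
  have hΩmem : ∀ ν ∈ Hh, (ν : Matrix (Fin 2) (Fin 2) F) 1 0 ≠ 0 →
      (ν : Matrix (Fin 2) (Fin 2) F) 0 0 / (ν : Matrix (Fin 2) (Fin 2) F) 1 0 ∈ Ω := by
    intro ν hν hc
    exact (hΩdef _).2 ⟨ν, hν, hc, rfl⟩
  have hcos := coset_of_card A Ω ((ν₁ : Matrix (Fin 2) (Fin 2) F) 0 0 /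
      (ν₁ : Matrix (Fin 2) (Fin 2) F) 1 0) (by
    intro a ha
    have hmem : uS a * ν₁ ∈ Hh := Hh.mul_mem ((hA a).1 ha) hν₁
    have h10 : ((uS a * ν₁ : SL(2, F)) : Matrix (Fin 2) (Fin 2) F) 1 0 =
        (ν₁ : Matrix (Fin 2) (Fin 2) F) 1 0 := by
      rw [SL2_mul_10, uS_10, uS_11]
      ring
    have h00 : ((uS a * ν₁ : SL(2, F)) : Matrix (Fin 2) (Fin 2) F) 0 0 =
        (ν₁ : Matrix (Fin 2) (Fin 2) F) 0 0 + a * (ν₁ : Matrix (Fin 2) (Fin 2) F) 1 0 := by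
      rw [SL2_mul_00, uS_00, uS_01]
      ring
    have := hΩmem _ hmem (by rw [h10]; exact hν₁c)
    rw [h10, h00] at this
    have e : ((ν₁ : Matrix (Fin 2) (Fin 2) F) 0 0 + a * (ν₁ : Matrix (Fin 2) (Fin 2) F) 1 0) /
        (ν₁ : Matrix (Fin 2) (Fin 2) F) 1 0 =
        (ν₁ : Matrix (Fin 2) (Fin 2) F) 0 0 / (ν₁ : Matrix (Fin 2) (Fin 2) F) 1 0 + a := by
      field_simp
    rw [e] at this
    exact this) (by rw [← hcardA']; exact hΩcard)
  refine dk_main Hh a₀ ha₀ ((hmemHh _).2 (by rw [← hx₀v]; exact x₀.2)) ν₁ hν₁ hν₁c ?_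
  intro ν hν ν' hν' hc hc'
  have h1 := hcos _ (hΩmem ν hν hc)
  have h2 := hcos _ (hΩmem ν' hν' hc')
  have := A.sub_mem h2 h1
  rw [sub_sub_sub_cancel_right] at this
  exact (hA _).1 this

theorem dk_core (p : ℕ) [Fact p.Prime] [CharP F p] (H : Subgroup PSL(2, F))
    (hstd : (∃ y : H, y ≠ 1 ∧ trSq (y : PSL(2, F)) = 4) →
      ∃ a : F, a ≠ 0 ∧ (QuotientGroup.mk (uS a) : PSL(2, F)) ∈ H) :
    DkConcl p H := by
  classical
  have hM := tiPart_MqH H
  have hd : ∀ y : H, y ≠ 1 → TorT p (MqH H) y ∨ UniT p (MqH H) y := by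
    intro y hy
    by_cases h : trSq (y : PSL(2, F)) = 4
    · exact Or.inr (uniT_MqH p H y hy h)
    · exact Or.inl (torT_MqH p H y hy h)
  rcases dk_abstract hM hd with h | ⟨x, hx, ht, htop⟩ | ⟨x, hx, ht, hidx⟩ | h | h | h |
    ⟨x, hx, hu, hnorm⟩ | ⟨⟨x, hx, hu⟩, hall⟩
  · left
    haveI : Subsingleton H := ⟨fun a b => by rw [h a, h b]⟩
    exact ⟨1, Or.inl (one_dvd _), Or.inl ⟨isCyclic_of_subsingleton, Nat.card_of_subsingleton 1⟩⟩
  · have hx' : (x : PSL(2, F)) ≠ 1 := fun h => hx (Subtype.ext h)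
    have hs := trSq_ne_of_torT p H x hx ht
    have hle : H ≤ Mq (x : PSL(2, F)) := by
      intro h hh
      have : (⟨h, hh⟩ : H) ∈ MqH H x := by rw [htop]; trivial
      exact (mem_MqH H x _).1 this
    haveI := Mq_semi_cyclic (x : PSL(2, F)) hx' hs
    have hcyc : IsCyclic H :=
      isCyclic_of_injective (Subgroup.inclusion hle) (Subgroup.inclusion_injective hle)
    have hdvd : Nat.card H ∣ Nat.card (Mq (x : PSL(2, F))) := Subgroup.card_dvd_of_le hle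
    left
    refine ⟨Nat.card H, ?_, Or.inl ⟨hcyc, rfl⟩⟩
    rcases Mq_semi_card_dvd (x : PSL(2, F)) hs with h | h
    · exact Or.inl (dvd_trans hdvd h)
    · exact Or.inr (dvd_trans hdvd h)
  · have hs := trSq_ne_of_torT p H x hx ht
    haveI := MqH_cyclic H x hx hs
    haveI := Subgroup.normal_of_index_eq_two hidx
    have hnorm : Subgroup.normalizer ((MqH H x : Subgroup H) : Set H) = ⊤ :=
      Subgroup.normalizer_eq_top (MqH H x)
    have hdih := dihedral_rec (MqH H x) inferInstance hidx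
      (fun s hs' => ht.2.1 s (by rw [hnorm]; trivial) hs')
    have hdvd := MqH_card_dvd H x
    left
    refine ⟨Nat.card (MqH H x), ?_, Or.inr hdih⟩
    rcases Mq_semi_card_dvd (x : PSL(2, F)) hs with h | h
    · exact Or.inl (dvd_trans hdvd h)
    · exact Or.inr (dvd_trans hdvd h)
  · exact Or.inr (Or.inr (Or.inl h))
  · exact Or.inr (Or.inr (Or.inr (Or.inl h)))
  · exact Or.inr (Or.inr (Or.inr (Or.inr (Or.inl h))))
  · have hx' : (x : PSL(2, F)) ≠ 1 := fun h => hx (Subtype.ext h)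
    have ht := trSq_eq_of_uniT p H x hx hu
    have hP : IsPGroup p (Mq (x : PSL(2, F))) := by
      intro c
      refine ⟨1, ?_⟩
      rw [pow_one]
      apply Subtype.ext
      have := Mq_unip_pow p _ _ hx' ht c.2
      simpa using this
    refine Or.inr (Or.inl ⟨⟨Mq (x : PSL(2, F)), hP, fun {Q} hQ hle =>
      le_antisymm (Mq_unip_max p _ hx' ht Q hQ hle) hle⟩, H, ?_, ⟨MulEquiv.refl _⟩⟩)
    intro h hh
    have : (⟨h, hh⟩ : H) ∈ Subgroup.normalizer ((MqH H x : Subgroup H) : Set H) := by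
      rw [hnorm]; trivial
    exact normalizer_MqH_le H x hx _ this
  · have ht := trSq_eq_of_uniT p H x hx hu
    obtain ⟨a₀, ha₀, hmem⟩ := hstd ⟨x, hx, ht⟩
    have hx₀1 : (⟨_, hmem⟩ : H) ≠ 1 := by
      intro h
      exact mk_uS_ne_one (F := F) ha₀ (congrArg Subtype.val h)
    have hu₀ : UniT p (MqH H) ⟨_, hmem⟩ := uniT_MqH p H _ hx₀1 (trSq_mk_uS a₀)
    have := dk_core_main H a₀ ha₀ ⟨_, hmem⟩ rfl (hall _ hx₀1 hu₀)
    exact Or.inr (Or.inr (Or.inr (Or.inr (Or.inr this))))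

/-- Dickson's theorem on the subgroups of `PSL₂(q)`. -/
theorem dk_final (p : ℕ) [Fact p.Prime] [CharP F p] (H : Subgroup PSL(2, F)) : DkConcl p H := by
  by_cases hU : ∃ y : H, y ≠ 1 ∧ trSq (y : PSL(2, F)) = 4
  · obtain ⟨y, hy, ht⟩ := hU
    have hy' : (y : PSL(2, F)) ≠ 1 := fun h => hy (Subtype.ext h)
    obtain ⟨g, hg⟩ := QuotientGroup.mk_surjective (y : PSL(2, F))
    rw [← hg, trSq_mk] at ht
    rw [← hg, PSL2_mk_ne_one_iff] at hy'
    obtain ⟨k, a, ha, hka⟩ := SL2_unip_form g hy' ht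
    obtain ⟨c, hc⟩ : ∃ c : MulAut PSL(2, F),
        c = MulAut.conj (QuotientGroup.mk k : PSL(2, F))⁻¹ := ⟨_, rfl⟩
    have e : H ≃* H.map c.toMonoidHom := Subgroup.equivMapOfInjective H c.toMonoidHom c.injective
    apply DkConcl_of_equiv p e
    apply dk_core p
    intro _
    refine ⟨a, ha, ⟨(y : PSL(2, F)), y.2, ?_⟩⟩
    rw [← hg, hka, hc]
    show (QuotientGroup.mk k : PSL(2, F))⁻¹ * QuotientGroup.mk (k * uS a * k⁻¹) *
      ((QuotientGroup.mk k : PSL(2, F))⁻¹)⁻¹ = QuotientGroup.mk (uS a)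
    have : (QuotientGroup.mk (k * uS a * k⁻¹) : PSL(2, F)) =
        QuotientGroup.mk k * QuotientGroup.mk (uS a) * (QuotientGroup.mk k)⁻¹ := rfl
    rw [this]
    group
  · exact dk_core p H (fun h => absurd h hU)

end dkfinal

end Cfsg.Agent.Lib.helper12
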