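import Cfsg.Agent.Lib.helper12.GL2Char

set_option autoImplicit false

namespace Cfsg.Agent.Lib.helper12

open Matrix Cfsg Cfsg.Agent.Lib.helper24
open scoped ComplexConjugate

section borelSL

variable {F : Type*} [Field F]

/-- The Borel subgroup of `SL₂`. -/
abbrev borelSL (F : Type*) [Field F] : Subgroup (Matrix.SpecialLinearGroup (Fin 2) F) :=
  (Cfsg.upperTriangularGL 2 F).comap Matrix.SpecialLinearGroup.toGL

theorem mem_borelSL_iff (x : Matrix.SpecialLinearGroup (Fin 2) F) :
    x ∈ borelSL F ↔ (x : Matrix (Fin 2) (Fin 2) F) 1 0 = 0 := by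
  rw [Subgroup.mem_comap, mem_upperTriangularGL_two_iff]
  rfl

theorem borelSL_apply_one_zero (b : ↥(borelSL F)) :
    ((b : Matrix.SpecialLinearGroup (Fin 2) F) : Matrix (Fin 2) (Fin 2) F) 1 0 = 0 :=
  (mem_borelSL_iff _).mp b.2

theorem borelSL_diag_mul (b : ↥(borelSL F)) :
    ((b : Matrix.SpecialLinearGroup (Fin 2) F) : Matrix (Fin 2) (Fin 2) F) 0 0 *
      ((b : Matrix.SpecialLinearGroup (Fin 2) F) : Matrix (Fin 2) (Fin 2) F) 1 1 = 1 := by
  have h := SL2_det_eq (b : Matrix.SpecialLinearGroup (Fin 2) F)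
  rw [borelSL_apply_one_zero, mul_zero, sub_zero] at h
  exact h

/-- The top left entry, as a homomorphism from the Borel subgroup of `SL₂`. -/
noncomputable def borelSLDiag : ↥(borelSL F) →* Fˣ where
  toFun b := Units.mk0 (((b : Matrix.SpecialLinearGroup (Fin 2) F) : Matrix (Fin 2) (Fin 2) F) 0 0)
    (left_ne_zero_of_mul_eq_one (borelSL_diag_mul b))
  map_one' := by
    ext
    simp
  map_mul' b b' := by
    ext
    have h2 := borelSL_apply_one_zero b'
    simp [Matrix.mul_apply, Fin.sum_univ_two, h2]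

/-- The linear character `b ↦ α(b₀₀)` of the Borel subgroup of `SL₂`. -/
noncomputable def borelSLChar (α : MulChar F ℂ) : ↥(borelSL F) → ℂ :=
  fun b => α (((b : Matrix.SpecialLinearGroup (Fin 2) F) : Matrix (Fin 2) (Fin 2) F) 0 0)

theorem borelSLChar_isIrr (α : MulChar F ℂ) : IsIrrCharacter ↥(borelSL F) (borelSLChar α) := by
  have h := isIrrCharacter_of_hom (α.toUnitHom.comp (borelSLDiag (F := F)))
  have e : (fun g => (((α.toUnitHom.comp (borelSLDiag (F := F))) g : ℂˣ) : ℂ)) = borelSLChar α := by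
    funext b
    simp only [MonoidHom.comp_apply, MulChar.coe_toUnitHom]
    rfl
  rwa [e] at h

theorem borelSLChar_isClassFunction (α : MulChar F ℂ) :
    IsClassFunction ↥(borelSL F) (borelSLChar α) :=
  isCharacter_conj_class (isCharacter_of_isIrrCharacter (borelSLChar_isIrr α))

theorem SL2_coset_eq_iff (x y : Matrix.SpecialLinearGroup (Fin 2) F) :
    (x : Matrix.SpecialLinearGroup (Fin 2) F ⧸ borelSL F) = y ↔
      (x : Matrix (Fin 2) (Fin 2) F) 0 0 * (y : Matrix (Fin 2) (Fin 2) F) 1 0 -
        (x : Matrix (Fin 2) (Fin 2) F) 1 0 * (y : Matrix (Fin 2) (Fin 2) F) 0 0 = 0 := by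
  rw [QuotientGroup.eq, mem_borelSL_iff, Matrix.SpecialLinearGroup.coe_mul,
    Matrix.SpecialLinearGroup.coe_inv, Matrix.adjugate_fin_two]
  simp only [Matrix.mul_apply, Fin.sum_univ_two, Matrix.of_apply, Matrix.cons_val_zero,
    Matrix.cons_val_one]
  constructor
  · intro h
    linear_combination h
  · intro h
    linear_combination h

/-- Coset representatives of the Borel subgroup of `SL₂`. -/
def repSL : Option F → Matrix.SpecialLinearGroup (Fin 2) F
  | none => 1
  | some y => mkSL y (-1) 1 0 (by ring)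

theorem repSL_col (o : Option F) :
    ((repSL o : Matrix.SpecialLinearGroup (Fin 2) F) : Matrix (Fin 2) (Fin 2) F) 0 0 = colP1 o 0 ∧
      ((repSL o : Matrix.SpecialLinearGroup (Fin 2) F) : Matrix (Fin 2) (Fin 2) F) 1 0 = colP1 o 1 := by
  cases o <;> simp [repSL, colP1, mkSL_val]

theorem repSL_bijective :
    Function.Bijective (fun o : Option F =>
      (repSL o : Matrix.SpecialLinearGroup (Fin 2) F ⧸ borelSL F)) := by
  constructor
  · intro o o' h
    simp only at h
    rw [SL2_coset_eq_iff, (repSL_col o).1, (repSL_col o).2, (repSL_col o').1, (repSL_col o').2] at h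
    rcases o with _ | u <;> rcases o' with _ | v <;> simp [colP1] at h ⊢
    linear_combination h
  · intro c
    obtain ⟨y, rfl⟩ := QuotientGroup.mk_surjective c
    by_cases hy : (y : Matrix (Fin 2) (Fin 2) F) 1 0 = 0
    · refine ⟨none, ?_⟩
      simp only
      rw [SL2_coset_eq_iff, (repSL_col none).1, (repSL_col none).2]
      simp [colP1, hy]
    · refine ⟨some ((y : Matrix (Fin 2) (Fin 2) F) 0 0 / (y : Matrix (Fin 2) (Fin 2) F) 1 0), ?_⟩
      simp only
      rw [SL2_coset_eq_iff, (repSL_col (some _)).1, (repSL_col (some _)).2]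
      simp [colP1]
      field_simp
      ring

/-- Conjugating an upper triangular element of `SL₂` by the representative of a finite point. -/
theorem repSL_conj_borel (g : Matrix.SpecialLinearGroup (Fin 2) F)
    (h10 : (g : Matrix (Fin 2) (Fin 2) F) 1 0 = 0) (y : F) :
    (((repSL (some y))⁻¹ * g * repSL (some y) : Matrix.SpecialLinearGroup (Fin 2) F) :
        Matrix (Fin 2) (Fin 2) F) =
      !![(g : Matrix (Fin 2) (Fin 2) F) 1 1, 0;
        -(((g : Matrix (Fin 2) (Fin 2) F) 0 0 - (g : Matrix (Fin 2) (Fin 2) F) 1 1) * y +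
          (g : Matrix (Fin 2) (Fin 2) F) 0 1), (g : Matrix (Fin 2) (Fin 2) F) 0 0] := by
  rw [Matrix.SpecialLinearGroup.coe_mul, Matrix.SpecialLinearGroup.coe_mul,
    Matrix.SpecialLinearGroup.coe_inv, Matrix.adjugate_fin_two]
  simp only [repSL, mkSL_val]
  ext i j
  fin_cases i <;> fin_cases j <;>
    simp [Matrix.mul_apply, Fin.sum_univ_two, Matrix.vecMul, dotProduct, h10] <;> ring

/-- Elements of the Borel subgroup of `SL₂` from their entries. -/
noncomputable def borelSLMk (a : Fˣ) (z : F) : ↥(borelSL F) :=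
  ⟨mkSL (a : F) z 0 ((a⁻¹ : Fˣ) : F) (by simp), by
    rw [mem_borelSL_iff, mkSL_val]
    simp⟩

theorem borelSLMk_val (a : Fˣ) (z : F) :
    ((borelSLMk a z : Matrix.SpecialLinearGroup (Fin 2) F) : Matrix (Fin 2) (Fin 2) F) =
      !![(a : F), z; 0, ((a⁻¹ : Fˣ) : F)] := rfl

theorem borelSLMk_bijective :
    Function.Bijective (fun p : Fˣ × F => borelSLMk p.1 p.2) := by
  constructor
  · rintro ⟨a, z⟩ ⟨a', z'⟩ h
    have h' := congrArg (fun b : ↥(borelSL F) =>
      ((b : Matrix.SpecialLinearGroup (Fin 2) F) : Matrix (Fin 2) (Fin 2) F)) h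
    simp only [borelSLMk_val] at h'
    have h00 := congrFun (congrFun h' 0) 0
    have h01 := congrFun (congrFun h' 0) 1
    simp at h00 h01
    simp only [Prod.mk.injEq]
    exact ⟨Units.ext h00, h01⟩
  · intro b
    refine ⟨(borelSLDiag b, ((b : Matrix.SpecialLinearGroup (Fin 2) F) : Matrix (Fin 2) (Fin 2) F) 0 1), ?_⟩
    apply Subtype.ext
    have hd := borelSL_diag_mul b
    apply SL2_ext <;> simp only [borelSLMk_val]
    · rfl
    · simp
    · simp [borelSL_apply_one_zero]
    · simp only [Matrix.of_apply, Matrix.cons_val_one, Matrix.cons_val_zero]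
      rw [Units.val_inv_eq_inv_val]
      exact (eq_inv_of_mul_eq_one_right hd).symm

theorem borelSLChar_borelSLMk (α : MulChar F ℂ) (a : Fˣ) (z : F) :
    borelSLChar α (borelSLMk a z) = α (a : F) := by
  simp [borelSLChar, borelSLMk_val]

end borelSL

section finSL

variable {F : Type*} [Field F] [Fintype F] [DecidableEq F]

theorem sum_borelSL [Fintype ↥(borelSL F)] (Φ : ↥(borelSL F) → ℂ) :
    ∑ b, Φ b = ∑ a : Fˣ, ∑ z : F, Φ (borelSLMk a z) := by
  rw [← Fintype.sum_bijective _ borelSLMk_bijective (fun p : Fˣ × F => Φ (borelSLMk p.1 p.2)) Φ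
    (fun _ => rfl)]
  rw [Fintype.sum_prod_type]

theorem card_borelSL :
    Nat.card ↥(borelSL F) = (Fintype.card F - 1) * Fintype.card F := by
  rw [← Nat.card_congr (Equiv.ofBijective _ (borelSLMk_bijective (F := F)))]
  rw [Nat.card_eq_fintype_card, Fintype.card_prod, Fintype.card_units]

theorem indFun_borelSL_apply (θ : ↥(borelSL F) → ℂ)
    (hθ : IsClassFunction ↥(borelSL F) θ) (g : Matrix.SpecialLinearGroup (Fin 2) F) :
    indFun (borelSL F) θ g =
      ∑ o : Option F, extendByZero (borelSL F) θ ((repSL o)⁻¹ * g * repSL o) :=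
  indFun_eq_sum_transversal _ repSL repSL_bijective θ hθ g

/-- Value of a function induced from the Borel subgroup of `SL₂` at an element without eigenvector. -/
theorem indFun_borelSL_elliptic (θ : ↥(borelSL F) → ℂ)
    (hθ : IsClassFunction ↥(borelSL F) θ) (g : Matrix.SpecialLinearGroup (Fin 2) F)
    (hg : ∀ (c : F) (v : Fin 2 → F), v ≠ 0 → (g : Matrix (Fin 2) (Fin 2) F).mulVec v ≠ c • v) :
    indFun (borelSL F) θ g = 0 := by
  rw [indFun_borelSL_apply θ hθ]
  apply Finset.sum_eq_zero
  intro o _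
  apply extendByZero_apply_not_mem
  intro hmem
  have h1 : ((g * repSL o : Matrix.SpecialLinearGroup (Fin 2) F) :
      Matrix.SpecialLinearGroup (Fin 2) F ⧸ borelSL F) = repSL o := by
    rw [eq_comm, QuotientGroup.eq, ← mul_assoc]
    exact hmem
  rw [SL2_coset_eq_iff, Matrix.SpecialLinearGroup.coe_mul] at h1
  simp only [Matrix.mul_apply, Fin.sum_univ_two, (repSL_col o).1, (repSL_col o).2] at h1
  have h2 : Qf (g : Matrix (Fin 2) (Fin 2) F) (colP1 o) = 0 := by
    simp only [Qf]
    linear_combination -h1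
  obtain ⟨c, hc⟩ := exists_eigen_of_Qf_eq_zero _ _ (colP1_ne_zero o) h2
  exact hg c _ (colP1_ne_zero o) hc

/-- Value of the principal series function of `SL₂` at an upper triangular element. -/
theorem RSL_apply_upper (α : MulChar F ℂ) (g : Matrix.SpecialLinearGroup (Fin 2) F)
    (h10 : (g : Matrix (Fin 2) (Fin 2) F) 1 0 = 0) :
    indFun (borelSL F) (borelSLChar α) g =
      α ((g : Matrix (Fin 2) (Fin 2) F) 0 0) +
      ∑ y : F, if ((g : Matrix (Fin 2) (Fin 2) F) 0 0 - (g : Matrix (Fin 2) (Fin 2) F) 1 1) * y +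
          (g : Matrix (Fin 2) (Fin 2) F) 0 1 = 0 then
        α ((g : Matrix (Fin 2) (Fin 2) F) 1 1) else 0 := by
  rw [indFun_borelSL_apply _ (borelSLChar_isClassFunction α), Fintype.sum_option]
  congr 1
  · have h1 : (repSL (none : Option F))⁻¹ * g * repSL none = g := by simp [repSL]
    rw [h1, extendByZero_apply_mem _ _ ((mem_borelSL_iff g).mpr h10)]
    rfl
  · apply Finset.sum_congr rfl
    intro y _
    have hc := repSL_conj_borel g h10 y
    split_ifs with hy
    · have hmem : (repSL (some y))⁻¹ * g * repSL (some y) ∈ borelSL F := by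
        rw [mem_borelSL_iff, hc]
        simp only [Matrix.of_apply, Matrix.cons_val_one, Matrix.cons_val_zero]
        rw [hy, neg_zero]
      rw [extendByZero_apply_mem _ _ hmem]
      simp only [borelSLChar, hc]
      simp
    · apply extendByZero_apply_not_mem
      intro hmem
      rw [mem_borelSL_iff, hc] at hmem
      apply hy
      simp only [Matrix.of_apply, Matrix.cons_val_one, Matrix.cons_val_zero] at hmem
      exact neg_eq_zero.mp hmem

theorem RSL_inner_aux (α β : MulChar F ℂ) (a : Fˣ) :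
    ∑ z : F, borelSLChar α (borelSLMk a z) *
        conj (indFun (borelSL F) (borelSLChar β) (borelSLMk a z : Matrix.SpecialLinearGroup (Fin 2) F)) =
      (Fintype.card F : ℂ) * (α (a : F) * conj (β (a : F))) +
      (Fintype.card F : ℂ) * (α (a : F) * conj (β⁻¹ (a : F))) := by
  have hval : ∀ z : F, indFun (borelSL F) (borelSLChar β) (borelSLMk a z : Matrix.SpecialLinearGroup (Fin 2) F) =
      β (a : F) + ∑ y : F, if ((a : F) - ((a⁻¹ : Fˣ) : F)) * y + z = 0 then β⁻¹ (a : F) else 0 := by
    intro z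
    have := RSL_apply_upper β (borelSLMk a z : Matrix.SpecialLinearGroup (Fin 2) F) (by simp [borelSLMk_val])
    simpa [borelSLMk_val, MulChar.inv_apply'] using this
  have h1 : ∀ z : F, α (a : F) *
      conj (β (a : F) + ∑ y : F, if ((a : F) - ((a⁻¹ : Fˣ) : F)) * y + z = 0 then β⁻¹ (a : F) else 0)
      = α (a : F) * conj (β (a : F)) +
        ∑ y : F, if ((a : F) - ((a⁻¹ : Fˣ) : F)) * y + z = 0 then α (a : F) * conj (β⁻¹ (a : F)) else 0 := by
    intro z
    rw [map_add, map_sum, mul_add, Finset.mul_sum]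
    congr 1
    apply Finset.sum_congr rfl
    intro y _
    split_ifs <;> simp
  simp only [hval, borelSLChar_borelSLMk, h1]
  rw [Finset.sum_add_distrib, sum_sum_ite_affine]
  simp only [Finset.sum_const, Finset.card_univ, nsmul_eq_mul]

/-- Mackey formula for the principal series of `SL₂`. -/
theorem RSL_inner (α β : MulChar F ℂ) [Decidable (α = β)] [Decidable (α = β⁻¹)] :
    classInner (indFun (borelSL F) (borelSLChar α)) (indFun (borelSL F) (borelSLChar β)) =
      (if α = β then 1 else 0) + (if α = β⁻¹ then 1 else 0) := by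
  classical
  have := Fintype.ofFinite ↥(borelSL F)
  rw [frobenius_reciprocity _ _ (indFun_isClassFunction _ _)]
  unfold classInner
  rw [sum_borelSL]
  simp only [RSL_inner_aux]
  simp only [Finset.sum_add_distrib, ← Finset.mul_sum, mulChar_orth]
  rw [card_borelSL]
  have hq : (2 : ℕ) ≤ Fintype.card F := Fintype.one_lt_card
  have hq1 : ((Fintype.card F : ℂ) - 1) ≠ 0 := by
    have : (Fintype.card F : ℂ) ≠ 1 := by exact_mod_cast (by omega : Fintype.card F ≠ 1)
    exact sub_ne_zero.mpr this
  have hq0 : (Fintype.card F : ℂ) ≠ 0 := by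
    have : (0 : ℕ) < Fintype.card F := by omega
    exact_mod_cast this.ne'
  push_cast
  rw [Nat.cast_sub (by omega)]
  push_cast
  split_ifs <;> first | (field_simp; ring) | field_simp

end finSL

end Cfsg.Agent.Lib.helper12
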