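import Mathlib
import Cfsg.Agent.Lib.helper12.PSL2Klein
import Cfsg.Agent.Lib.helper12.SL2Syl

set_option autoImplicit false

namespace Cfsg.Agent.Lib.helper12

section gen

variable {G : Type*} [Group G] [Finite G]

/-- Normalisers of Sylow subgroups have the same order. -/
theorem sylow_card_normalizer_eq (p : ℕ) [Fact p.Prime] (P Q : Sylow p G) :
    Nat.card (Subgroup.normalizer ((P : Subgroup G) : Set G)) =
      Nat.card (Subgroup.normalizer ((Q : Subgroup G) : Set G)) := by
  have h1 : Nat.card (Sylow p G) = (Subgroup.normalizer ((P : Subgroup G) : Set G)).index :=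
    P.card_eq_index_normalizer
  have h2 : Nat.card (Sylow p G) = (Subgroup.normalizer ((Q : Subgroup G) : Set G)).index :=
    Q.card_eq_index_normalizer
  have h3 := Subgroup.card_mul_index (Subgroup.normalizer ((P : Subgroup G) : Set G))
  have h4 := Subgroup.card_mul_index (Subgroup.normalizer ((Q : Subgroup G) : Set G))
  rw [← h1] at h3
  rw [← h2] at h4
  exact Nat.eq_of_mul_eq_mul_right Nat.card_pos (h3.trans h4.symm)

/-- If one Sylow subgroup is self-normalising, all are. -/
theorem sylow_normalizer_eq_self (p : ℕ) [Fact p.Prime] (P Q : Sylow p G)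
    (hQ : Subgroup.normalizer ((Q : Subgroup G) : Set G) = Q) :
    Subgroup.normalizer ((P : Subgroup G) : Set G) = P := by
  symm
  apply Subgroup.eq_of_le_of_card_ge Subgroup.le_normalizer
  rw [sylow_card_normalizer_eq p P Q, hQ, P.card_eq_multiplicity, Q.card_eq_multiplicity]

/-- The quaternion group of order `4 * 2 ^ k`, `k ≥ 1`, is not abelian. -/
theorem quaternion_noncomm (k : ℕ) (hk : 1 ≤ k) :
    ∃ x y : QuaternionGroup (2 ^ k), x * y ≠ y * x := by
  refine ⟨QuaternionGroup.a 1, QuaternionGroup.xa 0, ?_⟩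
  rw [QuaternionGroup.a_mul_xa, QuaternionGroup.xa_mul_a]
  intro h
  have h1 : ((0 : ZMod (2 * 2 ^ k)) - 1) = 0 + 1 := by
    injection h
  have h2 : ((2 : ℕ) : ZMod (2 * 2 ^ k)) = 0 := by
    push_cast
    linear_combination -h1
  rw [ZMod.natCast_eq_zero_iff] at h2
  have h3 : 2 * 2 ^ 1 ≤ 2 * 2 ^ k := Nat.mul_le_mul_left 2 (Nat.pow_le_pow_right (by norm_num) hk)
  have := Nat.le_of_dvd (by norm_num) h2
  omega

end gen

section sl

variable {F : Type*} [Field F] [Fintype F]

/-- A Sylow `2`-subgroup of `SL₂(q)`, `q` odd, is not abelian. -/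
theorem SL2_sylow_two_noncomm (hodd : Fintype.card F % 2 = 1)
    (S : Sylow 2 (Matrix.SpecialLinearGroup (Fin 2) F)) :
    ∃ x y : Matrix.SpecialLinearGroup (Fin 2) F, x ∈ S ∧ y ∈ S ∧ x * y ≠ y * x := by
  obtain ⟨k, hk, ⟨e⟩⟩ := SL2_sylow_two_quat hodd S
  obtain ⟨x, y, hxy⟩ := quaternion_noncomm k hk
  refine ⟨(e.symm x : Matrix.SpecialLinearGroup (Fin 2) F), (e.symm y :
    Matrix.SpecialLinearGroup (Fin 2) F), (e.symm x).2, (e.symm y).2, ?_⟩
  intro h
  apply hxy
  have h' : e.symm x * e.symm y = e.symm y * e.symm x := Subtype.ext h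
  rw [← map_mul, ← map_mul] at h'
  exact e.symm.injective h'

/-- The centraliser of a Sylow `2`-subgroup of `SL₂(q)`, `q` odd, is the centre. -/
theorem SL2_centralizer_sylow_two (hodd : Fintype.card F % 2 = 1)
    (S : Sylow 2 (Matrix.SpecialLinearGroup (Fin 2) F)) :
    Subgroup.centralizer ((S : Subgroup (Matrix.SpecialLinearGroup (Fin 2) F)) :
        Set (Matrix.SpecialLinearGroup (Fin 2) F)) =
      Subgroup.center (Matrix.SpecialLinearGroup (Fin 2) F) := by
  apply le_antisymm _ (Subgroup.center_le_centralizer _)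
  intro c hc
  obtain ⟨x, y, hx, hy, hxy⟩ := SL2_sylow_two_noncomm hodd S
  rw [Subgroup.mem_centralizer_iff] at hc
  have hcx := hc x hx
  have hcy := hc y hy
  have hxns : ¬ ∃ a : F, (x : Matrix (Fin 2) (Fin 2) F) = a • (1 : Matrix (Fin 2) (Fin 2) F) := by
    intro hs
    apply hxy
    exact (Subgroup.mem_center_iff.mp ((SL2_mem_center_iff x).mpr hs) y).symm
  have hcx' : (c : Matrix (Fin 2) (Fin 2) F) * (x : Matrix (Fin 2) (Fin 2) F) =
      (x : Matrix (Fin 2) (Fin 2) F) * (c : Matrix (Fin 2) (Fin 2) F) := by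
    rw [← Matrix.SpecialLinearGroup.coe_mul, ← hcx, Matrix.SpecialLinearGroup.coe_mul]
  have hcy' : (c : Matrix (Fin 2) (Fin 2) F) * (y : Matrix (Fin 2) (Fin 2) F) =
      (y : Matrix (Fin 2) (Fin 2) F) * (c : Matrix (Fin 2) (Fin 2) F) := by
    rw [← Matrix.SpecialLinearGroup.coe_mul, ← hcy, Matrix.SpecialLinearGroup.coe_mul]
  obtain ⟨α, β, hαβ⟩ := (comm_iff_exists_smul (x : Matrix (Fin 2) (Fin 2) F)
      (c : Matrix (Fin 2) (Fin 2) F) hxns).mp hcx'
  rw [SL2_mem_center_iff]
  refine ⟨α, ?_⟩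
  rw [hαβ] at hcy'
  simp only [add_mul, mul_add, smul_mul_assoc, mul_smul_comm, one_mul, mul_one] at hcy'
  have h1 : β • ((x : Matrix (Fin 2) (Fin 2) F) * (y : Matrix (Fin 2) (Fin 2) F)) =
      β • ((y : Matrix (Fin 2) (Fin 2) F) * (x : Matrix (Fin 2) (Fin 2) F)) :=
    add_left_cancel hcy'
  have hβ : β = 0 := by
    by_contra hβ
    apply hxy
    apply Subtype.ext
    rw [Matrix.SpecialLinearGroup.coe_mul, Matrix.SpecialLinearGroup.coe_mul]
    have := congrArg (fun m => β⁻¹ • m) h1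
    simpa [smul_smul, inv_mul_cancel₀ hβ] using this
  rw [hαβ, hβ, zero_smul, add_zero]

/-- The centre of `SL₂(q)` lies in every Sylow `2`-subgroup. -/
theorem SL2_center_le_sylow_two (h2 : (2 : F) ≠ 0)
    (S : Sylow 2 (Matrix.SpecialLinearGroup (Fin 2) F)) :
    Subgroup.center (Matrix.SpecialLinearGroup (Fin 2) F) ≤ S := by
  apply IsPGroup.le_sylow_of_normal
  apply IsPGroup.of_card (n := 1)
  rw [card_center_SL2_odd h2, pow_one]

theorem SL2_sylow_eq_comap (h2 : (2 : F) ≠ 0)
    (S : Sylow 2 (Matrix.SpecialLinearGroup (Fin 2) F)) :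
    ((S : Subgroup (Matrix.SpecialLinearGroup (Fin 2) F)).map
        (QuotientGroup.mk' (Subgroup.center (Matrix.SpecialLinearGroup (Fin 2) F)))).comap
        (QuotientGroup.mk' (Subgroup.center (Matrix.SpecialLinearGroup (Fin 2) F))) = S := by
  rw [Subgroup.comap_map_eq, QuotientGroup.ker_mk', sup_of_le_left (SL2_center_le_sylow_two h2 S)]

theorem SL2_normalizer_sylow_eq_comap (h2 : (2 : F) ≠ 0)
    (S : Sylow 2 (Matrix.SpecialLinearGroup (Fin 2) F)) :
    Subgroup.normalizer ((S : Subgroup (Matrix.SpecialLinearGroup (Fin 2) F)) :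
        Set (Matrix.SpecialLinearGroup (Fin 2) F)) =
      (Subgroup.normalizer (((S : Subgroup (Matrix.SpecialLinearGroup (Fin 2) F)).map
        (QuotientGroup.mk' (Subgroup.center (Matrix.SpecialLinearGroup (Fin 2) F))) :
          Subgroup (Matrix.ProjectiveSpecialLinearGroup (Fin 2) F)) :
          Set (Matrix.ProjectiveSpecialLinearGroup (Fin 2) F))).comap
        (QuotientGroup.mk' (Subgroup.center (Matrix.SpecialLinearGroup (Fin 2) F))) := by
  rw [Subgroup.comap_normalizer_eq_of_surjective _ (QuotientGroup.mk'_surjective _),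
    SL2_sylow_eq_comap h2 S]

/-- `q ≡ ±1 mod 8`: Sylow `2`-subgroups of `SL₂(q)` are self-normalising. -/
theorem SL2_normalizer_sylow_two_of_mod_eight (hodd : Fintype.card F % 2 = 1)
    (h8 : Fintype.card F % 8 = 1 ∨ Fintype.card F % 8 = 7)
    (S : Sylow 2 (Matrix.SpecialLinearGroup (Fin 2) F)) :
    Subgroup.normalizer ((S : Subgroup (Matrix.SpecialLinearGroup (Fin 2) F)) :
        Set (Matrix.SpecialLinearGroup (Fin 2) F)) = S := by
  have h2 : (2 : F) ≠ 0 := two_ne_zero_of_card_odd hodd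
  have h16 : 16 ∣ Fintype.card F ^ 2 - 1 := by
    have hq : 2 ≤ Fintype.card F := Fintype.one_lt_card
    rw [sq_sub_one_factor _ hq]
    rcases h8 with h | h
    · obtain ⟨a, ha⟩ : 8 ∣ Fintype.card F - 1 := by omega
      obtain ⟨b, hb⟩ : 2 ∣ Fintype.card F + 1 := by omega
      rw [ha, hb]
      exact ⟨a * b, by ring⟩
    · obtain ⟨a, ha⟩ : 2 ∣ Fintype.card F - 1 := by omega
      obtain ⟨b, hb⟩ : 8 ∣ Fintype.card F + 1 := by omega
      rw [ha, hb]
      exact ⟨a * b, by ring⟩
  obtain ⟨S0, z, hcard, -, -, -, -, -, hnorm⟩ := PSL2_fusion_data hodd h16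
  have : Fact (Nat.Prime 2) := ⟨Nat.prime_two⟩
  have hN := sylow_normalizer_eq_self 2
    (S.mapSurjective (QuotientGroup.mk'_surjective
      (Subgroup.center (Matrix.SpecialLinearGroup (Fin 2) F)))) (Sylow.ofCard S0 hcard) hnorm
  rw [SL2_normalizer_sylow_eq_comap h2 S]
  rw [Sylow.coe_mapSurjective] at hN
  rw [hN]
  exact SL2_sylow_eq_comap h2 S

/-- `q ≡ ±3 mod 8`: a Sylow `2`-subgroup of `SL₂(q)` has index `3` in its normaliser. -/
theorem SL2_card_normalizer_sylow_two_of_mod_eight (hodd : Fintype.card F % 2 = 1)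
    (h8 : Fintype.card F % 8 = 3 ∨ Fintype.card F % 8 = 5)
    (S : Sylow 2 (Matrix.SpecialLinearGroup (Fin 2) F)) :
    Nat.card (Subgroup.normalizer ((S : Subgroup (Matrix.SpecialLinearGroup (Fin 2) F)) :
        Set (Matrix.SpecialLinearGroup (Fin 2) F))) = 3 * Nat.card S := by
  classical
  have h2 : (2 : F) ≠ 0 := two_ne_zero_of_card_odd hodd
  have : Fact (Nat.Prime 2) := ⟨Nat.prime_two⟩
  set P := S.mapSurjective (QuotientGroup.mk'_surjective
      (Subgroup.center (Matrix.SpecialLinearGroup (Fin 2) F))) with hP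
  have hklein : ∀ Q : Sylow 2 (Matrix.ProjectiveSpecialLinearGroup (Fin 2) F),
      IsKleinFour (Q : Subgroup (Matrix.ProjectiveSpecialLinearGroup (Fin 2) F)) :=
    fun Q => PSL2_sylow_two_klein rfl h8 Q
  -- Sylow subgroups are exactly the Klein four-subgroups
  have hbij : Nat.card (Sylow 2 (Matrix.ProjectiveSpecialLinearGroup (Fin 2) F)) =
      Nat.card {V : Subgroup (Matrix.ProjectiveSpecialLinearGroup (Fin 2) F) // IsKleinFour V} := by
    apply Nat.card_congr
    apply Equiv.ofBijective (fun Q => ⟨(Q : Subgroup (Matrix.ProjectiveSpecialLinearGroup (Fin 2) F)),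
      hklein Q⟩)
    constructor
    · intro Q1 Q2 h
      exact Sylow.ext (congrArg Subtype.val h)
    · rintro ⟨V, hV⟩
      have hVp : IsPGroup 2 V := IsPGroup.of_card (n := 2) (by rw [hV.card_four]; norm_num)
      obtain ⟨Q, hQ⟩ := hVp.exists_le_sylow
      refine ⟨Q, Subtype.ext ?_⟩
      symm
      apply Subgroup.eq_of_le_of_card_ge hQ
      rw [(hklein Q).card_four, hV.card_four]
  have hcount := PSL2_klein_count h2
  have hidx : Nat.card (Sylow 2 (Matrix.ProjectiveSpecialLinearGroup (Fin 2) F)) =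
      (Subgroup.normalizer
        ((P : Subgroup (Matrix.ProjectiveSpecialLinearGroup (Fin 2) F)) :
          Set (Matrix.ProjectiveSpecialLinearGroup (Fin 2) F))).index :=
    P.card_eq_index_normalizer
  rw [← hbij, hidx] at hcount
  have h3 := Subgroup.card_mul_index (Subgroup.normalizer
    ((P : Subgroup (Matrix.ProjectiveSpecialLinearGroup (Fin 2) F)) :
      Set (Matrix.ProjectiveSpecialLinearGroup (Fin 2) F)))
  rw [← hcount] at h3
  have hpos : 0 < (Subgroup.normalizer
    ((P : Subgroup (Matrix.ProjectiveSpecialLinearGroup (Fin 2) F)) :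
      Set (Matrix.ProjectiveSpecialLinearGroup (Fin 2) F))).index :=
    Nat.pos_of_ne_zero Subgroup.index_ne_zero_of_finite
  have hN12 : Nat.card (Subgroup.normalizer
    ((P : Subgroup (Matrix.ProjectiveSpecialLinearGroup (Fin 2) F)) :
      Set (Matrix.ProjectiveSpecialLinearGroup (Fin 2) F))) = 12 :=
    Nat.eq_of_mul_eq_mul_right hpos h3
  have hP4 : Nat.card (P : Subgroup (Matrix.ProjectiveSpecialLinearGroup (Fin 2) F)) = 4 :=
    (hklein P).card_four
  rw [hP, Sylow.coe_mapSurjective] at hN12 hP4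
  have hS : Nat.card (S : Subgroup (Matrix.SpecialLinearGroup (Fin 2) F)) = 8 := by
    have e := card_comap_mk' (Subgroup.center (Matrix.SpecialLinearGroup (Fin 2) F))
      ((S : Subgroup (Matrix.SpecialLinearGroup (Fin 2) F)).map
        (QuotientGroup.mk' (Subgroup.center (Matrix.SpecialLinearGroup (Fin 2) F))))
    rw [SL2_sylow_eq_comap h2 S, card_center_SL2_odd h2, hP4] at e
    exact e
  rw [SL2_normalizer_sylow_eq_comap h2 S, card_comap_mk', card_center_SL2_odd h2, hN12]
  have hS' : Nat.card S = 8 := hS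
  rw [hS']

end sl

end Cfsg.Agent.Lib.helper12
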