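import Mathlib
import Cfsg.Agent.Lib.helper12.DkFinal
import Cfsg.Agent.Lib.helper12.SL2Char
import Cfsg.Agent.Lib.helper12.SL2SylN
import Cfsg.Agent.Lib.helper12.GL2Syl
import Cfsg.Agent.Lib.helper2.SLCard

set_option autoImplicit false

namespace Cfsg.Agent.Lib.helper12

open scoped MatrixGroups

section dkord

variable {F : Type*} [Field F] [Fintype F]

theorem card_center_SL2_gen :
    Nat.card (Subgroup.center SL(2, F)) = Nat.gcd 2 (Fintype.card F - 1) := by
  rcases card_parity_cases (F := F) with ⟨h2, -, hgcd⟩ | ⟨h2, -, hgcd⟩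
  · rw [hgcd, card_center_SL2_odd h2]
  · rw [hgcd]
    have : Subgroup.center SL(2, F) = ⊥ := by
      rw [Subgroup.eq_bot_iff_forall]
      intro c hc
      rw [SL2_mem_center_iff] at hc
      exact SL2_eq_one_of_scalar_char_two h2 c hc
    rw [this]
    exact Subgroup.card_bot

theorem card_PSL2_gen :
    Nat.gcd 2 (Fintype.card F - 1) * Nat.card PSL(2, F) =
      Fintype.card F * (Fintype.card F ^ 2 - 1) := by
  have h := Subgroup.card_eq_card_quotient_mul_card_subgroup (Subgroup.center SL(2, F))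
  rw [card_SL2, card_center_SL2_gen] at h
  rw [h]
  exact mul_comm _ _

theorem comap_normalizer_uS {a : F} (ha : a ≠ 0) :
    (Subgroup.normalizer ((Mq (QuotientGroup.mk (uS a) : PSL(2, F))) : Set PSL(2, F))).comap
      (QuotientGroup.mk' (Subgroup.center SL(2, F))) = borelSL F := by
  ext ν
  rw [Subgroup.mem_comap, mem_borelSL_iff]
  exact mk_mem_normalizer_uS_iff ha ν

theorem card_normalizer_uS {a : F} (ha : a ≠ 0) :
    Nat.gcd 2 (Fintype.card F - 1) * Nat.card (Subgroup.normalizer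
      ((Mq (QuotientGroup.mk (uS a) : PSL(2, F))) : Set PSL(2, F))) =
      Fintype.card F * (Fintype.card F - 1) := by
  classical
  have h := card_comap_mk' (Subgroup.center SL(2, F)) (Subgroup.normalizer
      ((Mq (QuotientGroup.mk (uS a) : PSL(2, F))) : Set PSL(2, F)))
  rw [comap_normalizer_uS ha, card_borelSL, card_center_SL2_gen] at h
  rw [← h]
  ring

theorem card_normalizer_Mq_unip (x : PSL(2, F)) (hx : x ≠ 1) (ht : trSq x = 4) :
    Nat.gcd 2 (Fintype.card F - 1) * Nat.card (Subgroup.normalizer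
      ((Mq x : Subgroup PSL(2, F)) : Set PSL(2, F))) =
      Fintype.card F * (Fintype.card F - 1) := by
  obtain ⟨g, rfl⟩ := QuotientGroup.mk_surjective x
  rw [trSq_mk] at ht
  rw [PSL2_mk_ne_one_iff] at hx
  obtain ⟨k, a, ha, -, e⟩ := Mq_unip_conj g hx ht
  rw [e, ← Subgroup.map_equiv_normalizer_eq,
    Subgroup.card_map_of_injective (MulAut.conj (QuotientGroup.mk k : PSL(2, F))).injective]
  exact card_normalizer_uS ha

theorem card_Mq_unip (x : PSL(2, F)) (hx : x ≠ 1) (ht : trSq x = 4) :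
    Nat.card (Mq x) = Fintype.card F := by
  obtain ⟨g, rfl⟩ := QuotientGroup.mk_surjective x
  rw [trSq_mk] at ht
  rw [PSL2_mk_ne_one_iff] at hx
  rw [Mq_mk]
  rcases card_parity_cases (F := F) with ⟨h2, -, -⟩ | ⟨h2, -, -⟩
  · have h1 := PSL2_card_map_centralizer h2 g
    rw [card_centralizer_of_unip_odd h2 g hx ht] at h1
    exact Nat.eq_of_mul_eq_mul_left two_pos h1
  · rw [Subgroup.card_map_of_injective (PSL2_mk_injective_char_two h2)]
    exact card_centralizer_of_unip_char_two h2 g hx ht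

omit [Fintype F] in
theorem trSq_conj (g x : PSL(2, F)) : trSq (g * x * g⁻¹) = trSq x := by
  obtain ⟨γ, rfl⟩ := QuotientGroup.mk_surjective g
  obtain ⟨ξ, rfl⟩ := QuotientGroup.mk_surjective x
  have : ((QuotientGroup.mk γ : PSL(2, F)) * QuotientGroup.mk ξ * (QuotientGroup.mk γ)⁻¹ :
      PSL(2, F)) = QuotientGroup.mk (γ * ξ * γ⁻¹) := rfl
  rw [this, trSq_mk, trSq_mk]
  have e : ((γ * ξ * γ⁻¹ : SL(2, F)) : Matrix (Fin 2) (Fin 2) F).trace =
      (ξ : Matrix (Fin 2) (Fin 2) F).trace := by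
    rw [Matrix.SpecialLinearGroup.coe_mul, Matrix.trace_mul_comm,
      ← Matrix.SpecialLinearGroup.coe_mul, inv_mul_cancel_left]
  rw [e]

/-- The unipotent piece as a Sylow subgroup. -/
noncomputable def sylowMq (p : ℕ) [Fact p.Prime] [CharP F p] (x : PSL(2, F)) (hx : x ≠ 1)
    (ht : trSq x = 4) : Sylow p PSL(2, F) :=
  ⟨Mq x, by
    intro c
    refine ⟨1, ?_⟩
    rw [pow_one]
    apply Subtype.ext
    have := Mq_unip_pow p _ _ hx ht c.2
    simpa using this, fun {Q} hQ hle => le_antisymm (Mq_unip_max p _ hx ht Q hQ hle) hle⟩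

theorem sylowMq_coe (p : ℕ) [Fact p.Prime] [CharP F p] (x : PSL(2, F)) (hx : x ≠ 1)
    (ht : trSq x = 4) : ((sylowMq p x hx ht : Sylow p PSL(2, F)) : Subgroup PSL(2, F)) = Mq x := rfl

theorem sylow_eq_Mq (p : ℕ) [Fact p.Prime] [CharP F p] (P : Sylow p PSL(2, F)) :
    ∃ x : PSL(2, F), x ≠ 1 ∧ trSq x = 4 ∧ (P : Subgroup PSL(2, F)) = Mq x := by
  have hx₀ : (QuotientGroup.mk (uS (1 : F)) : PSL(2, F)) ≠ 1 := mk_uS_ne_one one_ne_zero
  have ht₀ := trSq_mk_uS (1 : F)
  obtain ⟨g, hg⟩ := sylow_exists_conj (sylowMq p _ hx₀ ht₀) P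
  refine ⟨g * QuotientGroup.mk (uS (1 : F)) * g⁻¹, conj_ne_one' hx₀, ?_, ?_⟩
  · rw [trSq_conj]; exact ht₀
  · rw [tiPart_Mq.conj g _ hx₀]
    ext y
    rw [mem_map_conj]
    exact hg y

theorem card_normalizer_sylow (p : ℕ) [Fact p.Prime] [CharP F p] (P : Sylow p PSL(2, F)) :
    Nat.gcd 2 (Fintype.card F - 1) * Nat.card (Subgroup.normalizer
      ((P : Subgroup PSL(2, F)) : Set PSL(2, F))) =
      Fintype.card F * (Fintype.card F - 1) := by
  obtain ⟨x, hx, ht, e⟩ := sylow_eq_Mq p P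
  rw [e]
  exact card_normalizer_Mq_unip x hx ht

theorem sylow_normalizer_hom (p : ℕ) [Fact p.Prime] [CharP F p] (P : Sylow p PSL(2, F)) :
    ∃ f : Subgroup.normalizer ((P : Subgroup PSL(2, F)) : Set PSL(2, F)) →* Fˣ,
      ∀ n, f n = 1 ↔ (n : PSL(2, F)) ∈ (P : Subgroup PSL(2, F)) := by
  obtain ⟨x, hx, ht, e⟩ := sylow_eq_Mq p P
  rw [e]
  exact Mq_unip_hom x hx ht

theorem card_PGL2 (K : Type*) [Field K] [Fintype K] :
    Nat.card (Matrix.ProjGenLinGroup (Fin 2) K) = Fintype.card K * (Fintype.card K ^ 2 - 1) := by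
  rw [Cfsg.Agent.Lib.helper2.SLCard.card_PGL, card_SL2]

end dkord

theorem card_alt4 : Nat.card (alternatingGroup (Fin 4)) = 12 := by
  have h := two_mul_card_alternatingGroup (α := Fin 4)
  rw [Fintype.card_perm, Fintype.card_fin] at h
  rw [Nat.card_eq_fintype_card]
  have : Nat.factorial 4 = 24 := by decide
  omega

theorem card_perm4 : Nat.card (Equiv.Perm (Fin 4)) = 24 := by
  rw [Nat.card_eq_fintype_card, Fintype.card_perm, Fintype.card_fin]
  decide

theorem card_alt5 : Nat.card (alternatingGroup (Fin 5)) = 60 := by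
  have h := two_mul_card_alternatingGroup (α := Fin 5)
  rw [Fintype.card_perm, Fintype.card_fin] at h
  rw [Nat.card_eq_fintype_card]
  have : Nat.factorial 5 = 120 := by decide
  omega

end Cfsg.Agent.Lib.helper12
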