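import Mathlib
import Cfsg.Agent.Lib.helper12.SubConj
import Cfsg.Agent.Lib.helper12.PSL2Klein
import Cfsg.Agent.Lib.helper12.SL2Syl

set_option autoImplicit false

namespace Cfsg.Agent.Lib.helper12

section gen

variable {G : Type*} [Group G]

theorem quat_comm_cases (z g h k : G) (hzc : ∀ c : G, c * z = z * c) (hzz : z * z = 1)
    (hgh : g * h = h * g * z) (hk1 : k * g = g * k ∨ g * k = k * g * z)
    (hk2 : k * h = h * k ∨ h * k = k * h * z) :
    ∃ u : G, (u = 1 ∨ u = g ∨ u = h ∨ u = g * h) ∧ (u * k) * g = g * (u * k) ∧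
      (u * k) * h = h * (u * k) := by
  have hhg : h * g = g * h * z := by rw [hgh, mul_assoc, hzz, mul_one]
  rcases hk1 with c1 | c1 <;> rcases hk2 with c2 | c2
  · exact ⟨1, Or.inl rfl, by rw [one_mul, c1], by rw [one_mul, c2]⟩
  · refine ⟨g, Or.inr (Or.inl rfl), by rw [mul_assoc, c1], ?_⟩
    calc g * k * h = g * k * h * (z * z) := by rw [hzz, mul_one]
      _ = g * (k * h * z) * z := by group
      _ = g * (h * k) * z := by rw [← c2]
      _ = g * h * (k * z) := by group
      _ = g * h * (z * k) := by rw [hzc k]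
      _ = (g * h * z) * k := by group
      _ = h * g * k := by rw [← hhg]
      _ = h * (g * k) := by group
  · refine ⟨h, Or.inr (Or.inr (Or.inl rfl)), ?_, by rw [mul_assoc, c2]⟩
    symm
    calc g * (h * k) = (g * h) * k := by group
      _ = h * g * z * k := by rw [hgh]
      _ = h * g * (z * k) := by group
      _ = h * g * (k * z) := by rw [← hzc k]
      _ = h * (g * k) * z := by group
      _ = h * (k * g * z) * z := by rw [c1]
      _ = h * k * g * (z * z) := by group
      _ = h * k * g := by rw [hzz, mul_one]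
  · refine ⟨g * h, Or.inr (Or.inr (Or.inr rfl)), ?_, ?_⟩
    · symm
      calc g * (g * h * k) = g * (g * h) * k := by group
        _ = g * (h * g * z) * k := by rw [hgh]
        _ = g * h * g * (z * k) := by group
        _ = g * h * g * (k * z) := by rw [← hzc k]
        _ = g * h * (g * k) * z := by group
        _ = g * h * (k * g * z) * z := by rw [c1]
        _ = g * h * k * g * (z * z) := by group
        _ = g * h * k * g := by rw [hzz, mul_one]
    · symm
      calc h * (g * h * k) = (h * g) * (h * k) := by group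
        _ = (g * h * z) * (k * h * z) := by rw [hhg, c2]
        _ = g * h * (z * k) * h * z := by group
        _ = g * h * (k * z) * h * z := by rw [← hzc k]
        _ = g * h * k * (z * h) * z := by group
        _ = g * h * k * (h * z) * z := by rw [← hzc h]
        _ = g * h * k * h * (z * z) := by group
        _ = g * h * k * h := by rw [hzz, mul_one]

/-- If all Sylow `2`-subgroups have order `4`, all subgroups of order `4` are conjugate. -/
theorem conj_of_card_four_of_sylow [Finite G] (hS : ∀ P : Sylow 2 G, Nat.card P = 4)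
    (V W : Subgroup G) (hV : Nat.card V = 4) (hW : Nat.card W = 4) :
    ∃ g : G, W = V.map (MulAut.conj g).toMonoidHom := by
  haveI : Fact (Nat.Prime 2) := ⟨Nat.prime_two⟩
  have hVp : IsPGroup 2 V := IsPGroup.of_card (n := 2) (by rw [hV]; norm_num)
  have hWp : IsPGroup 2 W := IsPGroup.of_card (n := 2) (by rw [hW]; norm_num)
  obtain ⟨P, hP⟩ := hVp.exists_le_sylow
  obtain ⟨Q, hQ⟩ := hWp.exists_le_sylow
  have hVP : V = P := Subgroup.eq_of_le_of_card_ge hP (by rw [hV]; exact (hS P).le)
  have hWQ : W = Q := Subgroup.eq_of_le_of_card_ge hQ (by rw [hW]; exact (hS Q).le)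
  obtain ⟨g, hg⟩ := MulAction.exists_smul_eq G P Q
  refine ⟨g, ?_⟩
  rw [hWQ, hVP, ← hg]
  ext x
  rw [mem_map_conj, Sylow.coe_subgroup_smul, Subgroup.mem_pointwise_smul_iff_inv_smul_mem]
  simp [MulAut.smul_def, mul_assoc]

/-- Counting criterion for exactly two classes of four-subgroups. -/
theorem klein_two_classes [Finite G]
    (h12 : 12 * Nat.card {V : Subgroup G // IsKleinFour V} = Nat.card G)
    (h8 : 8 ∣ Nat.card G)
    (h24 : ∀ V : Subgroup G, IsKleinFour V → Nat.card (Subgroup.normalizer (V : Set G)) ≤ 24) :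
    ∃ V₁ V₂ : Subgroup G, IsKleinFour V₁ ∧ IsKleinFour V₂ ∧
      (¬ ∃ g : G, V₂ = V₁.map (MulAut.conj g).toMonoidHom) ∧
      ∀ W : Subgroup G, IsKleinFour W →
        (∃ g : G, W = V₁.map (MulAut.conj g).toMonoidHom) ∨
        (∃ g : G, W = V₂.map (MulAut.conj g).toMonoidHom) := by
  classical
  have hGpos : 0 < Nat.card G := Nat.card_pos
  have hK : 12 * Set.ncard {V : Subgroup G | IsKleinFour V} = Nat.card G := by
    rw [← h12]
    rfl
  have hcls : ∀ V : Subgroup G,
      Set.ncard {W : Subgroup G | ∃ g : G, W = V.map (MulAut.conj g).toMonoidHom} *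
        Nat.card (Subgroup.normalizer (V : Set G)) = Nat.card G := by
    intro V
    rw [← card_conjugates_mul V]
    rfl
  have hsub : ∀ V : Subgroup G, IsKleinFour V →
      {W : Subgroup G | ∃ g : G, W = V.map (MulAut.conj g).toMonoidHom} ⊆
        {V : Subgroup G | IsKleinFour V} := by
    rintro V hV W ⟨g, rfl⟩
    exact isKleinFour_map_conj V hV g
  have hN : ∀ V : Subgroup G, IsKleinFour V →
      Nat.card (Subgroup.normalizer (V : Set G)) = 16 ∨
        Nat.card (Subgroup.normalizer (V : Set G)) = 24 := by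
    intro V hV
    obtain ⟨m, hm⟩ := eight_dvd_card_normalizer V hV.card_four h8
    have h1 := h24 V hV
    have h2 := hcls V
    have h3 := Set.ncard_le_ncard (hsub V hV) (Set.toFinite _)
    have hm3 : m ≤ 3 := by omega
    rw [hm] at h2
    interval_cases m
    · omega
    · exfalso
      omega
    · left; omega
    · right; omega
  have hKpos : 0 < Set.ncard {V : Subgroup G | IsKleinFour V} := by omega
  obtain ⟨V₁, hV₁⟩ := (Set.ncard_pos (Set.toFinite _)).mp hKpos
  have hV₁' : IsKleinFour V₁ := hV₁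
  have hc1 := hcls V₁
  have hex : ∃ V₂ : Subgroup G, IsKleinFour V₂ ∧
      ¬ ∃ g : G, V₂ = V₁.map (MulAut.conj g).toMonoidHom := by
    by_contra hne
    push_neg at hne
    have heq : {W : Subgroup G | ∃ g : G, W = V₁.map (MulAut.conj g).toMonoidHom} =
        {V : Subgroup G | IsKleinFour V} :=
      Set.Subset.antisymm (hsub V₁ hV₁') (fun W hW => hne W hW)
    rw [heq] at hc1
    rcases hN V₁ hV₁' with h | h <;> rw [h] at hc1 <;> omega
  obtain ⟨V₂, hV₂, hnot⟩ := hex
  have hc2 := hcls V₂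
  have hdisj : Disjoint {W : Subgroup G | ∃ g : G, W = V₁.map (MulAut.conj g).toMonoidHom}
      {W : Subgroup G | ∃ g : G, W = V₂.map (MulAut.conj g).toMonoidHom} := by
    rw [Set.disjoint_left]
    rintro W ⟨g, hg⟩ ⟨h, hh⟩
    apply hnot
    refine ⟨h⁻¹ * g, ?_⟩
    rw [← map_conj_mul, ← hg, hh, map_conj_mul, inv_mul_cancel, map_conj_one]
  have hunion := Set.ncard_union_eq hdisj (Set.toFinite _) (Set.toFinite _)
  have hle := Set.ncard_le_ncard (Set.union_subset (hsub V₁ hV₁') (hsub V₂ hV₂))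
    (Set.toFinite _)
  have heq : {W : Subgroup G | ∃ g : G, W = V₁.map (MulAut.conj g).toMonoidHom} ∪
      {W : Subgroup G | ∃ g : G, W = V₂.map (MulAut.conj g).toMonoidHom} =
        {V : Subgroup G | IsKleinFour V} := by
    apply Set.eq_of_subset_of_ncard_le (Set.union_subset (hsub V₁ hV₁') (hsub V₂ hV₂)) _
      (Set.toFinite _)
    rw [hunion]
    rw [hunion] at hle
    rcases hN V₁ hV₁' with h | h <;> rcases hN V₂ hV₂ with h' | h' <;>
      rw [h] at hc1 <;> rw [h'] at hc2 <;> omega
  refine ⟨V₁, V₂, hV₁', hV₂, hnot, ?_⟩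
  intro W hW
  have : W ∈ {W : Subgroup G | ∃ g : G, W = V₁.map (MulAut.conj g).toMonoidHom} ∪
      {W : Subgroup G | ∃ g : G, W = V₂.map (MulAut.conj g).toMonoidHom} := by
    rw [heq]
    exact hW
  exact this

end gen

section psl

variable {F : Type*} [Field F]

theorem SL2_scalar_of_comm_anticomm (h2 : (2 : F) ≠ 0)
    (g h k : Matrix.SpecialLinearGroup (Fin 2) F)
    (hgh : g * h = h * g * signSL false) (hkg : k * g = g * k) (hkh : k * h = h * k) :
    ∃ c : F, (k : Matrix (Fin 2) (Fin 2) F) = c • (1 : Matrix (Fin 2) (Fin 2) F) := by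
  have hgns : ¬ ∃ a : F, (g : Matrix (Fin 2) (Fin 2) F) = a • (1 : Matrix (Fin 2) (Fin 2) F) := by
    intro hs
    have hc : g ∈ Subgroup.center (Matrix.SpecialLinearGroup (Fin 2) F) :=
      (SL2_mem_center_iff g).mpr hs
    have h3 : g * h = h * g := (Subgroup.mem_center_iff.mp hc h).symm
    rw [h3] at hgh
    exact signSL_false_ne_one h2 (by simpa using hgh.symm)
  have hkg' : (k : Matrix (Fin 2) (Fin 2) F) * (g : Matrix (Fin 2) (Fin 2) F) =
      (g : Matrix (Fin 2) (Fin 2) F) * (k : Matrix (Fin 2) (Fin 2) F) := by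
    rw [← Matrix.SpecialLinearGroup.coe_mul, hkg, Matrix.SpecialLinearGroup.coe_mul]
  obtain ⟨x, y, hxy⟩ := (comm_iff_exists_smul (g : Matrix (Fin 2) (Fin 2) F)
    (k : Matrix (Fin 2) (Fin 2) F) hgns).mp hkg'
  have hgh' : (h : Matrix (Fin 2) (Fin 2) F) * (g : Matrix (Fin 2) (Fin 2) F) =
      -((g : Matrix (Fin 2) (Fin 2) F) * (h : Matrix (Fin 2) (Fin 2) F)) := by
    rw [← Matrix.SpecialLinearGroup.coe_mul g h, hgh, Matrix.SpecialLinearGroup.coe_mul,
      signSL_val, Matrix.SpecialLinearGroup.coe_mul]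
    simp [sgnB]
  have hkh' : (k : Matrix (Fin 2) (Fin 2) F) * (h : Matrix (Fin 2) (Fin 2) F) =
      (h : Matrix (Fin 2) (Fin 2) F) * (k : Matrix (Fin 2) (Fin 2) F) := by
    rw [← Matrix.SpecialLinearGroup.coe_mul, hkh, Matrix.SpecialLinearGroup.coe_mul]
  rw [hxy] at hkh'
  have h3 : (2 * y) • ((g : Matrix (Fin 2) (Fin 2) F) * (h : Matrix (Fin 2) (Fin 2) F)) = 0 := by
    have h4 : y • ((g : Matrix (Fin 2) (Fin 2) F) * (h : Matrix (Fin 2) (Fin 2) F)) =
        y • ((h : Matrix (Fin 2) (Fin 2) F) * (g : Matrix (Fin 2) (Fin 2) F)) := by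
      simp only [add_mul, mul_add, smul_mul_assoc, mul_smul_comm, one_mul, mul_one] at hkh'
      exact add_left_cancel hkh'
    rw [hgh', smul_neg] at h4
    rw [mul_smul, two_smul]
    nth_rewrite 2 [h4]
    exact add_neg_cancel _
  have hy : y = 0 := by
    rcases smul_eq_zero.mp h3 with h6 | h6
    · exact (mul_eq_zero.mp h6).resolve_left h2
    · exfalso
      have hdet := (g * h).det_coe
      rw [Matrix.SpecialLinearGroup.coe_mul, h6] at hdet
      simp at hdet
  exact ⟨x, by rw [hxy, hy, zero_smul, add_zero]⟩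

/-- In `PSL₂`, odd characteristic, the centraliser of a four-group is the four-group. -/
theorem PSL2_comm_both_mem (h2 : (2 : F) ≠ 0)
    (a b : Matrix.ProjectiveSpecialLinearGroup (Fin 2) F)
    (ha1 : a ≠ 1) (haa : a * a = 1) (hb1 : b ≠ 1) (hbb : b * b = 1) (hab : a ≠ b)
    (hcomm : a * b = b * a) (x : Matrix.ProjectiveSpecialLinearGroup (Fin 2) F)
    (hxa : x * a = a * x) (hxb : x * b = b * x) : x = 1 ∨ x = a ∨ x = b ∨ x = a * b := by
  obtain ⟨g, rfl, hgg⟩ := PSL2_involution_lift h2 a ha1 haa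
  obtain ⟨h, rfl, hhh⟩ := PSL2_involution_lift h2 b hb1 hbb
  obtain ⟨k, rfl⟩ := QuotientGroup.mk_surjective x
  have hiff := (PSL2_commuting_involutions_iff h2 g hgg (QuotientGroup.mk h)).mp
    ⟨hb1, hbb, hab, hcomm⟩
  have hmemh : h ∈ (Subgroup.centralizer ({(QuotientGroup.mk g :
      Matrix.ProjectiveSpecialLinearGroup (Fin 2) F)} :
      Set (Matrix.ProjectiveSpecialLinearGroup (Fin 2) F))).comap
      (QuotientGroup.mk' (Subgroup.center (Matrix.SpecialLinearGroup (Fin 2) F))) := hiff.1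
  rw [mem_comap_centralizer_mk (signSL false) g h SL2_center_iff] at hmemh
  have hgh : g * h = h * g * signSL false := by
    rcases hmemh with hc | hc
    · exfalso
      exact hiff.2 ⟨h, Subgroup.mem_centralizer_singleton_iff.mpr hc, rfl⟩
    · exact hc
  have hmemk1 : k ∈ (Subgroup.centralizer ({(QuotientGroup.mk g :
      Matrix.ProjectiveSpecialLinearGroup (Fin 2) F)} :
      Set (Matrix.ProjectiveSpecialLinearGroup (Fin 2) F))).comap
      (QuotientGroup.mk' (Subgroup.center (Matrix.SpecialLinearGroup (Fin 2) F))) :=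
    Subgroup.mem_centralizer_singleton_iff.mpr hxa
  rw [mem_comap_centralizer_mk (signSL false) g k SL2_center_iff] at hmemk1
  have hmemk2 : k ∈ (Subgroup.centralizer ({(QuotientGroup.mk h :
      Matrix.ProjectiveSpecialLinearGroup (Fin 2) F)} :
      Set (Matrix.ProjectiveSpecialLinearGroup (Fin 2) F))).comap
      (QuotientGroup.mk' (Subgroup.center (Matrix.SpecialLinearGroup (Fin 2) F))) :=
    Subgroup.mem_centralizer_singleton_iff.mpr hxb
  rw [mem_comap_centralizer_mk (signSL false) h k SL2_center_iff] at hmemk2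
  obtain ⟨u, hu, hug, huh⟩ := quat_comm_cases (signSL false) g h k
    (fun c => signSL_central false c) signSL_false_mul_self hgh hmemk1 hmemk2
  have hsc := SL2_scalar_of_comm_anticomm h2 g h (u * k) hgh hug huh
  rw [← PSL2_mk_eq_one_iff, QuotientGroup.mk_mul] at hsc
  have hk : (QuotientGroup.mk k : Matrix.ProjectiveSpecialLinearGroup (Fin 2) F) =
      (QuotientGroup.mk u)⁻¹ := eq_inv_of_mul_eq_one_right hsc
  rw [hk]
  rcases hu with rfl | rfl | rfl | rfl
  · left
    simp
  · right; left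
    exact inv_eq_of_mul_eq_one_left haa
  · right; right; left
    exact inv_eq_of_mul_eq_one_left hbb
  · right; right; right
    rw [QuotientGroup.mk_mul, mul_inv_rev, inv_eq_of_mul_eq_one_left haa,
      inv_eq_of_mul_eq_one_left hbb, hcomm]

theorem PSL2_card_normalizer_klein_le [Fintype F] (h2 : (2 : F) ≠ 0)
    (V : Subgroup (Matrix.ProjectiveSpecialLinearGroup (Fin 2) F)) (hV : IsKleinFour V) :
    Nat.card (Subgroup.normalizer (V : Set (Matrix.ProjectiveSpecialLinearGroup (Fin 2) F))) ≤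
      24 := by
  have hT := card_klein_pairs V hV.card_four
  have hne : Nonempty {p : Matrix.ProjectiveSpecialLinearGroup (Fin 2) F ×
      Matrix.ProjectiveSpecialLinearGroup (Fin 2) F //
      p.1 ∈ V ∧ p.2 ∈ V ∧ p.1 ≠ 1 ∧ p.2 ≠ 1 ∧ p.1 ≠ p.2} := by
    by_contra hemp
    rw [not_nonempty_iff] at hemp
    rw [Nat.card_of_isEmpty] at hT
    omega
  obtain ⟨⟨⟨a, b⟩, ha, hb, ha1, hb1, hab⟩⟩ := hne
  have hpa := klein_mem_props V hV a b ha hb
  have hpb := klein_mem_props V hV b a hb ha
  apply card_normalizer_klein_le V hV a b ha hb ha1 hb1 hab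
  intro x hxa hxb
  rcases PSL2_comm_both_mem h2 a b ha1 hpa.1 hb1 hpb.1 hab hpa.2 x hxa hxb with
    rfl | rfl | rfl | rfl
  · exact one_mem V
  · exact ha
  · exact hb
  · exact mul_mem ha hb

end psl

end Cfsg.Agent.Lib.helper12
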