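import Mathlib
import Cfsg.Agent.Lib.helper12.PSL2KleinCls
import Cfsg.Agent.Lib.helper12.DkRec
import Cfsg.Agent.Lib.helper2.Ord12
import Cfsg.Agent.Lib.helper12.DkOrd

set_option autoImplicit false

namespace Cfsg.Agent.Lib.helper12

section kleinact

variable {G : Type*} [Group G]

/-- The nontrivial elements of a subgroup. -/
abbrev KS (V : Subgroup G) : Type _ := {v : G // v ∈ V ∧ v ≠ 1}

theorem card_KS (V : Subgroup G) (hV : Nat.card V = 4) : Nat.card (KS V) = 3 := by
  classical
  have hfin : Finite V := Nat.finite_of_card_ne_zero (by omega)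
  have hfin' : (V : Set G).Finite := Set.toFinite _
  have h1 : Nat.card (KS V) = ((V : Set G) \ {1}).ncard := by
    rw [← Nat.card_coe_set_eq]
    apply Nat.card_congr
    exact Equiv.subtypeEquivRight (fun v => by simp)
  rw [h1, Set.ncard_diff_singleton_of_mem (one_mem V), ← Nat.card_coe_set_eq]
  have : Nat.card ((V : Set G)) = Nat.card V := rfl
  rw [this, hV]

/-- Conjugation action of the normalizer on the nontrivial elements. -/
def kleinEnd (V : Subgroup G) :
    Subgroup.normalizer (V : Set G) →* Function.End (KS V) where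
  toFun n := fun s => ⟨(n : G) * s.1 * (n : G)⁻¹,
    ((Subgroup.mem_normalizer_iff.mp n.2) s.1).mp s.2.1, fun h => s.2.2 (by simpa using h)⟩
  map_one' := by
    funext s
    apply Subtype.ext
    show ((1 : Subgroup.normalizer (V : Set G)) : G) * s.1 *
      ((1 : Subgroup.normalizer (V : Set G)) : G)⁻¹ = s.1
    simp
  map_mul' n m := by
    funext s
    apply Subtype.ext
    show ((n * m : Subgroup.normalizer (V : Set G)) : G) * s.1 *
      ((n * m : Subgroup.normalizer (V : Set G)) : G)⁻¹ =
        (n : G) * ((m : G) * s.1 * (m : G)⁻¹) * (n : G)⁻¹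
    simp [mul_assoc]

def kleinPerm (V : Subgroup G) :
    Subgroup.normalizer (V : Set G) →* Equiv.Perm (KS V) :=
  MonoidHom.toHomPerm (kleinEnd V)

theorem kleinPerm_apply (V : Subgroup G) (n : Subgroup.normalizer (V : Set G)) (s : KS V) :
    ((kleinPerm V n s : KS V) : G) = (n : G) * s.1 * (n : G)⁻¹ := rfl

theorem perm3_cases : ∀ σ : Equiv.Perm (Fin 3), σ ^ 2 = 1 ∨ (σ ^ 3 = 1 ∧ ∀ i, σ i ≠ i) := by
  decide

theorem perm_card3_cases {S : Type*} (hS : Nat.card S = 3) (σ : Equiv.Perm S) :
    σ ^ 2 = 1 ∨ (σ ^ 3 = 1 ∧ ∀ i, σ i ≠ i) := by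
  have hfin : Finite S := Nat.finite_of_card_ne_zero (by omega)
  let e : S ≃ Fin 3 := Finite.equivFinOfCardEq hS
  rcases perm3_cases (e.permCongrHom σ) with h | ⟨h, h'⟩
  · left
    apply e.permCongrHom.injective
    rw [map_pow, h, map_one]
  · right
    constructor
    · apply e.permCongrHom.injective
      rw [map_pow, h, map_one]
    · intro i hi
      apply h' (e i)
      simp [Equiv.permCongrHom, Equiv.permCongr_apply, hi]

variable (V : Subgroup G) (hV : IsKleinFour V)
  (hC : ∀ x : G, (∀ v ∈ V, x * v = v * x) → x ∈ V)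

include hV in
theorem klein_le_normalizer : V ≤ Subgroup.normalizer (V : Set G) := Subgroup.le_normalizer

include hV hC in
theorem kleinPerm_ker : (kleinPerm V).ker = V.subgroupOf (Subgroup.normalizer (V : Set G)) := by
  ext n
  rw [MonoidHom.mem_ker, Subgroup.mem_subgroupOf]
  constructor
  · intro h
    apply hC
    intro v hv
    by_cases hv1 : v = 1
    · rw [hv1]; simp
    · have := congrArg (fun σ : Equiv.Perm (KS V) => ((σ ⟨v, hv, hv1⟩ : KS V) : G)) h
      simp only [kleinPerm_apply, Equiv.Perm.coe_one, id_eq] at this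
      calc (n : G) * v = (n : G) * v * (n : G)⁻¹ * (n : G) := by group
        _ = v * (n : G) := by rw [this]
  · intro h
    ext s
    rw [kleinPerm_apply, Equiv.Perm.coe_one, id_eq]
    have := (klein_mem_props V hV (n : G) s.1 h s.2.1).2
    rw [this]
    group

include hV hC in
theorem klein_card_normalizer [Finite G] :
    Nat.card (Subgroup.normalizer (V : Set G)) = 4 * Nat.card (kleinPerm V).range ∧
      Nat.card (kleinPerm V).range ∣ 6 := by
  constructor
  · have h1 := Subgroup.card_mul_index (kleinPerm V).ker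
    rw [Subgroup.index_ker, kleinPerm_ker V hV hC] at h1
    have h2 : Nat.card (V.subgroupOf (Subgroup.normalizer (V : Set G))) = 4 := by
      rw [← hV.card_four]
      exact Nat.card_congr (Subgroup.subgroupOfEquivOfLe Subgroup.le_normalizer).toEquiv
    rw [h2] at h1
    exact h1.symm
  · have h3 : Nat.card (Equiv.Perm (KS V)) = 6 := by
      rw [Nat.card_perm, card_KS V hV.card_four]
      rfl
    rw [← h3]
    exact Subgroup.card_subgroup_dvd_card _

include hV hC in
/-- Elements of the normalizer: square in `V`, or of order three moving all of `V ∖ 1`. -/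
theorem klein_norm_cases (y : G) (hy : y ∈ Subgroup.normalizer (V : Set G)) :
    y ^ 2 ∈ V ∨ (y ^ 3 = 1 ∧ ∀ v ∈ V, v ≠ 1 → y * v * y⁻¹ ≠ v) := by
  have hker := kleinPerm_ker V hV hC
  rcases perm_card3_cases (card_KS V hV.card_four) (kleinPerm V ⟨y, hy⟩) with h | ⟨h, h'⟩
  · left
    rw [← map_pow] at h
    have : (⟨y, hy⟩ : Subgroup.normalizer (V : Set G)) ^ 2 ∈ (kleinPerm V).ker := h
    rw [hker, Subgroup.mem_subgroupOf] at this
    exact this
  · right
    have hmove : ∀ v ∈ V, v ≠ 1 → y * v * y⁻¹ ≠ v := by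
      intro v hv hv1 heq
      apply h' ⟨v, hv, hv1⟩
      apply Subtype.ext
      rw [kleinPerm_apply]
      exact heq
    refine ⟨?_, hmove⟩
    rw [← map_pow] at h
    have : (⟨y, hy⟩ : Subgroup.normalizer (V : Set G)) ^ 3 ∈ (kleinPerm V).ker := h
    rw [hker, Subgroup.mem_subgroupOf] at this
    by_contra hne
    apply hmove (y ^ 3) this hne
    group

include hV hC in
theorem klein_norm_ord (y : G) (hy : y ∈ Subgroup.normalizer (V : Set G)) :
    y ^ 4 = 1 ∨ (y ^ 3 = 1 ∧ ∀ v ∈ V, v ≠ 1 → y * v * y⁻¹ ≠ v) := by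
  rcases klein_norm_cases V hV hC y hy with h | h
  · left
    have := (klein_mem_props V hV (y ^ 2) (y ^ 2) h h).1
    rw [← this]
    group
  · right
    exact h

include hV hC in
theorem klein_norm_A4 [Finite G] (h12 : Nat.card (Subgroup.normalizer (V : Set G)) = 12) :
    Nonempty (Subgroup.normalizer (V : Set G) ≃* alternatingGroup (Fin 4)) := by
  haveI : Fact (Nat.Prime 3) := ⟨Nat.prime_three⟩
  apply Cfsg.Agent.Lib.helper2.Ord12.iso_A4 h12
  intro z hz hzc
  obtain ⟨y, hy⟩ := exists_prime_orderOf_dvd_card' 3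
    (G := Subgroup.normalizer (V : Set G)) (by rw [h12]; norm_num)
  have hzV : (z : G) ∈ V := by
    apply hC
    intro v hv
    have := Subgroup.mem_center_iff.mp hzc ⟨v, Subgroup.le_normalizer hv⟩
    have h' := congrArg Subtype.val this
    simpa using h'.symm
  have hz1 : (z : G) ≠ 1 := by
    intro h
    have : z = 1 := Subtype.ext h
    rw [this, orderOf_one] at hz
    omega
  rcases klein_norm_ord V hV hC (y : G) y.2 with h | ⟨h, hm⟩
  · have h4 : y ^ 4 = 1 := Subtype.ext (by simpa using h)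
    have := orderOf_dvd_of_pow_eq_one h4
    rw [hy] at this
    omega
  · apply hm (z : G) hzV hz1
    have := Subgroup.mem_center_iff.mp hzc y
    have h' : (y : G) * (z : G) = (z : G) * (y : G) := by
      simpa using congrArg Subtype.val this
    rw [h']
    group

include hV hC in
theorem klein_norm_S4 [Finite G] (h24 : Nat.card (Subgroup.normalizer (V : Set G)) = 24) :
    Nonempty (Subgroup.normalizer (V : Set G) ≃* Equiv.Perm (Fin 4)) := by
  classical
  haveI : Fact (Nat.Prime 3) := ⟨Nat.prime_three⟩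
  obtain ⟨P⟩ : Nonempty (Sylow 3 (Subgroup.normalizer (V : Set G))) := inferInstance
  have hP : Nat.card (P : Subgroup (Subgroup.normalizer (V : Set G))) = 3 := by
    have := Cfsg.Agent.Lib.helper2.BF.sylow_card_eq P 1 (by rw [h24]; decide +kernel)
    rw [this, pow_one]
  have hord : ∀ y : Subgroup.normalizer (V : Set G), y ^ 2 = 1 ∨ y ^ 3 = 1 ∨ y ^ 4 = 1 := by
    intro y
    rcases klein_norm_ord V hV hC (y : G) y.2 with h | ⟨h, -⟩
    · right; right; exact Subtype.ext (by simpa using h)
    · right; left; exact Subtype.ext (by simpa using h)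
  apply s4_rec h24 hord (P : Subgroup (Subgroup.normalizer (V : Set G))) hP
  have hmod := card_sylow_modEq_one 3 (Subgroup.normalizer (V : Set G))
  have hdvd := Sylow.card_dvd_index P
  have hi := Subgroup.card_mul_index (P : Subgroup (Subgroup.normalizer (V : Set G)))
  rw [hP, h24] at hi
  have hi8 : (P : Subgroup (Subgroup.normalizer (V : Set G))).index = 8 := by omega
  rw [hi8] at hdvd
  have hidx := Sylow.card_eq_index_normalizer P
  rw [hidx] at hmod hdvd
  have hne1 : (Subgroup.normalizer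
      ((P : Subgroup (Subgroup.normalizer (V : Set G))) : Set (Subgroup.normalizer (V : Set G)))).index ≠ 1 := by
    intro h1
    have hnorm := Subgroup.index_eq_one.mp h1
    obtain ⟨t, htP, ht1⟩ : ∃ t : Subgroup.normalizer (V : Set G),
        t ∈ (P : Subgroup (Subgroup.normalizer (V : Set G))) ∧ t ≠ 1 := by
      by_contra hcon
      push_neg at hcon
      have : (P : Subgroup (Subgroup.normalizer (V : Set G))) = ⊥ := by
        rw [Subgroup.eq_bot_iff_forall]; exact hcon
      rw [this, Subgroup.card_bot] at hP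
      omega
    have hP3 : ∀ c : Subgroup.normalizer (V : Set G),
        c ∈ (P : Subgroup (Subgroup.normalizer (V : Set G))) → (c : G) ^ 3 = 1 := by
      intro c hc
      have := pow_card_eq_one' (G := (P : Subgroup (Subgroup.normalizer (V : Set G))))
        (x := ⟨c, hc⟩)
      rw [hP] at this
      have h' := congrArg (fun u : (P : Subgroup (Subgroup.normalizer (V : Set G))) =>
        ((u : Subgroup.normalizer (V : Set G)) : G)) this
      simpa using h'
    have hkill : ∀ c : G, c ^ 3 = 1 → c ∈ V → c = 1 := by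
      intro c h3 hcV
      have h2 := (klein_mem_props V hV c c hcV hcV).1
      calc c = c ^ 3 * (c * c)⁻¹ := by group
        _ = 1 := by rw [h3, h2]; simp
    have htV : (t : G) ∈ V := by
      apply hC
      intro v hv
      have hc1 : (⟨v, Subgroup.le_normalizer hv⟩ : Subgroup.normalizer (V : Set G)) * t *
          (⟨v, Subgroup.le_normalizer hv⟩ : Subgroup.normalizer (V : Set G))⁻¹ ∈
          (P : Subgroup (Subgroup.normalizer (V : Set G))) := by
        have : (⟨v, Subgroup.le_normalizer hv⟩ : Subgroup.normalizer (V : Set G)) ∈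
            Subgroup.normalizer ((P : Subgroup (Subgroup.normalizer (V : Set G))) : Set (Subgroup.normalizer (V : Set G))) := by
          rw [hnorm]; trivial
        exact (Subgroup.mem_normalizer_iff.mp this t).mp htP
      have hcP := mul_mem hc1 (inv_mem htP)
      have hcV : v * (t : G) * v⁻¹ * (t : G)⁻¹ ∈ V := by
        have h1 : (t : G) * v⁻¹ * (t : G)⁻¹ ∈ V :=
          (Subgroup.mem_normalizer_iff.mp t.2 v⁻¹).mp (inv_mem hv)
        have := mul_mem hv h1
        convert this using 1
        group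
      have hc3 := hP3 _ hcP
      have hc : v * (t : G) * v⁻¹ * (t : G)⁻¹ = 1 := hkill _ (by simpa using hc3) hcV
      calc (t : G) * v = (v * (t : G) * v⁻¹ * (t : G)⁻¹)⁻¹ * (v * (t : G)) := by group
        _ = v * (t : G) := by rw [hc]; simp
    apply ht1
    apply Subtype.ext
    exact hkill _ (hP3 t htP) htV
  have hle := Nat.le_of_dvd (by norm_num) hdvd
  have hmod' : (Subgroup.normalizer
      ((P : Subgroup (Subgroup.normalizer (V : Set G))) : Set (Subgroup.normalizer (V : Set G)))).index % 3 = 1 := hmod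
  generalize (Subgroup.normalizer
      ((P : Subgroup (Subgroup.normalizer (V : Set G))) : Set (Subgroup.normalizer (V : Set G)))).index = k at *
  interval_cases k <;> simp_all

end kleinact

/-- Transport a subgroup of the target of an isomorphism from a subgroup. -/
theorem exists_subgroup_iso_of_iso {G K : Type*} [Group G] [Group K] (H : Subgroup G)
    (e : H ≃* K) (L : Subgroup K) : ∃ H' : Subgroup G, H' ≤ H ∧ Nonempty (H' ≃* L) := by
  refine ⟨(L.map e.symm.toMonoidHom).map H.subtype, ?_, ⟨?_⟩⟩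
  · rintro x ⟨y, -, rfl⟩
    exact y.2
  · exact ((L.equivMapOfInjective e.symm.toMonoidHom e.symm.injective).trans
      ((L.map e.symm.toMonoidHom).equivMapOfInjective H.subtype
        (Subgroup.subtype_injective H))).symm

section psl

open scoped MatrixGroups

variable {F : Type*} [Field F] [Fintype F]

theorem PSL2_klein_cent (h2 : (2 : F) ≠ 0) (V : Subgroup PSL(2, F)) (hV : IsKleinFour V) :
    ∀ x : PSL(2, F), (∀ v ∈ V, x * v = v * x) → x ∈ V := by
  have hT := card_klein_pairs V hV.card_four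
  have hne : Nonempty {p : PSL(2, F) × PSL(2, F) //
      p.1 ∈ V ∧ p.2 ∈ V ∧ p.1 ≠ 1 ∧ p.2 ≠ 1 ∧ p.1 ≠ p.2} := by
    by_contra hemp
    rw [not_nonempty_iff] at hemp
    rw [Nat.card_of_isEmpty] at hT
    omega
  obtain ⟨⟨⟨a, b⟩, ha, hb, ha1, hb1, hab⟩⟩ := hne
  have hpa := klein_mem_props V hV a b ha hb
  have hpb := klein_mem_props V hV b a hb ha
  intro x hx
  rcases PSL2_comm_both_mem h2 a b ha1 hpa.1 hb1 hpb.1 hab hpa.2 x (hx a ha) (hx b hb) with
    rfl | rfl | rfl | rfl
  · exact one_mem V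
  · exact ha
  · exact hb
  · exact mul_mem ha hb

theorem PSL2_exists_klein (h2 : (2 : F) ≠ 0) : ∃ V : Subgroup PSL(2, F), IsKleinFour V := by
  have h := PSL2_klein_count (F := F) h2
  have hpos : 0 < Nat.card PSL(2, F) := Nat.card_pos
  have hne : Nonempty {V : Subgroup PSL(2, F) // IsKleinFour V} := by
    by_contra hemp
    rw [not_nonempty_iff] at hemp
    rw [Nat.card_of_isEmpty] at h
    omega
  obtain ⟨⟨V, hV⟩⟩ := hne
  exact ⟨V, hV⟩

theorem PSL2_klein_norm_card (h2 : (2 : F) ≠ 0) (V : Subgroup PSL(2, F)) (hV : IsKleinFour V) :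
    Nat.card (Subgroup.normalizer (V : Set PSL(2, F))) = 12 ∨
      Nat.card (Subgroup.normalizer (V : Set PSL(2, F))) = 24 := by
  classical
  have hkc := PSL2_klein_count (F := F) h2
  have hcm := card_conjugates_mul V
  have hle : Nat.card {W : Subgroup PSL(2, F) // ∃ g : PSL(2, F),
      W = V.map (MulAut.conj g).toMonoidHom} ≤
      Nat.card {V : Subgroup PSL(2, F) // IsKleinFour V} := by
    apply Nat.card_le_card_of_injective
      (fun W : {W : Subgroup PSL(2, F) // ∃ g : PSL(2, F),
        W = V.map (MulAut.conj g).toMonoidHom} =>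
        (⟨W.1, by
          obtain ⟨g, hg⟩ := W.2
          rw [hg]
          exact isKleinFour_map_conj V hV g⟩ : {V : Subgroup PSL(2, F) // IsKleinFour V}))
    intro W W' h
    have h' := congrArg (fun X : {V : Subgroup PSL(2, F) // IsKleinFour V} => X.1) h
    exact Subtype.ext h'
  have hpos : 0 < Nat.card PSL(2, F) := Nat.card_pos
  obtain ⟨h4, h6⟩ := klein_card_normalizer V hV (PSL2_klein_cent h2 V hV)
  have h12 : 12 ≤ Nat.card (Subgroup.normalizer (V : Set PSL(2, F))) := by
    generalize Nat.card (Subgroup.normalizer (V : Set PSL(2, F))) = n at *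
    generalize Nat.card {W : Subgroup PSL(2, F) // ∃ g : PSL(2, F),
      W = V.map (MulAut.conj g).toMonoidHom} = c at *
    generalize Nat.card {V : Subgroup PSL(2, F) // IsKleinFour V} = K at *
    have hc : 0 < c := by
      rcases Nat.eq_zero_or_pos c with h | h
      · rw [h] at hcm; omega
      · exact h
    have h1 : c * 12 ≤ c * n := by
      calc c * 12 ≤ K * 12 := Nat.mul_le_mul_right 12 hle
        _ = c * n := by omega
    exact Nat.le_of_mul_le_mul_left h1 hc
  have hr : Nat.card (kleinPerm V).range ≤ 6 := Nat.le_of_dvd (by norm_num) h6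
  generalize Nat.card (kleinPerm V).range = r at *
  interval_cases r <;> simp_all

theorem PSL2_klein_norm_card_24 (h2 : (2 : F) ≠ 0) (V : Subgroup PSL(2, F)) (hV : IsKleinFour V)
    (h8 : 8 ∣ Nat.card PSL(2, F)) :
    Nat.card (Subgroup.normalizer (V : Set PSL(2, F))) = 24 := by
  have h := eight_dvd_card_normalizer V hV.card_four h8
  rcases PSL2_klein_norm_card h2 V hV with h' | h'
  · rw [h'] at h
    omega
  · exact h'

theorem PSL2_klein_norm_card_12 (h2 : (2 : F) ≠ 0) (V : Subgroup PSL(2, F)) (hV : IsKleinFour V)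
    (h8 : ¬ 8 ∣ Nat.card PSL(2, F)) :
    Nat.card (Subgroup.normalizer (V : Set PSL(2, F))) = 12 := by
  have h := Subgroup.card_subgroup_dvd_card (Subgroup.normalizer (V : Set PSL(2, F)))
  rcases PSL2_klein_norm_card h2 V hV with h' | h'
  · exact h'
  · rw [h'] at h
    exfalso
    apply h8
    exact Dvd.dvd.trans (by norm_num) h

theorem PSL2_eight_dvd_iff (hodd : Fintype.card F % 2 = 1) :
    8 ∣ Nat.card PSL(2, F) ↔ Fintype.card F ^ 2 % 16 = 1 := by
  have hc := card_PSL2_gen (F := F)
  have hg : Nat.gcd 2 (Fintype.card F - 1) = 2 := by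
    rcases card_parity_cases (F := F) with ⟨-, -, h⟩ | ⟨-, h, -⟩
    · exact h
    · omega
  rw [hg] at hc
  have hq1 : 1 ≤ Fintype.card F ^ 2 := Nat.one_le_pow _ _ Fintype.card_pos
  have hcop : Nat.Coprime 16 (Fintype.card F) := by
    have : Nat.Coprime 2 (Fintype.card F) :=
      (Nat.prime_two.coprime_iff_not_dvd).mpr (by omega)
    exact Nat.Coprime.pow_left 4 this
  have h1 : 16 ∣ Fintype.card F * (Fintype.card F ^ 2 - 1) ↔ 16 ∣ Fintype.card F ^ 2 - 1 :=
    ⟨fun h => hcop.dvd_of_dvd_mul_left h, fun h => Dvd.dvd.mul_left h _⟩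
  rw [← hc] at h1
  generalize Fintype.card F ^ 2 = Q at *
  omega

theorem PSL2_exists_S4 (h2 : (2 : F) ≠ 0) (h8 : 8 ∣ Nat.card PSL(2, F)) :
    ∃ H : Subgroup PSL(2, F), Nat.card H = 24 ∧ Nonempty (H ≃* Equiv.Perm (Fin 4)) := by
  obtain ⟨V, hV⟩ := PSL2_exists_klein (F := F) h2
  have h24 := PSL2_klein_norm_card_24 h2 V hV h8
  exact ⟨_, h24, klein_norm_S4 V hV (PSL2_klein_cent h2 V hV) h24⟩

theorem PSL2_exists_A4_norm (h2 : (2 : F) ≠ 0) (h8 : ¬ 8 ∣ Nat.card PSL(2, F)) :
    ∃ H : Subgroup PSL(2, F), Nat.card H = 12 ∧ Nonempty (H ≃* alternatingGroup (Fin 4)) := by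
  obtain ⟨V, hV⟩ := PSL2_exists_klein (F := F) h2
  have h12 := PSL2_klein_norm_card_12 h2 V hV h8
  exact ⟨_, h12, klein_norm_A4 V hV (PSL2_klein_cent h2 V hV) h12⟩

theorem PSL2_exists_A4_odd (h2 : (2 : F) ≠ 0) :
    ∃ H : Subgroup PSL(2, F), Nonempty (H ≃* alternatingGroup (Fin 4)) := by
  by_cases h8 : 8 ∣ Nat.card PSL(2, F)
  · obtain ⟨H, -, ⟨e⟩⟩ := PSL2_exists_S4 h2 h8
    obtain ⟨H', -, h⟩ := exists_subgroup_iso_of_iso H e (alternatingGroup (Fin 4))
    exact ⟨H', h⟩
  · obtain ⟨H, -, h⟩ := PSL2_exists_A4_norm h2 h8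
    exact ⟨H, h⟩

end psl

end Cfsg.Agent.Lib.helper12
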