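import Mathlib

set_option autoImplicit false

namespace Cfsg.Agent.Lib.helper12

/-- `2 k (k² - 1)` does not divide `q (q² - 1)` for `q = k ^ m`, `k` and `m` odd. -/
theorem pgl_not_dvd (k m q : ℕ) (hk2 : 2 ≤ k) (hq : k ^ m = q) (hodd : Odd q) (hm : Odd m) :
    ¬ (2 * (k * (k ^ 2 - 1)) ∣ q * (q ^ 2 - 1)) := by
  intro hdvd
  have hm0 : m ≠ 0 := by
    rintro rfl
    exact (Nat.not_odd_iff_even.2 (by decide : Even 0)) hm
  obtain ⟨A, hA⟩ : ∃ A, k ^ 2 = A + 1 := ⟨k ^ 2 - 1, by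
    have : 1 ≤ k ^ 2 := Nat.one_le_pow _ _ (by omega)
    omega⟩
  have hA0 : 0 < A := by nlinarith
  rw [hA, Nat.add_sub_cancel] at hdvd
  have hS := geom_sum_mul_add A m
  rw [← hA, ← pow_mul, mul_comm 2 m, pow_mul, hq] at hS
  obtain ⟨S, hSdef⟩ : ∃ S, S = ∑ i ∈ Finset.range m, (k ^ 2) ^ i := ⟨_, rfl⟩
  rw [← hSdef] at hS
  have hSodd : Odd S := by
    rw [hSdef, Finset.odd_sum_iff_odd_card_odd]
    have hfil : Finset.filter (fun i => Odd ((k ^ 2) ^ i)) (Finset.range m) = Finset.range m := by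
      apply Finset.filter_true_of_mem
      intro i _
      apply Odd.pow
      apply Odd.pow
      have : Odd (k ^ m) := by rw [hq]; exact hodd
      exact (Nat.odd_pow_iff hm0).1 this
    rw [hfil, Finset.card_range]
    exact hm
  have e1 : q ^ 2 - 1 = S * A := by omega
  rw [e1] at hdvd
  have h2 : 2 * k * A ∣ q * S * A := by
    rw [mul_assoc, mul_assoc]
    exact hdvd
  have h3 : 2 * k ∣ q * S := Nat.dvd_of_mul_dvd_mul_right hA0 h2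
  have h4 : 2 ∣ q * S := dvd_trans (dvd_mul_right 2 k) h3
  exact (Nat.not_even_iff_odd.2 (hodd.mul hSodd)) (even_iff_two_dvd.2 h4)

theorem prime_not_dvd_sq_sub_one (p a : ℕ) (hp : p.Prime) (ha : 1 ≤ a) :
    ¬ p ∣ (p ^ a) ^ 2 - 1 := by
  intro h
  have h1 : p ∣ (p ^ a) ^ 2 := dvd_pow (dvd_pow_self p (by omega)) (by norm_num)
  have h2 : 1 ≤ (p ^ a) ^ 2 := Nat.one_le_pow _ _ (Nat.pow_pos hp.pos)
  have h3 : p ∣ 1 := by
    have := (Nat.dvd_sub h1 h)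
    rwa [Nat.sub_sub_self h2] at this
  exact hp.one_lt.ne' (Nat.dvd_one.1 h3)

/-- The number theory behind subfield subgroups: if `p^b (p^{2b} - 1)` divides
`c p^a (p^{2a} - 1)` and `a m' = b r` with `r` prime and `m' ≥ 2`, then `a = b`. -/
theorem nt_subfield (p : ℕ) (hp : p.Prime) (a b m' r : ℕ) (hb : 1 ≤ b) (hr : r.Prime)
    (hm' : 2 ≤ m') (hab : a * m' = b * r) (c : ℕ) (hc : c = 1 ∨ (c = 2 ∧ p ≠ 2))
    (hdiv : p ^ b * ((p ^ b) ^ 2 - 1) ∣ c * (p ^ a * ((p ^ a) ^ 2 - 1))) : a = b := by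
  have hp2 := hp.two_le
  have ha : 1 ≤ a := by
    rcases Nat.eq_zero_or_pos a with h | h
    · rw [h, zero_mul] at hab
      have := hr.pos
      have : 0 < b * r := Nat.mul_pos (by omega) this
      omega
    · exact h
  have hcop_c : Nat.Coprime p c := by
    rcases hc with rfl | ⟨rfl, hp2'⟩
    · exact Nat.coprime_one_right p
    · exact (Nat.coprime_primes hp Nat.prime_two).2 hp2'
  have hcop1 : Nat.Coprime p ((p ^ a) ^ 2 - 1) :=
    (Nat.Prime.coprime_iff_not_dvd hp).2 (prime_not_dvd_sq_sub_one p a hp ha)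
  have hcop2 : Nat.Coprime p ((p ^ b) ^ 2 - 1) :=
    (Nat.Prime.coprime_iff_not_dvd hp).2 (prime_not_dvd_sq_sub_one p b hp hb)
  -- step 1: b ≤ a
  have hle : b ≤ a := by
    have h1 : p ^ b ∣ p ^ a * (c * ((p ^ a) ^ 2 - 1)) := by
      have : c * (p ^ a * ((p ^ a) ^ 2 - 1)) = p ^ a * (c * ((p ^ a) ^ 2 - 1)) := by ring
      rw [← this]
      exact dvd_trans (dvd_mul_right _ _) hdiv
    have h2 : Nat.Coprime (p ^ b) (c * ((p ^ a) ^ 2 - 1)) :=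
      Nat.Coprime.pow_left b (Nat.Coprime.mul_right hcop_c hcop1)
    have h3 : p ^ b ∣ p ^ a := h2.dvd_of_dvd_mul_right h1
    exact (Nat.pow_dvd_pow_iff_le_right hp.one_lt).1 h3
  -- step 2
  have hd2 : (p ^ b) ^ 2 - 1 ∣ c * ((p ^ a) ^ 2 - 1) := by
    have h1 : (p ^ b) ^ 2 - 1 ∣ p ^ a * (c * ((p ^ a) ^ 2 - 1)) := by
      have : c * (p ^ a * ((p ^ a) ^ 2 - 1)) = p ^ a * (c * ((p ^ a) ^ 2 - 1)) := by ring
      rw [← this]
      exact dvd_trans (dvd_mul_left _ _) hdiv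
    have h2 : Nat.Coprime ((p ^ b) ^ 2 - 1) (p ^ a) :=
      (Nat.Coprime.pow_left a hcop2).symm
    exact h2.dvd_of_dvd_mul_left h1
  -- step 3
  obtain ⟨t, e, he, hae⟩ : ∃ t e, e < b ∧ a = b * t + e :=
    ⟨a / b, a % b, Nat.mod_lt _ (by omega), (Nat.div_add_mod a b).symm⟩
  have hx1 : 1 ≤ (p ^ b) ^ 2 := Nat.one_le_pow _ _ (Nat.pow_pos hp.pos)
  have hd3 : (p ^ b) ^ 2 - 1 ∣ ((p ^ b) ^ 2) ^ t - 1 := by
    simpa using Nat.sub_dvd_pow_sub_pow ((p ^ b) ^ 2) 1 t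
  have hy1 : 1 ≤ ((p ^ b) ^ 2) ^ t := Nat.one_le_pow _ _ (by omega)
  have hz1 : 1 ≤ (p ^ e) ^ 2 := Nat.one_le_pow _ _ (Nat.pow_pos hp.pos)
  have hsplit : (p ^ a) ^ 2 - 1 = (p ^ e) ^ 2 * (((p ^ b) ^ 2) ^ t - 1) + ((p ^ e) ^ 2 - 1) := by
    have e1 : (p ^ a) ^ 2 = (p ^ e) ^ 2 * ((p ^ b) ^ 2) ^ t := by
      rw [hae]; ring
    rw [e1]
    obtain ⟨Y, hY⟩ : ∃ Y, ((p ^ b) ^ 2) ^ t = Y + 1 := ⟨_, (Nat.sub_add_cancel hy1).symm⟩
    obtain ⟨Z, hZ⟩ : ∃ Z, (p ^ e) ^ 2 = Z + 1 := ⟨_, (Nat.sub_add_cancel hz1).symm⟩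
    rw [hY, hZ]
    simp only [Nat.add_sub_cancel]
    have : (Z + 1) * (Y + 1) = (Z + 1) * Y + Z + 1 := by ring
    rw [this, Nat.add_sub_cancel]
  have hd4 : (p ^ b) ^ 2 - 1 ∣ c * ((p ^ e) ^ 2 - 1) := by
    rw [hsplit, mul_add] at hd2
    have h1 : (p ^ b) ^ 2 - 1 ∣ c * ((p ^ e) ^ 2 * (((p ^ b) ^ 2) ^ t - 1)) :=
      dvd_mul_of_dvd_right (dvd_mul_of_dvd_right hd3 _) _
    exact (Nat.dvd_add_right h1).1 hd2
  have he0 : e = 0 := by
    by_contra hne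
    have he1 : 1 ≤ e := by omega
    have hpos : 0 < c * ((p ^ e) ^ 2 - 1) := by
      have h1 : 0 < c := by rcases hc with rfl | ⟨rfl, -⟩ <;> norm_num
      have h2 : p ^ 1 ≤ p ^ e := Nat.pow_le_pow_right hp.pos he1
      have h3 : 2 ≤ p ^ e := by rw [pow_one] at h2; omega
      have h4 : 4 ≤ (p ^ e) ^ 2 := by nlinarith
      exact Nat.mul_pos h1 (by omega)
    have hle' := Nat.le_of_dvd hpos hd4
    have hc2 : c ≤ 2 := by rcases hc with rfl | ⟨rfl, -⟩ <;> norm_num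
    have h5 : p ^ b = p ^ e * p ^ (b - e) := by rw [← pow_add]; congr 1; omega
    have h6 : 2 ≤ p ^ (b - e) := by
      have : p ^ 1 ≤ p ^ (b - e) := Nat.pow_le_pow_right hp.pos (by omega)
      rw [pow_one] at this
      omega
    have h7 : (p ^ b) ^ 2 = (p ^ e) ^ 2 * (p ^ (b - e)) ^ 2 := by rw [h5]; ring
    have h8 : 4 ≤ (p ^ (b - e)) ^ 2 := by nlinarith
    have h9 : 4 * (p ^ e) ^ 2 ≤ (p ^ b) ^ 2 := by
      rw [h7, mul_comm]
      exact Nat.mul_le_mul_left _ h8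
    have h10 : c * ((p ^ e) ^ 2 - 1) ≤ 2 * ((p ^ e) ^ 2 - 1) := Nat.mul_le_mul_right _ hc2
    omega
  subst he0
  rw [add_zero] at hae
  subst hae
  have h1 : t * m' = r := by
    have : b * (t * m') = b * r := by rw [← hab]; ring
    exact Nat.eq_of_mul_eq_mul_left (by omega) this
  have h2 : t ∣ r := ⟨m', h1.symm⟩
  rcases (Nat.dvd_prime hr).1 h2 with h | h
  · rw [h, mul_one]
  · exfalso
    rw [h] at h1
    have : r * m' = r * 1 := by rw [h1, mul_one]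
    have := Nat.eq_of_mul_eq_mul_left hr.pos this
    omega

end Cfsg.Agent.Lib.helper12
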