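import Mathlib
import Cfsg.Agent.Lib.helper12.DkOrd

set_option autoImplicit false

namespace Cfsg.Agent.Lib.helper12

open scoped MatrixGroups

section dksubf

variable {K F : Type*} [Field K] [Field F]

theorem exists_ringHom_of_card_pow [Fintype K] [Fintype F] (m : ℕ)
    (hm : Fintype.card K ^ m = Fintype.card F) : Nonempty (K →+* F) := by
  obtain ⟨p, hp⟩ := CharP.exists K
  haveI := hp
  haveI : Fact p.Prime := ⟨CharP.char_is_prime K p⟩
  have hpp : p.Prime := Fact.out
  obtain ⟨p', hp'⟩ := CharP.exists F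
  haveI := hp'
  haveI : Fact p'.Prime := ⟨CharP.char_is_prime F p'⟩
  have hpp' : p'.Prime := Fact.out
  obtain ⟨a, -, ha⟩ := FiniteField.card K p
  obtain ⟨b, -, hb⟩ := FiniteField.card F p'
  have hm0 : m ≠ 0 := by
    rintro rfl
    have := Fintype.one_lt_card (α := F)
    simp at hm
    omega
  have hdvd : p ∣ p' ^ (b : ℕ) := by
    rw [← hb, ← hm, ha]
    exact dvd_pow (dvd_pow_self p a.ne_zero) hm0
  have hpe : p = p' := (Nat.prime_dvd_prime_iff_eq hpp hpp').1 (hpp.dvd_of_dvd_pow hdvd)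
  subst hpe
  letI : Algebra (ZMod p) K := ZMod.algebra K p
  letI : Algebra (ZMod p) F := ZMod.algebra F p
  have h1 := FiniteField.pow_finrank_eq_card p K
  have h2 := FiniteField.pow_finrank_eq_card p F
  have h3 : Module.finrank (ZMod p) K * m = Module.finrank (ZMod p) F := by
    apply Nat.pow_right_injective hpp.two_le
    show p ^ _ = p ^ _
    rw [pow_mul, h1, h2, hm]
  obtain ⟨f⟩ := FiniteField.nonempty_algHom_of_finrank_dvd (F := ZMod p) (K := K) (L := F)
    ⟨m, h3.symm⟩
  exact ⟨f.toRingHom⟩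

theorem SLmap_apply (ι : K →+* F) (g : SL(2, K)) (i j : Fin 2) :
    (Matrix.SpecialLinearGroup.map ι g : Matrix (Fin 2) (Fin 2) F) i j =
      ι ((g : Matrix (Fin 2) (Fin 2) K) i j) := rfl

theorem ker_mk_SLmap (ι : K →+* F) :
    ((QuotientGroup.mk' (Subgroup.center SL(2, F))).comp (Matrix.SpecialLinearGroup.map ι)).ker =
      Subgroup.center SL(2, K) := by
  ext g
  rw [MonoidHom.mem_ker, MonoidHom.comp_apply, QuotientGroup.mk'_apply, QuotientGroup.eq_one_iff,
    SL2_mem_center_iff, SL2_mem_center_iff]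
  constructor
  · rintro ⟨a, ha⟩
    have h := fun i j => congrFun (congrFun ha i) j
    have h01 : (g : Matrix (Fin 2) (Fin 2) K) 0 1 = 0 := by
      have := h 0 1
      rw [SLmap_apply] at this
      apply ι.injective
      rw [this]
      simp
    have h10 : (g : Matrix (Fin 2) (Fin 2) K) 1 0 = 0 := by
      have := h 1 0
      rw [SLmap_apply] at this
      apply ι.injective
      rw [this]
      simp
    have h11 : (g : Matrix (Fin 2) (Fin 2) K) 1 1 = (g : Matrix (Fin 2) (Fin 2) K) 0 0 := by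
      have e0 := h 0 0
      have e1 := h 1 1
      rw [SLmap_apply] at e0 e1
      apply ι.injective
      rw [e0, e1]
      simp
    refine ⟨(g : Matrix (Fin 2) (Fin 2) K) 0 0, ?_⟩
    ext i j
    fin_cases i <;> fin_cases j <;> simp [h01, h10, h11]
  · rintro ⟨b, hb⟩
    refine ⟨ι b, ?_⟩
    ext i j
    rw [SLmap_apply, hb]
    fin_cases i <;> fin_cases j <;> simp

/-- `PSL₂(K)` embeds in `PSL₂(F)` along a field embedding. -/
theorem exists_PSL2_subfield (ι : K →+* F) :
    ∃ H : Subgroup PSL(2, F), Nonempty (H ≃* PSL(2, K)) := by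
  obtain ⟨φ, hφ⟩ : ∃ φ : SL(2, K) →* PSL(2, F),
      φ = (QuotientGroup.mk' (Subgroup.center SL(2, F))).comp
        (Matrix.SpecialLinearGroup.map ι) := ⟨_, rfl⟩
  have hker : φ.ker = Subgroup.center SL(2, K) := by
    rw [hφ]
    exact ker_mk_SLmap ι
  exact ⟨φ.range, ⟨(QuotientGroup.quotientKerEquivRange φ).symm.trans
    (QuotientGroup.quotientMulEquivOfEq hker)⟩⟩

theorem GLmap_apply (ι : K →+* F) (g : GL (Fin 2) K) (i j : Fin 2) :
    (Matrix.GeneralLinearGroup.map ι g : Matrix (Fin 2) (Fin 2) F) i j =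
      ι ((g : Matrix (Fin 2) (Fin 2) K) i j) := rfl

/-- `PGL₂(K)` embeds in `PSL₂(F)` when every element of `K` is a square in `F`. -/
theorem exists_PGL2_subfield (ι : K →+* F) (hsq : ∀ a : K, ∃ s : F, s * s = ι a) :
    ∃ H : Subgroup PSL(2, F), Nonempty (H ≃* PGL(2, K)) := by
  obtain ⟨Ψ, hΨ⟩ : ∃ Ψ : PGL(2, K) →* PGL(2, F), Ψ = Matrix.ProjGenLinGroup.map ι := ⟨_, rfl⟩
  obtain ⟨t, ht⟩ : ∃ t : PSL(2, F) →* PGL(2, F),
      t = Matrix.ProjectiveSpecialLinearGroup.toPGL := ⟨_, rfl⟩
  have htinj : Function.Injective t := by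
    rw [ht]
    exact Matrix.ProjectiveSpecialLinearGroup.toPGL_injective
  have hΨinj : Function.Injective Ψ := by
    rw [injective_iff_map_eq_one]
    intro x hx
    induction x using Matrix.ProjGenLinGroup.induction_on with | mk g =>
    rw [hΨ, Matrix.ProjGenLinGroup.map_mk, Matrix.ProjGenLinGroup.mk_eq_one,
      GL2_mem_center_entries] at hx
    rw [Matrix.ProjGenLinGroup.mk_eq_one, GL2_mem_center_entries]
    obtain ⟨h1, h2, h3⟩ := hx
    rw [GLmap_apply] at h1 h2
    rw [GLmap_apply, GLmap_apply] at h3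
    exact ⟨ι.injective (by rw [h1, map_zero]), ι.injective (by rw [h2, map_zero]), ι.injective h3⟩
  have hle : Ψ.range ≤ t.range := by
    rintro _ ⟨x, rfl⟩
    induction x using Matrix.ProjGenLinGroup.induction_on with | mk g =>
    obtain ⟨s, hs⟩ := hsq ((g : Matrix (Fin 2) (Fin 2) K).det)
    have hdet0 : (g : Matrix (Fin 2) (Fin 2) K).det ≠ 0 := by
      have := (Matrix.GeneralLinearGroup.det g).ne_zero
      simpa using this
    have hs0 : s ≠ 0 := by
      rintro rfl
      have : ι ((g : Matrix (Fin 2) (Fin 2) K).det) = 0 := by rw [← hs]; ring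
      exact hdet0 (ι.injective (by rw [this, map_zero]))
    have hdet : (s⁻¹ • (ι.mapMatrix (g : Matrix (Fin 2) (Fin 2) K))).det = 1 := by
      rw [Matrix.det_smul, Fintype.card_fin, ← RingHom.map_det, ← hs]
      field_simp
    refine ⟨QuotientGroup.mk (⟨_, hdet⟩ : SL(2, F)), ?_⟩
    rw [ht, hΨ, Matrix.ProjGenLinGroup.map_mk]
    show Matrix.ProjGenLinGroup.mk (Matrix.SpecialLinearGroup.toGL _) = _
    rw [Matrix.ProjGenLinGroup.mk_eq_mk_iff]
    refine ⟨Units.mk0 s hs0, ?_⟩
    apply Matrix.GeneralLinearGroup.ext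
    intro i j
    rw [GLmap_apply]
    simp [Matrix.mul_apply, Fin.sum_univ_two, Matrix.GeneralLinearGroup.scalar, Matrix.smul_apply]
    fin_cases i <;> fin_cases j <;> simp [Matrix.diagonal] <;>
      (show s⁻¹ * ι _ * s = ι _) <;> field_simp
  obtain ⟨H, hH⟩ : ∃ H : Subgroup PSL(2, F), H = Ψ.range.comap t := ⟨_, rfl⟩
  have hmap : H.map t = Ψ.range := by
    rw [hH, Subgroup.map_comap_eq, inf_of_le_right hle]
  exact ⟨H, ⟨(Subgroup.equivMapOfInjective H t htinj).trans
    ((MulEquiv.subgroupCongr hmap).trans (MonoidHom.ofInjective hΨinj).symm)⟩⟩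

theorem exists_sq_of_even [Fintype K] [Fintype F] (ι : K →+* F) (hodd : Odd (Fintype.card F))
    (m : ℕ) (hm : Fintype.card K ^ m = Fintype.card F) (hev : Even m) (a : K) :
    ∃ s : F, s * s = ι a := by
  by_cases ha : a = 0
  · exact ⟨0, by simp [ha]⟩
  have hchar : ringChar F ≠ 2 := by
    intro h
    have := FiniteField.even_card_of_char_two h
    exact (Nat.not_even_iff_odd.2 hodd) (Nat.even_iff.2 this)
  have hιa : ι a ≠ 0 := by
    intro h
    exact ha (ι.injective (by rw [h, map_zero]))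
  have h1 : a ^ (Fintype.card K - 1) = 1 := FiniteField.pow_card_sub_one_eq_one a ha
  have hk2 : 2 ≤ Fintype.card K := Fintype.one_lt_card
  obtain ⟨j, rfl⟩ := hev
  have hkodd : Odd (Fintype.card K) := by
    rw [← hm] at hodd
    exact Nat.Odd.of_mul_right (by
      have : Fintype.card K ^ (j + j) = Fintype.card K ^ (j + j - 1) * Fintype.card K := by
        rw [← pow_succ]
        congr 1
        have : j ≠ 0 := by
          rintro rfl
          have := Fintype.one_lt_card (α := F)
          simp at hm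
          omega
        omega
      rw [this] at hodd
      exact hodd)
  have hdvd : (Fintype.card K - 1) ∣ Fintype.card F / 2 := by
    obtain ⟨c, hc⟩ := hkodd
    have h2 := Nat.sub_dvd_pow_sub_pow (Fintype.card K ^ 2) 1 j
    rw [one_pow, ← pow_mul, two_mul, hm] at h2
    have h3 : Fintype.card K ^ 2 - 1 = (Fintype.card K - 1) * (2 * (c + 1)) := by
      rw [hc]
      simp only [Nat.add_sub_cancel]
      have : (2 * c + 1) ^ 2 = 2 * c * (2 * (c + 1)) + 1 := by ring
      rw [this, Nat.add_sub_cancel]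
    rw [h3] at h2
    obtain ⟨t, ht⟩ := h2
    refine ⟨(c + 1) * t, ?_⟩
    have hq1 : 1 ≤ Fintype.card F := Fintype.card_pos
    have : Fintype.card F = 2 * ((Fintype.card K - 1) * ((c + 1) * t)) + 1 := by
      have e : (Fintype.card K - 1) * (2 * (c + 1)) * t =
          2 * ((Fintype.card K - 1) * ((c + 1) * t)) := by ring
      rw [e] at ht
      omega
    omega
  have hsq := (FiniteField.isSquare_iff hchar hιa).2 (by
    obtain ⟨c, hc⟩ := hdvd
    rw [hc, pow_mul, ← map_pow, h1, map_one, one_pow])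
  obtain ⟨s, hs⟩ := hsq
  exact ⟨s, hs.symm⟩

end dksubf

end Cfsg.Agent.Lib.helper12
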