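import Mathlib
import Cfsg.Agent.Lib.helper12.DkSubf
import Cfsg.Agent.Lib.helper12.DkNT

set_option autoImplicit false

namespace Cfsg.Agent.Lib.helper12

open scoped MatrixGroups

theorem coatom_of_card {G : Type*} [Group G] [Finite G] (M : Subgroup G) (hM : M ≠ ⊤)
    (h : ∀ H : Subgroup G, M ≤ H → H ≠ ⊤ → Nat.card H ≤ Nat.card M) : IsCoatom M := by
  refine ⟨hM, fun H hlt => ?_⟩
  by_contra hH
  have h1 := h H hlt.le hH
  have h2 : M = H := Subgroup.eq_of_le_of_card_ge hlt.le h1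
  exact hlt.ne h2

section dkmax

variable {F : Type*} [Field F] [Fintype F]

theorem gcd_two_dvd_add_one (q : ℕ) (hq : 1 ≤ q) : Nat.gcd 2 (q - 1) ∣ q + 1 := by
  have h1 : Nat.gcd 2 (q - 1) ∣ 2 := Nat.gcd_dvd_left _ _
  have h2 : Nat.gcd 2 (q - 1) ∣ q - 1 := Nat.gcd_dvd_right _ _
  have : q + 1 = (q - 1) + 2 := by omega
  rw [this]
  exact dvd_add h2 h1

/-- Commutators in a subgroup of a Borel subgroup are `p`-torsion. -/
theorem borel_comm (p : ℕ) [Fact p.Prime] [CharP F p] (H : Subgroup PSL(2, F))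
    (P : Sylow p PSL(2, F)) (K' : Subgroup PSL(2, F))
    (hK : K' ≤ Subgroup.normalizer ((P : Subgroup PSL(2, F)) : Set PSL(2, F)))
    (f : H ≃* K') (a b : H) : (a * b * a⁻¹ * b⁻¹) ^ p = 1 := by
  obtain ⟨φ, hφ⟩ := sylow_normalizer_hom p P
  obtain ⟨x, hx, ht, e⟩ := sylow_eq_Mq p P
  obtain ⟨ψ, hψ⟩ : ∃ ψ : H →* Fˣ, ψ = (φ.comp (Subgroup.inclusion hK)).comp f.toMonoidHom :=
    ⟨_, rfl⟩
  have h1 : ψ (a * b * a⁻¹ * b⁻¹) = 1 := by
    rw [map_mul, map_mul, map_mul, map_inv, map_inv]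
    rw [mul_comm (ψ a) (ψ b), mul_assoc (ψ b), mul_inv_cancel, mul_one, mul_inv_cancel]
  rw [hψ] at h1
  have h2 : ((f (a * b * a⁻¹ * b⁻¹) : K') : PSL(2, F)) ∈
      (P : Subgroup PSL(2, F)) := (hφ _).1 h1
  have h2' : ((f (a * b * a⁻¹ * b⁻¹) : K') : PSL(2, F)) ∈ Mq x := by
    rw [← e]
    exact h2
  have h3 := Mq_unip_pow p x _ hx ht h2'
  have h4 : ((f (a * b * a⁻¹ * b⁻¹) : K') : PSL(2, F)) ^ p = 1 := h3
  have h5 : f ((a * b * a⁻¹ * b⁻¹) ^ p) = 1 := by
    rw [map_pow]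
    apply Subtype.ext
    rw [Subgroup.coe_pow]
    exact h4
  exact f.injective (by rw [h5, map_one])

/-- Dickson's theorem with the numerical information attached. -/
theorem dk_cases (p : ℕ) [Fact p.Prime] [CharP F p] (H : Subgroup PSL(2, F)) (hH : H ≠ ⊤) :
    (∃ k : ℕ, (Nat.gcd 2 (Fintype.card F - 1) * k ∣ Fintype.card F + 1 ∨
        Nat.gcd 2 (Fintype.card F - 1) * k ∣ Fintype.card F - 1) ∧
      ((IsCyclic H ∧ Nat.card H = k) ∨ Nonempty (H ≃* DihedralGroup k))) ∨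
    (Nat.gcd 2 (Fintype.card F - 1) * Nat.card H ∣ Fintype.card F * (Fintype.card F - 1) ∧
      ∀ a b : H, (a * b * a⁻¹ * b⁻¹) ^ p = 1) ∨
    (Nat.card H = 12 ∧ Nonempty (H ≃* alternatingGroup (Fin 4))) ∨
    (Nat.card H = 24 ∧ Nonempty (H ≃* Equiv.Perm (Fin 4))) ∨
    (Nat.card H = 60 ∧ Nonempty (H ≃* alternatingGroup (Fin 5))) ∨
    (∃ (K : Type) (_ : Field K) (_ : Fintype K) (m : ℕ), 2 ≤ m ∧
      Fintype.card K ^ m = Fintype.card F ∧
      ((Nat.gcd 2 (Fintype.card K - 1) * Nat.card H =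
          Fintype.card K * (Fintype.card K ^ 2 - 1) ∧ Nonempty (H ≃* PSL(2, K))) ∨
       (Nat.card H = Fintype.card K * (Fintype.card K ^ 2 - 1) ∧
          Nonempty (H ≃* PGL(2, K))))) := by
  have hq2 : 2 ≤ Fintype.card F := Fintype.one_lt_card
  have hG := card_PSL2_gen (F := F)
  have hd : Nat.gcd 2 (Fintype.card F - 1) = 1 ∨ Nat.gcd 2 (Fintype.card F - 1) = 2 := by
    rcases card_parity_cases (F := F) with ⟨-, -, h⟩ | ⟨-, -, h⟩ <;> simp [h]
  have hlt : Nat.card H < Nat.card PSL(2, F) := by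
    have hle := Subgroup.card_le_card_group H
    rcases lt_or_eq_of_le hle with h | h
    · exact h
    · exact absurd (Subgroup.eq_top_of_card_eq H h) hH
  rcases dk_final p H with ⟨k, hk, h⟩ | ⟨P, K, hK, ⟨f⟩⟩ | ⟨⟨f⟩⟩ | ⟨⟨f⟩⟩ | ⟨⟨f⟩⟩ |
    ⟨K, iK, iF, m, hm, h⟩
  · left
    refine ⟨k, ?_, h⟩
    have hd1 := gcd_two_dvd_add_one (Fintype.card F) (by omega)
    have hd2 : Nat.gcd 2 (Fintype.card F - 1) ∣ Fintype.card F - 1 := Nat.gcd_dvd_right _ _
    rcases hk with hk | hk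
    · left
      obtain ⟨c, hc⟩ := hk
      refine ⟨c, ?_⟩
      rw [mul_assoc, ← hc, Nat.mul_div_cancel' hd1]
    · right
      obtain ⟨c, hc⟩ := hk
      refine ⟨c, ?_⟩
      rw [mul_assoc, ← hc, Nat.mul_div_cancel' hd2]
  · right; left
    refine ⟨?_, borel_comm p H P K hK f⟩
    have h1 : Nat.card H = Nat.card K := Nat.card_congr f.toEquiv
    have h2 : Nat.card K ∣ Nat.card (Subgroup.normalizer
        ((P : Subgroup PSL(2, F)) : Set PSL(2, F))) := Subgroup.card_dvd_of_le hK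
    rw [h1, ← card_normalizer_sylow p P]
    exact Nat.mul_dvd_mul_left _ h2
  · right; right; left
    exact ⟨by rw [Nat.card_congr f.toEquiv]; exact card_alt4, ⟨f⟩⟩
  · right; right; right; left
    exact ⟨by rw [Nat.card_congr f.toEquiv]; exact card_perm4, ⟨f⟩⟩
  · right; right; right; right; left
    exact ⟨by rw [Nat.card_congr f.toEquiv]; exact card_alt5, ⟨f⟩⟩
  · right; right; right; right; right
    have hGK := card_PSL2_gen (F := K)
    have hPK := card_PGL2 K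
    have hm0 : m ≠ 0 := by
      rintro rfl
      simp at hm
      omega
    have hm1 : m ≠ 1 := by
      rintro rfl
      rw [pow_one] at hm
      rcases h with ⟨⟨f⟩⟩ | ⟨⟨f⟩⟩
      · have h1 : Nat.card H = Nat.card PSL(2, K) := Nat.card_congr f.toEquiv
        rw [hm] at hGK
        have h2 : Nat.gcd 2 (Fintype.card F - 1) * Nat.card H =
            Nat.gcd 2 (Fintype.card F - 1) * Nat.card PSL(2, F) := by
          rw [h1, hGK, hG]
        have h3 := Nat.eq_of_mul_eq_mul_left (by omega) h2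
        omega
      · have h1 : Nat.card H = Nat.card (Matrix.ProjGenLinGroup (Fin 2) K) :=
          Nat.card_congr f.toEquiv
        rw [hPK, hm, ← hG] at h1
        have : Nat.card PSL(2, F) ≤ Nat.gcd 2 (Fintype.card F - 1) * Nat.card PSL(2, F) :=
          Nat.le_mul_of_pos_left _ (by omega)
        omega
    refine ⟨K, iK, iF, m, by omega, hm, ?_⟩
    rcases h with ⟨⟨f⟩⟩ | ⟨⟨f⟩⟩
    · left
      exact ⟨by rw [Nat.card_congr f.toEquiv, hGK], ⟨f⟩⟩
    · right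
      exact ⟨by rw [Nat.card_congr f.toEquiv, hPK], ⟨f⟩⟩

/-- Field-size rigidity for subfield-type overgroups. -/
theorem dkd_subfield {K K' : Type*} [Field K] [Fintype K] [Field K'] [Fintype K']
    (r m' : ℕ) (hr : r.Prime) (hm' : 2 ≤ m')
    (h1 : Fintype.card K ^ r = Fintype.card F) (h2 : Fintype.card K' ^ m' = Fintype.card F)
    (c : ℕ) (hc : c = 1 ∨ (c = 2 ∧ Odd (Fintype.card F)))
    (hdiv : Fintype.card K * (Fintype.card K ^ 2 - 1) ∣
      c * (Fintype.card K' * (Fintype.card K' ^ 2 - 1))) :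
    Fintype.card K' = Fintype.card K := by
  obtain ⟨p, hp⟩ := CharP.exists K
  haveI := hp
  haveI : Fact p.Prime := ⟨CharP.char_is_prime K p⟩
  have hpp : p.Prime := Fact.out
  obtain ⟨p', hp'⟩ := CharP.exists K'
  haveI := hp'
  haveI : Fact p'.Prime := ⟨CharP.char_is_prime K' p'⟩
  have hpp' : p'.Prime := Fact.out
  obtain ⟨b, -, hb⟩ := FiniteField.card K p
  obtain ⟨a, -, ha⟩ := FiniteField.card K' p'
  have hdvd : p ∣ p' ^ ((a : ℕ) * m') := by
    rw [pow_mul, ← ha, h2, ← h1, hb]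
    exact dvd_pow (dvd_pow_self p b.ne_zero) hr.ne_zero
  have hpe : p = p' := (Nat.prime_dvd_prime_iff_eq hpp hpp').1 (hpp.dvd_of_dvd_pow hdvd)
  subst hpe
  have hab : (a : ℕ) * m' = (b : ℕ) * r := by
    apply Nat.pow_right_injective hpp.two_le
    show p ^ _ = p ^ _
    rw [pow_mul, pow_mul, ← ha, ← hb, h1, h2]
  have hc' : c = 1 ∨ (c = 2 ∧ p ≠ 2) := by
    rcases hc with hc | ⟨hc, hodd⟩
    · exact Or.inl hc
    · refine Or.inr ⟨hc, ?_⟩
      rintro rfl
      rw [← h1, hb] at hodd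
      have : Even ((2 ^ (b : ℕ)) ^ r) := by
        apply Even.pow_of_ne_zero _ hr.ne_zero
        exact Even.pow_of_ne_zero even_two b.ne_zero
      exact (Nat.not_even_iff_odd.2 hodd) this
  rw [ha, hb] at hdiv
  have := nt_subfield p hpp a b m' r b.pos hr hm' hab c hc' hdiv
  rw [ha, hb, this]

end dkmax

end Cfsg.Agent.Lib.helper12
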