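import Mathlib
import Cfsg.Agent.Lib.helper12.DkKlein
import Cfsg.Agent.Lib.helper12.DkMax

set_option autoImplicit false

namespace Cfsg.Agent.Lib.helper12

section psl2

open scoped MatrixGroups

variable {F : Type*} [Field F] [Fintype F]

/-- In characteristic two, involutions of `PSL₂` are unipotent. -/
theorem PSL2_char_two_invol (h2 : (2 : F) = 0) (x : PSL(2, F)) (hx1 : x ≠ 1)
    (hxx : x * x = 1) : trSq x = 4 := by
  obtain ⟨g, rfl⟩ := QuotientGroup.mk_surjective x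
  rw [trSq_mk]
  rw [PSL2_mk_ne_one_iff] at hx1
  have h1 : (QuotientGroup.mk (g * g) : PSL(2, F)) = 1 := hxx
  rw [PSL2_mk_eq_one_iff] at h1
  obtain ⟨a, ha⟩ := h1
  rw [Matrix.SpecialLinearGroup.coe_mul, SL2_sq_eq] at ha
  have h4 : (4 : F) = 0 := by linear_combination 2 * h2
  rw [h4]
  by_contra ht
  have ht' : (g : Matrix (Fin 2) (Fin 2) F).trace ≠ 0 := fun h => ht (by rw [h]; ring)
  apply hx1
  refine ⟨(g : Matrix (Fin 2) (Fin 2) F).trace⁻¹ * (a + 1), ?_⟩
  have h5 : (g : Matrix (Fin 2) (Fin 2) F).trace • (g : Matrix (Fin 2) (Fin 2) F) =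
      (a + 1) • (1 : Matrix (Fin 2) (Fin 2) F) := by
    rw [add_smul, one_smul, ← ha]
    abel
  rw [mul_smul, ← h5, smul_smul, inv_mul_cancel₀ ht', one_smul]

theorem PSL2_char_two_pow_four (h2 : (2 : F) = 0) (y : PSL(2, F)) (hy : y ^ 4 = 1) :
    y ^ 2 = 1 := by
  by_contra hne
  haveI : CharP F 2 := CharTwo.of_one_ne_zero_of_two_eq_zero one_ne_zero h2
  haveI : Fact (Nat.Prime 2) := ⟨Nat.prime_two⟩
  have hxx : y ^ 2 * y ^ 2 = 1 := by rw [← pow_add]; exact hy
  have ht := PSL2_char_two_invol h2 (y ^ 2) hne hxx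
  have hmem : y ∈ Mq (y ^ 2) := Mq_unip_comm (y ^ 2) y ht (by group)
  exact hne (Mq_unip_pow 2 (y ^ 2) y hne ht hmem)

/-- Characteristic two: an involution `a` and an element `t` of order three with `t a t⁻¹`
commuting with `a` force `3 ∣ q (q - 1)`. -/
theorem PSL2_char_two_three_dvd (h2 : (2 : F) = 0) (a t : PSL(2, F)) (ha1 : a ≠ 1)
    (haa : a * a = 1) (ht3 : t ^ 3 = 1) (ht1 : t ≠ 1)
    (hcomm : (t * a * t⁻¹) * a = a * (t * a * t⁻¹)) :
    3 ∣ Fintype.card F * (Fintype.card F - 1) := by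
  haveI : Fact (Nat.Prime 3) := ⟨Nat.prime_three⟩
  have ht := PSL2_char_two_invol h2 a ha1 haa
  have hb : t * a * t⁻¹ ∈ Mq a := Mq_unip_comm a _ ht hcomm
  have hamem : a ∈ Mq a := tiPart_Mq.mem a ha1
  have htN : t ∈ Subgroup.normalizer ((Mq a : Subgroup PSL(2, F)) : Set PSL(2, F)) :=
    tiPart_Mq.mem_normalizer_of_conj_mem ha1 hamem ha1 hb
  have hcard := card_normalizer_Mq_unip a ha1 ht
  have hg : Nat.gcd 2 (Fintype.card F - 1) = 1 := by
    rcases card_parity_cases (F := F) with ⟨h, -, -⟩ | ⟨-, -, h⟩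
    · exact absurd h2 h
    · exact h
  rw [hg, one_mul] at hcard
  rw [← hcard]
  have ho : orderOf (⟨t, htN⟩ : Subgroup.normalizer
      ((Mq a : Subgroup PSL(2, F)) : Set PSL(2, F))) = 3 := by
    apply orderOf_eq_prime
    · exact Subtype.ext (by simpa using ht3)
    · intro h
      exact ht1 (congrArg Subtype.val h)
  rw [← ho]
  exact orderOf_dvd_natCard _

/-- `PSL₂(4)` contains `A₄` (the normalizer of a Sylow 2-subgroup). -/
theorem PSL2_four_exists_A4 (hK : Fintype.card F = 4) :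
    ∃ H : Subgroup PSL(2, F), Nonempty (H ≃* alternatingGroup (Fin 4)) := by
  classical
  have h2 : (2 : F) = 0 := by
    rcases card_parity_cases (F := F) with ⟨-, h, -⟩ | ⟨h, -, -⟩
    · omega
    · exact h
  haveI : CharP F 2 := CharTwo.of_one_ne_zero_of_two_eq_zero one_ne_zero h2
  haveI : Fact (Nat.Prime 2) := ⟨Nat.prime_two⟩
  obtain ⟨P⟩ : Nonempty (Sylow 2 PSL(2, F)) := inferInstance
  have hN := card_normalizer_sylow 2 P
  rw [hK] at hN
  have h12 : Nat.card (Subgroup.normalizer ((P : Subgroup PSL(2, F)) : Set PSL(2, F))) = 12 := by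
    simp only [Nat.reduceSub, Nat.reduceGcd, Nat.reduceMul, one_mul] at hN
    exact hN
  refine ⟨_, Cfsg.Agent.Lib.helper2.Ord12.iso_A4 h12 ?_⟩
  intro z hz hzc
  have hz1 : (z : PSL(2, F)) ≠ 1 := by
    intro h
    have : z = 1 := Subtype.ext h
    rw [this, orderOf_one] at hz
    omega
  have hzz : (z : PSL(2, F)) * (z : PSL(2, F)) = 1 := by
    have := pow_orderOf_eq_one z
    rw [hz, pow_two] at this
    simpa using congrArg Subtype.val this
  have ht := PSL2_char_two_invol h2 (z : PSL(2, F)) hz1 hzz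
  have hle : Subgroup.normalizer ((P : Subgroup PSL(2, F)) : Set PSL(2, F)) ≤
      Mq (z : PSL(2, F)) := by
    intro n hn
    apply Mq_unip_comm _ n ht
    have := Subgroup.mem_center_iff.mp hzc ⟨n, hn⟩
    simpa using congrArg Subtype.val this
  have hc := Subgroup.card_le_of_le hle
  rw [h12, card_Mq_unip _ hz1 ht, hK] at hc
  omega

theorem alt4_elts : ∃ a t : alternatingGroup (Fin 4), a ≠ 1 ∧ a * a = 1 ∧ t ^ 3 = 1 ∧ t ≠ 1 ∧
    (t * a * t⁻¹) * a = a * (t * a * t⁻¹) := by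
  have hm : ∀ i j k l : Fin 4, i ≠ j → k ≠ l →
      Equiv.swap i j * Equiv.swap k l ∈ alternatingGroup (Fin 4) := by
    intro i j k l hij hkl
    rw [Equiv.Perm.mem_alternatingGroup, map_mul, Equiv.Perm.sign_swap hij,
      Equiv.Perm.sign_swap hkl]
    rfl
  refine ⟨⟨Equiv.swap 0 1 * Equiv.swap 2 3, hm 0 1 2 3 (by decide) (by decide)⟩,
    ⟨Equiv.swap 0 1 * Equiv.swap 1 2, hm 0 1 1 2 (by decide) (by decide)⟩, ?_, ?_, ?_, ?_, ?_⟩
  · intro h
    have : (Equiv.swap (0 : Fin 4) 1 * Equiv.swap 2 3 : Equiv.Perm (Fin 4)) 0 =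
        (1 : Equiv.Perm (Fin 4)) 0 :=
      congrArg (fun σ : alternatingGroup (Fin 4) => (σ : Equiv.Perm (Fin 4)) 0) h
    revert this
    decide
  · apply Subtype.ext
    show (Equiv.swap (0 : Fin 4) 1 * Equiv.swap 2 3) * (Equiv.swap 0 1 * Equiv.swap 2 3) = 1
    decide
  · apply Subtype.ext
    show (Equiv.swap (0 : Fin 4) 1 * Equiv.swap 1 2) ^ 3 = 1
    decide
  · intro h
    have : (Equiv.swap (0 : Fin 4) 1 * Equiv.swap 1 2 : Equiv.Perm (Fin 4)) 0 =
        (1 : Equiv.Perm (Fin 4)) 0 :=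
      congrArg (fun σ : alternatingGroup (Fin 4) => (σ : Equiv.Perm (Fin 4)) 0) h
    revert this
    decide
  · apply Subtype.ext
    show ((Equiv.swap (0 : Fin 4) 1 * Equiv.swap 1 2) * (Equiv.swap 0 1 * Equiv.swap 2 3) *
      (Equiv.swap 0 1 * Equiv.swap 1 2)⁻¹) * (Equiv.swap 0 1 * Equiv.swap 2 3) =
      (Equiv.swap 0 1 * Equiv.swap 2 3) * ((Equiv.swap (0 : Fin 4) 1 * Equiv.swap 1 2) *
      (Equiv.swap 0 1 * Equiv.swap 2 3) * (Equiv.swap 0 1 * Equiv.swap 1 2)⁻¹)
    decide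

/-- Characteristic two: `A₄ ≤ PSL₂(q)` forces `3 ∣ q (q - 1)`. -/
theorem PSL2_char_two_A4 (h2 : (2 : F) = 0) (H : Subgroup PSL(2, F))
    (e : H ≃* alternatingGroup (Fin 4)) : 3 ∣ Fintype.card F * (Fintype.card F - 1) := by
  obtain ⟨a, t, ha1, haa, ht3, ht1, hc⟩ := alt4_elts
  apply PSL2_char_two_three_dvd h2 ((e.symm a : H) : PSL(2, F)) ((e.symm t : H) : PSL(2, F))
  · intro h
    apply ha1
    have : e.symm a = 1 := Subtype.ext h
    simpa using this
  · have : e.symm a * e.symm a = 1 := by rw [← map_mul, haa, map_one]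
    simpa using congrArg Subtype.val this
  · have : e.symm t ^ 3 = 1 := by rw [← map_pow, ht3, map_one]
    simpa using congrArg Subtype.val this
  · intro h
    apply ht1
    have : e.symm t = 1 := Subtype.ext h
    simpa using this
  · have : (e.symm t * e.symm a * (e.symm t)⁻¹) * e.symm a =
        e.symm a * (e.symm t * e.symm a * (e.symm t)⁻¹) := by
      rw [← map_inv, ← map_mul, ← map_mul, ← map_mul, ← map_mul, hc]
    simpa using congrArg Subtype.val this

end psl2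

end Cfsg.Agent.Lib.helper12
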