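import Mathlib
import Cfsg.Agent.Lib.helper12.DkKlein2

set_option autoImplicit false

namespace Cfsg.Agent.Lib.helper12

theorem dih_cube_comm (k : ℕ) (x y : DihedralGroup k) (hx : x ^ 3 = 1) (hy : y ^ 3 = 1) :
    x * y = y * x := by
  have key : ∀ i : ZMod k, (DihedralGroup.sr i) ^ 3 ≠ 1 := by
    intro i h
    rw [pow_succ, pow_two, DihedralGroup.sr_mul_self, one_mul, DihedralGroup.one_def] at h
    cases h
  cases x with
  | r i =>
    cases y with
    | r j => simp [add_comm]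
    | sr j => exact absurd hy (key j)
  | sr i => exact absurd hx (key i)

/-- Two non-commuting elements of order dividing three, and a nontrivial commutator of order
two. -/
def HasF12 (M : Type*) [Group M] : Prop :=
  (∃ x y : M, x ^ 3 = 1 ∧ y ^ 3 = 1 ∧ x * y ≠ y * x) ∧
    (∃ a b : M, (a * b * a⁻¹ * b⁻¹) ^ 2 = 1 ∧ a * b * a⁻¹ * b⁻¹ ≠ 1)

theorem HasF12.of_injective {M N : Type*} [Group M] [Group N] (f : M →* N)
    (hf : Function.Injective f) (h : HasF12 M) : HasF12 N := by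
  obtain ⟨⟨x, y, hx, hy, hxy⟩, ⟨a, b, hc2, hc1⟩⟩ := h
  refine ⟨⟨f x, f y, ?_, ?_, ?_⟩, ⟨f a, f b, ?_, ?_⟩⟩
  · rw [← map_pow, hx, map_one]
  · rw [← map_pow, hy, map_one]
  · intro h
    apply hxy
    apply hf
    rw [map_mul, map_mul, h]
  · rw [← map_inv, ← map_inv, ← map_mul, ← map_mul, ← map_mul, ← map_pow, hc2, map_one]
  · intro h
    apply hc1
    apply hf
    rw [map_mul, map_mul, map_mul, map_inv, map_inv, h, map_one]

theorem swap_mul_swap_mem_alt {n : ℕ} (i j k l : Fin n) (hij : i ≠ j) (hkl : k ≠ l) :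
    Equiv.swap i j * Equiv.swap k l ∈ alternatingGroup (Fin n) := by
  rw [Equiv.Perm.mem_alternatingGroup, map_mul, Equiv.Perm.sign_swap hij,
    Equiv.Perm.sign_swap hkl]
  rfl

theorem hasF12_alt4 : HasF12 (alternatingGroup (Fin 4)) := by
  refine ⟨⟨⟨Equiv.swap 0 1 * Equiv.swap 1 2, swap_mul_swap_mem_alt 0 1 1 2 (by decide) (by decide)⟩,
    ⟨Equiv.swap 1 2 * Equiv.swap 2 3, swap_mul_swap_mem_alt 1 2 2 3 (by decide) (by decide)⟩,
      ?_, ?_, ?_⟩,
    ⟨⟨Equiv.swap 0 1 * Equiv.swap 1 2, swap_mul_swap_mem_alt 0 1 1 2 (by decide) (by decide)⟩,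
    ⟨Equiv.swap 0 1 * Equiv.swap 2 3, swap_mul_swap_mem_alt 0 1 2 3 (by decide) (by decide)⟩,
      ?_, ?_⟩⟩
  · apply Subtype.ext
    show (Equiv.swap (0 : Fin 4) 1 * Equiv.swap 1 2) ^ 3 = 1
    decide
  · apply Subtype.ext
    show (Equiv.swap (1 : Fin 4) 2 * Equiv.swap 2 3) ^ 3 = 1
    decide
  · intro h
    have : (Equiv.swap (0 : Fin 4) 1 * Equiv.swap 1 2) * (Equiv.swap (1 : Fin 4) 2 * Equiv.swap 2 3) =
        (Equiv.swap (1 : Fin 4) 2 * Equiv.swap 2 3) * (Equiv.swap (0 : Fin 4) 1 * Equiv.swap 1 2) :=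
      congrArg Subtype.val h
    revert this
    decide
  · apply Subtype.ext
    show ((Equiv.swap (0 : Fin 4) 1 * Equiv.swap 1 2) * (Equiv.swap (0 : Fin 4) 1 * Equiv.swap 2 3) *
      (Equiv.swap (0 : Fin 4) 1 * Equiv.swap 1 2)⁻¹ *
      (Equiv.swap (0 : Fin 4) 1 * Equiv.swap 2 3)⁻¹) ^ 2 = 1
    decide
  · intro h
    have : ((Equiv.swap (0 : Fin 4) 1 * Equiv.swap 1 2) * (Equiv.swap (0 : Fin 4) 1 * Equiv.swap 2 3) *
      (Equiv.swap (0 : Fin 4) 1 * Equiv.swap 1 2)⁻¹ *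
      (Equiv.swap (0 : Fin 4) 1 * Equiv.swap 2 3)⁻¹) = 1 :=
      congrArg Subtype.val h
    revert this
    decide

theorem hasF12_perm4 : HasF12 (Equiv.Perm (Fin 4)) :=
  hasF12_alt4.of_injective (alternatingGroup (Fin 4)).subtype (Subgroup.subtype_injective _)

theorem hasF12_alt5 : HasF12 (alternatingGroup (Fin 5)) := by
  refine ⟨⟨⟨Equiv.swap 0 1 * Equiv.swap 1 2, swap_mul_swap_mem_alt 0 1 1 2 (by decide) (by decide)⟩,
    ⟨Equiv.swap 1 2 * Equiv.swap 2 3, swap_mul_swap_mem_alt 1 2 2 3 (by decide) (by decide)⟩,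
      ?_, ?_, ?_⟩,
    ⟨⟨Equiv.swap 0 1 * Equiv.swap 1 2, swap_mul_swap_mem_alt 0 1 1 2 (by decide) (by decide)⟩,
    ⟨Equiv.swap 0 1 * Equiv.swap 2 3, swap_mul_swap_mem_alt 0 1 2 3 (by decide) (by decide)⟩,
      ?_, ?_⟩⟩
  · apply Subtype.ext
    show (Equiv.swap (0 : Fin 5) 1 * Equiv.swap 1 2) ^ 3 = 1
    decide
  · apply Subtype.ext
    show (Equiv.swap (1 : Fin 5) 2 * Equiv.swap 2 3) ^ 3 = 1
    decide
  · intro h
    have : (Equiv.swap (0 : Fin 5) 1 * Equiv.swap 1 2) * (Equiv.swap (1 : Fin 5) 2 * Equiv.swap 2 3) =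
        (Equiv.swap (1 : Fin 5) 2 * Equiv.swap 2 3) * (Equiv.swap (0 : Fin 5) 1 * Equiv.swap 1 2) :=
      congrArg Subtype.val h
    revert this
    decide
  · apply Subtype.ext
    show ((Equiv.swap (0 : Fin 5) 1 * Equiv.swap 1 2) * (Equiv.swap (0 : Fin 5) 1 * Equiv.swap 2 3) *
      (Equiv.swap (0 : Fin 5) 1 * Equiv.swap 1 2)⁻¹ *
      (Equiv.swap (0 : Fin 5) 1 * Equiv.swap 2 3)⁻¹) ^ 2 = 1
    decide
  · intro h
    have : ((Equiv.swap (0 : Fin 5) 1 * Equiv.swap 1 2) * (Equiv.swap (0 : Fin 5) 1 * Equiv.swap 2 3) *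
      (Equiv.swap (0 : Fin 5) 1 * Equiv.swap 1 2)⁻¹ *
      (Equiv.swap (0 : Fin 5) 1 * Equiv.swap 2 3)⁻¹) = 1 :=
      congrArg Subtype.val h
    revert this
    decide

/-- A subgroup containing an isomorphic copy of a group with `HasF12` has `HasF12`. -/
theorem HasF12.of_le {G M' : Type*} [Group G] [Group M'] (h : HasF12 M') (M H : Subgroup G)
    (hMH : M ≤ H) (e : M ≃* M') : HasF12 H :=
  h.of_injective ((Subgroup.inclusion hMH).comp e.symm.toMonoidHom)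
    ((Subgroup.inclusion_injective hMH).comp e.symm.injective)

section dk

open scoped MatrixGroups

variable {F : Type*} [Field F] [Fintype F]

/-- Dickson's list for proper subgroups with `HasF12`, odd characteristic. -/
theorem dk_cases_F12 (p : ℕ) [Fact p.Prime] [CharP F p] (hp2 : p ≠ 2) (H : Subgroup PSL(2, F))
    (hH : H ≠ ⊤) (hF12 : HasF12 H) :
    (Nat.card H = 12 ∧ Nonempty (H ≃* alternatingGroup (Fin 4))) ∨
    (Nat.card H = 24 ∧ Nonempty (H ≃* Equiv.Perm (Fin 4))) ∨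
    (Nat.card H = 60 ∧ Nonempty (H ≃* alternatingGroup (Fin 5))) ∨
    (∃ (K : Type) (_ : Field K) (_ : Fintype K) (m : ℕ), 2 ≤ m ∧
      Fintype.card K ^ m = Fintype.card F ∧
      ((Nat.gcd 2 (Fintype.card K - 1) * Nat.card H =
          Fintype.card K * (Fintype.card K ^ 2 - 1) ∧ Nonempty (H ≃* PSL(2, K))) ∨
       (Nat.card H = Fintype.card K * (Fintype.card K ^ 2 - 1) ∧
          Nonempty (H ≃* PGL(2, K))))) := by
  have hpp : p.Prime := Fact.out
  obtain ⟨⟨x, y, hx, hy, hxy⟩, ⟨a, b, hc2, hc1⟩⟩ := hF12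
  rcases dk_cases p H hH with ⟨k, -, h⟩ | ⟨-, hb⟩ | h | h | h | h
  · exfalso
    rcases h with ⟨hcyc, -⟩ | ⟨⟨f⟩⟩
    · obtain ⟨g, hg⟩ := hcyc.exists_generator
      obtain ⟨i, rfl⟩ := Subgroup.mem_zpowers_iff.mp (hg x)
      obtain ⟨j, rfl⟩ := Subgroup.mem_zpowers_iff.mp (hg y)
      apply hxy
      rw [← zpow_add, ← zpow_add, add_comm]
    · apply hxy
      apply f.injective
      rw [map_mul, map_mul]
      apply dih_cube_comm
      · rw [← map_pow, hx, map_one]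
      · rw [← map_pow, hy, map_one]
  · exfalso
    apply hc1
    have h1 := hb a b
    have hodd : p % 2 = 1 := by
      rcases hpp.eq_two_or_odd with h | h
      · exact absurd h hp2
      · exact h
    obtain ⟨m, hm⟩ : ∃ m, p = 2 * m + 1 := ⟨p / 2, by omega⟩
    rw [hm, pow_succ, pow_mul, hc2, one_pow, one_mul] at h1
    exact h1
  · exact Or.inl h
  · exact Or.inr (Or.inl h)
  · exact Or.inr (Or.inr (Or.inl h))
  · exact Or.inr (Or.inr (Or.inr h))

end dk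

end Cfsg.Agent.Lib.helper12
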