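import Mathlib
import Cfsg.Agent.Lib.helper12.DkMax3
import Cfsg.Agent.S3377

set_option autoImplicit false

namespace Cfsg.Agent.Lib.helper12

section a5

open scoped MatrixGroups
open Polynomial

variable {F : Type*} [Field F]

theorem mat_pow_step (M : Matrix (Fin 2) (Fin 2) F) (t : F)
    (hsq : M * M = t • M - 1) (a b a' b' : F) (ha : a' = a * t + b) (hb : b' = -a) (n : ℕ)
    (h : M ^ n = a • M + b • (1 : Matrix (Fin 2) (Fin 2) F)) :
    M ^ (n + 1) = a' • M + b' • (1 : Matrix (Fin 2) (Fin 2) F) := by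
  rw [pow_succ, h, add_mul, smul_mul_assoc, hsq, smul_mul_assoc, one_mul, ha, hb]
  module

theorem mat_pow_five (M : Matrix (Fin 2) (Fin 2) F) (t : F) (hsq : M * M = t • M - 1) :
    M ^ 5 = (t ^ 4 - 3 * t ^ 2 + 1) • M +
      (-(t ^ 3 - 2 * t)) • (1 : Matrix (Fin 2) (Fin 2) F) := by
  have e1 : M ^ 1 = (1 : F) • M + (0 : F) • (1 : Matrix (Fin 2) (Fin 2) F) := by simp
  have e2 := mat_pow_step M t hsq _ _ t (-1) (by ring) (by ring) 1 e1
  have e3 := mat_pow_step M t hsq _ _ (t ^ 2 - 1) (-t) (by ring) (by ring) 2 e2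
  have e4 := mat_pow_step M t hsq _ _ (t ^ 3 - 2 * t) (-(t ^ 2 - 1)) (by ring) (by ring) 3 e3
  exact mat_pow_step M t hsq _ _ _ _ (by ring) (by ring) 4 e4

theorem mat_pow_three (M : Matrix (Fin 2) (Fin 2) F) (hsq : M * M = (-1 : F) • M - 1) :
    M ^ 3 = 1 := by
  have e1 : M ^ 1 = (1 : F) • M + (0 : F) • (1 : Matrix (Fin 2) (Fin 2) F) := by simp
  have e2 := mat_pow_step M (-1) hsq _ _ (-1) (-1) (by ring) (by ring) 1 e1
  have e3 := mat_pow_step M (-1) hsq _ _ 0 1 (by ring) (by ring) 2 e2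
  rw [e3]
  simp

theorem exists_golden [Fintype F] (h5 : 5 ∣ Fintype.card F * (Fintype.card F ^ 2 - 1)) :
    ∃ τ : F, τ ^ 2 + τ - 1 = 0 := by
  classical
  haveI : Fact (Nat.Prime 5) := ⟨Nat.prime_five⟩
  have hc := card_PSL2_gen (F := F)
  rw [← hc] at h5
  have h5' : 5 ∣ Nat.card PSL(2, F) := by
    have hcop : Nat.Coprime 5 (Nat.gcd 2 (Fintype.card F - 1)) := by
      have : Nat.gcd 2 (Fintype.card F - 1) ∣ 2 := Nat.gcd_dvd_left _ _
      exact Nat.Coprime.coprime_dvd_right this (by norm_num)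
    exact hcop.dvd_of_dvd_mul_left h5
  obtain ⟨z, hz⟩ := exists_prime_orderOf_dvd_card' 5 h5'
  obtain ⟨g, rfl⟩ := QuotientGroup.mk_surjective z
  have hz5 : (QuotientGroup.mk g : PSL(2, F)) ^ 5 = 1 := by
    rw [← hz]
    exact pow_orderOf_eq_one _
  rw [PSL2_mk_pow_eq_one_iff] at hz5
  obtain ⟨a, ha⟩ := hz5
  have ha2 : a * a = 1 := by
    have hdet := (g ^ 5).det_coe
    rw [ha] at hdet
    simpa [Matrix.det_smul, pow_two] using hdet
  have hh5 : (((g * g) ^ 5 : SL(2, F)) : Matrix (Fin 2) (Fin 2) F) = 1 := by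
    have : (g * g) ^ 5 = g ^ 5 * g ^ 5 := by rw [← pow_two, ← pow_mul, ← pow_add]
    rw [this, Matrix.SpecialLinearGroup.coe_mul, ha, smul_mul_smul_comm, mul_one, ha2, one_smul]
  have hns : ¬ ∃ c : F, ((g * g : SL(2, F)) : Matrix (Fin 2) (Fin 2) F) =
      c • (1 : Matrix (Fin 2) (Fin 2) F) := by
    rw [← PSL2_mk_eq_one_iff]
    intro h
    have h' : (QuotientGroup.mk g : PSL(2, F)) ^ 2 = 1 := by
      rw [pow_two]
      exact h
    have := orderOf_dvd_of_pow_eq_one h'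
    rw [hz] at this
    omega
  have hsq := SL2_sq_eq (g * g)
  have h5m := mat_pow_five _ _ hsq
  rw [← Matrix.SpecialLinearGroup.coe_pow, hh5] at h5m
  obtain ⟨M, hM⟩ : ∃ M : Matrix (Fin 2) (Fin 2) F,
      M = ((g * g : SL(2, F)) : Matrix (Fin 2) (Fin 2) F) := ⟨_, rfl⟩
  rw [← hM] at h5m hns
  obtain ⟨t, ht⟩ : ∃ t : F, t = M.trace := ⟨_, rfl⟩
  rw [← ht] at h5m
  refine ⟨t, ?_⟩
  have hA : t ^ 4 - 3 * t ^ 2 + 1 = 0 := by
    by_contra hA
    apply hns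
    refine ⟨(t ^ 4 - 3 * t ^ 2 + 1)⁻¹ * (1 + (t ^ 3 - 2 * t)), ?_⟩
    have h6 : (t ^ 4 - 3 * t ^ 2 + 1) • M =
        (1 + (t ^ 3 - 2 * t)) • (1 : Matrix (Fin 2) (Fin 2) F) := by
      rw [neg_smul, eq_add_neg_iff_add_eq] at h5m
      rw [← h5m]
      module
    rw [mul_smul, ← h6, smul_smul, inv_mul_cancel₀ hA, one_smul]
  have hB : t ^ 3 - 2 * t + 1 = 0 := by
    rw [hA, zero_smul, zero_add] at h5m
    have := congrFun (congrFun h5m 0) 0
    simp at this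
    linear_combination this
  have hfac : (t - 1) * (t ^ 2 + t - 1) = 0 := by linear_combination hB
  rcases mul_eq_zero.mp hfac with h | h
  · exfalso
    have ht1 : t = 1 := by linear_combination h
    rw [ht1] at hA
    norm_num at hA
  · exact h

theorem exists_conic_pt [Fintype F] (τ : F) :
    ∃ b d : F, d ^ 2 + d + b ^ 2 + τ * b * d + 1 = 0 := by
  rcases card_parity_cases (F := F) with ⟨h2, hodd, -⟩ | ⟨h2, -, -⟩
  · obtain ⟨i2, hi⟩ : ∃ i2 : F, 2 * i2 = 1 := ⟨2⁻¹, mul_inv_cancel₀ h2⟩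
    by_cases hτ4 : τ ^ 2 = 4
    · refine ⟨τ * i2, -1, ?_⟩
      linear_combination (i2 ^ 2 - i2) * hτ4 + (2 * i2 - 1) * hi
    · have hα : (1 - τ ^ 2 * i2 ^ 2) ≠ 0 := by
        intro h
        apply hτ4
        linear_combination (-4 : F) * h - τ ^ 2 * (1 + 2 * i2) * hi
      obtain ⟨u, d, hud⟩ := FiniteField.exists_root_sum_quadratic (f := (X : F[X]) ^ 2)
        (g := C (1 - τ ^ 2 * i2 ^ 2) * X ^ 2 + C 1 * X + C 1) (degree_X_pow 2)
        (degree_quadratic hα) hodd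
      simp only [eval_add, eval_mul, eval_pow, eval_X, eval_C, one_mul] at hud
      refine ⟨u - τ * d * i2, d, ?_⟩
      linear_combination hud + (τ ^ 2 * d ^ 2 * i2 - τ * u * d) * hi
  · exact ⟨1, 0, by linear_combination h2⟩

def a5X (τ b d : F) (h : d ^ 2 + d + b ^ 2 + τ * b * d + 1 = 0) : SL(2, F) :=
  ⟨!![-1 - d, b; b + d * τ, d], by rw [Matrix.det_fin_two_of]; linear_combination -h⟩

def a5Y (τ : F) : SL(2, F) := ⟨!![0, -1; 1, τ], by rw [Matrix.det_fin_two_of]; ring⟩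

theorem a5X_pow (τ b d : F) (h : d ^ 2 + d + b ^ 2 + τ * b * d + 1 = 0) :
    (a5X τ b d h) ^ 3 = 1 := by
  apply Subtype.ext
  rw [Matrix.SpecialLinearGroup.coe_pow]
  apply mat_pow_three
  have hsq := SL2_sq_eq (a5X τ b d h)
  have htr : ((a5X τ b d h : SL(2, F)) : Matrix (Fin 2) (Fin 2) F).trace = -1 := by
    rw [Matrix.trace_fin_two]
    show (-1 - d) + d = -1
    ring
  rw [htr] at hsq
  exact hsq

theorem a5Y_pow (τ : F) (hτ : τ ^ 2 + τ - 1 = 0) : (a5Y τ) ^ 5 = 1 := by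
  apply Subtype.ext
  rw [Matrix.SpecialLinearGroup.coe_pow]
  have hsq := SL2_sq_eq (a5Y τ)
  have htr : ((a5Y τ : SL(2, F)) : Matrix (Fin 2) (Fin 2) F).trace = τ := by
    rw [Matrix.trace_fin_two]
    show (0 : F) + τ = τ
    ring
  rw [htr] at hsq
  rw [mat_pow_five _ τ hsq]
  have h1 : τ ^ 4 - 3 * τ ^ 2 + 1 = 0 := by linear_combination (τ ^ 2 - τ - 1) * hτ
  have h2 : -(τ ^ 3 - 2 * τ) = 1 := by linear_combination (-(τ - 1)) * hτ
  rw [h1, h2]
  simp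

theorem a5XY_sq (τ b d : F) (h : d ^ 2 + d + b ^ 2 + τ * b * d + 1 = 0) :
    (((a5X τ b d h * a5Y τ) * (a5X τ b d h * a5Y τ) : SL(2, F)) : Matrix (Fin 2) (Fin 2) F) =
      (-1 : F) • (1 : Matrix (Fin 2) (Fin 2) F) := by
  rw [Matrix.SpecialLinearGroup.coe_mul, SL2_sq_eq]
  have htr : ((a5X τ b d h * a5Y τ : SL(2, F)) : Matrix (Fin 2) (Fin 2) F).trace = 0 := by
    rw [Matrix.trace_fin_two, SL2_mul_00, SL2_mul_11]
    show (-1 - d) * 0 + b * 1 + ((b + d * τ) * (-1) + d * τ) = 0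
    ring
  rw [htr]
  simp

theorem PSL2_exists_A5 [Fintype F] (h5 : 5 ∣ Fintype.card F * (Fintype.card F ^ 2 - 1)) :
    ∃ H : Subgroup PSL(2, F), Nonempty (H ≃* alternatingGroup (Fin 5)) := by
  obtain ⟨τ, hτ⟩ := exists_golden h5
  obtain ⟨b, d, hbd⟩ := exists_conic_pt τ
  obtain ⟨e⟩ := Cfsg.Agent.S3377.result
  obtain ⟨x, hx⟩ : ∃ x : PSL(2, F), x = QuotientGroup.mk (a5X τ b d hbd) := ⟨_, rfl⟩
  obtain ⟨y, hy⟩ : ∃ y : PSL(2, F), y = QuotientGroup.mk (a5Y τ) := ⟨_, rfl⟩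
  have hx3 : x ^ 3 = 1 := by
    rw [hx, ← QuotientGroup.mk_pow, a5X_pow]
    rfl
  have hy5 : y ^ 5 = 1 := by
    rw [hy, ← QuotientGroup.mk_pow, a5Y_pow τ hτ]
    rfl
  have hxy : (x * y) ^ 2 = 1 := by
    rw [hx, hy, pow_two, ← QuotientGroup.mk_mul, ← QuotientGroup.mk_mul, PSL2_mk_eq_one_iff]
    exact ⟨-1, a5XY_sq τ b d hbd⟩
  have hy1 : y ≠ 1 := by
    rw [hy, PSL2_mk_ne_one_iff, SL2_not_scalar_iff]
    right; left
    show (1 : F) ≠ 0
    exact one_ne_zero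
  have hrel : ∀ r ∈ ({FreeGroup.of (0 : Fin 2) ^ 3, FreeGroup.of (1 : Fin 2) ^ 5,
      (FreeGroup.of (0 : Fin 2) * FreeGroup.of 1) ^ 2} : Set (FreeGroup (Fin 2))),
      FreeGroup.lift ![x, y] r = 1 := by
    intro r hr
    rcases hr with rfl | rfl | rfl
    · simp [hx3]
    · simp [hy5]
    · simp [hxy]
  obtain ⟨ψ, hψ⟩ : ∃ ψ : alternatingGroup (Fin 5) →* PSL(2, F),
      ψ = (PresentedGroup.toGroup hrel).comp e.symm.toMonoidHom := ⟨_, rfl⟩
  have hinj : Function.Injective ψ := by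
    rw [← MonoidHom.ker_eq_bot_iff]
    rcases (MonoidHom.normal_ker ψ).eq_bot_or_eq_top with h | h
    · exact h
    · exfalso
      apply hy1
      have h1 : ψ (e (PresentedGroup.of 1)) = 1 := by
        rw [← MonoidHom.mem_ker, h]
        trivial
      rw [hψ] at h1
      simpa using h1
  exact ⟨ψ.range, ⟨(MonoidHom.ofInjective hinj).symm⟩⟩

end a5

end Cfsg.Agent.Lib.helper12
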