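import Mathlib
import Cfsg.Agent.Lib.helper12.DkMax

set_option autoImplicit false

namespace Cfsg.Agent.Lib.helper12

open scoped MatrixGroups

section dkmax2

variable {K : Type*} [Field K]

/-- In characteristic two the commutator of the two standard unipotent elements of `PSL₂` is
not an involution. -/
theorem PSL2_comm_sq_ne (h2 : (2 : K) = 0) :
    ((QuotientGroup.mk (uS (1 : K)) : PSL(2, K)) * QuotientGroup.mk (lS (1 : K)) *
      (QuotientGroup.mk (uS (1 : K)))⁻¹ * (QuotientGroup.mk (lS (1 : K)))⁻¹) ^ 2 ≠ 1 := by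
  have e : ((QuotientGroup.mk (uS (1 : K)) : PSL(2, K)) * QuotientGroup.mk (lS (1 : K)) *
      (QuotientGroup.mk (uS (1 : K)))⁻¹ * (QuotientGroup.mk (lS (1 : K)))⁻¹) ^ 2 =
      QuotientGroup.mk ((uS (1 : K) * lS 1 * (uS 1)⁻¹ * (lS 1)⁻¹) ^ 2) := rfl
  rw [e, PSL2_mk_ne_one_iff]
  rintro ⟨a, ha⟩
  have h01 := congrFun (congrFun ha 0) 1
  rw [sq] at h01
  simp only [SL2_mul_01, SL2_mul_00, SL2_mul_11, SL2_mul_10, SL2_inv_00, SL2_inv_01, SL2_inv_10,
    SL2_inv_11, uS_00, uS_01, uS_10, uS_11, lS_00, lS_01, lS_10, lS_11] at h01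
  simp at h01
  have : (1 : K) = 0 := by linear_combination h01 + 2 * h2
  exact one_ne_zero this

end dkmax2

end Cfsg.Agent.Lib.helper12
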