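import Mathlib
import Cfsg.Agent.Lib.helper12.DkMax2
import Cfsg.Agent.Lib.helper12.PSL2Prod
import Cfsg.Agent.Lib.helper12.PSL2Spec

set_option autoImplicit false

namespace Cfsg.Agent.Lib.helper12

open scoped MatrixGroups

section dkdih

variable {F : Type*} [Field F]

theorem SL2_scalar_of_sq_one (g : SL(2, F)) (h : g * g = 1)
    (ht : (g : Matrix (Fin 2) (Fin 2) F).trace ^ 2 ≠ 4) :
    ∃ a : F, (g : Matrix (Fin 2) (Fin 2) F) = a • (1 : Matrix (Fin 2) (Fin 2) F) := by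
  have h00 := SL2_mul_00 g g
  have h01 := SL2_mul_01 g g
  have h10 := SL2_mul_10 g g
  have h11 := SL2_mul_11 g g
  rw [h] at h00 h01 h10 h11
  simp only [Matrix.SpecialLinearGroup.coe_one, Matrix.one_apply_eq, Matrix.one_apply_ne,
    ne_eq, zero_ne_one, one_ne_zero, not_false_eq_true] at h00 h01 h10 h11
  have hdet : (g : Matrix (Fin 2) (Fin 2) F) 0 0 * (g : Matrix (Fin 2) (Fin 2) F) 1 1 -
      (g : Matrix (Fin 2) (Fin 2) F) 0 1 * (g : Matrix (Fin 2) (Fin 2) F) 1 0 = 1 := by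
    have := g.det_coe
    rw [Matrix.det_fin_two] at this
    exact this
  rw [Matrix.trace_fin_two] at ht
  by_cases hsum : (g : Matrix (Fin 2) (Fin 2) F) 0 0 + (g : Matrix (Fin 2) (Fin 2) F) 1 1 = 0
  · exfalso
    apply ht
    rw [hsum]
    linear_combination (-2 : F) * h00 + 2 * hdet - 2 * (g : Matrix (Fin 2) (Fin 2) F) 0 0 * hsum
  · have hb : (g : Matrix (Fin 2) (Fin 2) F) 0 1 = 0 := by
      have : (g : Matrix (Fin 2) (Fin 2) F) 0 1 *
          ((g : Matrix (Fin 2) (Fin 2) F) 0 0 + (g : Matrix (Fin 2) (Fin 2) F) 1 1) = 0 := by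
        linear_combination -h01
      exact (mul_eq_zero.1 this).resolve_right hsum
    have hc : (g : Matrix (Fin 2) (Fin 2) F) 1 0 = 0 := by
      have : (g : Matrix (Fin 2) (Fin 2) F) 1 0 *
          ((g : Matrix (Fin 2) (Fin 2) F) 0 0 + (g : Matrix (Fin 2) (Fin 2) F) 1 1) = 0 := by
        linear_combination -h10
      exact (mul_eq_zero.1 this).resolve_right hsum
    have had : (g : Matrix (Fin 2) (Fin 2) F) 1 1 = (g : Matrix (Fin 2) (Fin 2) F) 0 0 := by
      rw [hb, hc] at h00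
      rw [hb] at hdet
      linear_combination (g : Matrix (Fin 2) (Fin 2) F) 1 1 * h00 +
        (g : Matrix (Fin 2) (Fin 2) F) 0 0 * hdet
    refine ⟨(g : Matrix (Fin 2) (Fin 2) F) 0 0, ?_⟩
    ext i j
    fin_cases i <;> fin_cases j <;> simp [hb, hc, had]

variable [Fintype F]

theorem exists_normalizer_not_mem (x : PSL(2, F)) (hx : x ≠ 1) (hs : trSq x ≠ 4) :
    ∃ n ∈ Subgroup.normalizer ((Mq x : Subgroup PSL(2, F)) : Set PSL(2, F)), n ∉ Mq x := by
  obtain ⟨g, rfl⟩ := QuotientGroup.mk_surjective x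
  rw [trSq_mk] at hs
  have hx' := hx
  rw [PSL2_mk_ne_one_iff] at hx'
  have htr : (g : Matrix (Fin 2) (Fin 2) F).trace =
      ((g⁻¹ : SL(2, F)) : Matrix (Fin 2) (Fin 2) F).trace := by
    rw [Matrix.trace_fin_two, Matrix.trace_fin_two, SL2_inv_00, SL2_inv_11]
    ring
  obtain ⟨ν, hν⟩ := isConj_iff.1 (SL2_isConj_of_trace_eq g g⁻¹ htr hs)
  refine ⟨QuotientGroup.mk ν, ?_, ?_⟩
  · apply tiPart_Mq.mem_normalizer_of_conj_mem hx (tiPart_Mq.mem _ hx) hx
    have : ((QuotientGroup.mk ν : PSL(2, F)) * QuotientGroup.mk g * (QuotientGroup.mk ν)⁻¹ :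
        PSL(2, F)) = (QuotientGroup.mk g)⁻¹ := by
      show (QuotientGroup.mk (ν * g * ν⁻¹) : PSL(2, F)) = _
      rw [hν]
      rfl
    rw [this]
    exact inv_mem (tiPart_Mq.mem _ hx)
  · rw [mk_mem_Mq_iff]
    intro hc
    apply hx'
    apply SL2_scalar_of_sq_one g _ hs
    have h1 : g = g⁻¹ := by
      rw [← hν, hc]
      group
    calc g * g = g * g⁻¹ := by nth_rewrite 2 [h1]; rfl
      _ = 1 := mul_inv_cancel g

/-- The normaliser of a semisimple piece is dihedral of twice its order. -/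
theorem normalizer_Mq_semi_dihedral (x : PSL(2, F)) (hx : x ≠ 1) (hs : trSq x ≠ 4) :
    Nonempty (Subgroup.normalizer ((Mq x : Subgroup PSL(2, F)) : Set PSL(2, F)) ≃*
      DihedralGroup (Nat.card (Mq x))) ∧
    Nat.card (Subgroup.normalizer ((Mq x : Subgroup PSL(2, F)) : Set PSL(2, F))) =
      2 * Nat.card (Mq x) := by
  obtain ⟨D, hD⟩ : ∃ D, D = Subgroup.normalizer ((Mq x : Subgroup PSL(2, F)) :
      Set PSL(2, F)) := ⟨_, rfl⟩
  rw [← hD]
  have hle : Mq x ≤ D := by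
    rw [hD]
    exact Subgroup.le_normalizer
  obtain ⟨C, hC⟩ : ∃ C : Subgroup D, C = (Mq x).subgroupOf D := ⟨_, rfl⟩
  have eC : C ≃* Mq x := by
    rw [hC]
    exact Subgroup.subgroupOfEquivOfLe hle
  have hmemC : ∀ s : D, s ∈ C ↔ (s : PSL(2, F)) ∈ Mq x := by
    intro s
    rw [hC]
    exact Subgroup.mem_subgroupOf
  haveI := Mq_semi_cyclic x hx hs
  have hCcyc : IsCyclic C := isCyclic_of_surjective eC.symm eC.symm.surjective
  have hCcard : Nat.card C = Nat.card (Mq x) := Nat.card_congr eC.toEquiv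
  have hconj : ∀ s : D, (s : PSL(2, F)) * x * (s : PSL(2, F))⁻¹ ∈ Mq x := by
    intro s
    have h := s.2
    have h' : (s : PSL(2, F)) ∈ Subgroup.normalizer ((Mq x : Subgroup PSL(2, F)) :
        Set PSL(2, F)) := by
      rw [← hD]
      exact h
    exact (Subgroup.mem_normalizer_iff.1 h' x).1 (tiPart_Mq.mem x hx)
  obtain ⟨n, hn, hnot⟩ := exists_normalizer_not_mem x hx hs
  have hidx : C.index = 2 := by
    rw [Subgroup.index_eq_two_iff]
    refine ⟨⟨n, by rw [hD]; exact hn⟩, fun b => ?_⟩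
    rw [hmemC, hmemC]
    by_cases hb : (b : PSL(2, F)) ∈ Mq x
    · refine Or.inr ⟨hb, fun h => hnot ?_⟩
      have := (Mq x).mul_mem (inv_mem hb) h
      simpa using this
    · refine Or.inl ⟨?_, hb⟩
      have hb' : ((b : PSL(2, F)))⁻¹ ∉ Mq x := fun h => hb (by simpa using inv_mem h)
      have hconj' : (b : PSL(2, F))⁻¹ * x * ((b : PSL(2, F))⁻¹)⁻¹ ∈ Mq x := hconj b⁻¹
      have := Mq_semi_index x _ n hx hs hconj' hb'
        ((Subgroup.mem_normalizer_iff.1 hn x).1 (tiPart_Mq.mem x hx)) hnot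
      simpa using this
  have hsC : ∀ s : D, s ∉ C → s * s = 1 ∧ ∀ c ∈ C, s * c * s⁻¹ = c⁻¹ := by
    intro s hsn
    rw [hmemC] at hsn
    obtain ⟨h1, h2⟩ := Mq_semi_normalizer x s hx hs (hconj s) hsn
    exact ⟨Subtype.ext h1, fun c hc => Subtype.ext (h2 c ((hmemC c).1 hc))⟩
  constructor
  · rw [← hCcard]
    exact dihedral_rec C hCcyc hidx hsC
  · rw [← hCcard, ← Subgroup.card_mul_index C, hidx, mul_comm]

theorem exists_semi_plus (p : ℕ) [Fact p.Prime] [CharP F p] :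
    ∃ x : PSL(2, F), x ≠ 1 ∧ trSq x ≠ 4 ∧
      Nat.gcd 2 (Fintype.card F - 1) * Nat.card (Mq x) = Fintype.card F + 1 ∧
      orderOf x = Nat.card (Mq x) := by
  have hq2 : 2 ≤ Fintype.card F := Fintype.one_lt_card
  obtain ⟨x, hord⟩ := PSL2_exists_orderOf_nonsplit (F := F)
  have hd1 := gcd_two_dvd_add_one (Fintype.card F) (by omega)
  have hd : Nat.gcd 2 (Fintype.card F - 1) = 1 ∨ Nat.gcd 2 (Fintype.card F - 1) = 2 := by
    rcases card_parity_cases (F := F) with ⟨-, -, h⟩ | ⟨-, -, h⟩ <;> simp [h]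
  have hsc : ∀ y : PSL(2, F), trSq y ≠ 4 →
      Nat.card (Mq y) * Nat.gcd 2 (Fintype.card F - 1) = Fintype.card F - 1 ∨
      Nat.card (Mq y) * Nat.gcd 2 (Fintype.card F - 1) = Fintype.card F + 1 :=
    fun y hy => Mq_semi_card y hy
  obtain ⟨d, hdd⟩ : ∃ d, d = Nat.gcd 2 (Fintype.card F - 1) := ⟨_, rfl⟩
  rw [← hdd] at hord hd1 hd hsc ⊢
  obtain ⟨n, hn⟩ := hd1
  rw [hn, Nat.mul_div_cancel_left _ (by omega)] at hord
  have hn2 : 2 ≤ n := by
    rcases hd with h | h <;> rw [h] at hn <;> omega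
  have hx : x ≠ 1 := by
    rintro rfl
    rw [orderOf_one] at hord
    omega
  have hs : trSq x ≠ 4 := by
    intro ht
    have h1 := Mq_unip_pow p x x hx ht (tiPart_Mq.mem x hx)
    have h2 : n ∣ p := by
      rw [← hord]
      exact orderOf_dvd_of_pow_eq_one h1
    rcases (Nat.dvd_prime (Fact.out : p.Prime)).1 h2 with h | h
    · omega
    · apply char_not_dvd_card_add_one (F := F) p
      rw [hn, ← h]
      exact dvd_mul_left _ _
  refine ⟨x, hx, hs, ?_⟩
  have hdvd : n ∣ Nat.card (Mq x) := by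
    rw [← hord, ← Subgroup.orderOf_mk x (tiPart_Mq.mem x hx)]
    exact orderOf_dvd_natCard _
  have hcard : Nat.card (Mq x) = n := by
    rcases hsc x hs with h | h
    · exfalso
      have h3 : d * n ∣ Fintype.card F - 1 := by
        rw [← h, mul_comm]
        exact Nat.mul_dvd_mul_right hdvd _
      rw [← hn] at h3
      have := Nat.le_of_dvd (by omega) h3
      omega
    · rw [hn, mul_comm] at h
      exact Nat.eq_of_mul_eq_mul_left (by omega) h
  rw [hcard, hord]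
  exact ⟨hn.symm, rfl⟩

theorem exists_semi_minus (p : ℕ) [Fact p.Prime] [CharP F p] (hq4 : 4 ≤ Fintype.card F) :
    ∃ x : PSL(2, F), x ≠ 1 ∧ trSq x ≠ 4 ∧
      Nat.gcd 2 (Fintype.card F - 1) * Nat.card (Mq x) = Fintype.card F - 1 ∧
      orderOf x = Nat.card (Mq x) := by
  obtain ⟨x, hord⟩ := PSL2_exists_orderOf_split (F := F)
  have hd1 : Nat.gcd 2 (Fintype.card F - 1) ∣ Fintype.card F - 1 := Nat.gcd_dvd_right _ _
  have hd : Nat.gcd 2 (Fintype.card F - 1) = 1 ∨ Nat.gcd 2 (Fintype.card F - 1) = 2 := by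
    rcases card_parity_cases (F := F) with ⟨-, -, h⟩ | ⟨-, -, h⟩ <;> simp [h]
  have hsc : ∀ y : PSL(2, F), trSq y ≠ 4 →
      Nat.card (Mq y) * Nat.gcd 2 (Fintype.card F - 1) = Fintype.card F - 1 ∨
      Nat.card (Mq y) * Nat.gcd 2 (Fintype.card F - 1) = Fintype.card F + 1 :=
    fun y hy => Mq_semi_card y hy
  obtain ⟨d, hdd⟩ : ∃ d, d = Nat.gcd 2 (Fintype.card F - 1) := ⟨_, rfl⟩
  rw [← hdd] at hord hd1 hd hsc ⊢
  obtain ⟨n, hn⟩ := hd1
  rw [hn, Nat.mul_div_cancel_left _ (by omega)] at hord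
  have hn2 : 2 ≤ n := by
    rcases hd with h | h <;> rw [h] at hn <;> omega
  have hx : x ≠ 1 := by
    rintro rfl
    rw [orderOf_one] at hord
    omega
  have hs : trSq x ≠ 4 := by
    intro ht
    have h1 := Mq_unip_pow p x x hx ht (tiPart_Mq.mem x hx)
    have h2 : n ∣ p := by
      rw [← hord]
      exact orderOf_dvd_of_pow_eq_one h1
    rcases (Nat.dvd_prime (Fact.out : p.Prime)).1 h2 with h | h
    · omega
    · apply char_not_dvd_card_sub_one (F := F) p
      rw [hn, ← h]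
      exact dvd_mul_left _ _
  refine ⟨x, hx, hs, ?_⟩
  have hdvd : n ∣ Nat.card (Mq x) := by
    rw [← hord, ← Subgroup.orderOf_mk x (tiPart_Mq.mem x hx)]
    exact orderOf_dvd_natCard _
  have hcard : Nat.card (Mq x) = n := by
    rcases hsc x hs with h | h
    · rw [hn, mul_comm] at h
      exact Nat.eq_of_mul_eq_mul_left (by omega) h
    · exfalso
      have h3 : d * n ∣ Fintype.card F + 1 := by
        rw [← h, mul_comm]
        exact Nat.mul_dvd_mul_right hdvd _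
      rw [← hn] at h3
      have h4 : Fintype.card F - 1 ∣ 2 := by
        have e : Fintype.card F + 1 = (Fintype.card F - 1) + 2 := by omega
        rw [e] at h3
        exact (Nat.dvd_add_right (dvd_refl _)).1 h3
      have := Nat.le_of_dvd (by norm_num) h4
      omega
  rw [hcard, hord]
  exact ⟨hn.symm, rfl⟩

theorem semi_normalizer_sub (x : PSL(2, F)) (hx : x ≠ 1) (hs : trSq x ≠ 4)
    (R : Subgroup PSL(2, F)) (hR : R ≤ Mq x) (hR1 : R ≠ ⊥) :
    Subgroup.normalizer (R : Set PSL(2, F)) =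
      Subgroup.normalizer ((Mq x : Subgroup PSL(2, F)) : Set PSL(2, F)) := by
  haveI := Mq_semi_cyclic x hx hs
  have hcomm : ∀ a ∈ Mq x, ∀ b ∈ Mq x, a * b = b * a := by
    intro a ha b hb
    obtain ⟨γ, hγ⟩ := IsCyclic.exists_generator (α := Mq x)
    obtain ⟨i, hi⟩ := Subgroup.mem_zpowers_iff.1 (hγ ⟨a, ha⟩)
    obtain ⟨j, hj⟩ := Subgroup.mem_zpowers_iff.1 (hγ ⟨b, hb⟩)
    have h1 : (⟨a, ha⟩ : Mq x) * ⟨b, hb⟩ = ⟨b, hb⟩ * ⟨a, ha⟩ := by
      rw [← hi, ← hj, ← zpow_add, ← zpow_add, add_comm]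
    exact congrArg Subtype.val h1
  ext g
  constructor
  · intro hg
    obtain ⟨c, hc⟩ := (Subgroup.ne_bot_iff_exists_ne_one).1 hR1
    have hcR : (c : PSL(2, F)) ∈ R := c.2
    have hc1' : (c : PSL(2, F)) ≠ 1 := fun h => hc (Subtype.ext h)
    exact tiPart_Mq.mem_normalizer_of_conj_mem hx (hR hcR) hc1'
      (hR ((Subgroup.mem_normalizer_iff.1 hg _).1 hcR))
  · intro hg
    have key : ∀ g' ∈ Subgroup.normalizer ((Mq x : Subgroup PSL(2, F)) : Set PSL(2, F)),
        ∀ h ∈ R, g' * h * g'⁻¹ ∈ R := by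
      intro g' hg' h hh
      by_cases hgM : g' ∈ Mq x
      · have : g' * h * g'⁻¹ = h := by
          rw [hcomm g' hgM h (hR hh)]
          group
        rw [this]
        exact hh
      · have h1 := (Mq_semi_normalizer x g' hx hs
          ((Subgroup.mem_normalizer_iff.1 hg' x).1 (tiPart_Mq.mem x hx)) hgM).2 h (hR hh)
        rw [h1]
        exact inv_mem hh
    rw [Subgroup.mem_normalizer_iff]
    intro h
    constructor
    · exact key g hg h
    · intro hh
      have := key g⁻¹ (inv_mem hg) _ hh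
      have e : g⁻¹ * (g * h * g⁻¹) * g⁻¹⁻¹ = h := by group
      rwa [e] at this

/-- Sylow counting for an overgroup of the normaliser of a semisimple piece. -/
theorem dih_sylow_index (x : PSL(2, F)) (hx : x ≠ 1) (hs : trSq x ≠ 4) (H : Subgroup PSL(2, F))
    (hDH : Subgroup.normalizer ((Mq x : Subgroup PSL(2, F)) : Set PSL(2, F)) ≤ H)
    (r : ℕ) [Fact r.Prime] (a : ℕ) (ha : 1 ≤ a)
    (h1 : r ^ a ∣ Nat.card (Mq x)) (h2 : ¬ r ^ (a + 1) ∣ Nat.card H) :
    ∃ m, Nat.card H = Nat.card (Subgroup.normalizer ((Mq x : Subgroup PSL(2, F)) :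
      Set PSL(2, F))) * m ∧ m % r = 1 := by
  have hr : r.Prime := Fact.out
  obtain ⟨R₀, hR₀⟩ := Sylow.exists_subgroup_card_pow_prime r h1
  obtain ⟨R, hRdef⟩ : ∃ R : Subgroup PSL(2, F), R = R₀.map (Mq x).subtype := ⟨_, rfl⟩
  have hRcard : Nat.card R = r ^ a := by
    rw [hRdef, Subgroup.card_map_of_injective (Subgroup.subtype_injective _), hR₀]
  have hRle : R ≤ Mq x := by
    rw [hRdef]
    exact Subgroup.map_subtype_le R₀
  have hR1 : R ≠ ⊥ := by
    rintro rfl
    rw [Subgroup.card_bot] at hRcard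
    have : r ^ 1 ≤ r ^ a := Nat.pow_le_pow_right hr.pos ha
    have := hr.two_le
    rw [pow_one] at *
    omega
  have hN := semi_normalizer_sub x hx hs R hRle hR1
  have hRH : R ≤ H := hRle.trans (Subgroup.le_normalizer.trans hDH)
  obtain ⟨R', hR'def⟩ : ∃ R' : Subgroup H, R' = R.subgroupOf H := ⟨_, rfl⟩
  have hR'card : Nat.card R' = r ^ a := by
    rw [hR'def, Nat.card_congr (Subgroup.subgroupOfEquivOfLe hRH).toEquiv, hRcard]
  have hR'p : IsPGroup r R' := IsPGroup.of_card hR'card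
  obtain ⟨S, hS⟩ := hR'p.exists_le_sylow
  obtain ⟨k, hk⟩ := (IsPGroup.iff_card.1 S.isPGroup')
  have hak : a ≤ k := by
    have : r ^ a ∣ r ^ k := by
      rw [← hR'card, ← hk]
      exact Subgroup.card_dvd_of_le hS
    exact (Nat.pow_dvd_pow_iff_le_right hr.one_lt).1 this
  have hka : k ≤ a := by
    by_contra hcon
    apply h2
    have h3 : r ^ (a + 1) ∣ r ^ k := pow_dvd_pow r (by omega)
    have h4 : r ^ k ∣ Nat.card H := by
      rw [← hk]
      exact Subgroup.card_subgroup_dvd_card _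
    exact dvd_trans h3 h4
  have hSR : R' = (S : Subgroup H) := by
    apply Subgroup.eq_of_le_of_card_ge hS
    rw [hk, hR'card]
    exact Nat.pow_le_pow_right hr.pos hka
  have hNS : Subgroup.normalizer ((S : Subgroup H) : Set H) =
      (Subgroup.normalizer ((Mq x : Subgroup PSL(2, F)) : Set PSL(2, F))).subgroupOf H := by
    rw [← hSR, hR'def, ← Subgroup.subgroupOf_normalizer_eq hRH, hN]
  have hcardN : Nat.card (Subgroup.normalizer ((S : Subgroup H) : Set H)) =
      Nat.card (Subgroup.normalizer ((Mq x : Subgroup PSL(2, F)) : Set PSL(2, F))) := by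
    rw [hNS]
    exact Nat.card_congr (Subgroup.subgroupOfEquivOfLe hDH).toEquiv
  refine ⟨Nat.card (Sylow r H), ?_, ?_⟩
  · rw [S.card_eq_index_normalizer, ← hcardN]
    exact (Subgroup.card_mul_index _).symm
  · have := card_sylow_modEq_one r H
    have h5 : Nat.card (Sylow r H) % r = 1 % r := this
    rw [h5]
    exact Nat.mod_eq_of_lt hr.one_lt

end dkdih

end Cfsg.Agent.Lib.helper12
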