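import Mathlib
import Cfsg.Agent.Lib.helper12.DkA5

set_option autoImplicit false

namespace Cfsg.Agent.Lib.helper12

section solv

theorem solv_perm3 : Group.IsSolvable (Equiv.Perm (Fin 3)) := by
  have hcomm : ∀ a b : Equiv.Perm (Fin 3), Equiv.Perm.sign a = 1 → Equiv.Perm.sign b = 1 →
      a * b = b * a := by decide
  haveI : Group.IsSolvable (alternatingGroup (Fin 3)) := by
    apply Group.isSolvable_of_comm
    intro a b
    apply Subtype.ext
    exact hcomm a b (Equiv.Perm.mem_alternatingGroup.mp a.2)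
      (Equiv.Perm.mem_alternatingGroup.mp b.2)
  apply Group.isSolvable_of_ker_le_range (alternatingGroup (Fin 3)).subtype
    (Equiv.Perm.sign : Equiv.Perm (Fin 3) →* ℤˣ)
  intro x hx
  exact ⟨⟨x, hx⟩, rfl⟩

theorem solv_of_card_three_perm {S : Type*} (hS : Nat.card S = 3) :
    Group.IsSolvable (Equiv.Perm S) := by
  have hfin : Finite S := Nat.finite_of_card_ne_zero (by omega)
  haveI := solv_perm3
  exact Group.isSolvable_of_isSolvable_injective
    (f := ((Finite.equivFinOfCardEq hS).permCongrHom).toMonoidHom)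
    (Finite.equivFinOfCardEq hS).permCongrHom.injective

theorem solv_of_pgroup_index_three {G : Type*} [Group G] [Finite G] (p : ℕ) [Fact p.Prime]
    (P : Subgroup G) (hP : IsPGroup p P) (hidx : P.index = 3) : Group.IsSolvable G := by
  haveI : Group.IsSolvable (Equiv.Perm (G ⧸ P)) :=
    solv_of_card_three_perm (by rw [← Subgroup.index_eq_card]; exact hidx)
  have hker : (MulAction.toPermHom G (G ⧸ P)).ker ≤ P := by
    rw [← Subgroup.normalCore_eq_ker]
    exact Subgroup.normalCore_le P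
  haveI : Group.IsSolvable (MulAction.toPermHom G (G ⧸ P)).ker := by
    have hpk : IsPGroup p (MulAction.toPermHom G (G ⧸ P)).ker := hP.to_le hker
    haveI : Group.IsNilpotent (MulAction.toPermHom G (G ⧸ P)).ker := hpk.isNilpotent
    infer_instance
  exact Group.isSolvable_of_ker_le_range (MulAction.toPermHom G (G ⧸ P)).ker.subtype
    (MulAction.toPermHom G (G ⧸ P)) (by intro x hx; exact ⟨⟨x, hx⟩, rfl⟩)

theorem solv_of_card {G : Type*} [Group G] [Finite G]
    (h : Nat.card G = 6 ∨ Nat.card G = 12 ∨ Nat.card G = 24) : Group.IsSolvable G := by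
  haveI : Fact (Nat.Prime 2) := ⟨Nat.prime_two⟩
  obtain ⟨P⟩ : Nonempty (Sylow 2 G) := inferInstance
  apply solv_of_pgroup_index_three 2 (P : Subgroup G) P.isPGroup'
  have hi := Subgroup.card_mul_index (P : Subgroup G)
  rcases h with h | h | h
  · have := Cfsg.Agent.Lib.helper2.BF.sylow_card_eq P 1 (by rw [h]; decide +kernel)
    rw [this, h] at hi
    omega
  · have := Cfsg.Agent.Lib.helper2.BF.sylow_card_eq P 2 (by rw [h]; decide +kernel)
    rw [this, h] at hi
    omega
  · have := Cfsg.Agent.Lib.helper2.BF.sylow_card_eq P 3 (by rw [h]; decide +kernel)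
    rw [this, h] at hi
    omega

theorem solv_of_cyclic {H : Type*} [Group H] (h : IsCyclic H) : Group.IsSolvable H := by
  apply Group.isSolvable_of_comm
  intro x y
  obtain ⟨g, hg⟩ := h.exists_generator
  obtain ⟨i, rfl⟩ := Subgroup.mem_zpowers_iff.mp (hg x)
  obtain ⟨j, rfl⟩ := Subgroup.mem_zpowers_iff.mp (hg y)
  rw [← zpow_add, ← zpow_add, add_comm]

def dihSign (k : ℕ) : DihedralGroup k → ℤˣ
  | .r _ => 1
  | .sr _ => -1

def dihSignHom (k : ℕ) : DihedralGroup k →* ℤˣ where
  toFun := dihSign k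
  map_one' := rfl
  map_mul' := by
    rintro (a | a) (b | b) <;> simp [dihSign]

theorem solv_dihedral (k : ℕ) : Group.IsSolvable (DihedralGroup k) := by
  haveI : Group.IsSolvable (dihSignHom k).ker := by
    apply Group.isSolvable_of_comm
    rintro ⟨a, ha⟩ ⟨b, hb⟩
    apply Subtype.ext
    have key : ∀ i : ZMod k, DihedralGroup.sr i ∉ (dihSignHom k).ker := by
      intro i h
      have h' : (-1 : ℤˣ) = 1 := h
      revert h'
      decide
    cases a with
    | r i =>
      cases b with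
      | r j =>
        show DihedralGroup.r i * DihedralGroup.r j = DihedralGroup.r j * DihedralGroup.r i
        simp [add_comm]
      | sr j => exact absurd hb (key j)
    | sr i => exact absurd ha (key i)
  exact Group.isSolvable_of_ker_le_range (dihSignHom k).ker.subtype (dihSignHom k)
    (by intro x hx; exact ⟨⟨x, hx⟩, rfl⟩)

theorem solv_of_iso {H K : Type*} [Group H] [Group K] (e : H ≃* K) (h : Group.IsSolvable K) :
    Group.IsSolvable H :=
  Group.isSolvable_of_isSolvable_injective (f := e.toMonoidHom) e.injective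

end solv

section nt

theorem eq_of_pow_eq_prime_pow (k m ℓ r : ℕ) (hℓ : ℓ.Prime) (hr : r.Prime) (hm : 2 ≤ m)
    (h : k ^ m = ℓ ^ r) : k = ℓ := by
  have hkd : k ∣ ℓ ^ r := by
    rw [← h]
    exact dvd_pow_self _ (by omega)
  obtain ⟨j, hj2, hj⟩ := (Nat.dvd_prime_pow hℓ).mp hkd
  rw [hj, ← pow_mul] at h
  have hjm : j * m = r := Nat.pow_right_injective hℓ.two_le h
  have hmr : m ∣ r := ⟨j, by rw [← hjm]; ring⟩
  rcases (Nat.dvd_prime hr).mp hmr with h1 | h1
  · omega
  · rw [h1] at hjm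
    have hj1 : j = 1 := by
      have hr0 : 0 < r := hr.pos
      exact Nat.eq_of_mul_eq_mul_right hr0 (by rw [hjm, one_mul])
    rw [hj, hj1, pow_one]

theorem four_pow_mod_five_odd (k : ℕ) : 4 ^ (2 * k + 1) % 5 = 4 := by
  rw [pow_succ, pow_mul, Nat.mul_mod, Nat.pow_mod]
  norm_num

/-- `k (k² - 1)` is much smaller than `q (q² - 1)` when `q ≥ k²`, `k ≥ 2`. -/
theorem subfield_card_lt (k q : ℕ) (hk : 2 ≤ k) (hq : k ^ 2 ≤ q) :
    2 * (k * (k ^ 2 - 1)) < q * (q ^ 2 - 1) := by
  obtain ⟨u, hu⟩ : ∃ u, k ^ 2 = u + 1 := ⟨k ^ 2 - 1, by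
    have : 1 ≤ k ^ 2 := Nat.one_le_pow _ _ (by omega)
    omega⟩
  have hu3 : 3 ≤ u := by nlinarith
  rw [hu] at hq
  rw [hu, Nat.add_sub_cancel]
  have h1 : (u + 1) ^ 2 ≤ q ^ 2 := Nat.pow_le_pow_left hq 2
  have h2 : (u + 1) ^ 2 = u * (u + 2) + 1 := by ring
  have h3 : u * (u + 2) ≤ q ^ 2 - 1 := by omega
  have h4 : (u + 1) * (u * (u + 2)) ≤ q * (q ^ 2 - 1) := Nat.mul_le_mul hq h3
  have h5 : 2 * k < (u + 1) * (u + 2) := by nlinarith
  have h6 : 2 * k * u < (u + 1) * (u + 2) * u := Nat.mul_lt_mul_of_pos_right h5 (by omega)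
  have h7 : (u + 1) * (u + 2) * u = (u + 1) * (u * (u + 2)) := by ring
  have h8 : 2 * (k * u) = 2 * k * u := by ring
  omega

end nt

section pslsolv

open scoped MatrixGroups

variable {F : Type*} [Field F]

theorem Mq_comm (x : PSL(2, F)) (hx : x ≠ 1) {a b : PSL(2, F)} (ha : a ∈ Mq x) (hb : b ∈ Mq x) :
    a * b = b * a := by
  by_cases ha1 : a = 1
  · rw [ha1]; simp
  have h1 := tiPart_Mq.eq_of_mem x a hx ha1 ha
  rw [← h1] at hb
  obtain ⟨g, rfl⟩ := QuotientGroup.mk_surjective a
  obtain ⟨h, rfl⟩ := QuotientGroup.mk_surjective b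
  rw [mk_mem_Mq_iff] at hb
  rw [← QuotientGroup.mk_mul, ← QuotientGroup.mk_mul, hb]

theorem PSL2_not_comm : ¬ ∀ a b : PSL(2, F), a * b = b * a := by
  intro h
  have h1 := h (QuotientGroup.mk (uS 1)) (QuotientGroup.mk (lS 1))
  have h2 : (QuotientGroup.mk ((uS (1 : F) * lS 1) * (lS 1 * uS 1)⁻¹) : PSL(2, F)) = 1 := by
    rw [QuotientGroup.mk_mul, QuotientGroup.mk_inv, QuotientGroup.mk_mul, QuotientGroup.mk_mul,
      h1]
    group
  have h3 : (QuotientGroup.mk ((uS (1 : F) * lS 1) * (lS 1 * uS 1)⁻¹) : PSL(2, F)) ≠ 1 := by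
    rw [PSL2_mk_ne_one_iff, SL2_not_scalar_iff]
    right; left
    rw [SL2_mul_10, SL2_inv_00, SL2_inv_10, SL2_mul_10, SL2_mul_11, SL2_mul_10, SL2_mul_11]
    simp only [uS_00, uS_01, uS_10, uS_11, lS_00, lS_01, lS_10, lS_11]
    norm_num
  exact h3 h2

theorem PSL2_not_solvable [Fintype F] (hK : 4 ≤ Fintype.card F) :
    ¬ Group.IsSolvable PSL(2, F) := by
  haveI := Matrix.ProjectiveSpecialLinearGroup.rank_two_simple (F := F)
    (by rw [Nat.card_eq_fintype_card]; exact hK)
  intro h
  exact PSL2_not_comm (IsSimpleGroup.comm_iff_isSolvable.mpr h)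

theorem PGL2_not_solvable [Fintype F] (hK : 4 ≤ Fintype.card F) :
    ¬ Group.IsSolvable PGL(2, F) := by
  intro h
  apply PSL2_not_solvable hK
  exact Group.isSolvable_of_isSolvable_injective Matrix.ProjectiveSpecialLinearGroup.toPGL_injective

theorem alt5_not_solvable : ¬ Group.IsSolvable (alternatingGroup (Fin 5)) := by
  intro h
  have hc := IsSimpleGroup.comm_iff_isSolvable.mpr h
  obtain ⟨⟨x, y, hx, hy, hxy⟩, -⟩ := hasF12_alt5
  exact hxy (hc x y)

variable [Fintype F]

theorem solv_borel (p : ℕ) [Fact p.Prime] [CharP F p] (P : Sylow p PSL(2, F)) :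
    Group.IsSolvable (Subgroup.normalizer ((P : Subgroup PSL(2, F)) : Set PSL(2, F))) := by
  obtain ⟨f, hf⟩ := sylow_normalizer_hom p P
  obtain ⟨x, hx, ht, e⟩ := sylow_eq_Mq p P
  haveI : Group.IsSolvable f.ker := by
    apply Group.isSolvable_of_comm
    rintro ⟨a, ha⟩ ⟨b, hb⟩
    apply Subtype.ext
    apply Subtype.ext
    have ha' : (a : PSL(2, F)) ∈ Mq x := by rw [← e]; exact (hf a).mp ha
    have hb' : (b : PSL(2, F)) ∈ Mq x := by rw [← e]; exact (hf b).mp hb
    exact Mq_comm x hx ha' hb'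
  exact Group.isSolvable_of_ker_le_range f.ker.subtype f (by intro y hy; exact ⟨⟨y, hy⟩, rfl⟩)

theorem dkd_two_le (H : Subgroup PSL(2, F)) (hH : H ≠ ⊤) (K : Type) [Field K] [Fintype K]
    (m : ℕ) (hm : Fintype.card K ^ m = Fintype.card F)
    (h : Nonempty (H ≃* PSL(2, K)) ∨ Nonempty (H ≃* PGL(2, K))) : 2 ≤ m := by
  classical
  have hq2 : 2 ≤ Fintype.card F := Fintype.one_lt_card
  have hG := card_PSL2_gen (F := F)
  have hd : Nat.gcd 2 (Fintype.card F - 1) = 1 ∨ Nat.gcd 2 (Fintype.card F - 1) = 2 := by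
    rcases card_parity_cases (F := F) with ⟨-, -, h⟩ | ⟨-, -, h⟩ <;> simp [h]
  have hlt : Nat.card H < Nat.card PSL(2, F) := by
    have hle := Subgroup.card_le_card_group H
    rcases lt_or_eq_of_le hle with h | h
    · exact h
    · exact absurd (Subgroup.eq_top_of_card_eq H h) hH
  have hGK := card_PSL2_gen (F := K)
  have hPK := card_PGL2 K
  have hm0 : m ≠ 0 := by
    rintro rfl
    simp at hm
    omega
  have hm1 : m ≠ 1 := by
    rintro rfl
    rw [pow_one] at hm
    rcases h with ⟨⟨f⟩⟩ | ⟨⟨f⟩⟩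
    · have h1 : Nat.card H = Nat.card PSL(2, K) := Nat.card_congr f.toEquiv
      rw [hm] at hGK
      have h2 : Nat.gcd 2 (Fintype.card F - 1) * Nat.card H =
          Nat.gcd 2 (Fintype.card F - 1) * Nat.card PSL(2, F) := by
        rw [h1, hGK, hG]
      have h3 := Nat.eq_of_mul_eq_mul_left (by omega) h2
      omega
    · have h1 : Nat.card H = Nat.card (Matrix.ProjGenLinGroup (Fin 2) K) :=
        Nat.card_congr f.toEquiv
      rw [hPK, hm, ← hG] at h1
      have : Nat.card PSL(2, F) ≤ Nat.gcd 2 (Fintype.card F - 1) * Nat.card PSL(2, F) :=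
        Nat.le_mul_of_pos_left _ (by omega)
      omega
  omega

/-- Proper subgroups of `PSL₂(q)` are solvable, or `A₅`, or of subfield type over a field with
at least four elements. -/
theorem dk_solv (p : ℕ) [Fact p.Prime] [CharP F p] (H : Subgroup PSL(2, F)) (hH : H ≠ ⊤) :
    Group.IsSolvable H ∨ Nonempty (H ≃* alternatingGroup (Fin 5)) ∨
    (∃ (K : Type) (_ : Field K) (_ : Fintype K) (m : ℕ), 2 ≤ m ∧
      Fintype.card K ^ m = Fintype.card F ∧ 4 ≤ Fintype.card K) := by
  classical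
  rcases dk_final p H with ⟨k, -, h⟩ | ⟨P, K, hK, ⟨f⟩⟩ | ⟨⟨f⟩⟩ | ⟨⟨f⟩⟩ | ⟨⟨f⟩⟩ |
    ⟨K, iK, iF, m, hm, h⟩
  · left
    rcases h with ⟨hc, -⟩ | ⟨⟨f⟩⟩
    · exact solv_of_cyclic hc
    · exact solv_of_iso f (solv_dihedral k)
  · left
    haveI := solv_borel p P
    have : Group.IsSolvable K :=
      Group.isSolvable_of_isSolvable_injective (Subgroup.inclusion_injective hK)
    exact solv_of_iso f this
  · left
    exact solv_of_iso f (solv_of_card (Or.inr (Or.inl card_alt4)))
  · left
    exact solv_of_iso f (solv_of_card (Or.inr (Or.inr card_perm4)))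
  · right; left
    exact ⟨f⟩
  · have hm2 := dkd_two_le H hH K m hm h
    by_cases hK4 : 4 ≤ Fintype.card K
    · right; right
      exact ⟨K, iK, iF, m, hm2, hm, hK4⟩
    · left
      have hk2 : 2 ≤ Fintype.card K := Fintype.one_lt_card
      have hGK := card_PSL2_gen (F := K)
      have hPK := card_PGL2 K
      have hk : Fintype.card K = 2 ∨ Fintype.card K = 3 := by omega
      rcases h with ⟨⟨f⟩⟩ | ⟨⟨f⟩⟩
      · apply solv_of_iso f
        apply solv_of_card
        rcases hk with hk | hk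
        · rw [hk] at hGK
          left
          simpa using hGK
        · rw [hk] at hGK
          right; left
          simp only [Nat.reduceSub, Nat.reduceGcd, Nat.reducePow, Nat.reduceMul] at hGK
          omega
      · apply solv_of_iso f
        haveI : Finite PGL(2, K) := Nat.finite_of_card_ne_zero (by
          rw [hPK]
          rcases hk with hk | hk <;> rw [hk] <;> norm_num)
        apply solv_of_card
        rcases hk with hk | hk
        · rw [hk] at hPK
          left
          simpa using hPK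
        · rw [hk] at hPK
          right; right
          simpa using hPK

end pslsolv

end Cfsg.Agent.Lib.helper12
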