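import Mathlib
import Cfsg.Agent.Lib.helper12.DkMinSimple
import Cfsg.Agent.Lib.helper12.DkDih
import Cfsg.Agent.Lib.helper12.GL2Syl

set_option autoImplicit false

namespace Cfsg.Agent.Lib.helper12

open scoped MatrixGroups

section redgen

variable {G : Type*} [Group G] [Finite G]

theorem exists_ne_sylow_of_two {p : ℕ} (Q : Sylow p G) (x : G)
    (h : ∃ P₁ P₂ : Sylow p G, P₁ ≠ P₂ ∧ x ∈ P₁ ∧ x ∈ P₂) :
    ∃ P : Sylow p G, P ≠ Q ∧ x ∈ P := by
  obtain ⟨P₁, P₂, hne, h1, h2⟩ := h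
  by_cases hQ : P₁ = Q
  · exact ⟨P₂, fun h => hne (hQ.trans h.symm), h2⟩
  · exact ⟨P₁, hQ, h1⟩

/-- If every element of `N` outside `C` is an involution inverting the `2`-element `x`, while
`C` centralises `x`, and `N` is not a `2`-group, then `x` lies in two Sylow `2`-subgroups. -/
theorem two_sylow_of_inverting (N C : Subgroup G) (x : G)
    (hx2 : ∃ k : ℕ, orderOf x = 2 ^ k)
    (hC : ∀ n ∈ C, n * x * n⁻¹ = x)
    (hN : ∀ n ∈ N, n ∉ C → n * n = 1 ∧ n * x * n⁻¹ = x⁻¹)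
    (hex : ∃ n ∈ N, n ∉ C) (hnot : ¬ IsPGroup 2 N) :
    ∃ P₁ P₂ : Sylow 2 G, P₁ ≠ P₂ ∧ x ∈ P₁ ∧ x ∈ P₂ := by
  haveI : Fact (Nat.Prime 2) := ⟨Nat.prime_two⟩
  obtain ⟨k, hk⟩ := hx2
  have hZ : IsPGroup 2 (Subgroup.zpowers x) := by
    apply IsPGroup.of_card (n := k)
    rw [Nat.card_zpowers, hk]
  obtain ⟨P, hP⟩ := hZ.exists_le_sylow
  have hxP : x ∈ P := hP (Subgroup.mem_zpowers x)
  by_contra hcon
  have huniq : ∀ P' : Sylow 2 G, x ∈ P' → P' = P := by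
    intro P' hx'
    by_contra hne
    exact hcon ⟨P', P, hne, hx', hxP⟩
  have hnorm : ∀ n ∈ N, n ∈ Subgroup.normalizer ((P : Subgroup G) : Set G) := by
    intro n hn
    refine Sylow.smul_eq_iff_mem_normalizer.1 (huniq _ ?_)
    show x ∈ ((n • P : Sylow 2 G) : Subgroup G)
    rw [mem_sylow_smul]
    by_cases hnC : n ∈ C
    · have h1 := hC n hnC
      have e : n⁻¹ * x * n = x := by
        calc n⁻¹ * x * n = n⁻¹ * (n * x * n⁻¹) * n := by rw [h1]
          _ = x := by group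
      rw [e]
      exact hxP
    · have h1 := (hN n hn hnC).2
      have e : n⁻¹ * x * n = x⁻¹ := by
        have h2 : x = n⁻¹ * x⁻¹ * n := by rw [← h1]; group
        calc n⁻¹ * x * n = (n⁻¹ * x⁻¹ * n)⁻¹ := by group
          _ = x⁻¹ := by rw [← h2]
      rw [e]
      exact inv_mem hxP
  have hinv : ∀ n ∈ N, n ∉ C → n ∈ (P : Subgroup G) := by
    intro n hn hnC
    have hsq := (hN n hn hnC).1
    have hZn : IsPGroup 2 (Subgroup.zpowers n) := by
      rintro ⟨g, hg⟩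
      obtain ⟨i, rfl⟩ := Subgroup.mem_zpowers_iff.1 hg
      refine ⟨1, Subtype.ext ?_⟩
      show (n ^ i) ^ 2 ^ 1 = 1
      rw [pow_one, ← zpow_natCast, ← zpow_mul, mul_comm, zpow_mul, zpow_natCast, pow_two, hsq,
        one_zpow]
    have hle : Subgroup.zpowers n ≤ Subgroup.normalizer ((P : Subgroup G) : Set G) := by
      rw [Subgroup.zpowers_le]
      exact hnorm n hn
    have hsup := IsPGroup.to_sup_of_normal_right' hZn P.isPGroup' hle
    have h3 := P.is_maximal' hsup le_sup_right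
    rw [← h3]
    exact Subgroup.mem_sup_left (Subgroup.mem_zpowers n)
  obtain ⟨n₁, hn₁, hn₁C⟩ := hex
  have hNP : N ≤ (P : Subgroup G) := by
    intro n hn
    by_cases hnC : n ∈ C
    · have h1 : n * n₁ ∉ C := fun h => hn₁C (by
        have := C.mul_mem (C.inv_mem hnC) h
        simpa using this)
      have h2 := hinv (n * n₁) (N.mul_mem hn hn₁) h1
      have h3 := hinv n₁ hn₁ hn₁C
      have := (P : Subgroup G).mul_mem h2 ((P : Subgroup G).inv_mem h3)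
      simpa using this
    · exact hinv n hn hnC
  exact hnot (P.isPGroup'.to_le hNP)

/-- Two Sylow subgroups that commute elementwise coincide. -/
theorem sylow_eq_of_comm {p : ℕ} [Fact p.Prime] (P Q : Sylow p G)
    (h : ∀ a ∈ P, ∀ b ∈ Q, a * b = b * a) : P = Q := by
  have hle : (P : Subgroup G) ≤ Subgroup.normalizer ((Q : Subgroup G) : Set G) := by
    intro a ha
    rw [Subgroup.mem_normalizer_iff]
    intro b
    constructor
    · intro hb
      have e : a * b * a⁻¹ = b := by rw [h a ha b hb]; group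
      rw [e]
      exact hb
    · intro hb
      have h0 := h a ha _ hb
      have e : a * b * a⁻¹ = b := by
        have h1 : a * (a * b * a⁻¹) = a * b := by rw [h0]; group
        exact mul_left_cancel h1
      rw [← e]
      exact hb
  have hsup := IsPGroup.to_sup_of_normal_right' P.isPGroup' Q.isPGroup' hle
  have h1 := Q.is_maximal' hsup le_sup_right
  have hPQ : (P : Subgroup G) ≤ Q := by
    rw [← h1]
    exact le_sup_left
  have h2 := P.is_maximal' Q.isPGroup' hPQ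
  exact Sylow.ext h2.symm

end redgen

section redpsl

variable {F : Type*} [Field F] [Fintype F]

theorem odd_char_facts (ℓ : ℕ) [Fact ℓ.Prime] [CharP F ℓ] (hℓ : ℓ ≠ 2) :
    (2 : F) ≠ 0 ∧ Fintype.card F % 2 = 1 ∧ Nat.gcd 2 (Fintype.card F - 1) = 2 := by
  rcases card_parity_cases (F := F) with h | ⟨h2, -, -⟩
  · exact h
  · exfalso
    have h3 : ((2 : ℕ) : F) = 0 := by simpa using h2
    rw [CharP.cast_eq_zero_iff F ℓ] at h3
    exact hℓ ((Nat.prime_dvd_prime_iff_eq Fact.out Nat.prime_two).1 h3)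

theorem trSq_ne_four_of_coprime (ℓ : ℕ) [Fact ℓ.Prime] [CharP F ℓ] (x : PSL(2, F)) (hx : x ≠ 1)
    (m : ℕ) (hm : x ^ m = 1) (hcop : Nat.Coprime m ℓ) : trSq x ≠ 4 := by
  intro ht
  have h1 := Mq_unip_pow ℓ x x hx ht (tiPart_Mq.mem x hx)
  have h2 : orderOf x ∣ Nat.gcd m ℓ :=
    Nat.dvd_gcd (orderOf_dvd_of_pow_eq_one hm) (orderOf_dvd_of_pow_eq_one h1)
  rw [hcop.gcd_eq_one] at h2
  exact hx (orderOf_eq_one_iff.1 (Nat.dvd_one.1 h2))

theorem mem_Mq_of_comm_semi (x y : PSL(2, F)) (hx : x ≠ 1) (hs : trSq x ≠ 4) (hx2 : x * x ≠ 1)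
    (hc : y * x = x * y) : y ∈ Mq x := by
  by_contra hy
  have h := (Mq_semi_normalizer x y hx hs
    (by rw [hc, mul_inv_cancel_right]; exact tiPart_Mq.mem x hx) hy).2 x (tiPart_Mq.mem x hx)
  rw [hc, mul_inv_cancel_right] at h
  exact hx2 (mul_eq_one_iff_eq_inv.2 h)

/-- A Sylow `p`-subgroup (`p` odd, not the characteristic) lies in the piece of each of its
non-identity elements. -/
theorem sylow_odd_le_Mq (ℓ : ℕ) [Fact ℓ.Prime] [CharP F ℓ] (p : ℕ) [Fact p.Prime] (hp2 : p ≠ 2)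
    (hpℓ : p ≠ ℓ) (R : Sylow p PSL(2, F)) (z : PSL(2, F)) (hz1 : z ≠ 1) (hzR : z ∈ R) :
    (R : Subgroup PSL(2, F)) ≤ Mq z := by
  have hpp : p.Prime := Fact.out
  have hℓp : ℓ.Prime := Fact.out
  haveI : Nontrivial (R : Subgroup PSL(2, F)) :=
    ⟨⟨⟨z, hzR⟩, 1, fun h => hz1 (congrArg Subtype.val h)⟩⟩
  haveI := R.isPGroup'.center_nontrivial
  obtain ⟨⟨w, hwc⟩, hw1⟩ := exists_ne (1 : Subgroup.center (R : Subgroup PSL(2, F)))
  have hw1' : (w : PSL(2, F)) ≠ 1 := fun h => hw1 (Subtype.ext (Subtype.ext h))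
  obtain ⟨k, hk⟩ := R.isPGroup' w
  have hk' : (w : PSL(2, F)) ^ p ^ k = 1 := by
    have := congrArg (fun q : (R : Subgroup PSL(2, F)) => (q : PSL(2, F))) hk
    simpa using this
  have hcop : Nat.Coprime (p ^ k) ℓ :=
    Nat.Coprime.pow_left k ((Nat.coprime_primes hpp hℓp).2 hpℓ)
  have hs : trSq (w : PSL(2, F)) ≠ 4 := trSq_ne_four_of_coprime ℓ _ hw1' _ hk' hcop
  have hw2 : (w : PSL(2, F)) * (w : PSL(2, F)) ≠ 1 := by
    intro h
    have h2 : orderOf (w : PSL(2, F)) ∣ Nat.gcd 2 (p ^ k) :=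
      Nat.dvd_gcd (orderOf_dvd_of_pow_eq_one (by rw [pow_two]; exact h))
        (orderOf_dvd_of_pow_eq_one hk')
    have hc2 : Nat.Coprime 2 (p ^ k) :=
      Nat.Coprime.pow_right k ((Nat.coprime_primes Nat.prime_two hpp).2 (Ne.symm hp2))
    rw [hc2.gcd_eq_one] at h2
    exact hw1' (orderOf_eq_one_iff.1 (Nat.dvd_one.1 h2))
  have hall : ∀ y ∈ (R : Subgroup PSL(2, F)), y ∈ Mq (w : PSL(2, F)) := by
    intro y hy
    apply mem_Mq_of_comm_semi _ _ hw1' hs hw2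
    have := Subgroup.mem_center_iff.1 hwc ⟨y, hy⟩
    have h2 := congrArg (fun q : (R : Subgroup PSL(2, F)) => (q : PSL(2, F))) this
    simpa using h2
  have hzw : Mq z = Mq (w : PSL(2, F)) := tiPart_Mq.eq_of_mem _ _ hw1' hz1 (hall z hzR)
  rw [hzw]
  exact hall

theorem sylow_odd_unique (ℓ : ℕ) [Fact ℓ.Prime] [CharP F ℓ] (p : ℕ) [Fact p.Prime] (hp2 : p ≠ 2)
    (hpℓ : p ≠ ℓ) (P Q : Sylow p PSL(2, F)) (z : PSL(2, F)) (hz1 : z ≠ 1) (hzP : z ∈ P)
    (hzQ : z ∈ Q) : P = Q := by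
  have h1 := sylow_odd_le_Mq ℓ p hp2 hpℓ P z hz1 hzP
  have h2 := sylow_odd_le_Mq ℓ p hp2 hpℓ Q z hz1 hzQ
  exact sylow_eq_of_comm P Q (fun a ha b hb => Mq_comm z hz1 (h1 ha) (h2 hb))

theorem sylow_char_unique (ℓ : ℕ) [Fact ℓ.Prime] [CharP F ℓ] (P Q : Sylow ℓ PSL(2, F))
    (x : PSL(2, F)) (hx : x ≠ 1) (hP : x ∈ P) (hQ : x ∈ Q) : P = Q := by
  obtain ⟨a, ha, -, eP⟩ := sylow_eq_Mq ℓ P
  obtain ⟨b, hb, -, eQ⟩ := sylow_eq_Mq ℓ Q
  apply Sylow.ext
  have h1 : x ∈ Mq a := by rw [← eP]; exact hP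
  have h2 : x ∈ Mq b := by rw [← eQ]; exact hQ
  rw [eP, eQ, ← tiPart_Mq.eq_of_mem a x ha hx h1, ← tiPart_Mq.eq_of_mem b x hb hx h2]

/-- In odd characteristic, a non-identity `2`-element lies in two Sylow `2`-subgroups unless
`q ± 1` is a power of `2`. -/
theorem PSL2_two_sylow (ℓ : ℕ) [Fact ℓ.Prime] [CharP F ℓ] (hℓ : ℓ ≠ 2)
    (h1 : ¬ ∃ k : ℕ, Fintype.card F + 1 = 2 ^ k) (h3 : ¬ ∃ k : ℕ, Fintype.card F = 2 ^ k + 1)
    (x : PSL(2, F)) (hx : x ≠ 1) (hord : ∃ k : ℕ, orderOf x = 2 ^ k) :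
    ∃ P₁ P₂ : Sylow 2 PSL(2, F), P₁ ≠ P₂ ∧ x ∈ P₁ ∧ x ∈ P₂ := by
  have hℓp : ℓ.Prime := Fact.out
  obtain ⟨-, -, hg⟩ := odd_char_facts (F := F) ℓ hℓ
  have hq2 : 2 ≤ Fintype.card F := Fintype.one_lt_card
  obtain ⟨k, hk⟩ := hord
  have hs : trSq x ≠ 4 := trSq_ne_four_of_coprime ℓ x hx (2 ^ k)
    (by rw [← hk]; exact pow_orderOf_eq_one x)
    (Nat.Coprime.pow_left k ((Nat.coprime_primes Nat.prime_two hℓp).2 (Ne.symm hℓ)))
  apply two_sylow_of_inverting (Subgroup.normalizer ((Mq x : Subgroup PSL(2, F)) :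
    Set PSL(2, F))) (Mq x) x ⟨k, hk⟩
  · intro n hn
    rw [Mq_comm x hx hn (tiPart_Mq.mem x hx)]
    group
  · intro n hn hnC
    have := Mq_semi_normalizer x n hx hs
      ((Subgroup.mem_normalizer_iff.1 hn x).1 (tiPart_Mq.mem x hx)) hnC
    exact ⟨this.1, this.2 x (tiPart_Mq.mem x hx)⟩
  · exact exists_normalizer_not_mem x hx hs
  · intro hP
    obtain ⟨a, ha⟩ := IsPGroup.iff_card.1 hP
    rw [(normalizer_Mq_semi_dihedral x hx hs).2] at ha
    rcases Mq_semi_card x hs with h | h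
    · rw [hg, mul_comm, ha] at h
      exact h3 ⟨a, by omega⟩
    · rw [hg, mul_comm, ha] at h
      exact h1 ⟨a, by omega⟩

theorem red_sq_fac (q : ℕ) (hq : 1 ≤ q) : q ^ 2 - 1 = (q - 1) * (q + 1) := by
  obtain ⟨k, rfl⟩ : ∃ k, q = k + 1 := ⟨q - 1, by omega⟩
  have : (k + 1) ^ 2 = k * (k + 1 + 1) + 1 := by ring
  rw [this]
  simp

/-- If `q + 1` or `q - 1` is `2 ^ k` (`k ≥ 2`), every Sylow `2`-subgroup of `PSL₂(q)` has an
element lying in no other Sylow `2`-subgroup. -/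
theorem sylow_two_unique_of_pow (ℓ : ℕ) [Fact ℓ.Prime] [CharP F ℓ] (hℓ : ℓ ≠ 2)
    (k : ℕ) (hk : 2 ≤ k)
    (hq : Fintype.card F + 1 = 2 ^ k ∨ Fintype.card F - 1 = 2 ^ k) (Q : Sylow 2 PSL(2, F)) :
    ∃ x : PSL(2, F), x ∈ Q ∧ ∀ P : Sylow 2 PSL(2, F), x ∈ P → P = Q := by
  classical
  haveI : Fact (Nat.Prime 2) := ⟨Nat.prime_two⟩
  obtain ⟨-, hodd, hg⟩ := odd_char_facts (F := F) ℓ hℓ
  have hq2 : 2 ≤ Fintype.card F := Fintype.one_lt_card
  have hG := card_PSL2_gen (F := F)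
  rw [hg] at hG
  have hfac := red_sq_fac (Fintype.card F) (by omega)
  have h4k : 2 ^ 2 ≤ 2 ^ k := Nat.pow_le_pow_right (by norm_num) hk
  obtain ⟨x₀, hx1, hx4, hxc, hxo⟩ : ∃ x : PSL(2, F), x ≠ 1 ∧ trSq x ≠ 4 ∧
      2 * Nat.card (Mq x) = 2 ^ k ∧ orderOf x = Nat.card (Mq x) := by
    rcases hq with h | h
    · obtain ⟨x, a, b, c, d⟩ := exists_semi_plus (F := F) ℓ
      rw [hg, h] at c
      exact ⟨x, a, b, c, d⟩
    · have h4 : 4 ≤ Fintype.card F := by omega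
      obtain ⟨x, a, b, c, d⟩ := exists_semi_minus (F := F) ℓ h4
      rw [hg, h] at c
      exact ⟨x, a, b, c, d⟩
  obtain ⟨m, hm2, hGm⟩ : ∃ m, ¬ 2 ∣ m ∧ Nat.card PSL(2, F) = 2 ^ k * m := by
    obtain ⟨j, hj⟩ : ∃ j, k = j + 2 := ⟨k - 2, by omega⟩
    have hk' : 2 ^ k = 4 * 2 ^ j := by rw [hj]; ring
    have ht : 1 ≤ 2 ^ j := Nat.one_le_pow _ _ (by norm_num)
    rw [hk'] at hq ⊢
    generalize 2 ^ j = t at hq ht ⊢
    generalize Fintype.card F = q at hq hG hfac hodd hq2 ⊢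
    rcases hq with h | h
    · obtain ⟨u, hu⟩ : ∃ u, 2 * t = u + 1 := ⟨2 * t - 1, by omega⟩
      refine ⟨q * u, ?_, ?_⟩
      · intro hd
        rcases (Nat.Prime.dvd_mul Nat.prime_two).1 hd with h' | h' <;> omega
      · have h1 : q - 1 = 2 * u := by omega
        rw [hfac, h1, h] at hG
        apply Nat.eq_of_mul_eq_mul_left (by norm_num : 0 < 2)
        rw [hG]
        ring
    · obtain ⟨u, hu⟩ : ∃ u, u = 2 * t + 1 := ⟨_, rfl⟩
      refine ⟨q * u, ?_, ?_⟩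
      · intro hd
        rcases (Nat.Prime.dvd_mul Nat.prime_two).1 hd with h' | h' <;> omega
      · have h1 : q + 1 = 2 * u := by omega
        rw [hfac, h1, h] at hG
        apply Nat.eq_of_mul_eq_mul_left (by norm_num : 0 < 2)
        rw [hG]
        ring
  obtain ⟨N₀, hN₀⟩ : ∃ N₀, N₀ = Subgroup.normalizer ((Mq x₀ : Subgroup PSL(2, F)) :
      Set PSL(2, F)) := ⟨_, rfl⟩
  have hN₀c : Nat.card N₀ = 2 ^ k := by
    rw [hN₀, (normalizer_Mq_semi_dihedral x₀ hx1 hx4).2, hxc]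
  have hN₀p : IsPGroup 2 N₀ := IsPGroup.of_card hN₀c
  obtain ⟨P₀, hP₀⟩ := hN₀p.exists_le_sylow
  have hP₀eq : N₀ = (P₀ : Subgroup PSL(2, F)) := by
    apply Subgroup.eq_of_le_of_card_ge hP₀
    obtain ⟨j, hj⟩ := IsPGroup.iff_card.1 P₀.isPGroup'
    have hdvd : 2 ^ j ∣ 2 ^ k * m := by
      rw [← hj, ← hGm]
      exact Subgroup.card_subgroup_dvd_card _
    have hcop : Nat.Coprime (2 ^ j) m :=
      Nat.Coprime.pow_left j ((Nat.Prime.coprime_iff_not_dvd Nat.prime_two).2 hm2)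
    have h2 := hcop.dvd_of_dvd_mul_right hdvd
    rw [hj, hN₀c]
    exact Nat.le_of_dvd (by positivity) h2
  have hx₀N : x₀ ∈ N₀ := by
    rw [hN₀]
    exact Subgroup.le_normalizer (tiPart_Mq.mem x₀ hx1)
  obtain ⟨g, hg'⟩ := sylow_exists_conj P₀ Q
  refine ⟨g * x₀ * g⁻¹, ?_, ?_⟩
  · rw [hg']
    have e : g⁻¹ * (g * x₀ * g⁻¹) * g = x₀ := by group
    rw [e]
    show x₀ ∈ (P₀ : Subgroup PSL(2, F))
    rw [← hP₀eq]
    exact hx₀N
  · intro P hxP
    obtain ⟨h, hh⟩ := sylow_exists_conj P₀ P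
    have hx₁ : h⁻¹ * (g * x₀ * g⁻¹) * h ∈ N₀ := by
      rw [hP₀eq]
      exact (hh _).1 hxP
    obtain ⟨c, hc⟩ : ∃ c, c = h⁻¹ * g := ⟨_, rfl⟩
    have hx₁' : h⁻¹ * (g * x₀ * g⁻¹) * h = c * x₀ * c⁻¹ := by rw [hc]; group
    rw [hx₁'] at hx₁
    by_cases hsq : x₀ * x₀ = 1
    · have hk2 : Nat.card N₀ = 2 ^ 2 := by
        have h1 : orderOf x₀ ∣ 2 := orderOf_dvd_of_pow_eq_one (by rw [pow_two]; exact hsq)
        have h2 := Nat.le_of_dvd (by norm_num) h1
        rw [hN₀c]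
        rw [hxo] at h2
        generalize 2 ^ k = K at hxc h4k ⊢
        omega
      have hab := IsPGroup.commutative_of_card_eq_prime_sq (p := 2) hk2
      apply Sylow.ext
      refine (P.is_maximal' Q.isPGroup' ?_).symm
      intro y hy
      show y ∈ Q
      rw [hg' y]
      show g⁻¹ * y * g ∈ (P₀ : Subgroup PSL(2, F))
      rw [← hP₀eq, hN₀]
      have hyN : h⁻¹ * y * h ∈ N₀ := by
        rw [hP₀eq]
        exact (hh y).1 hy
      have hcomm := hab ⟨h⁻¹ * y * h, hyN⟩ ⟨c * x₀ * c⁻¹, hx₁⟩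
      have hcomm' : (h⁻¹ * y * h) * (c * x₀ * c⁻¹) = (c * x₀ * c⁻¹) * (h⁻¹ * y * h) :=
        congrArg Subtype.val hcomm
      rw [hc] at hcomm'
      have h6 : y * (g * x₀ * g⁻¹) = (g * x₀ * g⁻¹) * y := by
        calc y * (g * x₀ * g⁻¹)
            = h * (h⁻¹ * y * h * (h⁻¹ * g * x₀ * (h⁻¹ * g)⁻¹)) * h⁻¹ := by group
          _ = h * (h⁻¹ * g * x₀ * (h⁻¹ * g)⁻¹ * (h⁻¹ * y * h)) * h⁻¹ := by rw [hcomm']
          _ = (g * x₀ * g⁻¹) * y := by group
      have e : (g⁻¹ * y * g) * x₀ * (g⁻¹ * y * g)⁻¹ = x₀ := by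
        calc (g⁻¹ * y * g) * x₀ * (g⁻¹ * y * g)⁻¹
            = g⁻¹ * (y * (g * x₀ * g⁻¹)) * y⁻¹ * g := by group
          _ = g⁻¹ * ((g * x₀ * g⁻¹) * y) * y⁻¹ * g := by rw [h6]
          _ = x₀ := by group
      apply tiPart_Mq.mem_normalizer_of_conj_mem hx1 (tiPart_Mq.mem x₀ hx1) hx1
      rw [e]
      exact tiPart_Mq.mem x₀ hx1
    · have hx₁sq : (c * x₀ * c⁻¹) * (c * x₀ * c⁻¹) ≠ 1 := by
        intro h0
        apply hsq
        have h5 : c⁻¹ * ((c * x₀ * c⁻¹) * (c * x₀ * c⁻¹)) * c = x₀ * x₀ := by group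
        rw [← h5, h0]
        group
      have hmem : c * x₀ * c⁻¹ ∈ Mq x₀ := by
        by_contra hnot
        rw [hN₀] at hx₁
        exact hx₁sq (Mq_semi_normalizer x₀ _ hx1 hx4
          ((Subgroup.mem_normalizer_iff.1 hx₁ x₀).1 (tiPart_Mq.mem x₀ hx1)) hnot).1
      have hM := tiPart_Mq.eq_of_mem x₀ _ hx1 (conj_ne_one' hx1) hmem
      rw [tiPart_Mq.conj c x₀ hx1] at hM
      have hcN : c ∈ N₀ := by
        rw [hN₀]
        exact (map_conj_eq_iff _ _).1 hM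
      have hcP : c ∈ (P₀ : Subgroup PSL(2, F)) := by
        rw [← hP₀eq]
        exact hcN
      apply Sylow.ext
      ext y
      show y ∈ P ↔ y ∈ Q
      rw [hh y, hg' y]
      have e : g⁻¹ * y * g = c⁻¹ * (h⁻¹ * y * h) * c := by rw [hc]; group
      rw [e]
      constructor
      · intro hy
        exact mul_mem (mul_mem (inv_mem hcP) hy) hcP
      · intro hy
        have h8 := mul_mem (mul_mem hcP hy) (inv_mem hcP)
        have e2 : c * (c⁻¹ * (h⁻¹ * y * h) * c) * c⁻¹ = h⁻¹ * y * h := by group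
        rwa [e2] at h8

theorem PSL2_redundant_iff (p : ℕ) [Fact p.Prime] :
    (∃ Q : Sylow p PSL(2, F), ∀ x : PSL(2, F),
        (∃ k : ℕ, orderOf x = p ^ k) → ∃ P : Sylow p PSL(2, F), P ≠ Q ∧ x ∈ P) ↔
      (p = 2 ∧ (¬ ∃ k : ℕ, Fintype.card F + 1 = 2 ^ k) ∧ (¬ ∃ k : ℕ, Fintype.card F = 2 ^ k) ∧
        ¬ ∃ k : ℕ, Fintype.card F = 2 ^ k + 1) := by
  classical
  obtain ⟨ℓ, hℓ⟩ := CharP.exists F
  haveI := hℓ
  haveI : Fact ℓ.Prime := ⟨CharP.char_is_prime F ℓ⟩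
  have hℓp : ℓ.Prime := Fact.out
  have hpp : p.Prime := Fact.out
  obtain ⟨n, -, hqn⟩ := FiniteField.card F ℓ
  have hq2 : 2 ≤ Fintype.card F := Fintype.one_lt_card
  constructor
  · rintro ⟨Q, hQ⟩
    have hQord : ∀ x ∈ Q, ∃ k : ℕ, orderOf x = p ^ k := by
      intro x hx
      obtain ⟨k, hk⟩ := (IsPGroup.iff_orderOf.1 Q.isPGroup') ⟨x, hx⟩
      exact ⟨k, by rw [← hk, Subgroup.orderOf_mk]⟩
    have huniq : ∀ x ∈ Q, ¬ ∀ P : Sylow p PSL(2, F), x ∈ P → P = Q := by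
      intro x hx hall
      obtain ⟨P, hne, hxP⟩ := hQ x (hQord x hx)
      exact hne (hall P hxP)
    by_cases hpℓ : p = ℓ
    · exfalso
      subst hpℓ
      obtain ⟨b, hb, -, eQ⟩ := sylow_eq_Mq p Q
      have hbQ : b ∈ Q := by
        show b ∈ (Q : Subgroup PSL(2, F))
        rw [eQ]
        exact tiPart_Mq.mem b hb
      exact huniq b hbQ (fun P hP => sylow_char_unique p P Q b hb hP hbQ)
    by_cases hp2 : p = 2
    · subst hp2
      have hℓ2 : ℓ ≠ 2 := fun h => hpℓ h.symm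
      obtain ⟨-, hodd, -⟩ := odd_char_facts (F := F) ℓ hℓ2
      have hno : ∀ k : ℕ, 2 ≤ k →
          ¬ (Fintype.card F + 1 = 2 ^ k ∨ Fintype.card F - 1 = 2 ^ k) := by
        intro k hk hq
        obtain ⟨x, hxQ, hx⟩ := sylow_two_unique_of_pow ℓ hℓ2 k hk hq Q
        exact huniq x hxQ hx
      refine ⟨rfl, ?_, ?_, ?_⟩
      · rintro ⟨k, hk⟩
        apply hno k ?_ (Or.inl hk)
        by_contra hlt
        have hk1 : k = 0 ∨ k = 1 := by omega
        rcases hk1 with rfl | rfl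
        · rw [pow_zero] at hk
          omega
        · rw [pow_one] at hk
          omega
      · rintro ⟨k, hk⟩
        rcases Nat.eq_zero_or_pos k with rfl | hk0
        · rw [pow_zero] at hk
          omega
        · have : 2 ∣ 2 ^ k := dvd_pow_self 2 (by omega)
          rw [← hk] at this
          omega
      · rintro ⟨k, hk⟩
        by_cases hk2 : 2 ≤ k
        · exact hno k hk2 (Or.inr (by omega))
        · have hk1 : k = 0 ∨ k = 1 := by omega
          rcases hk1 with rfl | rfl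
          · rw [pow_zero] at hk
            omega
          · apply hno 2 le_rfl
            left
            rw [hk]
            norm_num
    · exfalso
      by_cases hQbot : (Q : Subgroup PSL(2, F)) = ⊥
      · apply huniq 1 (one_mem _)
        intro P _
        apply Sylow.ext
        rw [hQbot]
        apply Subgroup.eq_bot_of_card_eq
        have h1 : Nat.card (P : Subgroup PSL(2, F)) = Nat.card (Q : Subgroup PSL(2, F)) := by
          rw [Sylow.card_eq_multiplicity, Sylow.card_eq_multiplicity]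
        rw [h1, hQbot, Subgroup.card_bot]
      · obtain ⟨z, hz1⟩ := (Subgroup.ne_bot_iff_exists_ne_one).1 hQbot
        have hz1' : (z : PSL(2, F)) ≠ 1 := fun h => hz1 (Subtype.ext h)
        exact huniq z z.2 (fun P hP => sylow_odd_unique ℓ p hp2 hpℓ P Q z hz1' hP z.2)
  · rintro ⟨rfl, h1, h2, h3⟩
    have hℓ2 : ℓ ≠ 2 := by
      rintro rfl
      exact h2 ⟨n, hqn⟩
    obtain ⟨-, hodd, hg⟩ := odd_char_facts (F := F) ℓ hℓ2
    obtain ⟨Q⟩ : Nonempty (Sylow 2 PSL(2, F)) := inferInstance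
    refine ⟨Q, ?_⟩
    have key := fun x hx hord => PSL2_two_sylow (F := F) ℓ hℓ2 h1 h3 x hx hord
    intro x hx
    by_cases hx1 : x = 1
    · subst hx1
      have h2dvd : 2 ∣ Nat.card PSL(2, F) := by
        have hG := card_PSL2_gen (F := F)
        rw [hg, red_sq_fac (Fintype.card F) (by omega)] at hG
        obtain ⟨j, hj⟩ : ∃ j, Fintype.card F = 2 * j + 1 := ⟨Fintype.card F / 2, by omega⟩
        have e1 : Fintype.card F - 1 = 2 * j := by omega
        have e2 : Fintype.card F + 1 = 2 * (j + 1) := by omega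
        rw [e1, e2] at hG
        refine ⟨Fintype.card F * j * (j + 1), ?_⟩
        apply Nat.eq_of_mul_eq_mul_left (by norm_num : 0 < 2)
        rw [hG]
        ring
      obtain ⟨t, ht⟩ := exists_prime_orderOf_dvd_card' 2 h2dvd
      have ht1 : t ≠ 1 := by
        rintro rfl
        simp at ht
      obtain ⟨P, hne, -⟩ := exists_ne_sylow_of_two Q t (key t ht1 ⟨1, by rw [ht, pow_one]⟩)
      exact ⟨P, hne, one_mem _⟩
    · exact exists_ne_sylow_of_two Q x (key x hx1 hx)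

end redpsl

section redquot

variable {G : Type*} [Group G] [Finite G]

/-- Central `p`-elements lie in every Sylow `p`-subgroup. -/
theorem central_mem_sylow {p : ℕ} [Fact p.Prime] (Q : Sylow p G) (z : G)
    (hz : z ∈ Subgroup.center G) (k : ℕ) (hzk : z ^ p ^ k = 1) : z ∈ Q := by
  have hZ : IsPGroup p (Subgroup.zpowers z) := by
    rintro ⟨g, hg⟩
    obtain ⟨i, rfl⟩ := Subgroup.mem_zpowers_iff.1 hg
    refine ⟨k, Subtype.ext ?_⟩
    show (z ^ i) ^ p ^ k = 1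
    rw [← zpow_natCast, ← zpow_mul, mul_comm, zpow_mul, zpow_natCast, hzk, one_zpow]
  have hle : Subgroup.zpowers z ≤ Subgroup.normalizer ((Q : Subgroup G) : Set G) := by
    rw [Subgroup.zpowers_le, Subgroup.mem_normalizer_iff]
    intro b
    have e : z * b * z⁻¹ = b := by
      rw [Subgroup.mem_center_iff] at hz
      rw [← hz b]
      group
    rw [e]
  have hsup := IsPGroup.to_sup_of_normal_right' hZ Q.isPGroup' hle
  have h3 := Q.is_maximal' hsup le_sup_right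
  show z ∈ (Q : Subgroup G)
  rw [← h3]
  exact Subgroup.mem_sup_left (Subgroup.mem_zpowers z)

theorem mem_sylow_of_map_mem {p : ℕ} [Fact p.Prime] (P : Sylow p G) (x : G) (k : ℕ)
    (hx : x ^ p ^ k = 1)
    (h : QuotientGroup.mk' (Subgroup.center G) x ∈
      (P : Subgroup G).map (QuotientGroup.mk' (Subgroup.center G))) : x ∈ P := by
  obtain ⟨b, hb, hbx⟩ := h
  have hz : b⁻¹ * x ∈ Subgroup.center G := QuotientGroup.eq.1 hbx
  obtain ⟨j, hj⟩ := P.isPGroup' ⟨b, hb⟩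
  have hbj : b ^ p ^ j = 1 := congrArg Subtype.val hj
  have hcomm : Commute b x := by
    have h1 := Subgroup.mem_center_iff.1 hz b
    rw [mul_inv_cancel_left] at h1
    show b * x = x * b
    calc b * x = b * (b⁻¹ * x * b) := by rw [← h1]
      _ = x * b := by group
  have hzpow : (b⁻¹ * x) ^ p ^ (j + k) = 1 := by
    rw [hcomm.inv_left.mul_pow, inv_pow, pow_add, pow_mul, hbj, one_pow, inv_one, one_mul,
      mul_comm, pow_mul, hx, one_pow]
  have hzP := central_mem_sylow P _ hz _ hzpow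
  have e : x = b * (b⁻¹ * x) := by group
  rw [e]
  exact mul_mem hb hzP

theorem sylow_eq_of_map_eq {p : ℕ} [Fact p.Prime] (P Q : Sylow p G)
    (h : (P : Subgroup G).map (QuotientGroup.mk' (Subgroup.center G)) =
      (Q : Subgroup G).map (QuotientGroup.mk' (Subgroup.center G))) : P = Q := by
  have hle : (P : Subgroup G) ≤ Q := by
    intro a ha
    obtain ⟨k, hk⟩ := P.isPGroup' ⟨a, ha⟩
    have hak : a ^ p ^ k = 1 := congrArg Subtype.val hk
    apply mem_sylow_of_map_mem Q a k hak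
    rw [← h]
    exact Subgroup.mem_map_of_mem _ ha
  exact Sylow.ext (P.is_maximal' Q.isPGroup' hle).symm

theorem exists_lift_ppow {p : ℕ} [Fact p.Prime] (hZ : Nat.card (Subgroup.center G) ∣ 2)
    (y : G ⧸ Subgroup.center G) (k : ℕ) (hy : orderOf y = p ^ k) :
    ∃ x : G, QuotientGroup.mk' (Subgroup.center G) x = y ∧ ∃ j : ℕ, orderOf x = p ^ j := by
  have hpp : p.Prime := Fact.out
  obtain ⟨x₀, rfl⟩ := QuotientGroup.mk_surjective y
  have hw : x₀ ^ p ^ k ∈ Subgroup.center G := by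
    rw [← QuotientGroup.eq_one_iff, QuotientGroup.mk_pow, ← hy]
    exact pow_orderOf_eq_one _
  have hw2 : (x₀ ^ p ^ k) ^ 2 = 1 := by
    have h1 : (⟨x₀ ^ p ^ k, hw⟩ : Subgroup.center G) ^ Nat.card (Subgroup.center G) = 1 :=
      pow_card_eq_one'
    obtain ⟨c, hc⟩ := hZ
    have h2 : (⟨x₀ ^ p ^ k, hw⟩ : Subgroup.center G) ^ 2 = 1 := by
      rw [hc, pow_mul, h1, one_pow]
    exact congrArg Subtype.val h2
  by_cases hp2 : p = 2
  · subst hp2
    refine ⟨x₀, rfl, ?_⟩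
    have h3 : x₀ ^ 2 ^ (k + 1) = 1 := by
      rw [pow_succ, pow_mul]
      exact hw2
    obtain ⟨j, -, hj⟩ := (Nat.dvd_prime_pow Nat.prime_two).1 (orderOf_dvd_of_pow_eq_one h3)
    exact ⟨j, hj⟩
  · refine ⟨x₀ ^ (p ^ k + 1), ?_, ?_⟩
    · show (QuotientGroup.mk (x₀ ^ (p ^ k + 1)) : G ⧸ Subgroup.center G) = QuotientGroup.mk x₀
      rw [QuotientGroup.mk_pow, pow_succ, ← hy, pow_orderOf_eq_one, one_mul]
    · have hodd : Odd p := hpp.odd_of_ne_two hp2
      have heven : Even (p ^ k + 1) := (hodd.pow).add_one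
      obtain ⟨c, hc⟩ := heven
      have h3 : (x₀ ^ (p ^ k + 1)) ^ p ^ k = 1 := by
        rw [← pow_mul, mul_comm, pow_mul, hc, ← two_mul, pow_mul, hw2, one_pow]
      obtain ⟨j, -, hj⟩ := (Nat.dvd_prime_pow hpp).1 (orderOf_dvd_of_pow_eq_one h3)
      exact ⟨j, hj⟩

/-- Redundancy of Sylow subgroups passes to and from the quotient by a centre of order
at most `2`. -/
theorem redundant_quot_iff (p : ℕ) [Fact p.Prime] (hZ : Nat.card (Subgroup.center G) ∣ 2) :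
    (∃ Q : Sylow p G, ∀ x : G, (∃ k : ℕ, orderOf x = p ^ k) →
      ∃ P : Sylow p G, P ≠ Q ∧ x ∈ P) ↔
    (∃ Q : Sylow p (G ⧸ Subgroup.center G), ∀ x : G ⧸ Subgroup.center G,
      (∃ k : ℕ, orderOf x = p ^ k) →
      ∃ P : Sylow p (G ⧸ Subgroup.center G), P ≠ Q ∧ x ∈ P) := by
  have hpp : p.Prime := Fact.out
  have hπ : Function.Surjective (QuotientGroup.mk' (Subgroup.center G)) :=
    QuotientGroup.mk'_surjective _
  constructor
  · rintro ⟨Q, hQ⟩
    refine ⟨Q.mapSurjective hπ, ?_⟩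
    rintro y ⟨k, hk⟩
    obtain ⟨x, rfl, hxo⟩ := exists_lift_ppow hZ y k hk
    obtain ⟨P, hne, hxP⟩ := hQ x hxo
    refine ⟨P.mapSurjective hπ, ?_, ?_⟩
    · intro h
      apply hne
      apply sylow_eq_of_map_eq
      have h1 := congrArg (fun S : Sylow p (G ⧸ Subgroup.center G) =>
        (S : Subgroup (G ⧸ Subgroup.center G))) h
      simpa using h1
    · show _ ∈ ((P.mapSurjective hπ : Sylow p (G ⧸ Subgroup.center G)) :
        Subgroup (G ⧸ Subgroup.center G))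
      rw [Sylow.coe_mapSurjective]
      exact Subgroup.mem_map_of_mem _ hxP
  · rintro ⟨Q', hQ'⟩
    obtain ⟨Q, rfl⟩ := Sylow.mapSurjective_surjective hπ p Q'
    refine ⟨Q, ?_⟩
    rintro x ⟨k, hk⟩
    have hxk : x ^ p ^ k = 1 := by
      rw [← hk]
      exact pow_orderOf_eq_one x
    have hdvd := orderOf_map_dvd (QuotientGroup.mk' (Subgroup.center G)) x
    rw [hk] at hdvd
    obtain ⟨j, -, hj⟩ := (Nat.dvd_prime_pow hpp).1 hdvd
    obtain ⟨P', hne, hxP'⟩ := hQ' _ ⟨j, hj⟩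
    obtain ⟨P, rfl⟩ := Sylow.mapSurjective_surjective hπ p P'
    refine ⟨P, ?_, ?_⟩
    · rintro rfl
      exact hne rfl
    · apply mem_sylow_of_map_mem P x k hxk
      have h2 : QuotientGroup.mk' (Subgroup.center G) x ∈
          ((P.mapSurjective hπ : Sylow p (G ⧸ Subgroup.center G)) :
            Subgroup (G ⧸ Subgroup.center G)) := hxP'
      rw [Sylow.coe_mapSurjective] at h2
      exact h2

end redquot

section redsl

variable {F : Type*} [Field F] [Fintype F]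

theorem SL2_redundant_iff (p : ℕ) [Fact p.Prime] :
    (∃ Q : Sylow p SL(2, F), ∀ x : SL(2, F),
        (∃ k : ℕ, orderOf x = p ^ k) → ∃ P : Sylow p SL(2, F), P ≠ Q ∧ x ∈ P) ↔
      (p = 2 ∧ (¬ ∃ k : ℕ, Fintype.card F + 1 = 2 ^ k) ∧ (¬ ∃ k : ℕ, Fintype.card F = 2 ^ k) ∧
        ¬ ∃ k : ℕ, Fintype.card F = 2 ^ k + 1) := by
  have hZ : Nat.card (Subgroup.center SL(2, F)) ∣ 2 := by
    rw [card_center_SL2_gen]
    exact Nat.gcd_dvd_left _ _
  exact (redundant_quot_iff p hZ).trans (PSL2_redundant_iff (F := F) p)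

end redsl

end Cfsg.Agent.Lib.helper12
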