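import Mathlib
import Cfsg.Agent.Lib.helper12.DkFinal
import Cfsg.Agent.Lib.helper12.DkDih

set_option autoImplicit false

namespace Cfsg.Agent.Lib.helper12

open scoped MatrixGroups

section dkstrong

variable {F : Type*} [Field F]

/-- Strong form of the subfield conclusion of Dickson's theorem: up to a trace-preserving
automorphism of `SL₂(F)`, the subgroup contains `SL₂(K)` and consists of matrices which are
`K`-rational up to a scalar. -/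
def DkS (Hh : Subgroup SL(2, F)) : Prop :=
  ∃ (K : Subfield F) (e : SL(2, F) ≃* SL(2, F)),
    (∀ g : SL(2, F), ((e g : SL(2, F)) : Matrix (Fin 2) (Fin 2) F).trace =
      (g : Matrix (Fin 2) (Fin 2) F).trace) ∧
    (∀ ν : SL(2, F), (∀ i j, (ν : Matrix (Fin 2) (Fin 2) F) i j ∈ K) →
      ν ∈ Hh.map e.toMonoidHom) ∧
    (∀ ν ∈ Hh.map e.toMonoidHom, ∃ γ : F, γ ≠ 0 ∧
      ∀ i j, (ν : Matrix (Fin 2) (Fin 2) F) i j * γ ∈ K)

theorem DkS_of_equiv (e₀ : SL(2, F) ≃* SL(2, F))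
    (htr : ∀ g : SL(2, F), ((e₀ g : SL(2, F)) : Matrix (Fin 2) (Fin 2) F).trace =
      (g : Matrix (Fin 2) (Fin 2) F).trace) (Hh : Subgroup SL(2, F))
    (h : DkS (Hh.map e₀.toMonoidHom)) : DkS Hh := by
  obtain ⟨K, e, he, h1, h2⟩ := h
  have hmap : Hh.map (e₀.trans e).toMonoidHom = (Hh.map e₀.toMonoidHom).map e.toMonoidHom := by
    rw [Subgroup.map_map]
    rfl
  refine ⟨K, e₀.trans e, ?_, ?_, ?_⟩
  · intro g
    rw [show (e₀.trans e) g = e (e₀ g) from rfl, he, htr]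
  · rw [hmap]
    exact h1
  · rw [hmap]
    exact h2

theorem SL2_trace_conj (k g : SL(2, F)) :
    ((k * g * k⁻¹ : SL(2, F)) : Matrix (Fin 2) (Fin 2) F).trace =
      (g : Matrix (Fin 2) (Fin 2) F).trace := by
  rw [Matrix.SpecialLinearGroup.coe_mul, Matrix.trace_mul_comm, ← Matrix.SpecialLinearGroup.coe_mul,
    inv_mul_cancel_left]

theorem dcSL_trace (l : F) (hl : l ≠ 0) (g : SL(2, F)) :
    ((dcSL l hl g : SL(2, F)) : Matrix (Fin 2) (Fin 2) F).trace =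
      (g : Matrix (Fin 2) (Fin 2) F).trace := by
  rw [Matrix.trace_fin_two, Matrix.trace_fin_two]
  rfl

theorem dk_norm_conclS (Hh : Subgroup SL(2, F)) (K : Subfield F)
    (hn1 : ∀ b : F, uS b ∈ Hh ↔ b ∈ K)
    (W : SL(2, F)) (hW : W ∈ Hh) (hW0 : (W : Matrix (Fin 2) (Fin 2) F) 0 0 = 0)
    (hWs : (W : Matrix (Fin 2) (Fin 2) F) 1 0 * (W : Matrix (Fin 2) (Fin 2) F) 1 0 ∈ K)
    (hn3 : ∀ ν ∈ Hh, (ν : Matrix (Fin 2) (Fin 2) F) 1 0 ≠ 0 →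
      (ν : Matrix (Fin 2) (Fin 2) F) 0 0 / (ν : Matrix (Fin 2) (Fin 2) F) 1 0 ∈ K) :
    DkS Hh := by
  obtain ⟨hI1, hI2⟩ := dk_norm Hh K hn1 W hW hW0 hWs hn3
  refine ⟨K, MulEquiv.refl _, fun g => rfl, ?_, ?_⟩
  · intro ν hν
    exact ⟨ν, hI1 ν hν, rfl⟩
  · rintro ν ⟨μ, hμ, rfl⟩
    exact hI2 μ hμ

end dkstrong

section dkstrong2

variable {F : Type*} [Field F] [Fintype F]

theorem dk_main_auxS (Hh : Subgroup SL(2, F)) (a₀ : F) (ha₀ : a₀ ≠ 0) (hu : uS a₀ ∈ Hh)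
    (ν₀ : SL(2, F)) (hν₀ : ν₀ ∈ Hh) (hν₀0 : (ν₀ : Matrix (Fin 2) (Fin 2) F) 0 0 = 0)
    (hrat : ∀ ν ∈ Hh, (ν : Matrix (Fin 2) (Fin 2) F) 1 0 ≠ 0 →
      uS ((ν : Matrix (Fin 2) (Fin 2) F) 0 0 / (ν : Matrix (Fin 2) (Fin 2) F) 1 0) ∈ Hh) :
    DkS Hh := by
  obtain ⟨c, hc⟩ : ∃ c, c = (ν₀ : Matrix (Fin 2) (Fin 2) F) 1 0 := ⟨_, rfl⟩
  have hc0 : c ≠ 0 := by
    have hdet := SL2_det_eq ν₀
    rw [hν₀0, zero_mul, zero_sub, ← hc] at hdet
    intro h0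
    rw [h0, mul_zero, neg_zero] at hdet
    exact zero_ne_one hdet
  obtain ⟨A, hA⟩ : ∃ A : AddSubgroup F, ∀ a, a ∈ A ↔ uS a ∈ Hh :=
    ⟨{ carrier := {a | uS a ∈ Hh}
       add_mem' := by
         intro a b ha hb
         show uS (a + b) ∈ Hh
         rw [uS_add]
         exact Hh.mul_mem ha hb
       zero_mem' := by
         show uS (0 : F) ∈ Hh
         rw [uS_zero]
         exact Hh.one_mem
       neg_mem' := by
         intro a ha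
         show uS (-a) ∈ Hh
         rw [uS_neg_eq_inv]
         exact Hh.inv_mem ha }, fun a => Iff.rfl⟩
  have hAinv : ∀ a ∈ A, a ≠ 0 → -(c * c * a)⁻¹ ∈ A := by
    intro a ha ha0
    have h1 := conj_uS_eq_lS ν₀ hν₀0 a
    rw [← hc] at h1
    have h2 : lS (-c ^ 2 * a) ∈ Hh := by
      rw [← h1]
      exact Hh.mul_mem (Hh.mul_mem hν₀ ((hA a).1 ha)) (Hh.inv_mem hν₀)
    have hne : -c ^ 2 * a ≠ 0 := mul_ne_zero (neg_ne_zero.2 (pow_ne_zero 2 hc0)) ha0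
    have h3 := hrat _ h2 (by rw [lS_10]; exact hne)
    rw [lS_00, lS_10] at h3
    have e : (1 : F) / (-c ^ 2 * a) = -(c * c * a)⁻¹ := by
      field_simp
    rw [e] at h3
    exact (hA _).2 h3
  obtain ⟨A', hA'⟩ : ∃ A' : AddSubgroup F, ∀ x, x ∈ A' ↔ c⁻¹ * x ∈ A :=
    ⟨{ carrier := {x | c⁻¹ * x ∈ A}
       add_mem' := by
         intro a b ha hb
         show c⁻¹ * (a + b) ∈ A
         rw [mul_add]
         exact A.add_mem ha hb
       zero_mem' := by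
         show c⁻¹ * 0 ∈ A
         rw [mul_zero]
         exact A.zero_mem
       neg_mem' := by
         intro a ha
         show c⁻¹ * -a ∈ A
         rw [mul_neg]
         exact A.neg_mem ha }, fun a => Iff.rfl⟩
  have hA'inv : ∀ x ∈ A', x⁻¹ ∈ A' := by
    intro x hx
    by_cases hx0 : x = 0
    · rw [hx0, inv_zero]
      exact A'.zero_mem
    · rw [hA'] at hx ⊢
      have h1 := hAinv (c⁻¹ * x) hx (mul_ne_zero (inv_ne_zero hc0) hx0)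
      have e : -(c * c * (c⁻¹ * x))⁻¹ = -(c⁻¹ * x⁻¹) := by
        field_simp
      rw [e] at h1
      have := A.neg_mem h1
      rwa [neg_neg] at this
  have hs₀ : c * a₀ ∈ A' := by
    rw [hA', inv_mul_cancel_left₀ hc0, hA]
    exact hu
  obtain ⟨K, hKs, hK⟩ := hua_general A' (c * a₀) hs₀ (mul_ne_zero hc0 ha₀) hA'inv
  have hK' : ∀ x, x ∈ K ↔ uS (a₀ * x) ∈ Hh := by
    intro x
    rw [hK, hA', hA]
    have : c⁻¹ * (c * a₀ * x) = a₀ * x := by field_simp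
    rw [this]
  obtain ⟨e₂, he₂⟩ : ∃ e : SL(2, F) ≃* SL(2, F), e = dcSL a₀⁻¹ (inv_ne_zero ha₀) := ⟨_, rfl⟩
  apply DkS_of_equiv e₂ (by rw [he₂]; exact dcSL_trace _ _)
  have hmem : ∀ g, g ∈ Hh.map e₂.toMonoidHom ↔ e₂.symm g ∈ Hh := by
    intro g
    constructor
    · rintro ⟨h, hh, rfl⟩
      simpa using hh
    · intro h
      exact ⟨e₂.symm g, h, by simp⟩
  refine dk_norm_conclS (Hh.map e₂.toMonoidHom) K ?_ (e₂ ν₀) ⟨ν₀, hν₀, rfl⟩ ?_ ?_ ?_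
  · intro b
    rw [hmem, hK', he₂, dcSL_symm_uS, inv_inv]
  · rw [he₂, dcSL_00]
    exact hν₀0
  · rw [he₂, dcSL_10, inv_inv, ← hc]
    have : a₀ * c * (a₀ * c) = c * a₀ * (c * a₀) := by ring
    rw [this]
    exact hKs
  · rintro ν ⟨μ, hμ, rfl⟩ hν10
    have hν10' : ((dcSL a₀⁻¹ (inv_ne_zero ha₀) μ : SL(2, F)) : Matrix (Fin 2) (Fin 2) F) 1 0 ≠ 0 := by
      rw [he₂] at hν10
      exact hν10
    rw [dcSL_10, inv_inv] at hν10'
    have hμ10 : (μ : Matrix (Fin 2) (Fin 2) F) 1 0 ≠ 0 := right_ne_zero_of_mul hν10'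
    have h1 := hrat μ hμ hμ10
    show ((e₂ μ : SL(2, F)) : Matrix (Fin 2) (Fin 2) F) 0 0 /
      ((e₂ μ : SL(2, F)) : Matrix (Fin 2) (Fin 2) F) 1 0 ∈ K
    rw [he₂, dcSL_00, dcSL_10, inv_inv, hK']
    have : a₀ * ((μ : Matrix (Fin 2) (Fin 2) F) 0 0 / (a₀ * (μ : Matrix (Fin 2) (Fin 2) F) 1 0)) =
        (μ : Matrix (Fin 2) (Fin 2) F) 0 0 / (μ : Matrix (Fin 2) (Fin 2) F) 1 0 := by
      field_simp
    rw [this]
    exact h1

theorem dk_mainS (Hh : Subgroup SL(2, F)) (a₀ : F) (ha₀ : a₀ ≠ 0) (hu : uS a₀ ∈ Hh)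
    (ν₁ : SL(2, F)) (hν₁ : ν₁ ∈ Hh) (hν₁c : (ν₁ : Matrix (Fin 2) (Fin 2) F) 1 0 ≠ 0)
    (hrat : ∀ ν ∈ Hh, ∀ ν' ∈ Hh, (ν : Matrix (Fin 2) (Fin 2) F) 1 0 ≠ 0 →
      (ν' : Matrix (Fin 2) (Fin 2) F) 1 0 ≠ 0 →
      uS ((ν' : Matrix (Fin 2) (Fin 2) F) 0 0 / (ν' : Matrix (Fin 2) (Fin 2) F) 1 0 -
        (ν : Matrix (Fin 2) (Fin 2) F) 0 0 / (ν : Matrix (Fin 2) (Fin 2) F) 1 0) ∈ Hh) :
    DkS Hh := by
  obtain ⟨z₁, hz₁⟩ : ∃ z, z = (ν₁ : Matrix (Fin 2) (Fin 2) F) 0 0 /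
      (ν₁ : Matrix (Fin 2) (Fin 2) F) 1 0 := ⟨_, rfl⟩
  obtain ⟨e₁, he₁⟩ : ∃ e : SL(2, F) ≃* SL(2, F), e = MulAut.conj (uS (-z₁)) := ⟨_, rfl⟩
  apply DkS_of_equiv e₁ (by rw [he₁]; intro g; exact SL2_trace_conj _ _)
  have hent : ∀ μ : SL(2, F),
      ((e₁ μ : SL(2, F)) : Matrix (Fin 2) (Fin 2) F) 1 0 = (μ : Matrix (Fin 2) (Fin 2) F) 1 0 ∧
      ((e₁ μ : SL(2, F)) : Matrix (Fin 2) (Fin 2) F) 0 0 =
        (μ : Matrix (Fin 2) (Fin 2) F) 0 0 - z₁ * (μ : Matrix (Fin 2) (Fin 2) F) 1 0 := by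
    intro μ
    rw [he₁, MulAut.conj_apply]
    constructor
    · simp only [SL2_mul_10, SL2_mul_00, SL2_mul_11, SL2_inv_00, SL2_inv_10, uS_00, uS_01, uS_10,
        uS_11]
      ring
    · simp only [SL2_mul_00, SL2_mul_01, SL2_inv_00, SL2_inv_10, uS_00, uS_01, uS_10, uS_11]
      ring
  have huS : ∀ b, e₁ (uS b) = uS b := by
    intro b
    rw [he₁, MulAut.conj_apply, ← uS_neg_eq_inv, ← uS_add, ← uS_add]
    congr 1
    ring
  refine dk_main_auxS (Hh.map e₁.toMonoidHom) a₀ ha₀ ⟨uS a₀, hu, huS a₀⟩ (e₁ ν₁) ⟨ν₁, hν₁, rfl⟩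
    ?_ ?_
  · rw [(hent ν₁).2, hz₁]
    field_simp
    ring
  · rintro ν ⟨μ, hμ, rfl⟩ hν10
    obtain ⟨h1, h2⟩ := hent μ
    have hν10' : ((e₁ μ : SL(2, F)) : Matrix (Fin 2) (Fin 2) F) 1 0 ≠ 0 := hν10
    rw [h1] at hν10'
    show uS (((e₁ μ : SL(2, F)) : Matrix (Fin 2) (Fin 2) F) 0 0 /
      ((e₁ μ : SL(2, F)) : Matrix (Fin 2) (Fin 2) F) 1 0) ∈ Hh.map e₁.toMonoidHom
    rw [h1, h2]
    have h3 := hrat ν₁ hν₁ μ hμ hν₁c hν10'
    have e : ((μ : Matrix (Fin 2) (Fin 2) F) 0 0 - z₁ * (μ : Matrix (Fin 2) (Fin 2) F) 1 0) /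
        (μ : Matrix (Fin 2) (Fin 2) F) 1 0 =
        (μ : Matrix (Fin 2) (Fin 2) F) 0 0 / (μ : Matrix (Fin 2) (Fin 2) F) 1 0 -
          (ν₁ : Matrix (Fin 2) (Fin 2) F) 0 0 / (ν₁ : Matrix (Fin 2) (Fin 2) F) 1 0 := by
      rw [hz₁]
      field_simp
    rw [e]
    exact ⟨_, h3, huS _⟩

theorem dk_core_mainS (H : Subgroup PSL(2, F)) (a₀ : F) (ha₀ : a₀ ≠ 0)
    (x₀ : H) (hx₀v : (x₀ : PSL(2, F)) = QuotientGroup.mk (uS a₀))
    (hidx : (Subgroup.normalizer ((MqH H x₀ : Subgroup H) : Set H)).index =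
      Nat.card (MqH H x₀) + 1) :
    DkS (H.comap (QuotientGroup.mk' (Subgroup.center SL(2, F)))) := by
  classical
  have hx₀1 : x₀ ≠ 1 := by
    intro h
    apply mk_uS_ne_one (F := F) ha₀
    rw [← hx₀v, h]
    rfl
  obtain ⟨Hh, hHh⟩ : ∃ Hh : Subgroup SL(2, F),
      Hh = H.comap (QuotientGroup.mk' (Subgroup.center SL(2, F))) := ⟨_, rfl⟩
  have hmemHh : ∀ ν : SL(2, F), ν ∈ Hh ↔ (QuotientGroup.mk ν : PSL(2, F)) ∈ H := by
    intro ν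
    rw [hHh]
    rfl
  rw [← hHh]
  obtain ⟨N', hN'⟩ : ∃ N' : Subgroup H,
      N' = Subgroup.normalizer ((MqH H x₀ : Subgroup H) : Set H) := ⟨_, rfl⟩
  rw [← hN'] at hidx
  let toH : Hh →* H :=
    ((QuotientGroup.mk' (Subgroup.center SL(2, F))).comp Hh.subtype).codRestrict H
      (fun ν => (hmemHh _).1 ν.2)
  have htoH : ∀ ν : Hh, ((toH ν : H) : PSL(2, F)) = QuotientGroup.mk (ν : SL(2, F)) :=
    fun ν => rfl
  have hN'mem : ∀ ν : Hh, toH ν ∈ N' ↔ ((ν : SL(2, F)) : Matrix (Fin 2) (Fin 2) F) 1 0 = 0 := by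
    intro ν
    rw [hN', ← mk_mem_normalizer_uS_iff ha₀ (ν : SL(2, F)), ← hx₀v, ← htoH]
    constructor
    · intro h
      exact normalizer_MqH_le H x₀ hx₀1 _ h
    · intro h
      exact mem_normalizer_MqH H x₀ _ h
  have hcardA : Nat.card (MqH H x₀) = Nat.card {a : F // uS a ∈ Hh} := by
    symm
    apply Nat.card_congr
    have hmemA : ∀ a : {a : F // uS a ∈ Hh}, toH ⟨uS a.1, a.2⟩ ∈ MqH H x₀ := by
      intro a
      rw [mem_MqH, hx₀v, htoH, mk_mem_Mq_uS_iff ha₀]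
      exact ⟨rfl, rfl⟩
    refine Equiv.ofBijective (fun a => (⟨toH ⟨uS a.1, a.2⟩, hmemA a⟩ : MqH H x₀)) ⟨?_, ?_⟩
    · intro a b hab
      have h1 : (QuotientGroup.mk (uS a.1) : PSL(2, F)) = QuotientGroup.mk (uS b.1) :=
        congrArg (fun z : MqH H x₀ => ((z : H) : PSL(2, F))) hab
      obtain ⟨ε, hε, hmat⟩ := (PSL2_mk_eq_mk_iff _ _).1 h1
      have h00 := congrFun (congrFun hmat 0) 0
      have h01 := congrFun (congrFun hmat 0) 1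
      rw [Matrix.smul_apply, uS_00, uS_00, smul_eq_mul, mul_one] at h00
      rw [Matrix.smul_apply, uS_01, uS_01, smul_eq_mul, ← h00, one_mul] at h01
      exact Subtype.ext h01.symm
    · rintro ⟨⟨y, hyH⟩, hy⟩
      obtain ⟨h, rfl⟩ := QuotientGroup.mk_surjective y
      rw [mem_MqH, hx₀v] at hy
      have hy' : (QuotientGroup.mk h : PSL(2, F)) ∈ Mq (QuotientGroup.mk (uS a₀) : PSL(2, F)) := hy
      rw [mk_mem_Mq_uS_iff ha₀] at hy'
      obtain ⟨h10, h00⟩ := hy'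
      have hdet := SL2_det_eq h
      rw [h10, mul_zero, sub_zero, ← h00] at hdet
      have hmk : (QuotientGroup.mk (uS ((h : Matrix (Fin 2) (Fin 2) F) 0 0 *
          (h : Matrix (Fin 2) (Fin 2) F) 0 1)) : PSL(2, F)) = QuotientGroup.mk h := by
        rw [PSL2_mk_eq_mk_iff]
        refine ⟨(h : Matrix (Fin 2) (Fin 2) F) 0 0, hdet, ?_⟩
        have e00 : (h : Matrix (Fin 2) (Fin 2) F) 0 0 = ((h : Matrix (Fin 2) (Fin 2) F) 0 0 •
            ((uS ((h : Matrix (Fin 2) (Fin 2) F) 0 0 * (h : Matrix (Fin 2) (Fin 2) F) 0 1) :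
              SL(2, F)) : Matrix (Fin 2) (Fin 2) F)) 0 0 := by
          rw [Matrix.smul_apply, uS_00, smul_eq_mul, mul_one]
        have e01 : (h : Matrix (Fin 2) (Fin 2) F) 0 1 = ((h : Matrix (Fin 2) (Fin 2) F) 0 0 •
            ((uS ((h : Matrix (Fin 2) (Fin 2) F) 0 0 * (h : Matrix (Fin 2) (Fin 2) F) 0 1) :
              SL(2, F)) : Matrix (Fin 2) (Fin 2) F)) 0 1 := by
          rw [Matrix.smul_apply, uS_01, smul_eq_mul, ← mul_assoc, hdet, one_mul]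
        have e10 : (h : Matrix (Fin 2) (Fin 2) F) 1 0 = ((h : Matrix (Fin 2) (Fin 2) F) 0 0 •
            ((uS ((h : Matrix (Fin 2) (Fin 2) F) 0 0 * (h : Matrix (Fin 2) (Fin 2) F) 0 1) :
              SL(2, F)) : Matrix (Fin 2) (Fin 2) F)) 1 0 := by
          rw [Matrix.smul_apply, uS_10, smul_eq_mul, mul_zero, h10]
        have e11 : (h : Matrix (Fin 2) (Fin 2) F) 1 1 = ((h : Matrix (Fin 2) (Fin 2) F) 0 0 •
            ((uS ((h : Matrix (Fin 2) (Fin 2) F) 0 0 * (h : Matrix (Fin 2) (Fin 2) F) 0 1) :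
              SL(2, F)) : Matrix (Fin 2) (Fin 2) F)) 1 1 := by
          rw [Matrix.smul_apply, uS_11, smul_eq_mul, mul_one, h00]
        ext i j
        fin_cases i <;> fin_cases j
        · exact e00
        · exact e01
        · exact e10
        · exact e11
      have hmem : uS ((h : Matrix (Fin 2) (Fin 2) F) 0 0 * (h : Matrix (Fin 2) (Fin 2) F) 0 1) ∈
          Hh := by
        rw [hmemHh, hmk]
        exact hyH
      refine ⟨⟨_, hmem⟩, ?_⟩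
      apply Subtype.ext
      apply Subtype.ext
      exact hmk
  obtain ⟨Ω, hΩ⟩ : ∃ Ω : Set F, Ω = {z | ∃ ν ∈ Hh, (ν : Matrix (Fin 2) (Fin 2) F) 1 0 ≠ 0 ∧
      z = (ν : Matrix (Fin 2) (Fin 2) F) 0 0 / (ν : Matrix (Fin 2) (Fin 2) F) 1 0} := ⟨_, rfl⟩
  have hΩdef : ∀ w : F, w ∈ Ω ↔ ∃ ν ∈ Hh, (ν : Matrix (Fin 2) (Fin 2) F) 1 0 ≠ 0 ∧
      w = (ν : Matrix (Fin 2) (Fin 2) F) 0 0 / (ν : Matrix (Fin 2) (Fin 2) F) 1 0 := by
    intro w
    rw [hΩ]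
    rfl
  have hΩcard : Ω.ncard ≤ Nat.card {a : F // uS a ∈ Hh} := by
    rw [← hcardA]
    have h1 : Nat.card {c : H ⧸ N' // c ≠ QuotientGroup.mk 1} = Nat.card (MqH H x₀) := by
      rw [card_ne_sub_one]
      have : Nat.card (H ⧸ N') = N'.index := rfl
      rw [this, hidx]
      omega
    rw [← h1, ← Nat.card_coe_set_eq]
    have hex : ∀ z : Ω, ∃ ν : Hh, ((ν : SL(2, F)) : Matrix (Fin 2) (Fin 2) F) 1 0 ≠ 0 ∧
        (z : F) = ((ν : SL(2, F)) : Matrix (Fin 2) (Fin 2) F) 0 0 /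
          ((ν : SL(2, F)) : Matrix (Fin 2) (Fin 2) F) 1 0 := by
      intro z
      obtain ⟨ν, hν, h1, h2⟩ := (hΩdef _).1 z.2
      exact ⟨⟨ν, hν⟩, h1, h2⟩
    choose νz hνz10 hνzr using hex
    have hne : ∀ z : Ω, (QuotientGroup.mk (toH (νz z)) : H ⧸ N') ≠ QuotientGroup.mk 1 := by
      intro z h
      rw [QuotientGroup.eq, mul_one, inv_mem_iff] at h
      exact hνz10 z ((hN'mem _).1 h)
    apply Nat.card_le_card_of_injective (fun z : Ω =>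
      (⟨QuotientGroup.mk (toH (νz z)), hne z⟩ : {c : H ⧸ N' // c ≠ QuotientGroup.mk 1}))
    intro z z' hzz
    have h2 : (QuotientGroup.mk (toH (νz z)) : H ⧸ N') = QuotientGroup.mk (toH (νz z')) :=
      congrArg Subtype.val hzz
    rw [QuotientGroup.eq, ← map_inv, ← map_mul, hN'mem] at h2
    have h3 : (((νz z)⁻¹ * νz z' : Hh) : SL(2, F)) = ((νz z : Hh) : SL(2, F))⁻¹ * (νz z' : SL(2, F)) :=
      rfl
    rw [h3, SL2_mul_10, SL2_inv_10, SL2_inv_11] at h2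
    apply Subtype.ext
    rw [hνzr z, hνzr z']
    have ha := hνz10 z
    have hb := hνz10 z'
    field_simp
    linear_combination h2
  have hex1 : ∃ ν₁ ∈ Hh, (ν₁ : Matrix (Fin 2) (Fin 2) F) 1 0 ≠ 0 := by
    by_contra hcon
    push Not at hcon
    have htop : N' = ⊤ := by
      rw [Subgroup.eq_top_iff']
      rintro ⟨y, hy⟩
      obtain ⟨ν, rfl⟩ := QuotientGroup.mk_surjective y
      have hν : ν ∈ Hh := (hmemHh ν).2 hy
      exact (hN'mem ⟨ν, hν⟩).2 (hcon ν hν)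
    rw [htop, Subgroup.index_top] at hidx
    have := Nat.card_pos (α := MqH H x₀)
    omega
  obtain ⟨ν₁, hν₁, hν₁c⟩ := hex1
  obtain ⟨A, hA⟩ := uS_addSubgroup Hh
  have hcardA' : Nat.card {a : F // uS a ∈ Hh} = Nat.card A :=
    Nat.card_congr (Equiv.subtypeEquivRight (fun a => (hA a).symm))
  have hΩmem : ∀ ν ∈ Hh, (ν : Matrix (Fin 2) (Fin 2) F) 1 0 ≠ 0 →
      (ν : Matrix (Fin 2) (Fin 2) F) 0 0 / (ν : Matrix (Fin 2) (Fin 2) F) 1 0 ∈ Ω := by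
    intro ν hν hc
    exact (hΩdef _).2 ⟨ν, hν, hc, rfl⟩
  have hcos := coset_of_card A Ω ((ν₁ : Matrix (Fin 2) (Fin 2) F) 0 0 /
      (ν₁ : Matrix (Fin 2) (Fin 2) F) 1 0) (by
    intro a ha
    have hmem : uS a * ν₁ ∈ Hh := Hh.mul_mem ((hA a).1 ha) hν₁
    have h10 : ((uS a * ν₁ : SL(2, F)) : Matrix (Fin 2) (Fin 2) F) 1 0 =
        (ν₁ : Matrix (Fin 2) (Fin 2) F) 1 0 := by
      rw [SL2_mul_10, uS_10, uS_11]
      ring
    have h00 : ((uS a * ν₁ : SL(2, F)) : Matrix (Fin 2) (Fin 2) F) 0 0 =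
        (ν₁ : Matrix (Fin 2) (Fin 2) F) 0 0 + a * (ν₁ : Matrix (Fin 2) (Fin 2) F) 1 0 := by
      rw [SL2_mul_00, uS_00, uS_01]
      ring
    have := hΩmem _ hmem (by rw [h10]; exact hν₁c)
    rw [h10, h00] at this
    have e : ((ν₁ : Matrix (Fin 2) (Fin 2) F) 0 0 + a * (ν₁ : Matrix (Fin 2) (Fin 2) F) 1 0) /
        (ν₁ : Matrix (Fin 2) (Fin 2) F) 1 0 =
        (ν₁ : Matrix (Fin 2) (Fin 2) F) 0 0 / (ν₁ : Matrix (Fin 2) (Fin 2) F) 1 0 + a := by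
      field_simp
    rw [e] at this
    exact this) (by rw [← hcardA']; exact hΩcard)
  refine dk_mainS Hh a₀ ha₀ ((hmemHh _).2 (by rw [← hx₀v]; exact x₀.2)) ν₁ hν₁ hν₁c ?_
  intro ν hν ν' hν' hc hc'
  have h1 := hcos _ (hΩmem ν hν hc)
  have h2 := hcos _ (hΩmem ν' hν' hc')
  have := A.sub_mem h2 h1
  rw [sub_sub_sub_cancel_right] at this
  exact (hA _).1 this


/-- The conclusion of Dickson's theorem, strong form. -/
def DkConclS (H : Subgroup PSL(2, F)) : Prop :=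
  H = ⊥ ∨
  (∃ x : PSL(2, F), x ≠ 1 ∧ trSq x ≠ 4 ∧
    H ≤ Subgroup.normalizer ((Mq x : Subgroup PSL(2, F)) : Set PSL(2, F))) ∨
  (∃ x : PSL(2, F), x ≠ 1 ∧ trSq x = 4 ∧
    H ≤ Subgroup.normalizer ((Mq x : Subgroup PSL(2, F)) : Set PSL(2, F))) ∨
  Nonempty (H ≃* alternatingGroup (Fin 4)) ∨ Nonempty (H ≃* Equiv.Perm (Fin 4)) ∨
  Nonempty (H ≃* alternatingGroup (Fin 5)) ∨
  DkS (H.comap (QuotientGroup.mk' (Subgroup.center SL(2, F))))

theorem dk_coreS (p : ℕ) [Fact p.Prime] [CharP F p] (H : Subgroup PSL(2, F))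
    (hstd : (∃ y : H, y ≠ 1 ∧ trSq (y : PSL(2, F)) = 4) →
      ∃ a : F, a ≠ 0 ∧ (QuotientGroup.mk (uS a) : PSL(2, F)) ∈ H) :
    DkConclS H := by
  classical
  have hM := tiPart_MqH H
  have hd : ∀ y : H, y ≠ 1 → TorT p (MqH H) y ∨ UniT p (MqH H) y := by
    intro y hy
    by_cases h : trSq (y : PSL(2, F)) = 4
    · exact Or.inr (uniT_MqH p H y hy h)
    · exact Or.inl (torT_MqH p H y hy h)
  rcases dk_abstract hM hd with h | ⟨x, hx, ht, htop⟩ | ⟨x, hx, ht, hidx⟩ | h | h | h |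
    ⟨x, hx, hu, hnorm⟩ | ⟨⟨x, hx, hu⟩, hall⟩
  · left
    rw [Subgroup.eq_bot_iff_forall]
    intro y hy
    exact congrArg Subtype.val (h ⟨y, hy⟩)
  · have hx' : (x : PSL(2, F)) ≠ 1 := fun h => hx (Subtype.ext h)
    have hs := trSq_ne_of_torT p H x hx ht
    right; left
    refine ⟨(x : PSL(2, F)), hx', hs, ?_⟩
    intro h hh
    have : (⟨h, hh⟩ : H) ∈ MqH H x := by rw [htop]; trivial
    exact Subgroup.le_normalizer ((mem_MqH H x _).1 this)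
  · have hx' : (x : PSL(2, F)) ≠ 1 := fun h => hx (Subtype.ext h)
    have hs := trSq_ne_of_torT p H x hx ht
    haveI := Subgroup.normal_of_index_eq_two hidx
    have hnorm : Subgroup.normalizer ((MqH H x : Subgroup H) : Set H) = ⊤ :=
      Subgroup.normalizer_eq_top (MqH H x)
    right; left
    refine ⟨(x : PSL(2, F)), hx', hs, ?_⟩
    intro h hh
    have : (⟨h, hh⟩ : H) ∈ Subgroup.normalizer ((MqH H x : Subgroup H) : Set H) := by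
      rw [hnorm]; trivial
    exact normalizer_MqH_le H x hx _ this
  · exact Or.inr (Or.inr (Or.inr (Or.inl h)))
  · exact Or.inr (Or.inr (Or.inr (Or.inr (Or.inl h))))
  · exact Or.inr (Or.inr (Or.inr (Or.inr (Or.inr (Or.inl h)))))
  · have hx' : (x : PSL(2, F)) ≠ 1 := fun h => hx (Subtype.ext h)
    have ht := trSq_eq_of_uniT p H x hx hu
    right; right; left
    refine ⟨(x : PSL(2, F)), hx', ht, ?_⟩
    intro h hh
    have : (⟨h, hh⟩ : H) ∈ Subgroup.normalizer ((MqH H x : Subgroup H) : Set H) := by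
      rw [hnorm]; trivial
    exact normalizer_MqH_le H x hx _ this
  · have ht := trSq_eq_of_uniT p H x hx hu
    obtain ⟨a₀, ha₀, hmem⟩ := hstd ⟨x, hx, ht⟩
    have hx₀1 : (⟨_, hmem⟩ : H) ≠ 1 := by
      intro h
      exact mk_uS_ne_one (F := F) ha₀ (congrArg Subtype.val h)
    have hu₀ : UniT p (MqH H) ⟨_, hmem⟩ := uniT_MqH p H _ hx₀1 (trSq_mk_uS a₀)
    have := dk_core_mainS H a₀ ha₀ ⟨_, hmem⟩ rfl (hall _ hx₀1 hu₀)
    exact Or.inr (Or.inr (Or.inr (Or.inr (Or.inr (Or.inr this)))))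

end dkstrong2

end Cfsg.Agent.Lib.helper12
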