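import Mathlib
import Cfsg.Agent.Lib.helper12.PSL2Aut1
import Cfsg.Agent.Lib.helper12.SL2Tori

set_option autoImplicit false

namespace Cfsg.Agent.Lib.helper12

section aut2

variable {F : Type*} [Field F]

theorem mk_uS_eq_iff (x y : F) :
    (QuotientGroup.mk (uS x) : Matrix.ProjectiveSpecialLinearGroup (Fin 2) F) =
      QuotientGroup.mk (uS y) ↔ x = y := by
  constructor
  · intro h
    obtain ⟨ε, -, hε⟩ := (PSL2_mk_eq_mk_iff _ _).mp h
    have h00 := congrFun (congrFun hε 0) 0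
    have h01 := congrFun (congrFun hε 0) 1
    simp [uS_val] at h00 h01
    rw [← h00, one_mul] at h01
    exact h01.symm
  · rintro rfl
    rfl

theorem mk_lS_eq_iff (x y : F) :
    (QuotientGroup.mk (lS x) : Matrix.ProjectiveSpecialLinearGroup (Fin 2) F) =
      QuotientGroup.mk (lS y) ↔ x = y := by
  constructor
  · intro h
    obtain ⟨ε, -, hε⟩ := (PSL2_mk_eq_mk_iff _ _).mp h
    have h00 := congrFun (congrFun hε 0) 0
    have h10 := congrFun (congrFun hε 1) 0
    simp [lS_val] at h00 h10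
    rw [← h00, one_mul] at h10
    exact h10.symm
  · rintro rfl
    rfl

theorem mk_lS_ne_mk_uS (x y : F) (hx : x ≠ 0) :
    (QuotientGroup.mk (lS x) : Matrix.ProjectiveSpecialLinearGroup (Fin 2) F) ≠
      QuotientGroup.mk (uS y) := by
  intro h
  obtain ⟨ε, -, hε⟩ := (PSL2_mk_eq_mk_iff _ _).mp h
  have h10 := congrFun (congrFun hε 1) 0
  have h00 := congrFun (congrFun hε 0) 0
  simp [lS_val, uS_val] at h10 h00
  rcases h10 with h | h
  · rw [h] at h00
    exact one_ne_zero h00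
  · exact hx h

theorem lS_add (y z : F) : lS (y + z) = lS y * lS z := by
  apply Subtype.ext
  rw [Matrix.SpecialLinearGroup.coe_mul, lS_val, lS_val, lS_val, Matrix.mul_fin_two]
  congr 2 <;> simp [add_comm]

theorem lS_zero : lS (0 : F) = 1 := by
  apply Subtype.ext
  rw [lS_val, Matrix.SpecialLinearGroup.coe_one]
  exact Matrix.one_fin_two.symm

theorem weylSL_conj_uS (x : F) : weylSL * uS x * weylSL⁻¹ = lS (-x) := by
  rw [conj_uS_eq_lS weylSL (by simp [weylSL, mkSL_val]) x]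
  congr 1
  simp [weylSL, mkSL_val]

/-- Bruhat decomposition, in the form needed here. -/
theorem bruhat_conj_uS (h : Matrix.SpecialLinearGroup (Fin 2) F)
    (hc : (h : Matrix (Fin 2) (Fin 2) F) 1 0 ≠ 0) (y : F) :
    h * uS y * h⁻¹ =
      uS ((h : Matrix (Fin 2) (Fin 2) F) 0 0 / (h : Matrix (Fin 2) (Fin 2) F) 1 0) *
        lS (-((h : Matrix (Fin 2) (Fin 2) F) 1 0) ^ 2 * y) *
        (uS ((h : Matrix (Fin 2) (Fin 2) F) 0 0 / (h : Matrix (Fin 2) (Fin 2) F) 1 0))⁻¹ := by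
  obtain ⟨t, ht⟩ : ∃ t : F, t = (h : Matrix (Fin 2) (Fin 2) F) 0 0 /
      (h : Matrix (Fin 2) (Fin 2) F) 1 0 := ⟨_, rfl⟩
  obtain ⟨c, hc'⟩ : ∃ c : F, c = (h : Matrix (Fin 2) (Fin 2) F) 1 0 := ⟨_, rfl⟩
  rw [← ht, ← hc']
  obtain ⟨k, hk⟩ : ∃ k : Matrix.SpecialLinearGroup (Fin 2) F, k = (uS t)⁻¹ * h := ⟨_, rfl⟩
  have hh : h = uS t * k := by
    rw [hk, mul_inv_cancel_left]
  have hinv : (uS t)⁻¹ = uS (-t) := by
    rw [inv_eq_iff_mul_eq_one, ← uS_add, add_neg_cancel, uS_zero]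
  have hk00 : (k : Matrix (Fin 2) (Fin 2) F) 0 0 = 0 := by
    rw [hk, hinv, Matrix.SpecialLinearGroup.coe_mul, uS_val]
    simp [Matrix.mul_apply, Fin.sum_univ_two]
    rw [ht]
    field_simp
    ring
  have hk10 : (k : Matrix (Fin 2) (Fin 2) F) 1 0 = c := by
    rw [hk, hinv, Matrix.SpecialLinearGroup.coe_mul, uS_val, hc']
    simp [Matrix.mul_apply, Fin.sum_univ_two]
  have h3 := conj_uS_eq_lS k hk00 y
  rw [hk10] at h3
  rw [← h3, hh]
  group

theorem nS_eq (x : F) (hx : x ≠ 0) :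
    uS x * lS (-x⁻¹) * uS x =
      mkSL 0 x (-x⁻¹) 0 (by rw [mul_neg, mul_inv_cancel₀ hx]; ring) := by
  apply SL2_ext
  · simp [Matrix.SpecialLinearGroup.coe_mul, uS_val, lS_val, mkSL_val, Matrix.mul_apply,
      Fin.sum_univ_two, hx]
  · simp [Matrix.SpecialLinearGroup.coe_mul, uS_val, lS_val, mkSL_val, Matrix.mul_apply,
      Fin.sum_univ_two, hx]
  · simp [Matrix.SpecialLinearGroup.coe_mul, uS_val, lS_val, mkSL_val, Matrix.mul_apply,
      Fin.sum_univ_two, hx]
  · simp [Matrix.SpecialLinearGroup.coe_mul, uS_val, lS_val, mkSL_val, Matrix.mul_apply,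
      Fin.sum_univ_two, hx]

theorem nS_rel (x y : F) (hx : x ≠ 0) :
    (uS x * lS (-x⁻¹) * uS x) * uS y = lS (-(x⁻¹) ^ 2 * y) * (uS x * lS (-x⁻¹) * uS x) := by
  rw [nS_eq x hx]
  apply SL2_ext
  · simp [Matrix.SpecialLinearGroup.coe_mul, uS_val, lS_val, mkSL_val, Matrix.mul_apply,
      Fin.sum_univ_two]
  · simp [Matrix.SpecialLinearGroup.coe_mul, uS_val, lS_val, mkSL_val, Matrix.mul_apply,
      Fin.sum_univ_two]
  · simp [Matrix.SpecialLinearGroup.coe_mul, uS_val, lS_val, mkSL_val, Matrix.mul_apply,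
      Fin.sum_univ_two]
  · simp [Matrix.SpecialLinearGroup.coe_mul, uS_val, lS_val, mkSL_val, Matrix.mul_apply,
      Fin.sum_univ_two]
    field_simp

theorem norm_key (a b s t ε : F)
    (h : ((lS t * (uS a * lS b * uS a) : Matrix.SpecialLinearGroup (Fin 2) F) :
        Matrix (Fin 2) (Fin 2) F) =
      ε • ((uS a * lS b * uS a * uS s : Matrix.SpecialLinearGroup (Fin 2) F) :
        Matrix (Fin 2) (Fin 2) F)) :
    (s ≠ 0 → 1 + a * b = 0) ∧ (1 + a * b = 0 → a ≠ 0 → t * a = b * s) := by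
  simp only [Matrix.SpecialLinearGroup.coe_mul, uS_val, lS_val] at h
  have e00 : 1 + a * b = ε * (1 + a * b) := by
    have := congrFun (congrFun h 0) 0
    simp [Matrix.mul_apply, Fin.sum_univ_two] at this
    linear_combination this
  have e01 : a * (1 + a * b) + a = ε * ((1 + a * b) * s + a * (1 + a * b) + a) := by
    have := congrFun (congrFun h 0) 1
    simp [Matrix.mul_apply, Fin.sum_univ_two] at this
    linear_combination this
  have e11 : t * (a * (1 + a * b) + a) + (1 + a * b) = ε * (b * s + (1 + a * b)) := by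
    have := congrFun (congrFun h 1) 1
    simp [Matrix.mul_apply, Fin.sum_univ_two] at this
    linear_combination this
  constructor
  · intro hs
    by_contra hP
    have hε : ε = 1 := by
      have h3 : (ε - 1) * (1 + a * b) = 0 := by linear_combination -e00
      rcases mul_eq_zero.mp h3 with h1 | h1
      · linear_combination h1
      · exact absurd h1 hP
    rw [hε] at e01
    have h3 : (1 + a * b) * s = 0 := by linear_combination -e01
    rcases mul_eq_zero.mp h3 with h1 | h1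
    · exact hP h1
    · exact hs h1
  · intro hP ha
    have hε : ε = 1 := by
      have h3 : (ε - 1) * a = 0 := by linear_combination -e01 + (a - ε * s - ε * a) * hP
      rcases mul_eq_zero.mp h3 with h1 | h1
      · linear_combination h1
      · exact absurd h1 ha
    rw [hε] at e11
    linear_combination e11 - (t * a) * hP

theorem conjSL_eq_of_mul_eq (M : GL (Fin 2) F) (g g' : Matrix.SpecialLinearGroup (Fin 2) F)
    (h : (M : Matrix (Fin 2) (Fin 2) F) * (g : Matrix (Fin 2) (Fin 2) F) =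
      (g' : Matrix (Fin 2) (Fin 2) F) * (M : Matrix (Fin 2) (Fin 2) F)) : conjSL M g = g' := by
  apply Subtype.ext
  rw [conjSL_val, h, Matrix.mul_assoc, M.mul_inv, Matrix.mul_one]

end aut2

section aut2fin

variable {F : Type*} [Field F] [Fintype F]

/-- The image of the upper unitriangular group under an automorphism of `PSL₂(q)` is conjugate
to it. -/
theorem exists_conj_unip (p : ℕ) [Fact p.Prime] [CharP F p]
    (α : MulAut (Matrix.ProjectiveSpecialLinearGroup (Fin 2) F)) :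
    ∃ k : Matrix.SpecialLinearGroup (Fin 2) F, ∀ x : F, ∃ y : F,
      α (QuotientGroup.mk (uS x)) = QuotientGroup.mk (k * uS y * k⁻¹) := by
  classical
  obtain ⟨P', hP'⟩ : ∃ P' : Sylow p (Matrix.ProjectiveSpecialLinearGroup (Fin 2) F),
      (P' : Subgroup (Matrix.ProjectiveSpecialLinearGroup (Fin 2) F)) =
        (unipSL F).map (QuotientGroup.mk' (Subgroup.center
          (Matrix.SpecialLinearGroup (Fin 2) F))) :=
    ⟨(sylUnipSL (F := F) p).mapSurjective (QuotientGroup.mk'_surjective _),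
      Sylow.coe_mapSurjective _ _⟩
  obtain ⟨Q, hQ⟩ : ∃ Q : Sylow p (Matrix.ProjectiveSpecialLinearGroup (Fin 2) F),
      (Q : Subgroup (Matrix.ProjectiveSpecialLinearGroup (Fin 2) F)) =
        (P' : Subgroup (Matrix.ProjectiveSpecialLinearGroup (Fin 2) F)).map α.toMonoidHom :=
    ⟨P'.mapSurjective (f := α.toMonoidHom) α.surjective, Sylow.coe_mapSurjective _ _⟩
  obtain ⟨gb, hgb⟩ := MulAction.exists_smul_eq
    (Matrix.ProjectiveSpecialLinearGroup (Fin 2) F) P' Q
  obtain ⟨k, rfl⟩ := QuotientGroup.mk_surjective gb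
  refine ⟨k, fun x => ?_⟩
  have h1 : α (QuotientGroup.mk (uS x)) ∈
      (Q : Subgroup (Matrix.ProjectiveSpecialLinearGroup (Fin 2) F)) := by
    rw [hQ, hP']
    exact Subgroup.mem_map_of_mem _ (Subgroup.mem_map_of_mem _
      ((mem_unipSL_iff _).mpr ⟨x, rfl⟩))
  rw [← hgb, Sylow.coe_subgroup_smul, Subgroup.mem_pointwise_smul_iff_inv_smul_mem, hP'] at h1
  obtain ⟨u, hu, hu'⟩ := h1
  obtain ⟨y, rfl⟩ := (mem_unipSL_iff u).mp hu
  refine ⟨y, ?_⟩
  rw [MulAut.smul_def, ← map_inv, MulAut.conj_apply, inv_inv] at hu'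
  rw [QuotientGroup.mk_mul, QuotientGroup.mk_mul, QuotientGroup.mk_inv]
  have hu'' : (QuotientGroup.mk (uS y) : Matrix.ProjectiveSpecialLinearGroup (Fin 2) F) =
      (QuotientGroup.mk k)⁻¹ * α (QuotientGroup.mk (uS x)) * QuotientGroup.mk k := hu'
  rw [hu'']
  group

theorem exists_conj_lower (p : ℕ) [Fact p.Prime] [CharP F p]
    (α : MulAut (Matrix.ProjectiveSpecialLinearGroup (Fin 2) F)) :
    ∃ k : Matrix.SpecialLinearGroup (Fin 2) F, ∀ x : F, ∃ y : F,
      α (QuotientGroup.mk (lS x)) = QuotientGroup.mk (k * uS y * k⁻¹) := by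
  obtain ⟨k, hk⟩ := exists_conj_unip p (α * MulAut.conj (QuotientGroup.mk weylSL))
  refine ⟨k, fun x => ?_⟩
  obtain ⟨y, hy⟩ := hk (-x)
  refine ⟨y, ?_⟩
  rw [← hy, MulAut.mul_apply, MulAut.conj_apply, ← QuotientGroup.mk_inv, ← QuotientGroup.mk_mul,
    ← QuotientGroup.mk_mul, weylSL_conj_uS, neg_neg]

/-- Normalised automorphisms: those preserving the two opposite unipotent subgroups. -/
def NrmAut (β : MulAut (Matrix.ProjectiveSpecialLinearGroup (Fin 2) F)) : Prop :=
  (∀ x : F, ∃ y : F, β (QuotientGroup.mk (uS x)) = QuotientGroup.mk (uS y)) ∧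
    (∀ x : F, ∃ y : F, β (QuotientGroup.mk (lS x)) = QuotientGroup.mk (lS y))

theorem exists_normalize (p : ℕ) [Fact p.Prime] [CharP F p]
    (α : MulAut (Matrix.ProjectiveSpecialLinearGroup (Fin 2) F)) :
    ∃ k : Matrix.SpecialLinearGroup (Fin 2) F,
      NrmAut ((MulAut.conj (QuotientGroup.mk k :
        Matrix.ProjectiveSpecialLinearGroup (Fin 2) F))⁻¹ * α) := by
  obtain ⟨g₁, h1⟩ := exists_conj_unip p α
  have hβu : ∀ x : F, ∃ y : F, ((MulAut.conj (QuotientGroup.mk g₁ :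
      Matrix.ProjectiveSpecialLinearGroup (Fin 2) F))⁻¹ * α) (QuotientGroup.mk (uS x)) =
      QuotientGroup.mk (uS y) := by
    intro x
    obtain ⟨y, hy⟩ := h1 x
    refine ⟨y, ?_⟩
    rw [MulAut.mul_apply, hy, ← map_inv, MulAut.conj_apply, ← QuotientGroup.mk_inv,
      ← QuotientGroup.mk_mul, ← QuotientGroup.mk_inv, ← QuotientGroup.mk_mul]
    congr 1
    group
  obtain ⟨h, h2⟩ := exists_conj_lower p ((MulAut.conj (QuotientGroup.mk g₁ :
      Matrix.ProjectiveSpecialLinearGroup (Fin 2) F))⁻¹ * α)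
  by_cases hc : (h : Matrix (Fin 2) (Fin 2) F) 1 0 = 0
  · exfalso
    choose ψ hψ using hβu
    have hinj : Function.Injective ψ := by
      intro x y hxy
      have := hψ x
      rw [hxy, ← hψ y] at this
      exact (mk_uS_eq_iff x y).mp (((MulAut.conj (QuotientGroup.mk g₁ :
        Matrix.ProjectiveSpecialLinearGroup (Fin 2) F))⁻¹ * α).injective this)
    have hsurj : Function.Surjective ψ := Finite.injective_iff_surjective.mp hinj
    obtain ⟨y, hy⟩ := h2 1
    rw [borelSL_mul_uS h hc y] at hy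
    obtain ⟨x₀, hx₀⟩ := hsurj ((h : Matrix (Fin 2) (Fin 2) F) 0 0 * y /
      (h : Matrix (Fin 2) (Fin 2) F) 1 1)
    rw [← hx₀, ← hψ x₀] at hy
    exact mk_lS_ne_mk_uS 1 x₀ one_ne_zero (((MulAut.conj (QuotientGroup.mk g₁ :
      Matrix.ProjectiveSpecialLinearGroup (Fin 2) F))⁻¹ * α).injective hy)
  · obtain ⟨t, ht⟩ : ∃ t : F, t = (h : Matrix (Fin 2) (Fin 2) F) 0 0 /
        (h : Matrix (Fin 2) (Fin 2) F) 1 0 := ⟨_, rfl⟩
    refine ⟨g₁ * uS t, ?_⟩
    have hcomp : (MulAut.conj (QuotientGroup.mk (g₁ * uS t) :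
        Matrix.ProjectiveSpecialLinearGroup (Fin 2) F))⁻¹ * α =
        (MulAut.conj (QuotientGroup.mk (uS t) :
          Matrix.ProjectiveSpecialLinearGroup (Fin 2) F))⁻¹ *
        ((MulAut.conj (QuotientGroup.mk g₁ :
          Matrix.ProjectiveSpecialLinearGroup (Fin 2) F))⁻¹ * α) := by
      rw [QuotientGroup.mk_mul, map_mul, mul_inv_rev, mul_assoc]
    rw [hcomp]
    constructor
    · intro x
      obtain ⟨y, hy⟩ := hβu x
      refine ⟨y, ?_⟩
      rw [MulAut.mul_apply, hy, ← map_inv, MulAut.conj_apply, ← QuotientGroup.mk_inv,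
        ← QuotientGroup.mk_mul, ← QuotientGroup.mk_inv, ← QuotientGroup.mk_mul]
      congr 1
      have hinv : (uS t)⁻¹ = uS (-t) := by
        rw [inv_eq_iff_mul_eq_one, ← uS_add, add_neg_cancel, uS_zero]
      rw [inv_inv, hinv, ← uS_add, ← uS_add]
      congr 1
      ring
    · intro x
      obtain ⟨y, hy⟩ := h2 x
      refine ⟨-((h : Matrix (Fin 2) (Fin 2) F) 1 0) ^ 2 * y, ?_⟩
      rw [MulAut.mul_apply, hy, bruhat_conj_uS h hc y, ← ht, ← map_inv, MulAut.conj_apply,
        ← QuotientGroup.mk_inv, ← QuotientGroup.mk_mul, ← QuotientGroup.mk_inv,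
        ← QuotientGroup.mk_mul]
      congr 1
      group

/-- A normalised automorphism is a diagonal conjugation composed with a field automorphism. -/
theorem autRel_of_nrm (β : MulAut (Matrix.ProjectiveSpecialLinearGroup (Fin 2) F))
    (hβ : NrmAut β) : ∃ σ : F ≃+* F, AutRel β σ := by
  classical
  obtain ⟨hu, hl⟩ := hβ
  choose ψ hψ using hu
  choose ψ' hψ' using hl
  have hψadd : ∀ x y, ψ (x + y) = ψ x + ψ y := by
    intro x y
    have h := hψ (x + y)
    rw [uS_add, QuotientGroup.mk_mul, map_mul, hψ x, hψ y, ← QuotientGroup.mk_mul, ← uS_add] at h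
    exact ((mk_uS_eq_iff _ _).mp h).symm
  have hψ'add : ∀ x y, ψ' (x + y) = ψ' x + ψ' y := by
    intro x y
    have h := hψ' (x + y)
    rw [lS_add, QuotientGroup.mk_mul, map_mul, hψ' x, hψ' y, ← QuotientGroup.mk_mul, ← lS_add] at h
    exact ((mk_lS_eq_iff _ _).mp h).symm
  have hψinj : Function.Injective ψ := by
    intro x y hxy
    have h := hψ x
    rw [hxy, ← hψ y] at h
    exact (mk_uS_eq_iff x y).mp (β.injective h)
  have hψ0 : ψ 0 = 0 := by
    have h := hψadd 0 0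
    rw [add_zero] at h
    exact left_eq_add.mp h
  have hψneg : ∀ x, ψ (-x) = -ψ x := by
    intro x
    have h := hψadd x (-x)
    rw [add_neg_cancel, hψ0] at h
    exact eq_neg_of_add_eq_zero_right h.symm
  obtain ⟨c, hc⟩ : ∃ c : F, c = ψ 1 := ⟨_, rfl⟩
  have hc0 : c ≠ 0 := by
    rw [hc]
    intro h
    exact one_ne_zero (hψinj (h.trans hψ0.symm))
  have hrel : ∀ x y : F, x ≠ 0 → 1 + ψ x * ψ' (-x⁻¹) = 0 ∧
      ψ' (-(x⁻¹) ^ 2 * y) * ψ x = ψ' (-x⁻¹) * ψ y := by
    intro x y hx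
    have hG : β (QuotientGroup.mk (uS x * lS (-x⁻¹) * uS x)) =
        QuotientGroup.mk (uS (ψ x) * lS (ψ' (-x⁻¹)) * uS (ψ x)) := by
      rw [QuotientGroup.mk_mul, QuotientGroup.mk_mul, map_mul, map_mul, hψ, hψ']
      rfl
    have key : ∀ z : F, ∃ ε : F, ε * ε = 1 ∧
        ((lS (ψ' (-(x⁻¹) ^ 2 * z)) * (uS (ψ x) * lS (ψ' (-x⁻¹)) * uS (ψ x)) :
          Matrix.SpecialLinearGroup (Fin 2) F) : Matrix (Fin 2) (Fin 2) F) =
        ε • ((uS (ψ x) * lS (ψ' (-x⁻¹)) * uS (ψ x) * uS (ψ z) :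
          Matrix.SpecialLinearGroup (Fin 2) F) : Matrix (Fin 2) (Fin 2) F) := by
      intro z
      have hL : β (QuotientGroup.mk ((uS x * lS (-x⁻¹) * uS x) * uS z)) =
          QuotientGroup.mk (uS (ψ x) * lS (ψ' (-x⁻¹)) * uS (ψ x) * uS (ψ z)) := by
        rw [QuotientGroup.mk_mul, map_mul, hG, hψ]
        rfl
      have hR : β (QuotientGroup.mk (lS (-(x⁻¹) ^ 2 * z) * (uS x * lS (-x⁻¹) * uS x))) =
          QuotientGroup.mk (lS (ψ' (-(x⁻¹) ^ 2 * z)) *
            (uS (ψ x) * lS (ψ' (-x⁻¹)) * uS (ψ x))) := by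
        rw [QuotientGroup.mk_mul, map_mul, hG, hψ']
        rfl
      have h1 : (QuotientGroup.mk (uS (ψ x) * lS (ψ' (-x⁻¹)) * uS (ψ x) * uS (ψ z)) :
          Matrix.ProjectiveSpecialLinearGroup (Fin 2) F) =
          QuotientGroup.mk (lS (ψ' (-(x⁻¹) ^ 2 * z)) *
            (uS (ψ x) * lS (ψ' (-x⁻¹)) * uS (ψ x))) := by
        rw [← hL, ← hR, nS_rel x z hx]
      exact (PSL2_mk_eq_mk_iff _ _).mp h1
    obtain ⟨ε1, -, h1⟩ := key 1
    have hP := (norm_key _ _ _ _ _ h1).1 (hc ▸ hc0)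
    obtain ⟨ε2, -, h2⟩ := key y
    have hxne : ψ x ≠ 0 := fun h => hx (hψinj (h.trans hψ0.symm))
    exact ⟨hP, (norm_key _ _ _ _ _ h2).2 hP hxne⟩
  have hψ'eq : ∀ y, ψ' y * c ^ 2 = ψ y := by
    intro y
    obtain ⟨h1, h2⟩ := hrel 1 (-y) one_ne_zero
    simp only [inv_one, one_pow, neg_mul, one_mul, neg_neg] at h1 h2
    rw [hψneg, ← hc] at h2
    rw [← hc] at h1
    linear_combination c * h2 - ψ y * h1
  have hM : ∀ x z : F, c ^ 2 * ψ (x ^ 2 * z) = ψ x ^ 2 * ψ z := by
    intro x z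
    by_cases hx : x = 0
    · subst hx
      simp [hψ0]
    obtain ⟨h1, h2⟩ := hrel x (x ^ 2 * z) hx
    have e : -(x⁻¹) ^ 2 * (x ^ 2 * z) = -z := by
      field_simp
    rw [e] at h2
    have e1 := hψ'eq (-z)
    have e2 := hψneg z
    linear_combination (ψ (x ^ 2 * z) * c ^ 2) * h1 + (ψ x * c ^ 2) * h2 - (ψ x) ^ 2 * e1 -
      (ψ x) ^ 2 * e2
  have hσadd : ∀ x y, ψ (x + y) / c = ψ x / c + ψ y / c := by
    intro x y
    rw [hψadd]
    ring
  have hσone : ψ 1 / c = 1 := by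
    rw [← hc]
    exact div_self hc0
  have hσsq : ∀ x z, ψ (x ^ 2 * z) / c = (ψ x / c) ^ 2 * (ψ z / c) := by
    intro x z
    field_simp
    linear_combination hM x z
  have hsq1 : ∀ u, ψ (u ^ 2) / c = (ψ u / c) ^ 2 := by
    intro u
    have h := hσsq u 1
    rwa [mul_one, hσone, mul_one] at h
  have hsub : ∀ x y, ψ (x - y) / c = ψ x / c - ψ y / c := by
    intro x y
    rw [sub_eq_add_neg, hψadd, hψneg]
    ring
  have hσmul : ∀ w z, ψ (w * z) / c = (ψ w / c) * (ψ z / c) := by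
    intro w z
    by_cases h2 : (2 : F) = 0
    · have hchar : ringChar F = 2 := by
        have h3 : ringChar F ∣ 2 := by
          rw [← ringChar.spec]
          exact_mod_cast h2
        rcases (Nat.dvd_prime Nat.prime_two).mp h3 with h4 | h4
        · exfalso
          haveI := ringChar.charP F
          rw [h4] at this
          exact CharP.ringChar_ne_one h4
        · exact h4
      obtain ⟨u, hu⟩ := FiniteField.isSquare_of_char_two hchar w
      rw [hu, ← pow_two, hσsq, hsq1]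
    · have hw : w = ((w + 1) / 2) ^ 2 - ((w - 1) / 2) ^ 2 := by
        field_simp
        ring
      calc ψ (w * z) / c
          = ψ (((w + 1) / 2) ^ 2 * z - ((w - 1) / 2) ^ 2 * z) / c := by
            rw [← sub_mul, ← hw]
        _ = (ψ ((w + 1) / 2) / c) ^ 2 * (ψ z / c) - (ψ ((w - 1) / 2) / c) ^ 2 * (ψ z / c) := by
            rw [hsub, hσsq, hσsq]
        _ = (ψ (((w + 1) / 2) ^ 2) / c - ψ (((w - 1) / 2) ^ 2) / c) * (ψ z / c) := by
            rw [hsq1, hsq1]
            ring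
        _ = ψ w / c * (ψ z / c) := by
            rw [← hsub, ← hw]
  obtain ⟨σr, hσr⟩ : ∃ σr : F →+* F, ∀ x, σr x = ψ x / c :=
    ⟨{ toFun := fun x => ψ x / c
       map_one' := hσone
       map_mul' := hσmul
       map_zero' := by simp [hψ0]
       map_add' := hσadd }, fun x => rfl⟩
  have hσbij : Function.Bijective σr :=
    ⟨σr.injective, Finite.injective_iff_surjective.mp σr.injective⟩
  obtain ⟨σ, hσ⟩ : ∃ σ : F ≃+* F, ∀ x, σ x = ψ x / c :=
    ⟨RingEquiv.ofBijective σr hσbij, fun x => hσr x⟩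
  obtain ⟨D, hD⟩ : ∃ D : GL (Fin 2) F, (D : Matrix (Fin 2) (Fin 2) F) = !![c, 0; 0, 1] :=
    ⟨Matrix.GeneralLinearGroup.mkOfDetNeZero !![c, 0; 0, 1]
      (by simp [Matrix.det_fin_two, hc0]), rfl⟩
  refine ⟨σ, D, ?_⟩
  have htop : MonoidHom.eqLocus
      ((β : Matrix.ProjectiveSpecialLinearGroup (Fin 2) F ≃*
        Matrix.ProjectiveSpecialLinearGroup (Fin 2) F).toMonoidHom.comp
        (QuotientGroup.mk' (Subgroup.center (Matrix.SpecialLinearGroup (Fin 2) F))))
      ((QuotientGroup.mk' (Subgroup.center (Matrix.SpecialLinearGroup (Fin 2) F))).comp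
        ((conjSL D).toMonoidHom.comp (mapSL σ).toMonoidHom)) = ⊤ := by
    apply SL2_eq_top_of_uS_lS
    · intro y
      show β (QuotientGroup.mk (uS y)) = QuotientGroup.mk (conjSL D (mapSL σ (uS y)))
      rw [hψ, mapSL_uS, hσ]
      congr 1
      symm
      apply conjSL_eq_of_mul_eq
      rw [hD, uS_val, uS_val]
      ext i j
      fin_cases i <;> fin_cases j <;> simp [Matrix.mul_apply, Fin.sum_univ_two]
      field_simp
    · intro y
      show β (QuotientGroup.mk (lS y)) = QuotientGroup.mk (conjSL D (mapSL σ (lS y)))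
      rw [hψ', mapSL_lS, hσ]
      congr 1
      symm
      apply conjSL_eq_of_mul_eq
      rw [hD, lS_val, lS_val]
      ext i j
      fin_cases i <;> fin_cases j <;> simp [Matrix.mul_apply, Fin.sum_univ_two]
      have := hψ'eq y
      field_simp
      linear_combination -this
  intro g
  have hg : g ∈ MonoidHom.eqLocus
      ((β : Matrix.ProjectiveSpecialLinearGroup (Fin 2) F ≃*
        Matrix.ProjectiveSpecialLinearGroup (Fin 2) F).toMonoidHom.comp
        (QuotientGroup.mk' (Subgroup.center (Matrix.SpecialLinearGroup (Fin 2) F))))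
      ((QuotientGroup.mk' (Subgroup.center (Matrix.SpecialLinearGroup (Fin 2) F))).comp
        ((conjSL D).toMonoidHom.comp (mapSL σ).toMonoidHom)) := by
    rw [htop]
    trivial
  exact hg

/-- Every automorphism of `PSL₂(q)` is a `GL₂`-conjugation composed with a field
automorphism. -/
theorem exists_autRel (p : ℕ) [Fact p.Prime] [CharP F p]
    (α : MulAut (Matrix.ProjectiveSpecialLinearGroup (Fin 2) F)) :
    ∃ σ : F ≃+* F, AutRel α σ := by
  obtain ⟨k, hk⟩ := exists_normalize p α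
  obtain ⟨σ, hσ⟩ := autRel_of_nrm _ hk
  refine ⟨σ, ?_⟩
  have h := autRel_mul (autRel_conj k) hσ
  rwa [mul_inv_cancel_left, one_mul] at h

end aut2fin

end Cfsg.Agent.Lib.helper12
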