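import Mathlib
import Cfsg.Agent.Lib.helper12.DkStrong
import Cfsg.Agent.Lib.helper12.DkA5
import Cfsg.Agent.Lib.helper12.DkRedund
import Cfsg.Agent.Lib.helper12.PSL2Aut2

set_option autoImplicit false

namespace Cfsg.Agent.Lib.helper12

open scoped MatrixGroups

theorem ord_alt4 : ∀ σ : alternatingGroup (Fin 4), σ ^ 2 = 1 ∨ σ ^ 3 = 1 := by decide

set_option maxRecDepth 100000 in
theorem ord_perm4 : ∀ σ : Equiv.Perm (Fin 4), σ ^ 2 = 1 ∨ σ ^ 3 = 1 ∨ σ ^ 4 = 1 := by decide

set_option maxRecDepth 100000 in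
theorem ord_alt5 : ∀ σ : alternatingGroup (Fin 5), σ ^ 2 = 1 ∨ σ ^ 3 = 1 ∨ σ ^ 5 = 1 := by decide

section dklem

variable {F : Type*} [Field F]

theorem uS_natCast_mul (k : ℕ) (a : F) : uS ((k : F) * a) = uS a ^ k := by
  induction k with
  | zero => rw [Nat.cast_zero, zero_mul, uS_zero, pow_zero]
  | succ n ih =>
    rw [Nat.cast_succ, add_mul, one_mul, uS_add, ih, pow_succ]

theorem lS_natCast_mul (k : ℕ) (a : F) : lS ((k : F) * a) = lS a ^ k := by
  induction k with
  | zero => rw [Nat.cast_zero, zero_mul, lS_zero, pow_zero]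
  | succ n ih =>
    rw [Nat.cast_succ, add_mul, one_mul, lS_add, ih, pow_succ]

/-- `SL₂` is generated by the elementary matrices. -/
theorem SL2_top_of_elem (L : Subgroup SL(2, F)) (hu : ∀ b, uS b ∈ L) (hl : ∀ b, lS b ∈ L) :
    L = ⊤ := by
  have key : ∀ g : SL(2, F), (g : Matrix (Fin 2) (Fin 2) F) 1 0 ≠ 0 → g ∈ L := by
    intro g hc
    have hdet := SL2_det_eq g
    have e : g = uS (((g : Matrix (Fin 2) (Fin 2) F) 0 0 - 1) / (g : Matrix (Fin 2) (Fin 2) F) 1 0) *
        lS ((g : Matrix (Fin 2) (Fin 2) F) 1 0) *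
        uS (((g : Matrix (Fin 2) (Fin 2) F) 1 1 - 1) / (g : Matrix (Fin 2) (Fin 2) F) 1 0) := by
      apply SL2_ext <;>
        simp only [SL2_mul_00, SL2_mul_01, SL2_mul_10, SL2_mul_11, uS_00, uS_01, uS_10, uS_11,
          lS_00, lS_01, lS_10, lS_11]
      · field_simp
        ring
      · field_simp
        linear_combination -hdet
      · ring
      · field_simp
        ring
    rw [e]
    exact L.mul_mem (L.mul_mem (hu _) (hl _)) (hu _)
  rw [Subgroup.eq_top_iff']
  intro g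
  by_cases hc : (g : Matrix (Fin 2) (Fin 2) F) 1 0 = 0
  · have hdet := SL2_det_eq g
    rw [hc, mul_zero, sub_zero] at hdet
    have hd : (g : Matrix (Fin 2) (Fin 2) F) 1 1 ≠ 0 := by
      intro h
      rw [h, mul_zero] at hdet
      exact zero_ne_one hdet
    have h1 : g * lS 1 ∈ L := by
      apply key
      rw [SL2_mul_10, lS_00, lS_10, hc]
      simpa using hd
    have := L.mul_mem h1 (L.inv_mem (hl 1))
    rwa [mul_inv_cancel_right] at this
  · exact key g hc

/-- If `mk g` has `n`-th power one and `g ^ n = a g + b`, then `a = 0` or `g` is unipotent-like. -/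
theorem pow_scalar_cases (g : SL(2, F)) (n : ℕ) (a b : F)
    (h : (g : Matrix (Fin 2) (Fin 2) F) ^ n = a • (g : Matrix (Fin 2) (Fin 2) F) +
      b • (1 : Matrix (Fin 2) (Fin 2) F))
    (hz : (QuotientGroup.mk g : PSL(2, F)) ^ n = 1) :
    a = 0 ∨ trSq (QuotientGroup.mk g : PSL(2, F)) = 4 := by
  by_cases ha : a = 0
  · exact Or.inl ha
  right
  rw [PSL2_mk_pow_eq_one_iff] at hz
  obtain ⟨c, hc⟩ := hz
  rw [Matrix.SpecialLinearGroup.coe_pow, h] at hc
  have h1 : (g : Matrix (Fin 2) (Fin 2) F) = (a⁻¹ * (c - b)) • (1 : Matrix (Fin 2) (Fin 2) F) := by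
    have h2 : a • (g : Matrix (Fin 2) (Fin 2) F) = (c - b) • (1 : Matrix (Fin 2) (Fin 2) F) := by
      rw [sub_smul, ← hc]
      module
    rw [mul_smul, ← h2, smul_smul, inv_mul_cancel₀ ha, one_smul]
  obtain ⟨d, hd⟩ : ∃ d, d = a⁻¹ * (c - b) := ⟨_, rfl⟩
  rw [← hd] at h1
  have hdet := g.det_coe
  rw [h1, Matrix.det_smul, Matrix.det_one, Fintype.card_fin, mul_one] at hdet
  rw [trSq_mk, h1, Matrix.trace_smul, Matrix.trace_one, Fintype.card_fin]
  simp only [smul_eq_mul, Nat.cast_ofNat]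
  linear_combination 4 * hdet

theorem mat_pow_gen (g : SL(2, F)) :
    (g : Matrix (Fin 2) (Fin 2) F) ^ 2 = ((g : Matrix (Fin 2) (Fin 2) F).trace) •
        (g : Matrix (Fin 2) (Fin 2) F) + (-1 : F) • (1 : Matrix (Fin 2) (Fin 2) F) ∧
    (g : Matrix (Fin 2) (Fin 2) F) ^ 3 = ((g : Matrix (Fin 2) (Fin 2) F).trace ^ 2 - 1) •
        (g : Matrix (Fin 2) (Fin 2) F) + (-(g : Matrix (Fin 2) (Fin 2) F).trace) •
          (1 : Matrix (Fin 2) (Fin 2) F) ∧
    (g : Matrix (Fin 2) (Fin 2) F) ^ 4 = ((g : Matrix (Fin 2) (Fin 2) F).trace ^ 3 -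
        2 * (g : Matrix (Fin 2) (Fin 2) F).trace) •
        (g : Matrix (Fin 2) (Fin 2) F) + (-((g : Matrix (Fin 2) (Fin 2) F).trace ^ 2 - 1)) •
          (1 : Matrix (Fin 2) (Fin 2) F) ∧
    (g : Matrix (Fin 2) (Fin 2) F) ^ 5 = ((g : Matrix (Fin 2) (Fin 2) F).trace ^ 4 -
        3 * (g : Matrix (Fin 2) (Fin 2) F).trace ^ 2 + 1) •
        (g : Matrix (Fin 2) (Fin 2) F) + (-((g : Matrix (Fin 2) (Fin 2) F).trace ^ 3 -
          2 * (g : Matrix (Fin 2) (Fin 2) F).trace)) • (1 : Matrix (Fin 2) (Fin 2) F) := by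
  have hsq := SL2_sq_eq g
  obtain ⟨M, hM⟩ : ∃ M : Matrix (Fin 2) (Fin 2) F, M = (g : Matrix (Fin 2) (Fin 2) F) := ⟨_, rfl⟩
  rw [← hM] at hsq ⊢
  obtain ⟨t, ht⟩ : ∃ t : F, t = M.trace := ⟨_, rfl⟩
  rw [← ht] at hsq ⊢
  have e1 : M ^ 1 = (1 : F) • M + (0 : F) • (1 : Matrix (Fin 2) (Fin 2) F) := by simp
  have e2 := mat_pow_step M t hsq _ _ t (-1) (by ring) (by ring) 1 e1
  have e3 := mat_pow_step M t hsq _ _ (t ^ 2 - 1) (-t) (by ring) (by ring) 2 e2
  have e4 := mat_pow_step M t hsq _ _ (t ^ 3 - 2 * t) (-(t ^ 2 - 1)) (by ring) (by ring) 3 e3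
  have e5 := mat_pow_step M t hsq _ _ (t ^ 4 - 3 * t ^ 2 + 1) (-(t ^ 3 - 2 * t)) (by ring)
    (by ring) 4 e4
  exact ⟨e2, e3, e4, e5⟩

theorem trSq_of_pow_two (z : PSL(2, F)) (h : z ^ 2 = 1) : trSq z = 0 ∨ trSq z = 4 := by
  obtain ⟨g, rfl⟩ := QuotientGroup.mk_surjective z
  rcases pow_scalar_cases g 2 _ _ (mat_pow_gen g).1 h with h1 | h1
  · left
    rw [trSq_mk, h1]
    ring
  · exact Or.inr h1

theorem trSq_of_pow_three (z : PSL(2, F)) (h : z ^ 3 = 1) : trSq z = 1 ∨ trSq z = 4 := by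
  obtain ⟨g, rfl⟩ := QuotientGroup.mk_surjective z
  rcases pow_scalar_cases g 3 _ _ (mat_pow_gen g).2.1 h with h1 | h1
  · left
    rw [trSq_mk]
    linear_combination h1
  · exact Or.inr h1

theorem trSq_of_pow_four (z : PSL(2, F)) (h : z ^ 4 = 1) :
    trSq z = 0 ∨ trSq z = 2 ∨ trSq z = 4 := by
  obtain ⟨g, rfl⟩ := QuotientGroup.mk_surjective z
  rcases pow_scalar_cases g 4 _ _ (mat_pow_gen g).2.2.1 h with h1 | h1
  · rw [trSq_mk]
    have h2 : (g : Matrix (Fin 2) (Fin 2) F).trace *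
        ((g : Matrix (Fin 2) (Fin 2) F).trace ^ 2 - 2) = 0 := by linear_combination h1
    rcases mul_eq_zero.1 h2 with h3 | h3
    · left
      rw [h3]
      ring
    · right; left
      linear_combination h3
  · exact Or.inr (Or.inr h1)

theorem trSq_of_pow_five (z : PSL(2, F)) (h : z ^ 5 = 1) :
    trSq z ^ 2 - 3 * trSq z + 1 = 0 ∨ trSq z = 4 := by
  obtain ⟨g, rfl⟩ := QuotientGroup.mk_surjective z
  rcases pow_scalar_cases g 5 _ _ (mat_pow_gen g).2.2.2 h with h1 | h1
  · left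
    rw [trSq_mk]
    linear_combination h1
  · exact Or.inr h1

end dklem

section dklem2

/-- A `p`-element normalising a Sylow `p`-subgroup lies in it. -/
theorem mem_sylow_of_mem_normalizer {G : Type*} [Group G] [Finite G] {p : ℕ} [Fact p.Prime]
    (P : Sylow p G) (g : G)
    (hg : g ∈ Subgroup.normalizer ((P : Subgroup G) : Set G)) (hp : g ^ p = 1) :
    g ∈ (P : Subgroup G) := by
  have hZ : IsPGroup p (Subgroup.zpowers g) := by
    have h1 : orderOf g ∣ p ^ 1 := by
      rw [pow_one]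
      exact orderOf_dvd_of_pow_eq_one hp
    obtain ⟨j, -, hj⟩ := (Nat.dvd_prime_pow Fact.out).1 h1
    exact IsPGroup.of_card (n := j) (by rw [Nat.card_zpowers, hj])
  have hle : Subgroup.zpowers g ≤ Subgroup.normalizer ((P : Subgroup G) : Set G) := by
    rw [Subgroup.zpowers_le]
    exact hg
  have hsup := IsPGroup.to_sup_of_normal_right' hZ P.2 hle
  have h2 := P.is_maximal' hsup le_sup_right
  have h3 : g ∈ Subgroup.zpowers g ⊔ (P : Subgroup G) :=
    (le_sup_left : Subgroup.zpowers g ≤ _) (Subgroup.mem_zpowers g)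
  rw [h2] at h3
  exact h3

variable {F : Type*} [Field F] [Fintype F]

omit [Fintype F] in
theorem trSq_uS_lS (lam : F) :
    trSq (QuotientGroup.mk (uS lam * lS 1) : PSL(2, F)) = (2 + lam) ^ 2 := by
  rw [trSq_mk, Matrix.trace_fin_two, SL2_mul_00, SL2_mul_11, uS_00, uS_01, uS_10, uS_11, lS_00,
    lS_01, lS_10, lS_11]
  ring

omit [Fintype F] in
theorem trSq_uS_inv_lS (lam : F) :
    trSq (QuotientGroup.mk ((uS lam)⁻¹ * lS 1) : PSL(2, F)) = (2 - lam) ^ 2 := by
  rw [← uS_neg_eq_inv, trSq_mk, Matrix.trace_fin_two, SL2_mul_00, SL2_mul_11, uS_00, uS_01, uS_10,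
    uS_11, lS_00, lS_01, lS_10, lS_11]
  ring

omit [Fintype F] in
theorem mk_uS_pow_char (p : ℕ) [CharP F p] (lam : F) :
    (QuotientGroup.mk (uS lam) : PSL(2, F)) ^ p = 1 := by
  rw [← QuotientGroup.mk_pow, ← uS_natCast_mul, CharP.cast_eq_zero, zero_mul, uS_zero]
  rfl

omit [Fintype F] in
theorem eight_ne_zero' (h2 : (2 : F) ≠ 0) : (8 : F) ≠ 0 := by
  have : (8 : F) = 2 ^ 3 := by norm_num
  rw [this]
  exact pow_ne_zero 3 h2

omit [Fintype F] in
/-- The constraints on `λ` coming from the orders of the elements of `A₄`, `S₄`, `A₅`. -/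
theorem exc_orders (p : ℕ) [Fact p.Prime] [CharP F p] (h2 : (2 : F) ≠ 0) (lam : F) (hlam : lam ≠ 0)
    (Hb : Subgroup PSL(2, F)) (hX : (QuotientGroup.mk (uS lam) : PSL(2, F)) ∈ Hb)
    (hY : (QuotientGroup.mk (lS 1) : PSL(2, F)) ∈ Hb)
    (hord : (∀ z ∈ Hb, z ^ 2 = 1 ∨ z ^ 3 = 1 ∨ z ^ 4 = 1) ∨
      (∀ z ∈ Hb, z ^ 2 = 1 ∨ z ^ 3 = 1 ∨ z ^ 5 = 1)) :
    (∃ n : ℤ, 8 * lam = n) ∨ (p = 3 ∧ lam ^ 2 = -1) := by
  have hs := trSq_uS_lS lam
  have hs' := trSq_uS_inv_lS lam
  have hm1 : (QuotientGroup.mk (uS lam * lS 1) : PSL(2, F)) ∈ Hb := Hb.mul_mem hX hY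
  have hm2 : (QuotientGroup.mk ((uS lam)⁻¹ * lS 1) : PSL(2, F)) ∈ Hb :=
    Hb.mul_mem (Hb.inv_mem hX) hY
  have h8 := eight_ne_zero' h2
  rcases hord with hA | hB
  · left
    have key : ∀ z ∈ Hb, ∃ a : ℤ, trSq z = a := by
      intro z hz
      rcases hA z hz with h | h | h
      · rcases trSq_of_pow_two z h with h | h
        · exact ⟨0, by rw [h]; norm_num⟩
        · exact ⟨4, by rw [h]; norm_num⟩
      · rcases trSq_of_pow_three z h with h | h
        · exact ⟨1, by rw [h]; norm_num⟩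
        · exact ⟨4, by rw [h]; norm_num⟩
      · rcases trSq_of_pow_four z h with h | h | h
        · exact ⟨0, by rw [h]; norm_num⟩
        · exact ⟨2, by rw [h]; norm_num⟩
        · exact ⟨4, by rw [h]; norm_num⟩
    obtain ⟨a, ha⟩ := key _ hm1
    obtain ⟨b, hb⟩ := key _ hm2
    refine ⟨a - b, ?_⟩
    push_cast
    rw [← ha, ← hb, hs, hs']
    ring
  · have key : ∀ z ∈ Hb, (trSq z = 0 ∨ trSq z = 1 ∨ trSq z = 4) ∨
        trSq z ^ 2 - 3 * trSq z + 1 = 0 := by
      intro z hz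
      rcases hB z hz with h | h | h
      · rcases trSq_of_pow_two z h with h | h
        · exact Or.inl (Or.inl h)
        · exact Or.inl (Or.inr (Or.inr h))
      · rcases trSq_of_pow_three z h with h | h
        · exact Or.inl (Or.inr (Or.inl h))
        · exact Or.inl (Or.inr (Or.inr h))
      · rcases trSq_of_pow_five z h with h | h
        · exact Or.inr h
        · exact Or.inl (Or.inr (Or.inr h))
    have k1 := key _ hm1
    have k2 := key _ hm2
    rw [hs] at k1
    rw [hs'] at k2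
    rcases k1 with (h | h | h) | k1
    · left
      refine ⟨-16, ?_⟩
      have h0 : 2 + lam = 0 := by simpa using h
      push_cast
      linear_combination 8 * h0
    · left
      have hf : (lam + 1) * (lam + 3) = 0 := by linear_combination h
      rcases mul_eq_zero.1 hf with h0 | h0
      · exact ⟨-8, by push_cast; linear_combination 8 * h0⟩
      · exact ⟨-24, by push_cast; linear_combination 8 * h0⟩
    · left
      have hf : lam * (lam + 4) = 0 := by linear_combination h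
      rcases mul_eq_zero.1 hf with h0 | h0
      · exact absurd h0 hlam
      · exact ⟨-32, by push_cast; linear_combination 8 * h0⟩
    rcases k2 with (h | h | h) | k2
    · left
      refine ⟨16, ?_⟩
      have h0 : 2 - lam = 0 := by simpa using h
      push_cast
      linear_combination (-8 : F) * h0
    · left
      have hf : (lam - 1) * (lam - 3) = 0 := by linear_combination h
      rcases mul_eq_zero.1 hf with h0 | h0
      · exact ⟨8, by push_cast; linear_combination 8 * h0⟩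
      · exact ⟨24, by push_cast; linear_combination 8 * h0⟩
    · left
      have hf : lam * (lam - 4) = 0 := by linear_combination h
      rcases mul_eq_zero.1 hf with h0 | h0
      · exact absurd h0 hlam
      · exact ⟨32, by push_cast; linear_combination 8 * h0⟩
    right
    have hf : (8 * lam) * (2 * lam ^ 2 + 5) = 0 := by linear_combination k1 - k2
    have h5 : 2 * lam ^ 2 + 5 = 0 := by
      rcases mul_eq_zero.1 hf with h0 | h0
      · exact absurd h0 (mul_ne_zero h8 hlam)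
      · exact h0
    have hX1 : (QuotientGroup.mk (uS lam) : PSL(2, F)) ≠ 1 := mk_uS_ne_one hlam
    have hXp := mk_uS_pow_char p lam
    have hord : orderOf (QuotientGroup.mk (uS lam) : PSL(2, F)) = p :=
      orderOf_eq_prime hXp hX1
    have hpp : p.Prime := Fact.out
    have hp2 : p ≠ 2 := by
      rintro rfl
      apply h2
      have := CharP.cast_eq_zero F 2
      exact_mod_cast this
    have hp35 : p = 3 ∨ p = 5 := by
      rcases hB _ hX with h | h | h
      · have := orderOf_dvd_of_pow_eq_one h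
        rw [hord] at this
        exact absurd ((Nat.prime_dvd_prime_iff_eq hpp Nat.prime_two).1 this) hp2
      · have := orderOf_dvd_of_pow_eq_one h
        rw [hord] at this
        exact Or.inl ((Nat.prime_dvd_prime_iff_eq hpp Nat.prime_three).1 this)
      · have := orderOf_dvd_of_pow_eq_one h
        rw [hord] at this
        exact Or.inr ((Nat.prime_dvd_prime_iff_eq hpp Nat.prime_five).1 this)
    rcases hp35 with hp | hp
    · refine ⟨hp, ?_⟩
      have h3 : (3 : F) = 0 := by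
        have := CharP.cast_eq_zero F p
        rw [hp] at this
        exact_mod_cast this
      have h6 : 2 * (lam ^ 2 + 1) = 0 := by linear_combination h5 - h3
      rcases mul_eq_zero.1 h6 with h0 | h0
      · exact absurd h0 h2
      · linear_combination h0
    · exfalso
      have h5' : (5 : F) = 0 := by
        have := CharP.cast_eq_zero F p
        rw [hp] at this
        exact_mod_cast this
      have h6 : 2 * lam ^ 2 = 0 := by linear_combination h5 - h5'
      rcases mul_eq_zero.1 h6 with h0 | h0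
      · exact h2 h0
      · exact hlam (pow_eq_zero_iff (n := 2) (by norm_num) |>.1 h0)

end dklem2

section dklem3

variable {F : Type*} [Field F] [Fintype F]

omit [Fintype F] in
/-- If `λ` lies in the prime field and generates `F`, then `u(λ)` and `l(1)` generate `SL₂(F)`. -/
theorem top_of_prime (p : ℕ) [Fact p.Prime] [CharP F p] (h2 : (2 : F) ≠ 0) (lam : F)
    (hlam : lam ≠ 0) (hgen : Subfield.closure ({lam} : Set F) = ⊤) (L : Subgroup SL(2, F))
    (hu : uS lam ∈ L) (hl : lS 1 ∈ L) (n : ℤ) (h8 : 8 * lam = n) : L = ⊤ := by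
  have h8' := eight_ne_zero' h2
  obtain ⟨K₀, hK₀⟩ : ∃ K₀ : Subfield F, K₀ = (ZMod.castHom (dvd_refl p) F).fieldRange := ⟨_, rfl⟩
  have hlamK : lam ∈ K₀ := by
    rw [hK₀]
    refine ⟨(n : ZMod p) / 8, ?_⟩
    rw [map_div₀, map_intCast, ← h8]
    have : (ZMod.castHom (dvd_refl p) F) 8 = 8 := map_ofNat _ 8
    rw [this]
    field_simp
  have htop : K₀ = ⊤ := by
    rw [← top_le_iff, ← hgen, Subfield.closure_le]
    exact Set.singleton_subset_iff.2 hlamK
  have hnat : ∀ b : F, ∃ k : ℕ, b = k := by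
    intro b
    have hb : b ∈ K₀ := by rw [htop]; trivial
    rw [hK₀] at hb
    obtain ⟨z, hz⟩ := hb
    refine ⟨z.val, ?_⟩
    rw [← hz, ZMod.castHom_apply, ZMod.natCast_val]
  apply SL2_top_of_elem
  · intro b
    obtain ⟨k, hk⟩ := hnat (b / lam)
    have : b = (k : F) * lam := by
      rw [← hk]
      field_simp
    rw [this, uS_natCast_mul]
    exact L.pow_mem hu k
  · intro b
    obtain ⟨k, hk⟩ := hnat b
    have : b = (k : F) * 1 := by rw [mul_one, hk]
    rw [this, lS_natCast_mul]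
    exact L.pow_mem hl k

omit [Fintype F] in
/-- A subgroup of `SL₂(F)` (odd characteristic) mapping onto `PSL₂(F)` is everything. -/
theorem top_of_map_top (h2 : (2 : F) ≠ 0) (L : Subgroup SL(2, F))
    (h : L.map (QuotientGroup.mk' (Subgroup.center SL(2, F))) = ⊤) : L = ⊤ := by
  have key : ∀ g : SL(2, F), g * g ∈ L := by
    intro g
    have hg : (QuotientGroup.mk g : PSL(2, F)) ∈
        L.map (QuotientGroup.mk' (Subgroup.center SL(2, F))) := by rw [h]; trivial
    obtain ⟨g', hg', hgg⟩ := hg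
    have hgg' : (QuotientGroup.mk g' : PSL(2, F)) = QuotientGroup.mk g := hgg
    obtain ⟨ε, hε, hmat⟩ := (PSL2_mk_eq_mk_iff _ _).1 hgg'
    have : g * g = g' * g' := by
      apply Subtype.ext
      rw [Matrix.SpecialLinearGroup.coe_mul, Matrix.SpecialLinearGroup.coe_mul, hmat,
        smul_mul_smul_comm, hε, one_smul]
    rw [this]
    exact L.mul_mem hg' hg'
  apply SL2_top_of_elem
  · intro b
    have : b = b / 2 + b / 2 := by field_simp; ring
    rw [this, uS_add]
    exact key _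
  · intro b
    have : b = b / 2 + b / 2 := by field_simp; ring
    rw [this, lS_add]
    exact key _

omit [Fintype F] in
/-- In the strong subfield conclusion, squares of traces lie in the subfield. -/
theorem DkS_trace_sq (Hh : Subgroup SL(2, F)) (K : Subfield F) (e : SL(2, F) ≃* SL(2, F))
    (he : ∀ g : SL(2, F), ((e g : SL(2, F)) : Matrix (Fin 2) (Fin 2) F).trace =
      (g : Matrix (Fin 2) (Fin 2) F).trace)
    (h2 : ∀ ν ∈ Hh.map e.toMonoidHom, ∃ γ : F, γ ≠ 0 ∧
      ∀ i j, (ν : Matrix (Fin 2) (Fin 2) F) i j * γ ∈ K) (ν : SL(2, F)) (hν : ν ∈ Hh) :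
    (ν : Matrix (Fin 2) (Fin 2) F).trace ^ 2 ∈ K := by
  obtain ⟨γ, hγ, hent⟩ := h2 (e ν) ⟨ν, hν, rfl⟩
  rw [← he ν]
  obtain ⟨M, hM⟩ : ∃ M : SL(2, F), M = e ν := ⟨_, rfl⟩
  rw [← hM] at hent ⊢
  have hdet := SL2_det_eq M
  have h1 : γ ^ 2 ∈ K := by
    have : γ ^ 2 = ((M : Matrix (Fin 2) (Fin 2) F) 0 0 * γ) * ((M : Matrix (Fin 2) (Fin 2) F) 1 1 * γ) -
        ((M : Matrix (Fin 2) (Fin 2) F) 0 1 * γ) * ((M : Matrix (Fin 2) (Fin 2) F) 1 0 * γ) := by
      linear_combination (-γ ^ 2) * hdet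
    rw [this]
    exact K.sub_mem (K.mul_mem (hent 0 0) (hent 1 1)) (K.mul_mem (hent 0 1) (hent 1 0))
  have h3 : ((M : Matrix (Fin 2) (Fin 2) F) 0 0 * γ + (M : Matrix (Fin 2) (Fin 2) F) 1 1 * γ) ^ 2 ∈ K :=
    K.pow_mem (K.add_mem (hent 0 0) (hent 1 1)) 2
  have h4 : (M : Matrix (Fin 2) (Fin 2) F).trace ^ 2 =
      ((M : Matrix (Fin 2) (Fin 2) F) 0 0 * γ + (M : Matrix (Fin 2) (Fin 2) F) 1 1 * γ) ^ 2 / γ ^ 2 := by
    rw [Matrix.trace_fin_two]
    field_simp
  rw [h4]
  exact K.div_mem h3 h1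

/-- Dickson's lemma, the generic case. -/
theorem dickson_lemma_top (p : ℕ) [Fact p.Prime] [CharP F p] (h2 : (2 : F) ≠ 0) (lam : F)
    (hlam : lam ≠ 0) (hgen : Subfield.closure ({lam} : Set F) = ⊤) (L : Subgroup SL(2, F))
    (hu : uS lam ∈ L) (hl : lS 1 ∈ L) (hne : ¬ (p = 3 ∧ lam ^ 2 = -1)) : L = ⊤ := by
  classical
  have hpp : p.Prime := Fact.out
  have hp2 : p ≠ 2 := by
    rintro rfl
    apply h2
    have := CharP.cast_eq_zero F 2
    exact_mod_cast this
  obtain ⟨Hb, hHb⟩ : ∃ Hb : Subgroup PSL(2, F),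
      Hb = L.map (QuotientGroup.mk' (Subgroup.center SL(2, F))) := ⟨_, rfl⟩
  have hX : (QuotientGroup.mk (uS lam) : PSL(2, F)) ∈ Hb := by
    rw [hHb]; exact ⟨_, hu, rfl⟩
  have hY : (QuotientGroup.mk (lS 1) : PSL(2, F)) ∈ Hb := by
    rw [hHb]; exact ⟨_, hl, rfl⟩
  have hX1 : (QuotientGroup.mk (uS lam) : PSL(2, F)) ≠ 1 := mk_uS_ne_one hlam
  have hXp := mk_uS_pow_char p lam
  have hYp : (QuotientGroup.mk (lS (1 : F)) : PSL(2, F)) ^ p = 1 := by
    have : lS ((p : F) * 1) = lS (1 : F) ^ p := lS_natCast_mul p 1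
    rw [← QuotientGroup.mk_pow, ← this, CharP.cast_eq_zero, zero_mul, lS_zero]
    rfl
  have hordX : orderOf (QuotientGroup.mk (uS lam) : PSL(2, F)) = p := orderOf_eq_prime hXp hX1
  have hexc : ∀ hord : (∀ z ∈ Hb, z ^ 2 = 1 ∨ z ^ 3 = 1 ∨ z ^ 4 = 1) ∨
      (∀ z ∈ Hb, z ^ 2 = 1 ∨ z ^ 3 = 1 ∨ z ^ 5 = 1), L = ⊤ := by
    intro hord
    rcases exc_orders p h2 lam hlam Hb hX hY hord with ⟨n, hn⟩ | h
    · exact top_of_prime p h2 lam hlam hgen L hu hl n hn
    · exact absurd h hne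
  rcases dk_coreS p Hb (fun _ => ⟨lam, hlam, hX⟩) with h | ⟨x, hx, hs, hle⟩ | ⟨x, hx, ht, hle⟩ |
    ⟨⟨f⟩⟩ | ⟨⟨f⟩⟩ | ⟨⟨f⟩⟩ | ⟨K, e, he, h1, h2'⟩
  · exfalso
    rw [h, Subgroup.mem_bot] at hX
    exact hX1 hX
  · exfalso
    obtain ⟨-, hcard⟩ := normalizer_Mq_semi_dihedral x hx hs
    obtain ⟨-, -, hgcd⟩ := odd_char_facts (F := F) p hp2
    have hq2 : 2 ≤ Fintype.card F := Fintype.one_lt_card
    have hN : Nat.card (Subgroup.normalizer ((Mq x : Subgroup PSL(2, F)) : Set PSL(2, F))) =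
        Fintype.card F - 1 ∨
        Nat.card (Subgroup.normalizer ((Mq x : Subgroup PSL(2, F)) : Set PSL(2, F))) =
        Fintype.card F + 1 := by
      rcases Mq_semi_card x hs with h | h
      · left
        rw [hcard, ← h, hgcd, mul_comm]
      · right
        rw [hcard, ← h, hgcd, mul_comm]
    have hdvd : p ∣ Nat.card (Subgroup.normalizer ((Mq x : Subgroup PSL(2, F)) : Set PSL(2, F))) := by
      have h3 := orderOf_dvd_natCard (⟨_, hle hX⟩ : Subgroup.normalizer
        ((Mq x : Subgroup PSL(2, F)) : Set PSL(2, F)))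
      rw [Subgroup.orderOf_mk, hordX] at h3
      exact h3
    obtain ⟨n, -, hn⟩ := FiniteField.card F p
    have hpq : p ∣ Fintype.card F := by
      rw [hn]
      exact dvd_pow_self p n.ne_zero
    have h1 : p ∣ 1 := by
      rcases hN with h | h
      · rw [h] at hdvd
        have := Nat.dvd_sub hpq hdvd
        have e : Fintype.card F - (Fintype.card F - 1) = 1 := by omega
        rwa [e] at this
      · rw [h] at hdvd
        have := Nat.dvd_sub hdvd hpq
        have e : Fintype.card F + 1 - Fintype.card F = 1 := by omega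
        rwa [e] at this
    exact hpp.one_lt.ne' (Nat.dvd_one.1 h1)
  · exfalso
    have hXm : (QuotientGroup.mk (uS lam) : PSL(2, F)) ∈ Mq x := by
      have := mem_sylow_of_mem_normalizer (sylowMq p x hx ht) _ (hle hX) hXp
      exact this
    have hYm : (QuotientGroup.mk (lS (1 : F)) : PSL(2, F)) ∈ Mq x := by
      have := mem_sylow_of_mem_normalizer (sylowMq p x hx ht) _ (hle hY) hYp
      exact this
    have hcomm := Mq_comm x hx hXm hYm
    have hcomm' : (QuotientGroup.mk (uS lam * lS 1) : PSL(2, F)) =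
        QuotientGroup.mk (lS 1 * uS lam) := hcomm
    obtain ⟨ε, hε, hmat⟩ := (PSL2_mk_eq_mk_iff _ _).1 hcomm'
    have h10 := congrFun (congrFun hmat 1) 0
    have h00 := congrFun (congrFun hmat 0) 0
    rw [Matrix.smul_apply, SL2_mul_10, SL2_mul_10, uS_00, uS_10, lS_00, lS_10, lS_11, uS_11,
      smul_eq_mul] at h10
    rw [Matrix.smul_apply, SL2_mul_00, SL2_mul_00, uS_00, uS_10, lS_00, lS_10, lS_01, uS_01,
      smul_eq_mul] at h00
    apply hlam
    have hε1 : ε = 1 := by linear_combination -h10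
    rw [hε1] at h00
    linear_combination -h00
  · apply hexc
    left
    intro z hz
    have h3 := ord_alt4 (f ⟨z, hz⟩)
    have hinj : ∀ k : ℕ, f ⟨z, hz⟩ ^ k = 1 → z ^ k = 1 := by
      intro k hk
      rw [← map_pow] at hk
      have := f.injective (hk.trans (map_one f).symm)
      exact congrArg Subtype.val this
    rcases h3 with h | h
    · exact Or.inl (hinj 2 h)
    · exact Or.inr (Or.inl (hinj 3 h))
  · apply hexc
    left
    intro z hz
    have h3 := ord_perm4 (f ⟨z, hz⟩)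
    have hinj : ∀ k : ℕ, f ⟨z, hz⟩ ^ k = 1 → z ^ k = 1 := by
      intro k hk
      rw [← map_pow] at hk
      have := f.injective (hk.trans (map_one f).symm)
      exact congrArg Subtype.val this
    rcases h3 with h | h | h
    · exact Or.inl (hinj 2 h)
    · exact Or.inr (Or.inl (hinj 3 h))
    · exact Or.inr (Or.inr (hinj 4 h))
  · apply hexc
    right
    intro z hz
    have h3 := ord_alt5 (f ⟨z, hz⟩)
    have hinj : ∀ k : ℕ, f ⟨z, hz⟩ ^ k = 1 → z ^ k = 1 := by
      intro k hk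
      rw [← map_pow] at hk
      have := f.injective (hk.trans (map_one f).symm)
      exact congrArg Subtype.val this
    rcases h3 with h | h | h
    · exact Or.inl (hinj 2 h)
    · exact Or.inr (Or.inl (hinj 3 h))
    · exact Or.inr (Or.inr (hinj 5 h))
  · apply top_of_map_top h2
    rw [← hHb]
    obtain ⟨Hh, hHh⟩ : ∃ Hh : Subgroup SL(2, F),
        Hh = Hb.comap (QuotientGroup.mk' (Subgroup.center SL(2, F))) := ⟨_, rfl⟩
    rw [← hHh] at h1 h2'
    have hmemHh : ∀ ν : SL(2, F), ν ∈ Hh ↔ (QuotientGroup.mk ν : PSL(2, F)) ∈ Hb := by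
      intro ν
      rw [hHh]
      rfl
    have htr := DkS_trace_sq Hh K e he h2'
    have t1 := htr (uS lam * lS 1) ((hmemHh _).2 (Hb.mul_mem hX hY))
    have t2 := htr ((uS lam)⁻¹ * lS 1) ((hmemHh _).2 (Hb.mul_mem (Hb.inv_mem hX) hY))
    rw [← trSq_mk, trSq_uS_lS] at t1
    rw [← trSq_mk, trSq_uS_inv_lS] at t2
    have h8 := eight_ne_zero' h2
    have hlamK : lam ∈ K := by
      have h3 : (8 : F) ∈ K := by
        have : (8 : F) = ((8 : ℕ) : F) := by norm_num
        rw [this]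
        exact natCast_mem K 8
      have h4 : lam = ((2 + lam) ^ 2 - (2 - lam) ^ 2) / 8 := by
        field_simp
        ring
      rw [h4]
      exact K.div_mem (K.sub_mem t1 t2) h3
    have hKtop : K = ⊤ := by
      rw [← top_le_iff, ← hgen, Subfield.closure_le]
      exact Set.singleton_subset_iff.2 hlamK
    have hHhtop : ∀ g : SL(2, F), g ∈ Hh := by
      intro g
      have := h1 (e g) (fun i j => by rw [hKtop]; trivial)
      obtain ⟨g', hg', hgg⟩ := this
      have : g' = g := e.injective hgg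
      rw [← this]
      exact hg'
    rw [Subgroup.eq_top_iff']
    intro z
    obtain ⟨g, rfl⟩ := QuotientGroup.mk_surjective z
    exact (hmemHh g).1 (hHhtop g)

end dklem3

section dkexc

theorem card_eq_map_mul {G : Type*} [Group G] [Finite G] (L Z : Subgroup G) [Z.Normal]
    (hZ : Z ≤ L) : Nat.card L = Nat.card (L.map (QuotientGroup.mk' Z)) * Nat.card Z := by
  obtain ⟨f, hf⟩ : ∃ f : L →* G ⧸ Z, f = (QuotientGroup.mk' Z).comp L.subtype := ⟨_, rfl⟩
  have h1 := Subgroup.card_mul_index f.ker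
  rw [Subgroup.index_ker] at h1
  have h2 : f.range = L.map (QuotientGroup.mk' Z) := by
    rw [hf, MonoidHom.range_comp, Subgroup.range_subtype]
  have h3 : f.ker = Z.subgroupOf L := by
    rw [hf, ← MonoidHom.comap_ker, QuotientGroup.ker_mk']
    rfl
  rw [h2, h3, Nat.card_congr (Subgroup.subgroupOfEquivOfLe hZ).toEquiv] at h1
  rw [← h1, mul_comm]

variable {F : Type*} [Field F] [Fintype F]

theorem card_nine [CharP F 3] (lam : F) (hlam : lam ≠ 0) (hl2 : lam ^ 2 = -1)
    (hgen : Subfield.closure ({lam} : Set F) = ⊤) : Fintype.card F = 9 := by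
  haveI : Fact (Nat.Prime 3) := ⟨Nat.prime_three⟩
  have h3 : (3 : F) = 0 := by exact_mod_cast CharP.cast_eq_zero F 3
  have hall : ∀ x : F, x ^ 9 = x := by
    intro x
    have hx : x ∈ Subfield.closure ({lam} : Set F) := by rw [hgen]; trivial
    induction hx using Subfield.closure_induction with
    | mem y hy =>
      rw [Set.mem_singleton_iff] at hy
      rw [hy]
      calc lam ^ 9 = lam * (lam ^ 2) ^ 4 := by ring
        _ = lam := by rw [hl2]; ring
    | one => exact one_pow 9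
    | add y z _ _ hy hz =>
      have := add_pow_char_pow (R := F) (p := 3) (n := 2) y z
      norm_num at this
      rw [this, hy, hz]
    | neg y _ hy => rw [Odd.neg_pow (by decide), hy]
    | inv y _ hy => rw [inv_pow, hy]
    | mul y z _ _ hy hz => rw [mul_pow, hy, hz]
  obtain ⟨n, -, hn⟩ := FiniteField.card F 3
  obtain ⟨g, hg⟩ := IsCyclic.exists_generator (α := Fˣ)
  have hord : orderOf g = Nat.card Fˣ := orderOf_eq_card_of_forall_mem_zpowers hg
  have hg8 : g ^ 8 = 1 := by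
    apply Units.ext
    push_cast
    have h9 := hall (g : F)
    have hg0 : (g : F) ≠ 0 := g.ne_zero
    apply mul_right_cancel₀ hg0
    rw [one_mul, ← pow_succ]
    exact h9
  have hdvd : Nat.card Fˣ ∣ 8 := by
    rw [← hord]
    exact orderOf_dvd_of_pow_eq_one hg8
  rw [Nat.card_units, Nat.card_eq_fintype_card] at hdvd
  have hle : Fintype.card F - 1 ≤ 8 := Nat.le_of_dvd (by norm_num) hdvd
  have hn1 : (n : ℕ) ≠ 1 := by
    intro h1
    rw [h1, pow_one] at hn
    have h4 := FiniteField.pow_card lam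
    rw [hn] at h4
    apply hlam
    have h5 : lam * (2 : F) = 0 := by linear_combination -h4 + lam * hl2
    rcases mul_eq_zero.1 h5 with h | h
    · exact h
    · exfalso
      have : (1 : F) = 0 := by linear_combination h3 - h
      exact one_ne_zero this
  have hn2 : (n : ℕ) ≤ 2 := by
    by_contra hcon
    push Not at hcon
    have : 3 ^ 3 ≤ 3 ^ (n : ℕ) := Nat.pow_le_pow_right (by norm_num) hcon
    omega
  have hn0 := n.pos
  have hn' : (n : ℕ) = 2 := by omega
  rw [hn, hn']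
  norm_num

set_option maxHeartbeats 800000 in
/-- The exceptional case of Dickson's lemma. -/
theorem exc_card [CharP F 3] (lam : F) (hl2 : lam ^ 2 = -1) (L : Subgroup SL(2, F))
    (hL : L = Subgroup.closure {uS lam, lS 1}) : Nat.card L = 120 := by
  haveI : Fact (Nat.Prime 3) := ⟨Nat.prime_three⟩
  have h3 : (3 : F) = 0 := by exact_mod_cast CharP.cast_eq_zero F 3
  have h2 : (2 : F) ≠ 0 := by
    intro h
    have : (1 : F) = 0 := by linear_combination h3 - h
    exact one_ne_zero this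
  have hlam : lam ≠ 0 := by
    rintro rfl
    have : (1 : F) = 0 := by linear_combination hl2
    exact one_ne_zero this
  have huL : uS lam ∈ L := by
    rw [hL]
    exact Subgroup.subset_closure (Set.mem_insert _ _)
  have hlL : lS (1 : F) ∈ L := by
    rw [hL]
    exact Subgroup.subset_closure (Set.mem_insert_of_mem _ rfl)
  obtain ⟨g, hg⟩ : ∃ g : SL(2, F), g = uS lam * lS 1 := ⟨_, rfl⟩
  have hgL : g ∈ L := by rw [hg]; exact L.mul_mem huL hlL
  have htr : (g : Matrix (Fin 2) (Fin 2) F).trace = 2 + lam := by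
    rw [hg, Matrix.trace_fin_two, SL2_mul_00, SL2_mul_11, uS_00, uS_01, uS_10, uS_11, lS_00,
      lS_01, lS_10, lS_11]
    ring
  obtain ⟨g₂, hg₂⟩ : ∃ g₂ : SL(2, F), g₂ = uS lam * (g * g) := ⟨_, rfl⟩
  have hg₂L : g₂ ∈ L := by rw [hg₂]; exact L.mul_mem huL (L.mul_mem hgL hgL)
  have htr₂ : (g₂ : Matrix (Fin 2) (Fin 2) F).trace = 0 := by
    rw [hg₂, hg, Matrix.trace_fin_two]
    simp only [SL2_mul_00, SL2_mul_01, SL2_mul_10, SL2_mul_11, uS_00, uS_01, uS_10, uS_11, lS_00,
      lS_01, lS_10, lS_11]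
    linear_combination 2 * hl2 + 2 * lam * h3
  have hg₂sq : ((g₂ * g₂ : SL(2, F)) : Matrix (Fin 2) (Fin 2) F) =
      (-1 : F) • (1 : Matrix (Fin 2) (Fin 2) F) := by
    rw [Matrix.SpecialLinearGroup.coe_mul, SL2_sq_eq, htr₂]
    simp
  obtain ⟨e⟩ := Cfsg.Agent.S3377.result
  obtain ⟨x, hx⟩ : ∃ x : PSL(2, F), x = QuotientGroup.mk (uS lam) := ⟨_, rfl⟩
  obtain ⟨w, hw⟩ : ∃ w : PSL(2, F), w = QuotientGroup.mk g := ⟨_, rfl⟩
  obtain ⟨y, hy⟩ : ∃ y : PSL(2, F), y = w ^ 2 := ⟨_, rfl⟩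
  have hx3 : x ^ 3 = 1 := by
    rw [hx]
    exact mk_uS_pow_char 3 lam
  have hw5 : w ^ 5 = 1 := by
    rw [hw, PSL2_mk_pow_eq_one_iff, Matrix.SpecialLinearGroup.coe_pow, (mat_pow_gen g).2.2.2, htr]
    have h0 : (2 + lam) ^ 4 - 3 * (2 + lam) ^ 2 + 1 = 0 := by
      linear_combination (lam ^ 2 + 8 * lam + 20) * hl2 + (4 * lam - 5) * h3
    rw [h0, zero_smul, zero_add]
    exact ⟨_, rfl⟩
  have hy5 : y ^ 5 = 1 := by
    rw [hy, ← pow_mul, mul_comm, pow_mul, hw5, one_pow]
  have hxy : (x * y) ^ 2 = 1 := by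
    have : x * y = QuotientGroup.mk g₂ := by
      rw [hx, hy, hw, hg₂, pow_two]
      rfl
    rw [this, pow_two, ← QuotientGroup.mk_mul, PSL2_mk_eq_one_iff]
    exact ⟨-1, hg₂sq⟩
  have hx1 : x ≠ 1 := by
    rw [hx]
    exact mk_uS_ne_one hlam
  have hrel : ∀ r ∈ ({FreeGroup.of (0 : Fin 2) ^ 3, FreeGroup.of (1 : Fin 2) ^ 5,
      (FreeGroup.of (0 : Fin 2) * FreeGroup.of 1) ^ 2} : Set (FreeGroup (Fin 2))),
      FreeGroup.lift ![x, y] r = 1 := by
    intro r hr
    rcases hr with rfl | rfl | rfl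
    · simp [hx3]
    · simp [hy5]
    · simp [hxy]
  obtain ⟨ψ, hψ⟩ : ∃ ψ : alternatingGroup (Fin 5) →* PSL(2, F),
      ψ = (PresentedGroup.toGroup hrel).comp e.symm.toMonoidHom := ⟨_, rfl⟩
  have hψ0 : ψ (e (PresentedGroup.of 0)) = x := by
    rw [hψ]
    simp
  have hψ1 : ψ (e (PresentedGroup.of 1)) = y := by
    rw [hψ]
    simp
  have hinj : Function.Injective ψ := by
    rw [← MonoidHom.ker_eq_bot_iff]
    rcases (MonoidHom.normal_ker ψ).eq_bot_or_eq_top with h | h
    · exact h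
    · exfalso
      apply hx1
      have h1 : ψ (e (PresentedGroup.of 0)) = 1 := by
        rw [← MonoidHom.mem_ker, h]
        trivial
      rw [← hψ0, h1]
  obtain ⟨Hb, hHb⟩ : ∃ Hb : Subgroup PSL(2, F),
      Hb = L.map (QuotientGroup.mk' (Subgroup.center SL(2, F))) := ⟨_, rfl⟩
  have hxHb : x ∈ Hb := by
    rw [hHb, hx]; exact ⟨_, huL, rfl⟩
  have hwHb : w ∈ Hb := by
    rw [hHb, hw]; exact ⟨_, hgL, rfl⟩
  have hle1 : Hb ≤ ψ.range := by
    rw [hHb, Subgroup.map_le_iff_le_comap, hL, Subgroup.closure_le]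
    intro k hk
    rcases hk with rfl | hk
    · show (QuotientGroup.mk (uS lam) : PSL(2, F)) ∈ ψ.range
      rw [← hx, ← hψ0]
      exact ⟨_, rfl⟩
    · rw [Set.mem_singleton_iff] at hk
      rw [hk]
      show (QuotientGroup.mk (lS 1) : PSL(2, F)) ∈ ψ.range
      have h1 : (QuotientGroup.mk (lS 1) : PSL(2, F)) = x⁻¹ * y ^ 3 := by
        have h6 : y ^ 3 = w := by
          rw [hy, ← pow_mul]
          calc w ^ (2 * 3) = w ^ 5 * w := by rw [← pow_succ]
            _ = w := by rw [hw5, one_mul]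
        rw [h6, hx, hw, hg]
        show _ = (QuotientGroup.mk (uS lam) : PSL(2, F))⁻¹ *
          (QuotientGroup.mk (uS lam) * QuotientGroup.mk (lS 1))
        rw [inv_mul_cancel_left]
      rw [h1, ← hψ0, ← hψ1]
      exact ψ.range.mul_mem (ψ.range.inv_mem ⟨_, rfl⟩) (ψ.range.pow_mem ⟨_, rfl⟩ 3)
  have hle2 : ψ.range ≤ Hb := by
    have h1 : (PresentedGroup.toGroup hrel).range ≤ Hb := by
      rw [MonoidHom.range_eq_map, ← PresentedGroup.closure_range_of, MonoidHom.map_closure,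
        Subgroup.closure_le]
      rintro _ ⟨_, ⟨i, rfl⟩, rfl⟩
      rw [PresentedGroup.toGroup.of]
      fin_cases i
      · exact hxHb
      · show y ∈ Hb
        rw [hy]
        exact Hb.pow_mem hwHb 2
    rintro _ ⟨a, rfl⟩
    rw [hψ]
    exact h1 ⟨_, rfl⟩
  have hHbcard : Nat.card Hb = 60 := by
    rw [le_antisymm hle1 hle2, ← card_alt5]
    exact (Nat.card_congr (MonoidHom.ofInjective hinj).toEquiv).symm
  have hZle : Subgroup.center SL(2, F) ≤ L := by
    intro z hz
    rw [SL2_mem_center_iff] at hz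
    obtain ⟨a, ha⟩ := hz
    have hdet := z.det_coe
    rw [ha, Matrix.det_smul, Matrix.det_one, Fintype.card_fin, mul_one] at hdet
    have hf : (a - 1) * (a + 1) = 0 := by linear_combination hdet
    rcases mul_eq_zero.1 hf with h | h
    · have : z = 1 := by
        apply Subtype.ext
        rw [ha, Matrix.SpecialLinearGroup.coe_one]
        have : a = 1 := by linear_combination h
        rw [this, one_smul]
      rw [this]
      exact L.one_mem
    · have : z = g₂ * g₂ := by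
        apply Subtype.ext
        rw [ha, hg₂sq]
        have : a = -1 := by linear_combination h
        rw [this]
      rw [this]
      exact L.mul_mem hg₂L hg₂L
  have hZ : Nat.card (Subgroup.center SL(2, F)) = 2 := by
    rw [card_center_SL2_gen]
    rcases card_parity_cases (F := F) with ⟨-, -, h⟩ | ⟨h, -, -⟩
    · exact h
    · exact absurd h h2
  rw [card_eq_map_mul L _ hZle, ← hHb, hHbcard, hZ]

end dkexc

end Cfsg.Agent.Lib.helper12
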