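import Mathlib
import Cfsg.Agent.Lib.helper12.DkStrong

set_option autoImplicit false

namespace Cfsg.Agent.Lib.helper12

open scoped MatrixGroups

section dkstrong3

variable {F : Type*} [Field F] [Fintype F]

omit [Fintype F] in
theorem comap_mk_map_conj (k : SL(2, F)) (H : Subgroup PSL(2, F)) :
    (H.comap (QuotientGroup.mk' (Subgroup.center SL(2, F)))).map (MulAut.conj k⁻¹).toMonoidHom =
    (H.map (MulAut.conj (QuotientGroup.mk k : PSL(2, F))⁻¹).toMonoidHom).comap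
      (QuotientGroup.mk' (Subgroup.center SL(2, F))) := by
  ext g
  rw [mem_map_conj, Subgroup.mem_comap, Subgroup.mem_comap, mem_map_conj]
  rfl

omit [Fintype F] in
theorem DkS_of_conj (k : SL(2, F)) (H : Subgroup PSL(2, F))
    (h : DkS ((H.map (MulAut.conj (QuotientGroup.mk k : PSL(2, F))⁻¹).toMonoidHom).comap
      (QuotientGroup.mk' (Subgroup.center SL(2, F))))) :
    DkS (H.comap (QuotientGroup.mk' (Subgroup.center SL(2, F)))) := by
  apply DkS_of_equiv (MulAut.conj k⁻¹) (fun g => ?_)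
  · rw [comap_mk_map_conj]
    exact h
  · exact SL2_trace_conj _ _

theorem DkConclS_of_conj (k : SL(2, F)) (H : Subgroup PSL(2, F))
    (h : DkConclS (H.map (MulAut.conj (QuotientGroup.mk k : PSL(2, F))⁻¹).toMonoidHom)) :
    DkConclS H := by
  obtain ⟨κ, hκ⟩ : ∃ κ : PSL(2, F), κ = QuotientGroup.mk k := ⟨_, rfl⟩
  have hmem : ∀ z, z ∈ H → κ⁻¹ * z * κ ∈ H.map (MulAut.conj κ⁻¹).toMonoidHom := by
    intro z hz
    rw [mem_map_conj]
    have : (κ⁻¹)⁻¹ * (κ⁻¹ * z * κ) * κ⁻¹ = z := by group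
    rw [this]
    exact hz
  have e : H ≃* H.map (MulAut.conj κ⁻¹).toMonoidHom :=
    Subgroup.equivMapOfInjective H _ (MulAut.conj κ⁻¹).injective
  rw [← hκ] at h
  rcases h with h | ⟨x, hx, hs, hle⟩ | ⟨x, hx, ht, hle⟩ | ⟨⟨f⟩⟩ | ⟨⟨f⟩⟩ | ⟨⟨f⟩⟩ | h
  · left
    exact (Subgroup.map_eq_bot_iff_of_injective H (MulAut.conj κ⁻¹).injective).1 h
  · right; left
    refine ⟨κ * x * κ⁻¹, conj_ne_one' hx, by rw [trSq_conj]; exact hs, ?_⟩
    intro z hz
    rw [tiPart_Mq.conj κ x hx, mem_normalizer_map_conj]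
    exact hle (hmem z hz)
  · right; right; left
    refine ⟨κ * x * κ⁻¹, conj_ne_one' hx, by rw [trSq_conj]; exact ht, ?_⟩
    intro z hz
    rw [tiPart_Mq.conj κ x hx, mem_normalizer_map_conj]
    exact hle (hmem z hz)
  · exact Or.inr (Or.inr (Or.inr (Or.inl ⟨e.trans f⟩)))
  · exact Or.inr (Or.inr (Or.inr (Or.inr (Or.inl ⟨e.trans f⟩))))
  · exact Or.inr (Or.inr (Or.inr (Or.inr (Or.inr (Or.inl ⟨e.trans f⟩)))))
  · rw [hκ] at h
    exact Or.inr (Or.inr (Or.inr (Or.inr (Or.inr (Or.inr (DkS_of_conj k H h))))))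

/-- Dickson's theorem, strong form, for an arbitrary subgroup. -/
theorem dk_finalS (p : ℕ) [Fact p.Prime] [CharP F p] (H : Subgroup PSL(2, F)) : DkConclS H := by
  by_cases hU : ∃ y : H, y ≠ 1 ∧ trSq (y : PSL(2, F)) = 4
  · obtain ⟨y, hy, ht⟩ := hU
    have hy' : (y : PSL(2, F)) ≠ 1 := fun h => hy (Subtype.ext h)
    obtain ⟨g, hg⟩ := QuotientGroup.mk_surjective (y : PSL(2, F))
    rw [← hg, trSq_mk] at ht
    rw [← hg, PSL2_mk_ne_one_iff] at hy'
    obtain ⟨k, a, ha, hka⟩ := SL2_unip_form g hy' ht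
    apply DkConclS_of_conj k
    apply dk_coreS p
    intro _
    refine ⟨a, ha, ⟨(y : PSL(2, F)), y.2, ?_⟩⟩
    rw [← hg, hka]
    show (QuotientGroup.mk k : PSL(2, F))⁻¹ * QuotientGroup.mk (k * uS a * k⁻¹) *
      ((QuotientGroup.mk k : PSL(2, F))⁻¹)⁻¹ = QuotientGroup.mk (uS a)
    have : (QuotientGroup.mk (k * uS a * k⁻¹) : PSL(2, F)) =
        QuotientGroup.mk k * QuotientGroup.mk (uS a) * (QuotientGroup.mk k)⁻¹ := rfl
    rw [this]
    group
  · exact dk_coreS p H (fun h => absurd h hU)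

/-- The doubly transitive case for an arbitrary unipotent element. -/
theorem dk_idxS (H : Subgroup PSL(2, F)) (x₀ : H) (hx₀ : x₀ ≠ 1)
    (ht : trSq (x₀ : PSL(2, F)) = 4)
    (hidx : (Subgroup.normalizer ((MqH H x₀ : Subgroup H) : Set H)).index =
      Nat.card (MqH H x₀) + 1) :
    DkS (H.comap (QuotientGroup.mk' (Subgroup.center SL(2, F)))) := by
  have hy' : (x₀ : PSL(2, F)) ≠ 1 := fun h => hx₀ (Subtype.ext h)
  have hy'' := hy'
  obtain ⟨g, hg⟩ := QuotientGroup.mk_surjective (x₀ : PSL(2, F))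
  rw [← hg, trSq_mk] at ht
  rw [← hg, PSL2_mk_ne_one_iff] at hy'
  obtain ⟨k, a, ha, hka⟩ := SL2_unip_form g hy' ht
  apply DkS_of_conj k
  obtain ⟨κ, hκ⟩ : ∃ κ : PSL(2, F), κ = QuotientGroup.mk k := ⟨_, rfl⟩
  rw [← hκ]
  let e : H ≃* H.map (MulAut.conj κ⁻¹).toMonoidHom :=
    Subgroup.equivMapOfInjective H _ (MulAut.conj κ⁻¹).injective
  have he : ∀ z : H, ((e z : H.map (MulAut.conj κ⁻¹).toMonoidHom) : PSL(2, F)) =
      κ⁻¹ * (z : PSL(2, F)) * κ := by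
    intro z
    show (MulAut.conj κ⁻¹) (z : PSL(2, F)) = _
    rw [MulAut.conj_apply, inv_inv]
  have hx₀' : ((e x₀ : H.map (MulAut.conj κ⁻¹).toMonoidHom) : PSL(2, F)) =
      QuotientGroup.mk (uS a) := by
    rw [he, ← hg, hka, hκ]
    have : (QuotientGroup.mk (k * uS a * k⁻¹) : PSL(2, F)) =
        QuotientGroup.mk k * QuotientGroup.mk (uS a) * (QuotientGroup.mk k)⁻¹ := rfl
    rw [this]
    group
  have hMq : MqH (H.map (MulAut.conj κ⁻¹).toMonoidHom) (e x₀) =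
      (MqH H x₀).map e.toMonoidHom := by
    ext z'
    obtain ⟨z, rfl⟩ := e.surjective z'
    have h1 : e z ∈ (MqH H x₀).map e.toMonoidHom ↔ z ∈ MqH H x₀ :=
      Subgroup.mem_map_iff_mem e.injective
    rw [h1, mem_MqH, mem_MqH, he, he]
    have h2 := tiPart_Mq.conj κ⁻¹ (x₀ : PSL(2, F)) hy''
    rw [inv_inv] at h2
    rw [h2, mem_map_conj]
    have h3 : (κ⁻¹)⁻¹ * (κ⁻¹ * (z : PSL(2, F)) * κ) * κ⁻¹ = (z : PSL(2, F)) := by group
    rw [h3]
  refine dk_core_mainS _ a ha (e x₀) hx₀' ?_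
  have h4 : (Subgroup.map e.toMonoidHom
      (Subgroup.normalizer ((MqH H x₀ : Subgroup H) : Set H))).index =
      (Subgroup.normalizer ((MqH H x₀ : Subgroup H) : Set H)).index :=
    Subgroup.index_map_equiv _ e
  rw [hMq, ← Subgroup.map_equiv_normalizer_eq, h4,
    Subgroup.card_map_of_injective e.injective]
  exact hidx

end dkstrong3

end Cfsg.Agent.Lib.helper12
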