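import Mathlib
import Cfsg.Agent.Lib.helper12.DkStrong2
import Cfsg.Agent.Lib.helper12.DkLem

set_option autoImplicit false

namespace Cfsg.Agent.Lib.helper12

open scoped MatrixGroups

section subfieldprime

variable {F : Type*} [Field F] [Fintype F]

/-- If there is no subfield strictly between `K` and `F`, the degree is prime. -/
theorem prime_deg (p : ℕ) [Fact p.Prime] [CharP F p] (K : Subfield F) (Q m : ℕ)
    (hQ : ∀ x ∈ K, x ^ Q = x) (hcard : Nat.card K = Q) (hpow : Q ^ m = Fintype.card F)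
    (hKtop : K ≠ ⊤) (hno : ∀ K₁ : Subfield F, K ≤ K₁ → K₁ = K ∨ K₁ = ⊤) : m.Prime := by
  classical
  have hpp : p.Prime := Fact.out
  have hq2 : 2 ≤ Fintype.card F := Fintype.one_lt_card
  have hm0 : m ≠ 0 := by
    rintro rfl
    rw [pow_zero] at hpow
    omega
  have hm1 : m ≠ 1 := by
    rintro rfl
    rw [pow_one] at hpow
    apply hKtop
    have h1 : K.toAddSubgroup = ⊤ := by
      apply AddSubgroup.eq_top_of_card_eq
      rw [Nat.card_eq_fintype_card (α := F), ← hpow, ← hcard]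
      rfl
    rw [eq_top_iff]
    intro x _
    have : x ∈ K.toAddSubgroup := by rw [h1]; trivial
    exact this
  have hQ2 : 2 ≤ Q := by
    by_contra hcon
    have hQ1 : Q ≤ 1 := by omega
    have : Q ^ m ≤ 1 ^ m := Nat.pow_le_pow_left hQ1 m
    rw [one_pow, hpow] at this
    omega
  by_contra hnp
  obtain ⟨a, hadvd, ha1, ham⟩ := (Nat.not_prime_iff_exists_dvd_ne (by omega : 2 ≤ m)).1 hnp
  obtain ⟨b, hb⟩ := hadvd
  have ha0 : a ≠ 0 := by
    rintro rfl
    rw [zero_mul] at hb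
    exact hm0 hb
  have ha2 : 2 ≤ a := by omega
  have halt : a < m := by
    have : a ≤ m := Nat.le_of_dvd (by omega) ⟨b, hb⟩
    omega
  -- `Q` is a power of `p`
  obtain ⟨n, -, hn⟩ := FiniteField.card F p
  obtain ⟨k, -, hk⟩ : ∃ k, k ≤ (n : ℕ) ∧ Q = p ^ k := by
    apply (Nat.dvd_prime_pow hpp).1
    rw [← hn, ← hpow]
    exact dvd_pow_self Q hm0
  -- the intermediate field
  obtain ⟨K₁, hK₁⟩ : ∃ K₁ : Subfield F, ∀ x, x ∈ K₁ ↔ x ^ (Q ^ a) = x := by
    refine ⟨(iterateFrobenius F p (k * a)).eqLocusField (RingHom.id F), fun x => ?_⟩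
    rw [RingHom.mem_eqLocusField, hk, ← pow_mul]
    rfl
  have hKle : K ≤ K₁ := by
    intro x hx
    rw [hK₁]
    have : ∀ j : ℕ, x ^ (Q ^ j) = x := by
      intro j
      induction j with
      | zero => rw [pow_zero, pow_one]
      | succ j ih => rw [pow_succ, pow_mul, ih, hQ x hx]
    exact this a
  obtain ⟨g, hg⟩ := IsCyclic.exists_generator (α := Fˣ)
  have hord : orderOf g = Fintype.card F - 1 := by
    rw [orderOf_eq_card_of_forall_mem_zpowers hg, Nat.card_units, Nat.card_eq_fintype_card]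
  have hlt : Q ^ a < Q ^ m := Nat.pow_lt_pow_right (by omega) halt
  have hQa : Q < Q ^ a := by
    calc Q = Q ^ 1 := (pow_one Q).symm
      _ < Q ^ a := Nat.pow_lt_pow_right (by omega) (by omega)
  have hdvd : Q ^ a - 1 ∣ Q ^ m - 1 := by
    have := Nat.sub_dvd_pow_sub_pow (Q ^ a) 1 b
    rwa [one_pow, ← pow_mul, ← hb] at this
  rcases hno K₁ hKle with h | h
  · -- an element of `K₁` outside `K`
    obtain ⟨d, hd⟩ := hdvd
    have hd0 : d ≠ 0 := by
      rintro rfl
      rw [mul_zero] at hd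
      omega
    have hx1 : ((g ^ d : Fˣ) : F) ∈ K₁ := by
      rw [hK₁]
      have h1 : (g ^ d) ^ (Q ^ a - 1) = 1 := by
        rw [← pow_mul, mul_comm, ← hd, hpow, ← hord]
        exact pow_orderOf_eq_one g
      have h2 : ((g ^ d : Fˣ) : F) ^ (Q ^ a - 1) = 1 := by
        rw [← Units.val_pow_eq_pow_val, h1]
        rfl
      have h3 : Q ^ a = (Q ^ a - 1) + 1 := by omega
      rw [h3, pow_succ, h2, one_mul]
    rw [h] at hx1
    have h4 := hQ _ hx1
    have h5 : (g ^ d) ^ (Q - 1) = 1 := by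
      apply Units.ext
      rw [Units.val_pow_eq_pow_val]
      have h3 : Q = (Q - 1) + 1 := by omega
      rw [h3, pow_succ] at h4
      have hne : ((g ^ d : Fˣ) : F) ≠ 0 := Units.ne_zero _
      have := mul_right_cancel₀ hne (h4.trans (one_mul _).symm)
      rw [this]
      rfl
    rw [← pow_mul] at h5
    have h6 := orderOf_dvd_of_pow_eq_one h5
    rw [hord, ← hpow, hd] at h6
    have h7 : Q ^ a - 1 ∣ Q - 1 := by
      rw [mul_comm] at h6
      exact Nat.dvd_of_mul_dvd_mul_left (by omega) h6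
    have := Nat.le_of_dvd (by omega) h7
    omega
  · have h1 : ((g : Fˣ) : F) ∈ K₁ := by rw [h]; trivial
    rw [hK₁] at h1
    have h2 : g ^ (Q ^ a - 1) = 1 := by
      apply Units.ext
      rw [Units.val_pow_eq_pow_val]
      have h3 : Q ^ a = (Q ^ a - 1) + 1 := by omega
      rw [h3, pow_succ] at h1
      have hne : ((g : Fˣ) : F) ≠ 0 := Units.ne_zero _
      have := mul_right_cancel₀ hne (h1.trans (one_mul _).symm)
      rw [this]
      rfl
    have h6 := orderOf_dvd_of_pow_eq_one h2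
    rw [hord, ← hpow] at h6
    have := Nat.le_of_dvd (by omega) h6
    omega

end subfieldprime

theorem alt4_klein : ∃ v : alternatingGroup (Fin 4), v ≠ 1 ∧ v ^ 2 = 1 ∧
    ∀ σ : alternatingGroup (Fin 4), (σ * v * σ⁻¹) * v = v * (σ * v * σ⁻¹) :=
  ⟨⟨Equiv.swap 0 1 * Equiv.swap 2 3, by rw [Equiv.Perm.mem_alternatingGroup]; decide⟩,
    by decide, by decide, by decide⟩

theorem perm4_four : ∃ σ : Equiv.Perm (Fin 4), σ ^ 4 = 1 ∧ σ ^ 2 ≠ 1 :=
  ⟨finRotate 4, by decide, by decide⟩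

set_option maxRecDepth 100000 in
theorem alt5_inv : ∃ v : alternatingGroup (Fin 5), v ≠ 1 ∧ v ^ 2 = 1 ∧
    Fintype.card {g : alternatingGroup (Fin 5) // g * v = v * g} = 4 ∧
    ∃ t : alternatingGroup (Fin 5), t ^ 3 = 1 ∧ t ≠ 1 ∧
      (t * v * t⁻¹) * v = v * (t * v * t⁻¹) :=
  ⟨⟨Equiv.swap 0 1 * Equiv.swap 2 3, by rw [Equiv.Perm.mem_alternatingGroup]; decide⟩,
    by decide, by decide, by decide,
    ⟨⟨Equiv.swap 0 1 * Equiv.swap 1 2, by rw [Equiv.Perm.mem_alternatingGroup]; decide⟩,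
      by decide, by decide, by decide⟩⟩

theorem coatom_eq_of_le {G : Type*} [Group G] [Finite G] (M N : Subgroup G) (hM : IsCoatom M)
    (hle : M ≤ N) (hcard : Nat.card N < Nat.card G) : M = N := by
  by_contra hne
  have hlt : M < N := lt_of_le_of_ne hle hne
  have := hM.2 N hlt
  rw [this, Subgroup.card_top] at hcard
  exact lt_irrefl _ hcard

section even

variable {F : Type*} [Field F] [Fintype F]

theorem even_facts (h2 : (2 : F) = 0) : Nat.gcd 2 (Fintype.card F - 1) = 1 ∧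
    Nat.card PSL(2, F) = Fintype.card F * (Fintype.card F ^ 2 - 1) := by
  have hg : Nat.gcd 2 (Fintype.card F - 1) = 1 := by
    rcases card_parity_cases (F := F) with ⟨h, -, -⟩ | ⟨-, -, h⟩
    · exact absurd h2 h
    · exact h
  refine ⟨hg, ?_⟩
  have := card_PSL2_gen (F := F)
  rw [hg, one_mul] at this
  exact this

omit [Fintype F] in
theorem trSq_of_sq_char_two (h2 : (2 : F) = 0) (z : PSL(2, F)) (hz : z ^ 2 = 1) :
    trSq z = 4 := by
  have h4 : (4 : F) = 0 := by linear_combination 2 * h2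
  rcases trSq_of_pow_two z hz with h | h
  · rw [h, h4]
  · exact h

omit [Fintype F] in
theorem trSq_of_pow_four_char_two (h2 : (2 : F) = 0) (z : PSL(2, F)) (hz : z ^ 4 = 1) :
    trSq z = 4 := by
  have h4 : (4 : F) = 0 := by linear_combination 2 * h2
  rcases trSq_of_pow_four z hz with h | h | h
  · rw [h, h4]
  · rw [h, h2, h4]
  · exact h

theorem even_semi (h2 : (2 : F) = 0) (h4 : 4 ≤ Fintype.card F) (M : Subgroup PSL(2, F))
    (hM : IsCoatom M) (x : PSL(2, F)) (hx : x ≠ 1) (hs : trSq x ≠ 4)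
    (hle : M ≤ Subgroup.normalizer ((Mq x : Subgroup PSL(2, F)) : Set PSL(2, F))) :
    Nonempty (M ≃* DihedralGroup (Fintype.card F - 1)) ∨
    Nonempty (M ≃* DihedralGroup (Fintype.card F + 1)) := by
  obtain ⟨hg, hG⟩ := even_facts h2
  obtain ⟨⟨f⟩, hcard⟩ := normalizer_Mq_semi_dihedral x hx hs
  have hMq := Mq_semi_card x hs
  rw [hg, mul_one] at hMq
  have hlt : Nat.card (Subgroup.normalizer ((Mq x : Subgroup PSL(2, F)) : Set PSL(2, F))) <
      Nat.card PSL(2, F) := by
    rw [hcard, hG]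
    obtain ⟨t, ht⟩ : ∃ t, Fintype.card F = t + 4 := ⟨Fintype.card F - 4, by omega⟩
    rw [ht] at hMq ⊢
    have e : (t + 4) ^ 2 - 1 = t ^ 2 + 8 * t + 15 := by
      have : (t + 4) ^ 2 = t ^ 2 + 8 * t + 16 := by ring
      omega
    rw [e]
    rcases hMq with h | h
    · rw [h]
      have : t + 4 - 1 = t + 3 := by omega
      rw [this]
      nlinarith
    · rw [h]
      nlinarith
  have hMN := coatom_eq_of_le M _ hM hle hlt
  rcases hMq with h | h
  · left
    rw [h] at f
    exact ⟨(MulEquiv.subgroupCongr hMN).trans f⟩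
  · right
    rw [h] at f
    exact ⟨(MulEquiv.subgroupCongr hMN).trans f⟩

theorem even_borel (h2 : (2 : F) = 0) (h4 : 4 ≤ Fintype.card F) (M : Subgroup PSL(2, F))
    (hM : IsCoatom M) (x : PSL(2, F)) (hx : x ≠ 1) (ht : trSq x = 4)
    (hle : M ≤ Subgroup.normalizer ((Mq x : Subgroup PSL(2, F)) : Set PSL(2, F))) :
    Nat.card M = Fintype.card F * (Fintype.card F - 1) := by
  obtain ⟨hg, hG⟩ := even_facts h2
  have hN := card_normalizer_Mq_unip x hx ht
  rw [hg, one_mul] at hN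
  have hlt : Nat.card (Subgroup.normalizer ((Mq x : Subgroup PSL(2, F)) : Set PSL(2, F))) <
      Nat.card PSL(2, F) := by
    rw [hN, hG]
    obtain ⟨t, ht⟩ : ∃ t, Fintype.card F = t + 4 := ⟨Fintype.card F - 4, by omega⟩
    rw [ht]
    have e : (t + 4) ^ 2 - 1 = t ^ 2 + 8 * t + 15 := by
      have : (t + 4) ^ 2 = t ^ 2 + 8 * t + 16 := by ring
      omega
    have e' : t + 4 - 1 = t + 3 := by omega
    rw [e, e']
    nlinarith
  rw [coatom_eq_of_le M _ hM hle hlt, hN]

theorem even_not_bot (h2 : (2 : F) = 0) (h4 : 4 ≤ Fintype.card F) (M : Subgroup PSL(2, F))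
    (hM : IsCoatom M) : M ≠ ⊥ := by
  rintro rfl
  have hx : (QuotientGroup.mk (uS (1 : F)) : PSL(2, F)) ≠ 1 := mk_uS_ne_one one_ne_zero
  have ht := trSq_mk_uS (1 : F)
  have h := even_borel h2 h4 ⊥ hM _ hx ht bot_le
  rw [Subgroup.card_bot] at h
  have : 4 * 3 ≤ Fintype.card F * (Fintype.card F - 1) := Nat.mul_le_mul h4 (by omega)
  omega

omit [Fintype F] in
theorem even_a4 (h2 : (2 : F) = 0) (M : Subgroup PSL(2, F))
    (f : M ≃* alternatingGroup (Fin 4)) :
    ∃ x : PSL(2, F), x ≠ 1 ∧ trSq x = 4 ∧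
      M ≤ Subgroup.normalizer ((Mq x : Subgroup PSL(2, F)) : Set PSL(2, F)) := by
  obtain ⟨v₀, hv1, hv2, hvc⟩ := alt4_klein
  obtain ⟨v, hv⟩ : ∃ v : M, v = f.symm v₀ := ⟨_, rfl⟩
  have hfv : f v = v₀ := by rw [hv]; simp
  have hvne : v ≠ 1 := by
    rintro rfl
    rw [map_one] at hfv
    exact hv1 hfv.symm
  have hvsq : v ^ 2 = 1 := by
    apply f.injective
    rw [map_pow, hfv, hv2, map_one]
  have hvne' : (v : PSL(2, F)) ≠ 1 := fun h => hvne (Subtype.ext h)
  have hvsq' : (v : PSL(2, F)) ^ 2 = 1 := by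
    have := congrArg Subtype.val hvsq
    simpa using this
  have ht := trSq_of_sq_char_two h2 _ hvsq'
  refine ⟨v, hvne', ht, ?_⟩
  intro m hm
  have hc : ((⟨m, hm⟩ : M) * v * (⟨m, hm⟩ : M)⁻¹) * v =
      v * ((⟨m, hm⟩ : M) * v * (⟨m, hm⟩ : M)⁻¹) := by
    apply f.injective
    simp only [map_mul, map_inv, hfv]
    exact hvc _
  have hc' : (m * (v : PSL(2, F)) * m⁻¹) * v = v * (m * (v : PSL(2, F)) * m⁻¹) := by
    have := congrArg Subtype.val hc
    simpa using this
  exact tiPart_Mq.mem_normalizer_of_conj_mem hvne' (tiPart_Mq.mem _ hvne') hvne'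
    (Mq_unip_comm _ _ ht hc')

theorem even_s4 (h2 : (2 : F) = 0) (M : Subgroup PSL(2, F))
    (f : M ≃* Equiv.Perm (Fin 4)) : False := by
  haveI : CharP F 2 := CharTwo.of_one_ne_zero_of_two_eq_zero one_ne_zero h2
  haveI : Fact (Nat.Prime 2) := ⟨Nat.prime_two⟩
  obtain ⟨σ, h4, h2'⟩ := perm4_four
  obtain ⟨z, hz⟩ : ∃ z : M, z = f.symm σ := ⟨_, rfl⟩
  have hfz : f z = σ := by rw [hz]; simp
  have hz4 : z ^ 4 = 1 := by
    apply f.injective
    rw [map_pow, hfz, h4, map_one]
  have hz2 : z ^ 2 ≠ 1 := by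
    intro h
    apply h2'
    rw [← hfz, ← map_pow, h, map_one]
  have hz4' : (z : PSL(2, F)) ^ 4 = 1 := by
    have := congrArg Subtype.val hz4
    simpa using this
  have ht := trSq_of_pow_four_char_two h2 _ hz4'
  have hz1 : (z : PSL(2, F)) ≠ 1 := by
    intro h
    apply hz2
    apply Subtype.ext
    simp [h]
  have := Mq_unip_pow 2 _ _ hz1 ht (tiPart_Mq.mem _ hz1)
  apply hz2
  apply Subtype.ext
  simpa using this

theorem even_a5 (h2 : (2 : F) = 0) (M : Subgroup PSL(2, F))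
    (f : M ≃* alternatingGroup (Fin 5)) :
    DkS (M.comap (QuotientGroup.mk' (Subgroup.center SL(2, F)))) := by
  classical
  obtain ⟨v₀, hv1, hv2, hcardC, t₀, ht3, ht1, htc⟩ := alt5_inv
  obtain ⟨v, hv⟩ : ∃ v : M, v = f.symm v₀ := ⟨_, rfl⟩
  have hfv : f v = v₀ := by rw [hv]; simp
  have hvne : v ≠ 1 := by
    rintro rfl
    rw [map_one] at hfv
    exact hv1 hfv.symm
  have hvsq : v ^ 2 = 1 := by
    apply f.injective
    rw [map_pow, hfv, hv2, map_one]
  have hvne' : (v : PSL(2, F)) ≠ 1 := fun h => hvne (Subtype.ext h)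
  have hvsq' : (v : PSL(2, F)) ^ 2 = 1 := by
    have := congrArg Subtype.val hvsq
    simpa using this
  have ht := trSq_of_sq_char_two h2 _ hvsq'
  have hmemV : ∀ z : M, z ∈ MqH M v ↔ f z * v₀ = v₀ * f z := by
    intro z
    rw [mem_MqH]
    constructor
    · intro hz
      have hc := Mq_comm (v : PSL(2, F)) hvne' hz (tiPart_Mq.mem _ hvne')
      have : z * v = v * z := Subtype.ext (by simpa using hc)
      rw [← hfv, ← map_mul, ← map_mul, this]
    · intro hz
      apply Mq_unip_comm _ _ ht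
      have : z * v = v * z := by
        apply f.injective
        rw [map_mul, map_mul, hfv]
        exact hz
      have := congrArg Subtype.val this
      simpa using this
  have hVcard : Nat.card (MqH M v) = 4 := by
    rw [← hcardC, ← Nat.card_eq_fintype_card]
    exact Nat.card_congr (Equiv.subtypeEquiv f.toEquiv (fun z => hmemV z))
  obtain ⟨N, hN⟩ : ∃ N : Subgroup M,
      N = Subgroup.normalizer ((MqH M v : Subgroup M) : Set M) := ⟨_, rfl⟩
  have hVN : MqH M v ≤ N := by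
    rw [hN]
    exact Subgroup.le_normalizer
  obtain ⟨t, htdef⟩ : ∃ t : M, t = f.symm t₀ := ⟨_, rfl⟩
  have hft : f t = t₀ := by rw [htdef]; simp
  have htN : t ∈ N := by
    rw [hN]
    apply (tiPart_MqH M).mem_normalizer_of_conj_mem hvne ((tiPart_MqH M).mem v hvne) hvne
    rw [hmemV]
    simp only [map_mul, map_inv, hfv, hft]
    exact htc
  have ht3' : t ^ 3 = 1 := by
    apply f.injective
    rw [map_pow, hft, ht3, map_one]
  have ht1' : t ≠ 1 := by
    rintro rfl
    rw [map_one] at hft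
    exact ht1 hft.symm
  haveI : Fact (Nat.Prime 3) := ⟨Nat.prime_three⟩
  have hord : orderOf t = 3 := orderOf_eq_prime ht3' ht1'
  have h3 : 3 ∣ Nat.card N := by
    have := orderOf_dvd_natCard (⟨t, htN⟩ : N)
    rwa [Subgroup.orderOf_mk, hord] at this
  have h4 : 4 ∣ Nat.card N := by
    rw [← hVcard]
    exact Subgroup.card_dvd_of_le hVN
  have h12 : 4 * 3 ∣ Nat.card N :=
    Nat.Coprime.mul_dvd_of_dvd_of_dvd (by norm_num : Nat.Coprime 4 3) h4 h3
  have hM60 : Nat.card M = 60 := by rw [Nat.card_congr f.toEquiv, card_alt5]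
  have hidx := Subgroup.card_mul_index N
  rw [hM60] at hidx
  have hNne : Nat.card N ≠ 60 := by
    intro h60
    have hNtop : N = ⊤ := Subgroup.eq_top_of_card_eq N (by rw [h60, hM60])
    rw [hN] at hNtop
    have hnorm : (MqH M v).Normal := Subgroup.normalizer_eq_top_iff.1 hNtop
    have hnorm' : ((MqH M v).map f.toMonoidHom).Normal := hnorm.map f.toMonoidHom f.surjective
    have hc : Nat.card ((MqH M v).map f.toMonoidHom) = 4 := by
      rw [Subgroup.card_map_of_injective f.injective, hVcard]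
    rcases hnorm'.eq_bot_or_eq_top with h | h
    · rw [h, Subgroup.card_bot] at hc
      omega
    · rw [h, Subgroup.card_top, card_alt5] at hc
      omega
  have hidx5 : N.index = 5 := by
    obtain ⟨c, hc⟩ := h12
    rw [hc] at hidx hNne
    have h5 : c * N.index = 5 := by
      have : 12 * (c * N.index) = 12 * 5 := by linarith
      exact Nat.eq_of_mul_eq_mul_left (by norm_num) this
    have hcd : c ∣ 5 := ⟨_, h5.symm⟩
    rcases (Nat.dvd_prime Nat.prime_five).1 hcd with rfl | rfl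
    · omega
    · exact absurd rfl hNne
  apply dk_idxS M v hvne ht
  rw [← hN, hidx5, hVcard]

end even

section even2

variable {F : Type*} [Field F]

/-- The matrices of `SL₂(F)` with entries in a subfield. -/
def slSub (K : Subfield F) : Subgroup SL(2, F) where
  carrier := {ν | ∀ i j, (ν : Matrix (Fin 2) (Fin 2) F) i j ∈ K}
  mul_mem' := by
    intro a b ha hb i j
    have := ks_mul K a b 1 1 (fun i j => by rw [mul_one]; exact ha i j)
      (fun i j => by rw [mul_one]; exact hb i j) i j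
    rwa [mul_one, mul_one] at this
  one_mem' := by
    intro i j
    rw [Matrix.SpecialLinearGroup.coe_one, Matrix.one_apply]
    split_ifs
    · exact K.one_mem
    · exact K.zero_mem
  inv_mem' := by
    intro a ha i j
    have := ks_inv K a 1 (fun i j => by rw [mul_one]; exact ha i j) i j
    rwa [mul_one] at this

theorem mem_slSub (K : Subfield F) (ν : SL(2, F)) :
    ν ∈ slSub K ↔ ∀ i j, (ν : Matrix (Fin 2) (Fin 2) F) i j ∈ K := Iff.rfl

variable [Fintype F]

theorem mem_of_sq_mem_char_two (h2 : (2 : F) = 0) (K : Subfield F) (γ : F) (h : γ ^ 2 ∈ K) :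
    γ ∈ K := by
  have hinj : Function.Injective (fun x : K => x ^ 2) := by
    intro x y hxy
    have h3 : (x : F) ^ 2 = (y : F) ^ 2 := congrArg Subtype.val hxy
    have h1 : ((x : F) - y) ^ 2 = 0 := by
      linear_combination h3 + ((y : F) ^ 2 - (x : F) * y) * h2
    have h4 : (x : F) - y = 0 := pow_eq_zero_iff (n := 2) (by norm_num) |>.1 h1
    exact Subtype.ext (sub_eq_zero.1 h4)
  have hsurj := Finite.surjective_of_injective hinj
  obtain ⟨κ, hκ⟩ := hsurj ⟨γ ^ 2, h⟩
  have h3 : (κ : F) ^ 2 = γ ^ 2 := congrArg Subtype.val hκ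
  have h1 : (γ - (κ : F)) ^ 2 = 0 := by
    linear_combination -h3 + ((κ : F) ^ 2 - γ * κ) * h2
  have h4 : γ - (κ : F) = 0 := pow_eq_zero_iff (n := 2) (by norm_num) |>.1 h1
  rw [sub_eq_zero.1 h4]
  exact κ.2

theorem pgl_equiv_psl_char_two (K' : Type*) [Field K'] [Fintype K'] (h2 : (2 : K') = 0) :
    Nonempty (PGL(2, K') ≃* PSL(2, K')) := by
  have hinj : Function.Injective
      (Matrix.ProjectiveSpecialLinearGroup.toPGL : PSL(2, K') →* PGL(2, K')) :=
    Matrix.ProjectiveSpecialLinearGroup.toPGL_injective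
  have hcard : Nat.card PSL(2, K') = Nat.card PGL(2, K') := by
    rw [(even_facts h2).2, card_PGL2]
  haveI : Finite PGL(2, K') :=
    Nat.finite_of_card_ne_zero (by rw [← hcard]; exact Nat.card_pos.ne')
  have hbij := (Nat.bijective_iff_injective_and_card _).2 ⟨hinj, hcard⟩
  exact ⟨(MulEquiv.ofBijective _ hbij).symm⟩

theorem even_six (h2 : (2 : F) = 0) (M : Subgroup PSL(2, F)) (hcard : Nat.card M = 6) :
    ∃ x : PSL(2, F), x ≠ 1 ∧ trSq x ≠ 4 ∧
      M ≤ Subgroup.normalizer ((Mq x : Subgroup PSL(2, F)) : Set PSL(2, F)) := by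
  haveI : CharP F 2 := CharTwo.of_one_ne_zero_of_two_eq_zero one_ne_zero h2
  haveI : Fact (Nat.Prime 2) := ⟨Nat.prime_two⟩
  haveI : Fact (Nat.Prime 3) := ⟨Nat.prime_three⟩
  obtain ⟨z, hz⟩ := exists_prime_orderOf_dvd_card' (G := M) 3 (by rw [hcard]; norm_num)
  have hz1 : z ≠ 1 := by
    rintro rfl
    rw [orderOf_one] at hz
    omega
  have hz3 : z ^ 3 = 1 := by
    rw [← hz]
    exact pow_orderOf_eq_one z
  have hz1' : (z : PSL(2, F)) ≠ 1 := fun h => hz1 (Subtype.ext h)
  have hz3' : (z : PSL(2, F)) ^ 3 = 1 := by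
    have := congrArg Subtype.val hz3
    simpa using this
  have hs := trSq_ne_four_of_coprime 2 (z : PSL(2, F)) hz1' 3 hz3' (by norm_num)
  have hidx : (Subgroup.zpowers z).index = 2 := by
    have h1 := Subgroup.card_mul_index (Subgroup.zpowers z)
    rw [Nat.card_zpowers, hz, hcard] at h1
    omega
  haveI := Subgroup.normal_of_index_eq_two hidx
  refine ⟨z, hz1', hs, ?_⟩
  intro m hm
  have hconj : (⟨m, hm⟩ : M) * z * (⟨m, hm⟩ : M)⁻¹ ∈ Subgroup.zpowers z :=
    Subgroup.Normal.conj_mem inferInstance z (Subgroup.mem_zpowers z) _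
  obtain ⟨k, hk⟩ := Subgroup.mem_zpowers_iff.1 hconj
  have hk' : m * (z : PSL(2, F)) * m⁻¹ = (z : PSL(2, F)) ^ k := by
    have := congrArg Subtype.val hk
    simpa using this.symm
  apply tiPart_Mq.mem_normalizer_of_conj_mem hz1' (tiPart_Mq.mem _ hz1') hz1'
  rw [hk']
  exact Subgroup.zpow_mem _ (tiPart_Mq.mem _ hz1') k

/-- The subfield case for a maximal subgroup in even characteristic. -/
theorem even_dks (h2 : (2 : F) = 0) (h4 : 4 ≤ Fintype.card F) (M : Subgroup PSL(2, F))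
    (hM : IsCoatom M)
    (h : DkS (M.comap (QuotientGroup.mk' (Subgroup.center SL(2, F))))) :
    (Nonempty (M ≃* DihedralGroup (Fintype.card F - 1)) ∨
      Nonempty (M ≃* DihedralGroup (Fintype.card F + 1))) ∨
    (∃ (F₀ : Type) (_ : Field F₀) (_ : Fintype F₀) (r : ℕ), r.Prime ∧ Fintype.card F₀ ≠ 2 ∧
        Fintype.card F = Fintype.card F₀ ^ r ∧
        Nonempty (M ≃* Matrix.ProjectiveSpecialLinearGroup (Fin 2) F₀)) := by
  classical
  haveI : CharP F 2 := CharTwo.of_one_ne_zero_of_two_eq_zero one_ne_zero h2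
  haveI : Fact (Nat.Prime 2) := ⟨Nat.prime_two⟩
  obtain ⟨K, e, he, h1, h2'⟩ := h
  obtain ⟨Hh, hHh⟩ : ∃ Hh : Subgroup SL(2, F),
      Hh = M.comap (QuotientGroup.mk' (Subgroup.center SL(2, F))) := ⟨_, rfl⟩
  rw [← hHh] at h1 h2'
  have hmemHh : ∀ ν : SL(2, F), ν ∈ Hh ↔ (QuotientGroup.mk ν : PSL(2, F)) ∈ M := by
    intro ν
    rw [hHh]
    rfl
  have hmap : Hh.map (QuotientGroup.mk' (Subgroup.center SL(2, F))) = M := by
    rw [hHh]
    exact Subgroup.map_comap_eq_self_of_surjective (QuotientGroup.mk'_surjective _) M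
  have hmkinj := PSL2_mk_injective_char_two h2
  have hexact : ∀ ν : SL(2, F), e ν ∈ slSub K ↔ ν ∈ Hh := by
    intro ν
    constructor
    · intro hν
      obtain ⟨ν', hν', hνν⟩ := h1 (e ν) hν
      rw [← e.injective hνν]
      exact hν'
    · intro hν
      obtain ⟨γ, hγ, hent⟩ := h2' (e ν) ⟨ν, hν, rfl⟩
      obtain ⟨N, hN⟩ : ∃ N : SL(2, F), N = e ν := ⟨_, rfl⟩
      rw [← hN] at hent ⊢
      have hγ2 : γ ^ 2 ∈ K := by
        have hdet := SL2_det_eq N
        have : γ ^ 2 = ((N : Matrix (Fin 2) (Fin 2) F) 0 0 * γ) *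
            ((N : Matrix (Fin 2) (Fin 2) F) 1 1 * γ) -
            ((N : Matrix (Fin 2) (Fin 2) F) 0 1 * γ) *
            ((N : Matrix (Fin 2) (Fin 2) F) 1 0 * γ) := by
          linear_combination (-γ ^ 2) * hdet
        rw [this]
        exact K.sub_mem (K.mul_mem (hent 0 0) (hent 1 1)) (K.mul_mem (hent 0 1) (hent 1 0))
      have hγK := mem_of_sq_mem_char_two h2 K γ hγ2
      intro i j
      have : (N : Matrix (Fin 2) (Fin 2) F) i j =
          ((N : Matrix (Fin 2) (Fin 2) F) i j * γ) * γ⁻¹ := by field_simp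
      rw [this]
      exact K.mul_mem (hent i j) (K.inv_mem hγK)
  have hKtop : K ≠ ⊤ := by
    intro hK
    apply hM.1
    rw [Subgroup.eq_top_iff']
    intro z
    obtain ⟨g, rfl⟩ := QuotientGroup.mk_surjective z
    rw [← hmemHh, ← hexact]
    intro i j
    rw [hK]
    trivial
  have hno : ∀ K₁ : Subfield F, K ≤ K₁ → K₁ = K ∨ K₁ = ⊤ := by
    intro K₁ hle
    obtain ⟨M₁, hM₁⟩ : ∃ M₁ : Subgroup PSL(2, F), M₁ = ((slSub K₁).comap e.toMonoidHom).map
        (QuotientGroup.mk' (Subgroup.center SL(2, F))) := ⟨_, rfl⟩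
    have hmemM₁ : ∀ g : SL(2, F), (QuotientGroup.mk g : PSL(2, F)) ∈ M₁ ↔ e g ∈ slSub K₁ := by
      intro g
      rw [hM₁]
      constructor
      · rintro ⟨g', hg', hgg⟩
        have : g' = g := hmkinj hgg
        rw [← this]
        exact hg'
      · intro hg
        exact ⟨g, hg, rfl⟩
    have hMle : M ≤ M₁ := by
      intro z hz
      obtain ⟨g, rfl⟩ := QuotientGroup.mk_surjective z
      rw [hmemM₁]
      have := (hexact g).2 ((hmemHh g).2 hz)
      intro i j
      exact hle (this i j)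
    rcases hM.le_iff.1 hMle with htop | heq
    · right
      rw [eq_top_iff]
      intro b _
      have : (QuotientGroup.mk (e.symm (uS b)) : PSL(2, F)) ∈ M₁ := by rw [htop]; trivial
      rw [hmemM₁, MulEquiv.apply_symm_apply] at this
      exact this 0 1
    · left
      apply le_antisymm _ hle
      intro b hb
      have h3 : (QuotientGroup.mk (e.symm (uS b)) : PSL(2, F)) ∈ M₁ := by
        rw [hmemM₁, MulEquiv.apply_symm_apply]
        intro i j
        fin_cases i <;> fin_cases j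
        · exact K₁.one_mem
        · exact hb
        · exact K₁.zero_mem
        · exact K₁.one_mem
      rw [heq, ← hmemHh, ← hexact, MulEquiv.apply_symm_apply] at h3
      exact h3 0 1
  obtain ⟨K', iK, iF, ι, m, hm, hK'⟩ := exists_galois_model K
  have hQ : ∀ x ∈ K, x ^ Fintype.card K' = x := by
    intro x hx
    obtain ⟨y, rfl⟩ := (hK' x).1 hx
    rw [← map_pow, FiniteField.pow_card]
  have hcardK : Nat.card K = Fintype.card K' := by
    rw [← Nat.card_eq_fintype_card]
    symm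
    apply Nat.card_congr
    exact Equiv.ofBijective (fun y : K' => (⟨ι y, (hK' _).2 ⟨y, rfl⟩⟩ : K))
      ⟨fun a b hab => ι.injective (congrArg Subtype.val hab), fun ⟨x, hx⟩ => by
        obtain ⟨y, hy⟩ := (hK' x).1 hx
        exact ⟨y, Subtype.ext hy⟩⟩
  have hmprime : m.Prime := prime_deg 2 K (Fintype.card K') m hQ hcardK hm hKtop hno
  have h2K' : (2 : K') = 0 := by
    apply ι.injective
    rw [map_ofNat, map_zero]
    exact h2
  have hiso : Nonempty (M ≃* PSL(2, K')) := by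
    have hI1 : ∀ N : SL(2, K'), Matrix.SpecialLinearGroup.map ι N ∈ Hh.map e.toMonoidHom :=
      fun N => h1 _ (fun i j => (hK' _).2 ⟨(N : Matrix (Fin 2) (Fin 2) K') i j, rfl⟩)
    have hI2 : ∀ ν ∈ Hh.map e.toMonoidHom, ∃ (Mx : GL (Fin 2) K') (u : Fˣ), ∀ i j,
        (ν : Matrix (Fin 2) (Fin 2) F) i j * (u : F) = ι (Mx i j) := by
      intro ν hν
      obtain ⟨γ, hγ, h⟩ := h2' ν hν
      exact exists_GL_entries ι ν γ hγ (fun i j => (hK' _).1 (h i j))
    obtain ⟨e₀⟩ := map_mk_equiv e Hh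
    rw [hmap] at e₀
    rcases pgl_dichotomy ι (Hh.map e.toMonoidHom) hI1 hI2 with ⟨⟨f⟩⟩ | ⟨⟨f⟩⟩
    · exact ⟨e₀.trans f⟩
    · obtain ⟨g⟩ := pgl_equiv_psl_char_two K' h2K'
      exact ⟨e₀.trans (f.trans g)⟩
  by_cases hK2 : Fintype.card K' = 2
  · left
    obtain ⟨f⟩ := hiso
    have hc6 : Nat.card M = 6 := by
      rw [Nat.card_congr f.toEquiv, (even_facts h2K').2, hK2]
      norm_num
    obtain ⟨x, hx, hs, hle⟩ := even_six h2 M hc6
    exact even_semi h2 h4 M hM x hx hs hle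
  · right
    exact ⟨K', iK, iF, m, hmprime, hK2, hm.symm, hiso⟩

end even2

end Cfsg.Agent.Lib.helper12
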