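import Cfsg.Agent.Lib.helper12.CharTools
import Cfsg.Agent.Lib.helper12.GL2Borel

set_option autoImplicit false

namespace Cfsg.Agent.Lib.helper12

open Matrix Cfsg Cfsg.Agent.Lib.helper24
open scoped ComplexConjugate

section borelGL

variable {F : Type*} [Field F]

theorem borelGL_apply_one_zero (b : ↥(Cfsg.upperTriangularGL 2 F)) :
    ((b : GL (Fin 2) F) : Matrix (Fin 2) (Fin 2) F) 1 0 = 0 :=
  (mem_upperTriangularGL_two_iff _).mp b.2

theorem borelGL_diag_ne_zero (b : ↥(Cfsg.upperTriangularGL 2 F)) :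
    ((b : GL (Fin 2) F) : Matrix (Fin 2) (Fin 2) F) 0 0 ≠ 0 ∧
      ((b : GL (Fin 2) F) : Matrix (Fin 2) (Fin 2) F) 1 1 ≠ 0 := by
  have h := GL2_det_ne_zero (b : GL (Fin 2) F)
  rw [Matrix.det_fin_two, borelGL_apply_one_zero, mul_zero, sub_zero] at h
  exact ⟨left_ne_zero_of_mul h, right_ne_zero_of_mul h⟩

/-- The two diagonal entries, as homomorphisms from the Borel subgroup of `GL₂`. -/
noncomputable def borelDiag (i : Fin 2) : ↥(Cfsg.upperTriangularGL 2 F) →* Fˣ where
  toFun b := Units.mk0 (((b : GL (Fin 2) F) : Matrix (Fin 2) (Fin 2) F) i i) (by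
    fin_cases i
    · exact (borelGL_diag_ne_zero b).1
    · exact (borelGL_diag_ne_zero b).2)
  map_one' := by
    ext
    simp
  map_mul' b b' := by
    ext
    have h1 := borelGL_apply_one_zero b
    have h2 := borelGL_apply_one_zero b'
    fin_cases i <;>
      simp [Matrix.mul_apply, Fin.sum_univ_two, h1, h2]

theorem borelDiag_val (i : Fin 2) (b : ↥(Cfsg.upperTriangularGL 2 F)) :
    ((borelDiag i b : Fˣ) : F) = ((b : GL (Fin 2) F) : Matrix (Fin 2) (Fin 2) F) i i := rfl

/-- The linear character `b ↦ α(b₀₀) β(b₁₁)` of the Borel subgroup, as a homomorphism. -/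
noncomputable def borelHom (α β : MulChar F ℂ) : ↥(Cfsg.upperTriangularGL 2 F) →* ℂˣ :=
  (α.toUnitHom.comp (borelDiag 0)) * (β.toUnitHom.comp (borelDiag 1))

theorem borelHom_apply (α β : MulChar F ℂ) (b : ↥(Cfsg.upperTriangularGL 2 F)) :
    ((borelHom α β b : ℂˣ) : ℂ) = α (((b : GL (Fin 2) F) : Matrix (Fin 2) (Fin 2) F) 0 0) *
      β (((b : GL (Fin 2) F) : Matrix (Fin 2) (Fin 2) F) 1 1) := by
  simp only [borelHom, MonoidHom.mul_apply, MonoidHom.comp_apply, Units.val_mul,
    MulChar.coe_toUnitHom, borelDiag_val]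

/-- The linear character of the Borel subgroup, as a function. -/
noncomputable def borelChar (α β : MulChar F ℂ) : ↥(Cfsg.upperTriangularGL 2 F) → ℂ :=
  fun b => α (((b : GL (Fin 2) F) : Matrix (Fin 2) (Fin 2) F) 0 0) *
      β (((b : GL (Fin 2) F) : Matrix (Fin 2) (Fin 2) F) 1 1)

theorem borelChar_isIrr (α β : MulChar F ℂ) :
    IsIrrCharacter ↥(Cfsg.upperTriangularGL 2 F) (borelChar α β) := by
  have h := isIrrCharacter_of_hom (borelHom α β)
  have e : (fun g => ((borelHom α β g : ℂˣ) : ℂ)) = borelChar α β := by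
    funext b
    exact borelHom_apply α β b
  rwa [e] at h

theorem borelChar_isClassFunction (α β : MulChar F ℂ) :
    IsClassFunction ↥(Cfsg.upperTriangularGL 2 F) (borelChar α β) :=
  isCharacter_conj_class (isCharacter_of_isIrrCharacter (borelChar_isIrr α β))

/-- Conjugating an upper triangular matrix by the representative of a finite point. -/
theorem repP1_conj_borel (g : GL (Fin 2) F) (h10 : (g : Matrix (Fin 2) (Fin 2) F) 1 0 = 0) (y : F) :
    (((repP1 (some y))⁻¹ * g * repP1 (some y) : GL (Fin 2) F) : Matrix (Fin 2) (Fin 2) F) =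
      !![(g : Matrix (Fin 2) (Fin 2) F) 1 1, 0;
        ((g : Matrix (Fin 2) (Fin 2) F) 0 0 - (g : Matrix (Fin 2) (Fin 2) F) 1 1) * y +
          (g : Matrix (Fin 2) (Fin 2) F) 0 1, (g : Matrix (Fin 2) (Fin 2) F) 0 0] := by
  rw [Units.val_mul, Units.val_mul, Matrix.coe_units_inv]
  simp only [repP1, Matrix.GeneralLinearGroup.mkOfDetNeZero, Matrix.inv_def, Matrix.adjugate_fin_two,
    Ring.inverse_eq_inv']
  ext i j
  fin_cases i <;> fin_cases j <;>
    simp [Matrix.mul_apply, Fin.sum_univ_two, Matrix.det_fin_two, Matrix.vecMul, dotProduct, h10] <;> ring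

/-- Elements of the Borel subgroup from their entries. -/
noncomputable def borelMk (a d : Fˣ) (z : F) : ↥(Cfsg.upperTriangularGL 2 F) :=
  ⟨Matrix.GeneralLinearGroup.mkOfDetNeZero !![(a : F), z; 0, (d : F)] (by simp [Matrix.det_fin_two]), by
    rw [mem_upperTriangularGL_two_iff]
    simp [Matrix.GeneralLinearGroup.mkOfDetNeZero]⟩

theorem borelMk_val (a d : Fˣ) (z : F) :
    ((borelMk a d z : GL (Fin 2) F) : Matrix (Fin 2) (Fin 2) F) = !![(a : F), z; 0, (d : F)] := rfl

theorem borelMk_bijective :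
    Function.Bijective (fun p : Fˣ × Fˣ × F => borelMk p.1 p.2.1 p.2.2) := by
  constructor
  · rintro ⟨a, d, z⟩ ⟨a', d', z'⟩ h
    have h' := congrArg (fun b : ↥(Cfsg.upperTriangularGL 2 F) =>
      ((b : GL (Fin 2) F) : Matrix (Fin 2) (Fin 2) F)) h
    simp only [borelMk_val] at h'
    have h00 := congrFun (congrFun h' 0) 0
    have h01 := congrFun (congrFun h' 0) 1
    have h11 := congrFun (congrFun h' 1) 1
    simp at h00 h01 h11
    simp only [Prod.mk.injEq]
    exact ⟨Units.ext h00, Units.ext h11, h01⟩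
  · intro b
    refine ⟨(borelDiag 0 b, borelDiag 1 b, ((b : GL (Fin 2) F) : Matrix (Fin 2) (Fin 2) F) 0 1), ?_⟩
    apply Subtype.ext
    apply Units.ext
    simp only [borelMk_val, borelDiag_val]
    ext i j
    fin_cases i <;> fin_cases j <;> simp [borelGL_apply_one_zero]

theorem borelChar_borelMk (α β : MulChar F ℂ) (a d : Fˣ) (z : F) :
    borelChar α β (borelMk a d z) = α (a : F) * β (d : F) := by
  simp [borelChar, borelMk_val]

end borelGL

section fin

variable {F : Type*} [Field F] [Fintype F] [DecidableEq F]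

theorem sum_borelGL [Fintype ↥(Cfsg.upperTriangularGL 2 F)] (Φ : ↥(Cfsg.upperTriangularGL 2 F) → ℂ) :
    ∑ b, Φ b = ∑ a : Fˣ, ∑ d : Fˣ, ∑ z : F, Φ (borelMk a d z) := by
  rw [← Fintype.sum_bijective _ borelMk_bijective (fun p : Fˣ × Fˣ × F => Φ (borelMk p.1 p.2.1 p.2.2)) Φ
    (fun _ => rfl)]
  rw [Fintype.sum_prod_type]
  apply Finset.sum_congr rfl
  intro a _
  rw [Fintype.sum_prod_type]

theorem card_borelGL :
    Nat.card ↥(Cfsg.upperTriangularGL 2 F) = (Fintype.card F - 1) * (Fintype.card F - 1) * Fintype.card F := by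
  rw [← Nat.card_congr (Equiv.ofBijective _ (borelMk_bijective (F := F)))]
  rw [Nat.card_eq_fintype_card, Fintype.card_prod, Fintype.card_prod, Fintype.card_units]
  ring

theorem indFun_borelGL_apply (θ : ↥(Cfsg.upperTriangularGL 2 F) → ℂ)
    (hθ : IsClassFunction ↥(Cfsg.upperTriangularGL 2 F) θ) (g : GL (Fin 2) F) :
    indFun (Cfsg.upperTriangularGL 2 F) θ g =
      ∑ o : Option F, extendByZero (Cfsg.upperTriangularGL 2 F) θ ((repP1 o)⁻¹ * g * repP1 o) :=
  indFun_eq_sum_transversal _ repP1 repP1_bijective θ hθ g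

/-- Value of a function induced from the Borel subgroup at an element without eigenvector. -/
theorem indFun_borelGL_elliptic (θ : ↥(Cfsg.upperTriangularGL 2 F) → ℂ)
    (hθ : IsClassFunction ↥(Cfsg.upperTriangularGL 2 F) θ) (g : GL (Fin 2) F)
    (hg : ∀ (c : F) (v : Fin 2 → F), v ≠ 0 → (g : Matrix (Fin 2) (Fin 2) F).mulVec v ≠ c • v) :
    indFun (Cfsg.upperTriangularGL 2 F) θ g = 0 := by
  rw [indFun_borelGL_apply θ hθ]
  apply Finset.sum_eq_zero
  intro o _
  apply extendByZero_apply_not_mem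
  intro hmem
  have h1 : g • ((repP1 o : GL (Fin 2) F) : GL (Fin 2) F ⧸ Cfsg.upperTriangularGL 2 F) = repP1 o := by
    rw [MulAction.Quotient.smul_mk, eq_comm, QuotientGroup.eq, smul_eq_mul, ← mul_assoc]
    exact hmem
  rw [GL2_smul_coset_eq_iff, (repP1_col o).1, (repP1_col o).2] at h1
  have h2 : ![colP1 o 0, colP1 o 1] = colP1 o := by
    ext i
    fin_cases i <;> rfl
  rw [h2] at h1
  obtain ⟨c, hc⟩ := exists_eigen_of_Qf_eq_zero _ _ (colP1_ne_zero o) h1
  exact hg c _ (colP1_ne_zero o) hc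

/-- Value of the principal series function at an upper triangular element. -/
theorem RGL_apply_upper (α β : MulChar F ℂ) (g : GL (Fin 2) F)
    (h10 : (g : Matrix (Fin 2) (Fin 2) F) 1 0 = 0) :
    indFun (Cfsg.upperTriangularGL 2 F) (borelChar α β) g =
      α ((g : Matrix (Fin 2) (Fin 2) F) 0 0) * β ((g : Matrix (Fin 2) (Fin 2) F) 1 1) +
      ∑ y : F, if ((g : Matrix (Fin 2) (Fin 2) F) 0 0 - (g : Matrix (Fin 2) (Fin 2) F) 1 1) * y +
          (g : Matrix (Fin 2) (Fin 2) F) 0 1 = 0 then
        α ((g : Matrix (Fin 2) (Fin 2) F) 1 1) * β ((g : Matrix (Fin 2) (Fin 2) F) 0 0) else 0 := by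
  rw [indFun_borelGL_apply _ (borelChar_isClassFunction α β), Fintype.sum_option]
  congr 1
  · have h1 : (repP1 (none : Option F))⁻¹ * g * repP1 none = g := by simp [repP1]
    rw [h1, extendByZero_apply_mem _ _ ((mem_upperTriangularGL_two_iff g).mpr h10)]
    rfl
  · apply Finset.sum_congr rfl
    intro y _
    have hc := repP1_conj_borel g h10 y
    split_ifs with hy
    · have hmem : (repP1 (some y))⁻¹ * g * repP1 (some y) ∈ Cfsg.upperTriangularGL 2 F := by
        rw [mem_upperTriangularGL_two_iff, hc]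
        simpa using hy
      rw [extendByZero_apply_mem _ _ hmem]
      simp only [borelChar, hc]
      simp
    · apply extendByZero_apply_not_mem
      intro hmem
      rw [mem_upperTriangularGL_two_iff, hc] at hmem
      apply hy
      simpa using hmem

theorem RGL_inner_aux (α β α' β' : MulChar F ℂ) (a d : Fˣ) :
    ∑ z : F, borelChar α β (borelMk a d z) *
        conj (indFun (Cfsg.upperTriangularGL 2 F) (borelChar α' β') (borelMk a d z : GL (Fin 2) F)) =
      (Fintype.card F : ℂ) * ((α (a : F) * conj (α' (a : F))) * (β (d : F) * conj (β' (d : F)))) +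
      (Fintype.card F : ℂ) * ((α (a : F) * conj (β' (a : F))) * (β (d : F) * conj (α' (d : F)))) := by
  have hval : ∀ z : F, indFun (Cfsg.upperTriangularGL 2 F) (borelChar α' β') (borelMk a d z : GL (Fin 2) F) =
      α' (a : F) * β' (d : F) + ∑ y : F, if ((a : F) - d) * y + z = 0 then α' (d : F) * β' (a : F) else 0 := by
    intro z
    have := RGL_apply_upper α' β' (borelMk a d z : GL (Fin 2) F) (by simp [borelMk_val])
    simpa [borelMk_val] using this
  have h1 : ∀ z : F, (α (a : F) * β (d : F)) *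
      conj (α' (a : F) * β' (d : F) + ∑ y : F, if ((a : F) - d) * y + z = 0 then α' (d : F) * β' (a : F) else 0)
      = (α (a : F) * β (d : F)) * conj (α' (a : F) * β' (d : F)) +
        ∑ y : F, if ((a : F) - d) * y + z = 0 then (α (a : F) * β (d : F)) * conj (α' (d : F) * β' (a : F)) else 0 := by
    intro z
    rw [map_add, map_sum, mul_add, Finset.mul_sum]
    congr 1
    apply Finset.sum_congr rfl
    intro y _
    split_ifs <;> simp
  simp only [hval, borelChar_borelMk, h1]
  rw [Finset.sum_add_distrib, sum_sum_ite_affine]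
  simp only [Finset.sum_const, Finset.card_univ, nsmul_eq_mul, map_mul]
  ring

/-- Mackey formula for the principal series of `GL₂`. -/
theorem RGL_inner (α β α' β' : MulChar F ℂ) [Decidable (α = α' ∧ β = β')] [Decidable (α = β' ∧ β = α')] :
    classInner (indFun (Cfsg.upperTriangularGL 2 F) (borelChar α β))
        (indFun (Cfsg.upperTriangularGL 2 F) (borelChar α' β')) =
      (if α = α' ∧ β = β' then 1 else 0) + (if α = β' ∧ β = α' then 1 else 0) := by
  classical
  have := Fintype.ofFinite ↥(Cfsg.upperTriangularGL 2 F)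
  rw [frobenius_reciprocity _ _ (indFun_isClassFunction _ _)]
  unfold classInner
  rw [sum_borelGL]
  simp only [RGL_inner_aux]
  simp only [Finset.sum_add_distrib, ← Finset.mul_sum, mulChar_orth]
  rw [card_borelGL]
  have hq : (2 : ℕ) ≤ Fintype.card F := Fintype.one_lt_card
  have hq1 : ((Fintype.card F : ℂ) - 1) ≠ 0 := by
    have : (Fintype.card F : ℂ) ≠ 1 := by exact_mod_cast (by omega : Fintype.card F ≠ 1)
    exact sub_ne_zero.mpr this
  have hq0 : (Fintype.card F : ℂ) ≠ 0 := by
    have : (0 : ℕ) < Fintype.card F := by omega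
    exact_mod_cast this.ne'
  push_cast
  rw [Nat.cast_sub (by omega)]
  push_cast
  simp only [← Finset.sum_mul, mulChar_orth]
  split_ifs <;> first | (exfalso; tauto) | (field_simp; ring) | field_simp | simp

end fin

end Cfsg.Agent.Lib.helper12
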