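import Mathlib
import Cfsg.Prelude.Def_CaseTheorems

set_option autoImplicit false

namespace Cfsg.Agent.Lib.helper12.PRankQuot

/-- The `p`-rank does not grow in a quotient by a normal `p'`-subgroup. -/
theorem pRankLE_quot {G : Type*} [Group G] [Finite G] {p k : ℕ} [Fact p.Prime] (N : Subgroup G)
    [N.Normal] (hN : (Nat.card N).Coprime p) (h : Cfsg.PRankLE p k G) :
    Cfsg.PRankLE p k (G ⧸ N) := by
  classical
  intro A hA hexp
  have hp : p.Prime := Fact.out
  let H : Subgroup G := A.comap (QuotientGroup.mk' N)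
  let f : ↥H →* ↥A := (QuotientGroup.mk' N).subgroupComap A
  have hf : Function.Surjective f :=
    MonoidHom.subgroupComap_surjective_of_surjective _ _ (QuotientGroup.mk'_surjective N)
  obtain ⟨S0⟩ : Nonempty (Sylow p ↥H) := inferInstance
  have hinj : ∀ s : ↥H, s ∈ (S0 : Subgroup ↥H) → (s : G) ∈ N → s = 1 := by
    intro s hs hsN
    obtain ⟨m, hm⟩ := S0.isPGroup' ⟨s, hs⟩
    have h1 : (s : G) ^ (p ^ m) = 1 := by
      have := congrArg (fun t : ↥(S0 : Subgroup ↥H) => ((t : ↥H) : G)) hm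
      simpa using this
    have hd1 : orderOf (s : G) ∣ p ^ m := orderOf_dvd_of_pow_eq_one h1
    have hd2 : orderOf (s : G) ∣ Nat.card N := by
      have := orderOf_dvd_natCard (⟨(s : G), hsN⟩ : ↥N)
      rwa [← Subgroup.orderOf_coe] at this
    have hg : Nat.gcd (Nat.card N) (p ^ m) = 1 := Nat.Coprime.pow_right m hN
    have h2 := Nat.dvd_gcd hd2 hd1
    rw [hg] at h2
    have h3 : (s : G) = 1 := orderOf_eq_one_iff.mp (Nat.dvd_one.mp h2)
    exact Subtype.ext h3
  let S : Subgroup G := (S0 : Subgroup ↥H).map H.subtype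
  have hSmem : ∀ x ∈ S, ∃ s : ↥H, s ∈ (S0 : Subgroup ↥H) ∧ (s : G) = x := by
    intro x hx
    obtain ⟨s, hs, rfl⟩ := Subgroup.mem_map.mp hx
    exact ⟨s, hs, rfl⟩
  have hmkA : ∀ s : ↥H, QuotientGroup.mk' N (s : G) ∈ A := fun s => s.2
  have hcomm : IsMulCommutative ↥S := by
    refine ⟨⟨fun a b => ?_⟩⟩
    obtain ⟨s, hs, hsa⟩ := hSmem a a.2
    obtain ⟨t, ht, htb⟩ := hSmem b b.2
    have hc : s * t * s⁻¹ * t⁻¹ ∈ (S0 : Subgroup ↥H) :=
      Subgroup.mul_mem _ (Subgroup.mul_mem _ (Subgroup.mul_mem _ hs ht)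
        (Subgroup.inv_mem _ hs)) (Subgroup.inv_mem _ ht)
    have hxy : QuotientGroup.mk' N (s : G) * QuotientGroup.mk' N (t : G) =
        QuotientGroup.mk' N (t : G) * QuotientGroup.mk' N (s : G) :=
      congrArg Subtype.val (hA.is_comm.comm ⟨_, hmkA s⟩ ⟨_, hmkA t⟩)
    have hcN : ((s * t * s⁻¹ * t⁻¹ : ↥H) : G) ∈ N := by
      rw [← QuotientGroup.eq_one_iff]
      have h1 : ((((s * t * s⁻¹ * t⁻¹ : ↥H) : G)) : G ⧸ N) =
          QuotientGroup.mk' N (s : G) * QuotientGroup.mk' N (t : G) *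
            (QuotientGroup.mk' N (s : G))⁻¹ * (QuotientGroup.mk' N (t : G))⁻¹ := by
        simp
      rw [h1, hxy]
      group
    have h1 := hinj _ hc hcN
    have h2 : s * t = t * s := mul_inv_eq_iff_eq_mul.mp (mul_inv_eq_one.mp h1)
    apply Subtype.ext
    show (a : G) * b = b * a
    rw [← hsa, ← htb]
    exact congrArg Subtype.val h2
  have hexpS : ∀ a ∈ S, a ^ p = 1 := by
    intro a ha
    obtain ⟨s, hs, rfl⟩ := hSmem a ha
    have hsp : s ^ p ∈ (S0 : Subgroup ↥H) := Subgroup.pow_mem _ hs p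
    have hN' : ((s ^ p : ↥H) : G) ∈ N := by
      rw [← QuotientGroup.eq_one_iff]
      have h1 : (((s ^ p : ↥H) : G) : G ⧸ N) = (QuotientGroup.mk' N (s : G)) ^ p := by simp
      rw [h1]
      exact hexp _ (hmkA s)
    have h1 := hinj _ hsp hN'
    have h2 := congrArg Subtype.val h1
    simpa using h2
  have hle := h S hcomm hexpS
  have hT : (S0 : Subgroup ↥H).map f = ⊤ := by
    have hAp : IsPGroup p ↥A := by
      intro a
      refine ⟨1, ?_⟩
      rw [pow_one]
      exact Subtype.ext (hexp a a.2)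
    obtain ⟨n, hn⟩ := IsPGroup.iff_card.mp hAp
    have h1 : ((S0 : Subgroup ↥H).map f).index ∣ (S0 : Subgroup ↥H).index :=
      Subgroup.index_map_dvd _ hf
    have h2 : ((S0 : Subgroup ↥H).map f).index ∣ p ^ n := by
      rw [← hn]; exact Subgroup.index_dvd_card _
    obtain ⟨j, hj, hjeq⟩ := (Nat.dvd_prime_pow hp).mp h2
    have h3 : ¬ p ∣ (S0 : Subgroup ↥H).index := S0.not_dvd_index
    rcases Nat.eq_zero_or_pos j with h0 | hpos
    · rw [h0, pow_zero] at hjeq
      exact Subgroup.index_eq_one.mp hjeq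
    · exfalso
      apply h3
      refine dvd_trans ?_ h1
      rw [hjeq]
      exact dvd_pow_self p (by omega)
  have hcard : Nat.card ↥A ≤ Nat.card ↥S := by
    have e1 : Nat.card ↥S = Nat.card ↥(S0 : Subgroup ↥H) :=
      Nat.card_congr (Subgroup.equivMapOfInjective _ _ H.subtype_injective).symm.toEquiv
    rw [e1]
    refine Nat.card_le_card_of_surjective (fun s : ↥(S0 : Subgroup ↥H) => f (s : ↥H)) ?_
    intro a
    have ha : a ∈ (S0 : Subgroup ↥H).map f := by rw [hT]; exact Subgroup.mem_top _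
    obtain ⟨s, hs, hsa⟩ := Subgroup.mem_map.mp ha
    exact ⟨⟨s, hs⟩, hsa⟩
  exact hcard.trans hle

end Cfsg.Agent.Lib.helper12.PRankQuot
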