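import Mathlib
import Cfsg.Agent.Lib.helper12.SL2Tori
import Cfsg.Agent.Lib.helper12.SL2SylP
import Cfsg.Agent.Lib.helper12.PSL2TI

set_option autoImplicit false

namespace Cfsg.Agent.Lib.helper12

section aba

variable {F : Type*} [Field F]

/-- Key computation for the `ABA`-factorisation in characteristic two. -/
theorem aba_key (h2 : (2 : F) = 0) (τ : F) (a a' : Matrix.SpecialLinearGroup (Fin 2) F)
    (x y x' y' : F)
    (ha : (a : Matrix (Fin 2) (Fin 2) F) = x • (1 : Matrix (Fin 2) (Fin 2) F) + y • comp2 τ 1)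
    (ha' : (a' : Matrix (Fin 2) (Fin 2) F) =
      x' • (1 : Matrix (Fin 2) (Fin 2) F) + y' • comp2 τ 1)
    (c d : F) (hc0 : c ≠ 0) (hcτ : c ≠ τ) (h : a * uS c * a' = uS d) : a = 1 ∧ a' = 1 := by
  have e := congrArg (fun g : Matrix.SpecialLinearGroup (Fin 2) F =>
    (g : Matrix (Fin 2) (Fin 2) F)) h
  simp only [Matrix.SpecialLinearGroup.coe_mul, ha, ha', uS_val] at e
  have E1 : x * x' + (x * c - y) * y' = 1 := by
    have := congrFun (congrFun e 0) 0
    simp [comp2, Matrix.mul_apply, Fin.sum_univ_two] at this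
    linear_combination this
  have E2 : y * x' + (y * c + x + τ * y) * y' = 0 := by
    have := congrFun (congrFun e 1) 0
    simp [comp2, Matrix.mul_apply, Fin.sum_univ_two] at this
    linear_combination this
  have hN : x ^ 2 + τ * x * y + y ^ 2 = 1 := by
    have := SL2_det_eq a
    rw [ha] at this
    simp [comp2] at this
    linear_combination this
  have hN' : x' ^ 2 + τ * x' * y' + y' ^ 2 = 1 := by
    have := SL2_det_eq a'
    rw [ha'] at this
    simp [comp2] at this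
    linear_combination this
  have hy' : y' = -y := by linear_combination (-y) * E1 + x * E2 - y' * hN
  have hx' : x' = y * c + x + τ * y := by
    linear_combination (y * c + x + τ * y) * E1 - (x * c - y) * E2 - x' * hN
  have key : y ^ 2 * (c * (c + τ)) = 0 := by
    rw [hx', hy'] at hN'
    linear_combination hN' - hN - (x * y * c) * h2
  have hcτ' : c + τ ≠ 0 := by
    intro h0
    apply hcτ
    linear_combination h0 - τ * h2
  have hy : y = 0 := by
    rcases mul_eq_zero.mp key with h3 | h3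
    · exact pow_eq_zero_iff (two_ne_zero) |>.mp h3
    · exact absurd h3 (mul_ne_zero hc0 hcτ')
  have hx : x = 1 := by
    rw [hy] at hN
    have h3 : (x - 1) * (x - 1) = 0 := by linear_combination hN - (x - 1) * h2
    linear_combination mul_self_eq_zero.mp h3
  constructor
  · apply Subtype.ext
    rw [ha, hx, hy, Matrix.SpecialLinearGroup.coe_one]
    simp
  · apply Subtype.ext
    rw [ha', hx', hy', hx, hy, Matrix.SpecialLinearGroup.coe_one]
    simp

theorem uS_injective : Function.Injective (uS : F → Matrix.SpecialLinearGroup (Fin 2) F) := by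
  intro c d h
  have h' := congrArg (fun g : Matrix.SpecialLinearGroup (Fin 2) F =>
    (g : Matrix (Fin 2) (Fin 2) F) 0 1) h
  simpa [uS_val] using h'

theorem mem_zpowers_compSL_form (τ : F) (a : Matrix.SpecialLinearGroup (Fin 2) F)
    (ha : a ∈ Subgroup.zpowers (compSL τ)) :
    ∃ x y : F, (a : Matrix (Fin 2) (Fin 2) F) =
      x • (1 : Matrix (Fin 2) (Fin 2) F) + y • comp2 τ 1 := by
  have hcomm : a * compSL τ = compSL τ * a := zpowers_comm ha (Subgroup.mem_zpowers _)
  have hcomm' : (a : Matrix (Fin 2) (Fin 2) F) *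
      ((compSL τ : Matrix.SpecialLinearGroup (Fin 2) F) : Matrix (Fin 2) (Fin 2) F) =
      ((compSL τ : Matrix.SpecialLinearGroup (Fin 2) F) : Matrix (Fin 2) (Fin 2) F) *
        (a : Matrix (Fin 2) (Fin 2) F) := by
    rw [← Matrix.SpecialLinearGroup.coe_mul, hcomm, Matrix.SpecialLinearGroup.coe_mul]
  exact (comm_iff_exists_smul _ _ (compSL_not_scalar τ)).mp hcomm'

/-- The `ABA`-factorisation of `SL₂(q)`, `q` even. -/
theorem SL2_aba [Fintype F] (h2 : (2 : F) = 0) (τ : F)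
    (hord : orderOf (compSL τ : Matrix.SpecialLinearGroup (Fin 2) F) = Fintype.card F + 1)
    (hτ : τ ≠ 0) (g : Matrix.SpecialLinearGroup (Fin 2) F) :
    ∃ a ∈ Subgroup.zpowers (compSL τ : Matrix.SpecialLinearGroup (Fin 2) F), ∃ c : F,
      ∃ a' ∈ Subgroup.zpowers (compSL τ : Matrix.SpecialLinearGroup (Fin 2) F),
        g = a * uS c * a' := by
  classical
  have hq : 2 ≤ Fintype.card F := Fintype.one_lt_card
  have hA : Nat.card (Subgroup.zpowers (compSL τ : Matrix.SpecialLinearGroup (Fin 2) F)) =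
      Fintype.card F + 1 := by
    rw [Nat.card_zpowers, hord]
  have hkey : ∀ a a' : Matrix.SpecialLinearGroup (Fin 2) F,
      a ∈ Subgroup.zpowers (compSL τ : Matrix.SpecialLinearGroup (Fin 2) F) →
      a' ∈ Subgroup.zpowers (compSL τ : Matrix.SpecialLinearGroup (Fin 2) F) →
      ∀ c d : F, c ≠ 0 → c ≠ τ → a * uS c * a' = uS d → a = 1 ∧ a' = 1 := by
    intro a a' ha ha' c d hc0 hcτ h
    obtain ⟨x, y, hxy⟩ := mem_zpowers_compSL_form τ a ha
    obtain ⟨x', y', hxy'⟩ := mem_zpowers_compSL_form τ a' ha'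
    exact aba_key h2 τ a a' x y x' y' hxy hxy' c d hc0 hcτ h
  have hnm : ∀ c : F, uS c ∈ Subgroup.zpowers (compSL τ : Matrix.SpecialLinearGroup (Fin 2) F) →
      c = 0 := by
    intro c hc
    obtain ⟨x, y, hxy⟩ := mem_zpowers_compSL_form τ _ hc
    have h10 := congrFun (congrFun hxy 1) 0
    have h01 := congrFun (congrFun hxy 0) 1
    simp [uS_val, comp2] at h10 h01
    rw [← h10] at h01
    simpa using h01
  -- the three pieces
  let Φ : (Subgroup.zpowers (compSL τ : Matrix.SpecialLinearGroup (Fin 2) F)) ×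
      {c : F // c ≠ 0 ∧ c ≠ τ} ×
      (Subgroup.zpowers (compSL τ : Matrix.SpecialLinearGroup (Fin 2) F)) →
      Matrix.SpecialLinearGroup (Fin 2) F := fun p => (p.1 : _) * uS p.2.1.1 * (p.2.2 : _)
  let Ψ₁ : (Subgroup.zpowers (compSL τ : Matrix.SpecialLinearGroup (Fin 2) F)) →
      Matrix.SpecialLinearGroup (Fin 2) F := fun a => (a : _)
  let Ψ₂ : (Subgroup.zpowers (compSL τ : Matrix.SpecialLinearGroup (Fin 2) F)) →
      Matrix.SpecialLinearGroup (Fin 2) F := fun a => (a : _) * uS τ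
  have hΦ : Function.Injective Φ := by
    rintro ⟨a₁, ⟨c₁, hc₁⟩, a₁'⟩ ⟨a₂, ⟨c₂, hc₂⟩, a₂'⟩ h
    simp only [Φ] at h
    have h3 : ((a₂ : Matrix.SpecialLinearGroup (Fin 2) F)⁻¹ *
        (a₁ : Matrix.SpecialLinearGroup (Fin 2) F)) * uS c₁ *
        ((a₁' : Matrix.SpecialLinearGroup (Fin 2) F) * (a₂' : Matrix.SpecialLinearGroup (Fin 2) F)⁻¹) = uS c₂ := by
      calc ((a₂ : Matrix.SpecialLinearGroup (Fin 2) F)⁻¹ *
          (a₁ : Matrix.SpecialLinearGroup (Fin 2) F)) * uS c₁ *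
          ((a₁' : Matrix.SpecialLinearGroup (Fin 2) F) * (a₂' : Matrix.SpecialLinearGroup (Fin 2) F)⁻¹)
          = (a₂ : Matrix.SpecialLinearGroup (Fin 2) F)⁻¹ * ((a₁ : Matrix.SpecialLinearGroup (Fin 2) F) * uS c₁ * (a₁' : Matrix.SpecialLinearGroup (Fin 2) F)) *
              (a₂' : Matrix.SpecialLinearGroup (Fin 2) F)⁻¹ := by simp only [mul_assoc]
        _ = uS c₂ := by rw [h]; simp only [mul_assoc]; simp
    obtain ⟨e1, e2⟩ := hkey _ _ (mul_mem (inv_mem a₂.2) a₁.2) (mul_mem a₁'.2 (inv_mem a₂'.2))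
      c₁ c₂ hc₁.1 hc₁.2 h3
    have e1' : a₁ = a₂ := Subtype.ext (inv_mul_eq_one.mp e1).symm
    have e2' : a₁' = a₂' := Subtype.ext (mul_inv_eq_one.mp e2)
    rw [e1, e2, one_mul, mul_one] at h3
    have e3 : c₁ = c₂ := uS_injective h3
    subst e1' e2' e3
    rfl
  have hΨ₁ : Function.Injective Ψ₁ := Subtype.val_injective
  have hΨ₂ : Function.Injective Ψ₂ := by
    intro a b h
    exact Subtype.ext (mul_right_cancel h)
  have h12 : ∀ a b, Ψ₁ a ≠ Ψ₂ b := by
    intro a b h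
    simp only [Ψ₁, Ψ₂] at h
    have h3 : uS τ = (b : Matrix.SpecialLinearGroup (Fin 2) F)⁻¹ *
        (a : Matrix.SpecialLinearGroup (Fin 2) F) := by
      rw [h, inv_mul_cancel_left]
    exact hτ (hnm τ (h3 ▸ mul_mem (inv_mem b.2) a.2))
  have hΦ12 : ∀ p s, Φ p ≠ Sum.elim Ψ₁ Ψ₂ s := by
    rintro ⟨a, ⟨c, hc⟩, a'⟩ (b | b) h
    · simp only [Φ, Ψ₁, Sum.elim_inl] at h
      have h3 : ((b : Matrix.SpecialLinearGroup (Fin 2) F)⁻¹ *
          (a : Matrix.SpecialLinearGroup (Fin 2) F)) * uS c *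
          (a' : Matrix.SpecialLinearGroup (Fin 2) F) = uS (0 : F) := by
        rw [uS_zero, mul_assoc, mul_assoc, ← mul_assoc (a : Matrix.SpecialLinearGroup (Fin 2) F), h,
          inv_mul_cancel]
      obtain ⟨e1, e2⟩ := hkey _ _ (mul_mem (inv_mem b.2) a.2) a'.2 c 0 hc.1 hc.2 h3
      rw [e1, e2, one_mul, mul_one] at h3
      exact hc.1 (uS_injective h3)
    · simp only [Φ, Ψ₂, Sum.elim_inr] at h
      have h3 : ((b : Matrix.SpecialLinearGroup (Fin 2) F)⁻¹ *
          (a : Matrix.SpecialLinearGroup (Fin 2) F)) * uS c *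
          (a' : Matrix.SpecialLinearGroup (Fin 2) F) = uS τ := by
        rw [mul_assoc, mul_assoc, ← mul_assoc (a : Matrix.SpecialLinearGroup (Fin 2) F), h,
          inv_mul_cancel_left]
      obtain ⟨e1, e2⟩ := hkey _ _ (mul_mem (inv_mem b.2) a.2) a'.2 c τ hc.1 hc.2 h3
      rw [e1, e2, one_mul, mul_one] at h3
      exact hc.2 (uS_injective h3)
  have hinj : Function.Injective (Sum.elim Φ (Sum.elim Ψ₁ Ψ₂)) :=
    hΦ.sumElim (hΨ₁.sumElim hΨ₂ h12) hΦ12
  have hcardc : Nat.card {c : F // c ≠ 0 ∧ c ≠ τ} = Fintype.card F - 2 := by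
    rw [Nat.card_eq_fintype_card, Fintype.card_subtype]
    have hfil : (Finset.univ.filter (fun c : F => c ≠ 0 ∧ c ≠ τ)) =
        Finset.univ \ {0, τ} := by
      ext c
      simp
    rw [hfil, Finset.card_sdiff_of_subset (Finset.subset_univ _), Finset.card_univ,
      Finset.card_pair (Ne.symm hτ)]
  have hcard : Nat.card (Matrix.SpecialLinearGroup (Fin 2) F) ≤
      Nat.card ((Subgroup.zpowers (compSL τ : Matrix.SpecialLinearGroup (Fin 2) F)) ×
        {c : F // c ≠ 0 ∧ c ≠ τ} ×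
        (Subgroup.zpowers (compSL τ : Matrix.SpecialLinearGroup (Fin 2) F)) ⊕
        ((Subgroup.zpowers (compSL τ : Matrix.SpecialLinearGroup (Fin 2) F)) ⊕
        (Subgroup.zpowers (compSL τ : Matrix.SpecialLinearGroup (Fin 2) F)))) := by
    rw [Nat.card_sum, Nat.card_sum, Nat.card_prod, Nat.card_prod, hA, hcardc, card_SL2]
    obtain ⟨k, hk⟩ : ∃ k, Fintype.card F = k + 2 := ⟨Fintype.card F - 2, by omega⟩
    rw [hk]
    have e1 : k + 2 - 2 = k := by omega
    have e2 : (k + 2) ^ 2 - 1 = (k + 1) * (k + 3) := by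
      have : (k + 2) ^ 2 = (k + 1) * (k + 3) + 1 := by ring
      omega
    rw [e1, e2]
    apply le_of_eq
    ring
  have hbij := hinj.bijective_of_nat_card_le hcard
  obtain ⟨s, hs⟩ := hbij.2 g
  rcases s with ⟨a, ⟨c, hc⟩, a'⟩ | a | a
  · exact ⟨a, a.2, c, a', a'.2, hs.symm⟩
  · refine ⟨a, a.2, 0, 1, one_mem _, ?_⟩
    rw [uS_zero, mul_one, mul_one]
    exact hs.symm
  · refine ⟨a, a.2, τ, 1, one_mem _, ?_⟩
    rw [mul_one]
    exact hs.symm

end aba

end Cfsg.Agent.Lib.helper12
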