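import Cfsg.Agent.Lib.helper12.SL2Odd

set_option autoImplicit false

namespace Cfsg.Agent.Lib.helper12

open Matrix Cfsg Cfsg.Agent.Lib.helper24
open scoped ComplexConjugate MatrixGroups

section even

variable {F : Type*} [Field F] [Fintype F] [DecidableEq F]

omit [DecidableEq F] in
theorem mulChar_eq_one_of_inv_char_two (hF : ringChar F = 2) (α : MulChar F ℂ) (h : α = α⁻¹) :
    α = 1 := by
  have hα : α ^ 2 = 1 := by
    rw [sq]
    nth_rewrite 1 [h]
    exact inv_mul_cancel α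
  ext a
  rw [MulChar.one_apply_coe]
  obtain ⟨b, hb⟩ := FiniteField.isSquare_of_char_two hF (a : F)
  have hb0 : b ≠ 0 := by
    rintro rfl
    rw [mul_zero] at hb
    exact a.ne_zero hb
  rw [hb, map_mul, ← sq, ← MulChar.pow_apply' α two_ne_zero, hα, MulChar.one_apply (Ne.isUnit hb0)]

theorem SL2_irr_cases_even (hF : ringChar F = 2) (χ : IrrCharacter SL(2, F)) :
    IsCuspSL χ.1 ∨ χ.1 = trivSL F ∨ χ.1 = stSL F ∨ (∃ α : MulChar F ℂ, α ≠ 1 ∧ χ.1 = RSL α) := by
  classical
  by_cases hc : IsCuspSL χ.1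
  · exact Or.inl hc
  · right
    unfold IsCuspSL at hc
    push Not at hc
    obtain ⟨α, hne⟩ := hc
    by_cases h1 : α = 1
    · subst h1
      rw [RSL_one_eq, classInner_add_left] at hne
      by_cases h1 : classInner (trivSL F) χ.1 = 0
      · rw [h1, zero_add] at hne
        right; left
        exact (congrArg Subtype.val (irr_eq_of_inner_ne_zero (χ := ⟨_, stSL_isIrr⟩) (ψ := χ) hne)).symm
      · left
        exact (congrArg Subtype.val (irr_eq_of_inner_ne_zero (χ := ⟨_, trivSL_isIrr⟩) (ψ := χ) h1)).symm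
    · right; right
      have hinv : α ≠ α⁻¹ := fun h => h1 (mulChar_eq_one_of_inv_char_two hF α h)
      refine ⟨α, h1, ?_⟩
      exact (congrArg Subtype.val (irr_eq_of_inner_ne_zero (χ := ⟨_, RSL_isIrr α hinv⟩) (ψ := χ) hne)).symm

/-- The weight that is `1` on non-cuspidal and `0` on cuspidal irreducible characters. -/
noncomputable def wSLe [Fintype (MulChar F ℂ)] (χ : SL(2, F) → ℂ) : ℂ :=
  (1 / 2) * (∑ α : MulChar F ℂ, classInner (RSL α) χ + classInner (RSL 1) χ)

theorem wSLe_eq [Fintype (MulChar F ℂ)] (hF : ringChar F = 2)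
    (χ : IrrCharacter SL(2, F)) [Decidable (IsCuspSL χ.1)] :
    wSLe χ.1 = if IsCuspSL χ.1 then 0 else 1 := by
  classical
  rcases SL2_irr_cases_even hF χ with hc | h | h | ⟨γ, hγ, h⟩
  · rw [if_pos hc]
    unfold wSLe
    simp only [show ∀ α, classInner (RSL α) χ.1 = 0 from hc]
    simp
  · have hnc : ¬ IsCuspSL χ.1 := by
      intro hc
      have := hc 1
      rw [h, RSL_triv_inner] at this
      simp at this
    rw [if_neg hnc]
    unfold wSLe
    rw [h]
    simp only [RSL_triv_inner, Finset.sum_ite_eq', Finset.mem_univ, if_true]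
    norm_num
  · have hnc : ¬ IsCuspSL χ.1 := by
      intro hc
      have := hc 1
      rw [h, RSL_stSL_inner] at this
      simp at this
    rw [if_neg hnc]
    unfold wSLe
    rw [h]
    simp only [RSL_stSL_inner, Finset.sum_ite_eq', Finset.mem_univ, if_true]
    norm_num
  · have hinv : γ ≠ γ⁻¹ := fun h => hγ (mulChar_eq_one_of_inv_char_two hF γ h)
    have hnc : ¬ IsCuspSL χ.1 := by
      intro hc
      have := hc γ
      rw [h, RSL_inner, if_pos rfl, if_neg hinv] at this
      norm_num at this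
    have h1 : (1 : MulChar F ℂ) ≠ γ := Ne.symm hγ
    have h2 : (1 : MulChar F ℂ) ≠ γ⁻¹ := by
      intro h'
      apply hγ
      rw [← inv_inv γ, ← h', inv_one]
    rw [if_neg hnc]
    unfold wSLe
    rw [h]
    simp only [RSL_inner, Finset.sum_add_distrib, Finset.sum_ite_eq', Finset.mem_univ, if_true,
      if_neg h1, if_neg h2]
    norm_num

theorem sum_irr_mul_inner_RSL_even [Fintype (IrrCharacter SL(2, F))] (hF : ringChar F = 2)
    (g : (SL(2, F) → ℂ) → ℂ) (α : MulChar F ℂ) :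
    ∑ χ : IrrCharacter SL(2, F), g χ.1 * classInner (RSL α) χ.1 =
      if α = 1 then g (trivSL F) + g (stSL F) else g (RSL α) := by
  split_ifs with h1
  · subst h1
    rw [RSL_one_eq]
    simp only [classInner_add_left, mul_add, Finset.sum_add_distrib]
    have e1 := sum_irr_mul_inner (fun χ : IrrCharacter SL(2, F) => g χ.1) ⟨trivSL F, trivSL_isIrr⟩
    have e2 := sum_irr_mul_inner (fun χ : IrrCharacter SL(2, F) => g χ.1) ⟨stSL F, stSL_isIrr⟩
    simp only at e1 e2
    rw [e1, e2]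
  · have hinv : α ≠ α⁻¹ := fun h => h1 (mulChar_eq_one_of_inv_char_two hF α h)
    have e1 := sum_irr_mul_inner (fun χ : IrrCharacter SL(2, F) => g χ.1) ⟨RSL α, RSL_isIrr α hinv⟩
    simp only at e1
    rw [e1]

/-- The master counting identity for the irreducible characters of `SL₂`, characteristic 2. -/
theorem SL2_sum_irr_even [Fintype (IrrCharacter SL(2, F))] [Fintype (MulChar F ℂ)]
    [DecidablePred (fun χ : IrrCharacter SL(2, F) => IsCuspSL χ.1)] (hF : ringChar F = 2)
    (g : (SL(2, F) → ℂ) → ℂ) :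
    ∑ χ : IrrCharacter SL(2, F), g χ.1 =
      g (trivSL F) + g (stSL F) +
      (1 / 2) * ∑ α : MulChar F ℂ, (if α = 1 then 0 else g (RSL α)) +
      ∑ χ ∈ Finset.univ.filter (fun χ : IrrCharacter SL(2, F) => IsCuspSL χ.1), g χ.1 := by
  classical
  have hsplit : ∀ χ : IrrCharacter SL(2, F),
      g χ.1 = g χ.1 * wSLe χ.1 + (if IsCuspSL χ.1 then g χ.1 else 0) := by
    intro χ
    rw [wSLe_eq hF]
    split_ifs <;> ring
  rw [Finset.sum_congr rfl (fun χ _ => hsplit χ), Finset.sum_add_distrib, ← Finset.sum_filter]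
  congr 1
  have e1 : ∑ χ : IrrCharacter SL(2, F), g χ.1 * (∑ α : MulChar F ℂ, classInner (RSL α) χ.1) =
      ∑ α : MulChar F ℂ, ∑ χ : IrrCharacter SL(2, F), g χ.1 * classInner (RSL α) χ.1 := by
    simp only [Finset.mul_sum]
    rw [Finset.sum_comm]
  have e3 : ∑ χ : IrrCharacter SL(2, F), g χ.1 * wSLe χ.1 =
      (1 / 2) * (∑ χ : IrrCharacter SL(2, F), g χ.1 * (∑ α : MulChar F ℂ, classInner (RSL α) χ.1) +
        ∑ χ : IrrCharacter SL(2, F), g χ.1 * classInner (RSL 1) χ.1) := by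
    rw [← Finset.sum_add_distrib, Finset.mul_sum]
    apply Finset.sum_congr rfl
    intro χ _
    unfold wSLe
    ring
  rw [e3, e1]
  simp only [sum_irr_mul_inner_RSL_even hF, if_true]
  have e4 : ∀ α : MulChar F ℂ,
      (if α = 1 then g (trivSL F) + g (stSL F) else g (RSL α)) =
      (if α = 1 then g (trivSL F) + g (stSL F) else 0) + (if α = 1 then 0 else g (RSL α)) := by
    intro α
    split_ifs <;> ring
  simp only [e4, Finset.sum_add_distrib, Finset.sum_ite_eq', Finset.mem_univ, if_true]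
  ring

theorem sum_not_one [Fintype (MulChar F ℂ)] (c : ℂ) :
    ∑ α : MulChar F ℂ, (if α = 1 then 0 else c) = ((Fintype.card F : ℂ) - 2) * c := by
  have e : ∀ α : MulChar F ℂ, (if α = 1 then 0 else c) = c - (if α = 1 then c else 0) := by
    intro α
    split_ifs <;> ring
  simp only [e, Finset.sum_sub_distrib, Finset.sum_ite_eq', Finset.mem_univ, if_true,
    Finset.sum_const, Finset.card_univ, nsmul_eq_mul]
  rw [card_mulChar_cast]
  ring

omit [DecidableEq F] in
theorem card_irr_SL2_even [Fintype (IrrCharacter SL(2, F))] (hF : ringChar F = 2) :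
    (Fintype.card (IrrCharacter SL(2, F)) : ℂ) = (Fintype.card F : ℂ) + 1 := by
  have h1 := card_irr_eq_card_conjClasses (G := SL(2, F))
  rw [card_conjClasses_SL2_char_two hF, Nat.card_eq_fintype_card] at h1
  rw [h1]
  push_cast
  ring

/-- The degree and unipotent value of a cuspidal character, characteristic 2. -/
theorem SL2_cusp_data_even (hF : ringChar F = 2) (χ : IrrCharacter SL(2, F)) (hc : IsCuspSL χ.1) :
    χ.1 1 = (Fintype.card F : ℂ) - 1 ∧ ∀ y : F, y ≠ 0 → χ.1 (uSL y) = -1 := by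
  classical
  have := Fintype.ofFinite (IrrCharacter SL(2, F))
  have := Fintype.ofFinite (MulChar F ℂ)
  have hψ := AddChar.FiniteField.primitiveChar_to_Complex_isPrimitive F
  set ψ := AddChar.FiniteField.primitiveChar_to_Complex F with hψdef
  have hq1 := card_sub_one_ne_zero (F := F)
  set C := Finset.univ.filter (fun χ : IrrCharacter SL(2, F) => IsCuspSL χ.1) with hC
  have hcard : (C.card : ℂ) = (Fintype.card F : ℂ) / 2 := by
    have h := SL2_sum_irr_even hF (fun _ => (1 : ℂ))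
    simp only [Finset.sum_const, Finset.card_univ, nsmul_eq_mul, mul_one] at h
    rw [card_irr_SL2_even hF] at h
    have h' := sum_not_one (F := F) (1 : ℂ)
    rw [mul_one] at h'
    rw [h'] at h
    linear_combination -h
  have hdeg : ∑ χ ∈ C, χ.1 1 ^ 2 = (Fintype.card F : ℂ) * ((Fintype.card F : ℂ) - 1) ^ 2 / 2 := by
    have h := SL2_sum_irr_even hF (fun χ => χ 1 ^ 2)
    beta_reduce at h
    rw [sum_sq_degrees, card_SL2_cast] at h
    simp only [RSL_apply_one] at h
    rw [sum_not_one, stSL_apply_one, trivSL_apply] at h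
    linear_combination -h
  have hpt : ∀ χ ∈ C, χ.1 1 = (nU ψ χ.1 1 : ℂ) * ((Fintype.card F : ℂ) - 1) := by
    intro χ hχ
    have hc' : IsCuspSL χ.1 := (Finset.mem_filter.mp hχ).2
    obtain ⟨-, d, -⟩ := SL2_U_even hF hψ (isCharacter_of_isIrrCharacter χ.2)
    rw [SL2_cusp_n0 ψ hc'] at d
    rw [d]
    push_cast
    ring
  have hA : ∑ χ ∈ C, ((nU ψ χ.1 1 : ℂ)) ^ 2 = (Fintype.card F : ℂ) / 2 := by
    have e : ∑ χ ∈ C, χ.1 1 ^ 2 = ((Fintype.card F : ℂ) - 1) ^ 2 *
        ∑ χ ∈ C, ((nU ψ χ.1 1 : ℂ)) ^ 2 := by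
      rw [Finset.mul_sum]
      apply Finset.sum_congr rfl
      intro χ hχ
      rw [hpt χ hχ]
      ring
    rw [hdeg] at e
    have h2 : ((Fintype.card F : ℂ) - 1) ^ 2 * (∑ χ ∈ C, ((nU ψ χ.1 1 : ℂ)) ^ 2) =
        ((Fintype.card F : ℂ) - 1) ^ 2 * ((Fintype.card F : ℂ) / 2) := by
      linear_combination -e
    exact mul_left_cancel₀ (pow_ne_zero 2 hq1) h2
  have hN : ∑ χ ∈ C, ((nU ψ χ.1 1 : ℤ)) ^ 2 = C.card := by
    have h1 : ((∑ χ ∈ C, ((nU ψ χ.1 1 : ℤ)) ^ 2 : ℤ) : ℂ) = ((C.card : ℤ) : ℂ) := by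
      push_cast
      rw [hA, hcard]
    exact_mod_cast h1
  have hN1 : ∀ χ ∈ C, 1 ≤ ((nU ψ χ.1 1 : ℤ)) ^ 2 := by
    intro χ hχ
    have hpos : nU ψ χ.1 1 ≠ 0 := by
      intro h0
      have h1 := hpt χ hχ
      rw [h0] at h1
      exact irr_one_ne_zero χ (by simpa using h1)
    have : 1 ≤ (nU ψ χ.1 1 : ℤ) := by omega
    nlinarith
  have hall := int_all_one C (fun χ => ((nU ψ χ.1 1 : ℤ)) ^ 2) hN1 hN
  have hχC : χ ∈ C := Finset.mem_filter.mpr ⟨Finset.mem_univ _, hc⟩
  have h1 : nU ψ χ.1 1 = 1 := by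
    have h := hall χ hχC
    have h' : (nU ψ χ.1 1 : ℤ) = 1 := by nlinarith [Int.natCast_nonneg (nU ψ χ.1 1)]
    exact_mod_cast h'
  obtain ⟨-, d, hv⟩ := SL2_U_even hF hψ (isCharacter_of_isIrrCharacter χ.2)
  rw [SL2_cusp_n0 ψ hc, h1] at d
  constructor
  · rw [d]
    push_cast
    ring
  · intro y hy
    rw [hv y hy, SL2_cusp_n0 ψ hc, h1]
    push_cast
    ring

/-- Classification of the irreducible characters of `SL₂` with their degrees, characteristic 2. -/
theorem SL2_irr_classify_deg_even (hF : ringChar F = 2) (χ : IrrCharacter SL(2, F)) :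
    (χ.1 = trivSL F ∧ χ.1 1 = 1) ∨ (χ.1 = stSL F ∧ χ.1 1 = (Fintype.card F : ℂ)) ∨
    (∃ α : MulChar F ℂ, α ≠ 1 ∧ χ.1 = RSL α ∧ χ.1 1 = (Fintype.card F : ℂ) + 1) ∨
    (IsCuspSL χ.1 ∧ χ.1 1 = (Fintype.card F : ℂ) - 1 ∧ ∀ y : F, y ≠ 0 → χ.1 (uSL y) = -1) := by
  rcases SL2_irr_cases_even hF χ with hc | h | h | ⟨α, hα', h⟩
  · right; right; right
    exact ⟨hc, SL2_cusp_data_even hF χ hc⟩
  · left
    refine ⟨h, ?_⟩
    rw [h]
    rfl
  · right; left
    refine ⟨h, ?_⟩
    rw [h, stSL_apply_one]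
  · right; right; left
    refine ⟨α, hα', h, ?_⟩
    rw [h, RSL_apply_one]

/-- The distribution of the degrees of the irreducible characters of `SL₂`, characteristic 2. -/
theorem SL2_sum_deg_even [Fintype (IrrCharacter SL(2, F))] (hF : ringChar F = 2) (φ : ℂ → ℂ) :
    ∑ χ : IrrCharacter SL(2, F), φ (χ.1 1) =
      φ 1 + φ (Fintype.card F : ℂ) + (((Fintype.card F : ℂ) - 2) / 2) * φ ((Fintype.card F : ℂ) + 1) +
      ((Fintype.card F : ℂ) / 2) * φ ((Fintype.card F : ℂ) - 1) := by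
  classical
  have := Fintype.ofFinite (MulChar F ℂ)
  set C := Finset.univ.filter (fun χ : IrrCharacter SL(2, F) => IsCuspSL χ.1) with hC
  have hcard : (C.card : ℂ) = (Fintype.card F : ℂ) / 2 := by
    have h := SL2_sum_irr_even hF (fun _ => (1 : ℂ))
    simp only [Finset.sum_const, Finset.card_univ, nsmul_eq_mul, mul_one] at h
    rw [card_irr_SL2_even hF] at h
    have h' := sum_not_one (F := F) (1 : ℂ)
    rw [mul_one] at h'
    rw [h'] at h
    linear_combination -h
  have h := SL2_sum_irr_even hF (fun χ => φ (χ 1))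
  beta_reduce at h
  simp only [RSL_apply_one] at h
  rw [sum_not_one, stSL_apply_one, trivSL_apply] at h
  have hpt : ∀ χ ∈ C, φ (χ.1 1) = φ ((Fintype.card F : ℂ) - 1) := by
    intro χ hχ
    rw [(SL2_cusp_data_even hF χ (Finset.mem_filter.mp hχ).2).1]
  rw [Finset.sum_congr rfl hpt, Finset.sum_const, nsmul_eq_mul, hcard] at h
  rw [h]
  ring

/-- The number of irreducible characters of `SL₂` of a given degree, characteristic 2. -/
theorem SL2_count_degree_even (hF : ringChar F = 2) (x : ℂ)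
    [Decidable ((1 : ℂ) = x)] [Decidable ((Fintype.card F : ℂ) = x)]
    [Decidable ((Fintype.card F : ℂ) + 1 = x)] [Decidable ((Fintype.card F : ℂ) - 1 = x)] :
    (Nat.card {χ : IrrCharacter SL(2, F) // χ.1 1 = x} : ℂ) =
      (if (1 : ℂ) = x then 1 else 0) + (if (Fintype.card F : ℂ) = x then 1 else 0) +
      (((Fintype.card F : ℂ) - 2) / 2) * (if (Fintype.card F : ℂ) + 1 = x then 1 else 0) +
      ((Fintype.card F : ℂ) / 2) * (if (Fintype.card F : ℂ) - 1 = x then 1 else 0) := by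
  classical
  have := Fintype.ofFinite (IrrCharacter SL(2, F))
  rw [Nat.card_eq_fintype_card, Fintype.card_subtype, Finset.card_filter]
  push_cast
  have h := SL2_sum_deg_even hF (fun y => if y = x then (1 : ℂ) else 0)
  beta_reduce at h
  rw [h]
  congr!

end even

end Cfsg.Agent.Lib.helper12
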