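import Cfsg.Agent.Lib.helper12.SL2Odd2
import Cfsg.Agent.Lib.helper12.SL2Tori
import Cfsg.Agent.Lib.helper24.CharPerm
import Cfsg.Agent.Lib.helper23.LinChar

set_option autoImplicit false

namespace Cfsg.Agent.Lib.helper12

open Matrix Cfsg Cfsg.Agent.Lib.helper24
open scoped ComplexConjugate MatrixGroups

section oddE

variable {F : Type*} [Field F] [Fintype F] [DecidableEq F]

omit [DecidableEq F] in
theorem quad_neg_one {α₀ : MulChar F ℂ} (hα : α₀ ^ 2 = 1) (hα1 : α₀ ≠ 1) :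
    α₀ (-1) = (-1 : ℂ) ^ ((Fintype.card F - 1) / 2) := by
  obtain ⟨ν, hν⟩ := quad_exists_neg_one hα hα1
  have hodd := quad_card_odd hα hν
  have h4 := FiniteField.isSquare_neg_one_iff (F := F)
  have hne : (-1 : F) ≠ 0 := neg_ne_zero.mpr one_ne_zero
  by_cases hs : IsSquare (-1 : F)
  · have hmod : Fintype.card F % 4 = 1 := by
      have := h4.mp hs
      omega
    obtain ⟨b, hb⟩ := hs
    have hb0 : b ≠ 0 := by
      rintro rfl
      rw [mul_zero] at hb
      exact hne hb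
    have h1 : α₀ (-1) = 1 := by
      rw [hb, map_mul, ← sq, ← MulChar.pow_apply' α₀ two_ne_zero, hα, MulChar.one_apply (Ne.isUnit hb0)]
    rw [h1]
    have hev : Even ((Fintype.card F - 1) / 2) := by
      rw [Nat.even_iff]
      omega
    rw [hev.neg_one_pow]
  · have hmod : Fintype.card F % 4 = 3 := by
      by_contra h
      exact hs (h4.mpr h)
    have h1 : α₀ (-1) = -1 := by
      rcases quad_apply hα hne with h | h
      · exact absurd (quad_isSquare hα hν h) hs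
      · exact h
    rw [h1]
    have hod : Odd ((Fintype.card F - 1) / 2) := by
      rw [Nat.odd_iff]
      omega
    rw [hod.neg_one_pow]

/-- The basic data of the odd characteristic theory. -/
theorem SL2_odd_setup (hodd : Fintype.card F % 2 = 1) :
    ∃ (α₀ : MulChar F ℂ) (ν : F) (ψ : AddChar F ℂ),
      α₀ ^ 2 = 1 ∧ α₀ ≠ 1 ∧ α₀ ν = -1 ∧ ψ.IsPrimitive := by
  have hchar : ringChar F ≠ 2 := by
    intro h
    have := FiniteField.even_card_iff_char_two.mp h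
    omega
  have hα : ((quadraticChar F).ringHomComp (Int.castRingHom ℂ)) ^ 2 = 1 :=
    ((quadraticChar_isQuadratic F).comp _).sq_eq_one
  have hα1 : (quadraticChar F).ringHomComp (Int.castRingHom ℂ) ≠ 1 :=
    (MulChar.ringHomComp_ne_one_iff (RingHom.injective_int (Int.castRingHom ℂ))).mpr (quadraticChar_ne_one hchar)
  obtain ⟨ν, hν⟩ := quad_exists_neg_one hα hα1
  exact ⟨_, ν, AddChar.FiniteField.primitiveChar_to_Complex F, hα, hα1, hν,
    AddChar.FiniteField.primitiveChar_to_Complex_isPrimitive F⟩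

theorem sum_unip_eq (χ : SL(2, F) → ℂ) :
    (∑ g : SL(2, F), if (g : Matrix (Fin 2) (Fin 2) F) 1 0 = 0 ∧
      (g : Matrix (Fin 2) (Fin 2) F) 0 0 = 1 ∧ (g : Matrix (Fin 2) (Fin 2) F) 1 1 = 1 then χ g else 0) =
      ∑ z : F, χ (uSL z) := by
  rw [← Finset.sum_filter]
  symm
  apply Finset.sum_bij (fun z _ => uSL z)
  · intro z _
    simp [uSL_val]
  · intro a _ b _ h
    have h1 := congrArg (fun g : SL(2, F) => (g : Matrix (Fin 2) (Fin 2) F) 0 1) h
    simpa [uSL_val] using h1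
  · intro g hg
    rw [Finset.mem_filter] at hg
    refine ⟨(g : Matrix (Fin 2) (Fin 2) F) 0 1, Finset.mem_univ _, ?_⟩
    apply SL2_ext <;> simp [uSL_val, hg.2.1, hg.2.2.1, hg.2.2.2]
  · intro z _
    rfl

omit [Fintype F] [DecidableEq F] in
theorem elliptic_trace_sq_ne_four (h2 : (2 : F) ≠ 0) (g : SL(2, F))
    (hell : ∀ (c : F) (v : Fin 2 → F), v ≠ 0 → (g : Matrix (Fin 2) (Fin 2) F).mulVec v ≠ c • v) :
    (g : Matrix (Fin 2) (Fin 2) F).trace ^ 2 ≠ 4 := by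
  intro h4
  have h1 := no_root_of_no_eigenvector (g : Matrix (Fin 2) (Fin 2) F) g.det_coe hell
  apply not_isSquare_disc_of_no_root h2 _ h1
  rw [h4, sub_self]
  exact ⟨0, by simp⟩

omit [Fintype F] [DecidableEq F] in
theorem not_scalar_of_elliptic (g : SL(2, F))
    (hell : ∀ (c : F) (v : Fin 2 → F), v ≠ 0 → (g : Matrix (Fin 2) (Fin 2) F).mulVec v ≠ c • v) :
    ¬ ∃ c : F, (g : Matrix (Fin 2) (Fin 2) F) = c • (1 : Matrix (Fin 2) (Fin 2) F) := by
  rintro ⟨c, hc⟩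
  apply hell c ![1, 0]
  · intro h
    have := congrFun h 0
    simp at this
  · rw [hc]
    simp

omit [Fintype F] [DecidableEq F] in
theorem scalar_of_conj_scalar (g h : SL(2, F)) (c : F)
    (hc : ((h * g * h⁻¹ : SL(2, F)) : Matrix (Fin 2) (Fin 2) F) = c • (1 : Matrix (Fin 2) (Fin 2) F)) :
    (g : Matrix (Fin 2) (Fin 2) F) = c • (1 : Matrix (Fin 2) (Fin 2) F) := by
  have e : g = h⁻¹ * (h * g * h⁻¹) * h := by group
  rw [e, Matrix.SpecialLinearGroup.coe_mul, Matrix.SpecialLinearGroup.coe_mul, hc]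
  rw [Matrix.mul_smul, Matrix.mul_one, Matrix.smul_mul, ← Matrix.SpecialLinearGroup.coe_mul,
    inv_mul_cancel, Matrix.SpecialLinearGroup.coe_one]

omit [DecidableEq F] in
theorem card_centralizer_elliptic (hodd : Fintype.card F % 2 = 1) (g : SL(2, F))
    (hell : ∀ (c : F) (v : Fin 2 → F), v ≠ 0 → (g : Matrix (Fin 2) (Fin 2) F).mulVec v ≠ c • v) :
    Nat.card (Subgroup.centralizer ({g} : Set SL(2, F))) = Fintype.card F + 1 := by
  obtain ⟨T', -, hcard, -, hcent, hconj, -⟩ := SL2_nonsplit_torus (F := F) hodd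
  obtain ⟨h, hh⟩ := hconj g hell
  have hc : IsConj g (h * g * h⁻¹) := isConj_iff.mpr ⟨h, rfl⟩
  have hns := not_scalar_of_elliptic g hell
  rw [card_centralizer_eq_of_isConj hc, hcent _ hh, hcard]
  · intro h1
    apply hns
    exact ⟨1, scalar_of_conj_scalar g h 1 (by rw [h1, one_smul])⟩
  · intro h1
    apply hns
    exact ⟨-1, scalar_of_conj_scalar g h (-1) (by rw [h1]; simp)⟩

omit [Fintype F] [DecidableEq F] in
theorem SL2_diag_eq (g : SL(2, F)) (h01 : (g : Matrix (Fin 2) (Fin 2) F) 0 1 = 0)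
    (h10 : (g : Matrix (Fin 2) (Fin 2) F) 1 0 = 0) :
    ∃ a : Fˣ, (a : F) = (g : Matrix (Fin 2) (Fin 2) F) 0 0 ∧
      ((a⁻¹ : Fˣ) : F) = (g : Matrix (Fin 2) (Fin 2) F) 1 1 ∧ g = (borelSLMk a 0 : SL(2, F)) := by
  have hdet := SL2_det_eq g
  rw [h01, zero_mul, sub_zero] at hdet
  have h00 : (g : Matrix (Fin 2) (Fin 2) F) 0 0 ≠ 0 := left_ne_zero_of_mul_eq_one hdet
  have h11 : ((Units.mk0 _ h00)⁻¹ : Fˣ).val = (g : Matrix (Fin 2) (Fin 2) F) 1 1 := by
    rw [Units.val_inv_eq_inv_val, Units.val_mk0]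
    exact (eq_inv_of_mul_eq_one_right hdet).symm
  refine ⟨Units.mk0 _ h00, rfl, h11, ?_⟩
  apply SL2_ext
  · simp [borelSLMk_val]
  · simp [borelSLMk_val, h01]
  · simp [borelSLMk_val, h10]
  · rw [borelSLMk_val]
    simp only [Matrix.of_apply, Matrix.cons_val_one, Matrix.cons_val_zero]
    exact h11.symm

omit [Fintype F] [DecidableEq F] in
theorem split_trace_sq_ne_four (g : SL(2, F)) (h01 : (g : Matrix (Fin 2) (Fin 2) F) 0 1 = 0)
    (hne : (g : Matrix (Fin 2) (Fin 2) F) 0 0 ^ 2 ≠ 1) :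
    (g : Matrix (Fin 2) (Fin 2) F).trace ^ 2 ≠ 4 := by
  intro h4
  have hdet := SL2_det_eq g
  rw [h01, zero_mul, sub_zero] at hdet
  rw [Matrix.trace_fin_two] at h4
  have h1 : ((g : Matrix (Fin 2) (Fin 2) F) 0 0 - (g : Matrix (Fin 2) (Fin 2) F) 1 1) ^ 2 = 0 := by
    linear_combination h4 - 4 * hdet
  have h2 : (g : Matrix (Fin 2) (Fin 2) F) 0 0 = (g : Matrix (Fin 2) (Fin 2) F) 1 1 :=
    sub_eq_zero.mp (pow_eq_zero_iff two_ne_zero |>.mp h1)
  apply hne
  rw [sq]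
  nth_rewrite 2 [h2]
  exact hdet

end oddE

end Cfsg.Agent.Lib.helper12

namespace Cfsg.Agent.Lib.helper12

open Matrix Cfsg Cfsg.Agent.Lib.helper24
open scoped ComplexConjugate MatrixGroups

section oddF

variable {F : Type*} [Field F] [Fintype F] [DecidableEq F]

/-- The number of irreducible characters of `SL₂` of a given degree, odd characteristic. -/
theorem SL2_count_degree_odd (hodd : Fintype.card F % 2 = 1) (x : ℂ)
    [Decidable ((1 : ℂ) = x)] [Decidable ((Fintype.card F : ℂ) = x)]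
    [Decidable ((Fintype.card F : ℂ) + 1 = x)] [Decidable (((Fintype.card F : ℂ) + 1) / 2 = x)]
    [Decidable ((Fintype.card F : ℂ) - 1 = x)] [Decidable (((Fintype.card F : ℂ) - 1) / 2 = x)] :
    (Nat.card {χ : IrrCharacter SL(2, F) // χ.1 1 = x} : ℂ) =
      (if (1 : ℂ) = x then 1 else 0) + (if (Fintype.card F : ℂ) = x then 1 else 0) +
      (((Fintype.card F : ℂ) - 3) / 2) * (if (Fintype.card F : ℂ) + 1 = x then 1 else 0) +
      2 * (if ((Fintype.card F : ℂ) + 1) / 2 = x then 1 else 0) +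
      (((Fintype.card F : ℂ) - 1) / 2) * (if (Fintype.card F : ℂ) - 1 = x then 1 else 0) +
      2 * (if ((Fintype.card F : ℂ) - 1) / 2 = x then 1 else 0) := by
  classical
  have := Fintype.ofFinite (IrrCharacter SL(2, F))
  obtain ⟨α₀, ν, ψ, hα, hα1, hν, hψ⟩ := SL2_odd_setup hodd
  rw [Nat.card_eq_fintype_card, Fintype.card_subtype, Finset.card_filter]
  push_cast
  have h := SL2_sum_deg_odd hα hα1 hν hψ (fun y => if y = x then (1 : ℂ) else 0)
  beta_reduce at h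
  rw [h]
  congr!

end oddF

end Cfsg.Agent.Lib.helper12

namespace Cfsg.Agent.Lib.helper12

open Matrix Cfsg Cfsg.Agent.Lib.helper24
open scoped ComplexConjugate MatrixGroups

section oddG

variable {F : Type*} [Field F] [Fintype F] [DecidableEq F]

/-- Classification of the irreducible characters of `SL₂` with their degrees, odd characteristic. -/
theorem SL2_irr_classify_deg_odd {α₀ : MulChar F ℂ} (hα : α₀ ^ 2 = 1) (hα1 : α₀ ≠ 1) {ν : F}
    (hν : α₀ ν = -1) {ψ : AddChar F ℂ} (hψ : ψ.IsPrimitive)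
    {ξ₁ ξ₂ : IrrCharacter SL(2, F)} (hne : ξ₁ ≠ ξ₂) (hξ : RSL α₀ = ξ₁.1 + ξ₂.1)
    (χ : IrrCharacter SL(2, F)) :
    (χ.1 = trivSL F ∧ χ.1 1 = 1) ∨ (χ.1 = stSL F ∧ χ.1 1 = (Fintype.card F : ℂ)) ∨
    (∃ α : MulChar F ℂ, α ≠ α⁻¹ ∧ χ.1 = RSL α ∧ χ.1 1 = (Fintype.card F : ℂ) + 1) ∨
    ((χ = ξ₁ ∨ χ = ξ₂) ∧ χ.1 1 = ((Fintype.card F : ℂ) + 1) / 2) ∨
    (IsCuspSL χ.1 ∧ nU ψ χ.1 0 = 0 ∧ nU ψ χ.1 1 = 1 ∧ nU ψ χ.1 ν = 1 ∧
      χ.1 1 = (Fintype.card F : ℂ) - 1) ∨
    (IsCuspSL χ.1 ∧ nU ψ χ.1 0 = 0 ∧ nU ψ χ.1 1 + nU ψ χ.1 ν = 1 ∧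
      χ.1 1 = ((Fintype.card F : ℂ) - 1) / 2) := by
  obtain ⟨dx1, dx2⟩ := SL2_xi_degree hα hα1 hν hψ hne hξ
  have hχ := isCharacter_of_isIrrCharacter χ.2
  rcases SL2_irr_classify_odd hα hα1 hν hψ hξ χ with h | h | ⟨α, hα', h⟩ | h | h |
    ⟨hc, h0, h1, hm⟩ | ⟨hc, h0, hA⟩
  · left
    refine ⟨h, ?_⟩
    rw [h]
    rfl
  · right; left
    refine ⟨h, ?_⟩
    rw [h, stSL_apply_one]
  · right; right; left
    refine ⟨α, hα', h, ?_⟩
    rw [h, RSL_apply_one]
  · right; right; right; left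
    refine ⟨Or.inl h, ?_⟩
    rw [h]
    linear_combination (1 / 2 : ℂ) * dx1
  · right; right; right; left
    refine ⟨Or.inr h, ?_⟩
    rw [h]
    linear_combination (1 / 2 : ℂ) * dx2
  · right; right; right; right; left
    exact ⟨hc, h0, h1, hm, (SL2_U_full hα hα1 hν hψ hχ h0 h1 hm).1⟩
  · right; right; right; right; right
    refine ⟨hc, h0, hA, ?_⟩
    obtain ⟨d, -⟩ := SL2_U_half hα hα1 hν hψ hχ hA
    rw [h0] at d
    push_cast at d
    linear_combination (1 / 2 : ℂ) * d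

omit [Field F] [DecidableEq F] in
theorem card_cast_half_add (hodd : Fintype.card F % 2 = 1) :
    (((Fintype.card F + 1) / 2 : ℕ) : ℂ) = ((Fintype.card F : ℂ) + 1) / 2 := by
  have hd : (2 : ℕ) ∣ Fintype.card F + 1 := by omega
  rw [Nat.cast_div hd (by norm_num)]
  push_cast
  ring

omit [DecidableEq F] in
theorem card_cast_half_sub (hodd : Fintype.card F % 2 = 1) :
    (((Fintype.card F - 1) / 2 : ℕ) : ℂ) = ((Fintype.card F : ℂ) - 1) / 2 := by
  have hd : (2 : ℕ) ∣ Fintype.card F - 1 := by omega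
  have hq2 : (1 : ℕ) ≤ Fintype.card F := Fintype.card_pos
  rw [Nat.cast_div hd (by norm_num), Nat.cast_sub hq2]
  push_cast
  ring

omit [Field F] [DecidableEq F] in
theorem card_cast_ne_nat (n : ℕ) (h : Fintype.card F ≠ n) : (Fintype.card F : ℂ) ≠ (n : ℂ) := by
  exact_mod_cast h

omit [Field F] [DecidableEq F] in
theorem card_cast_ne_neg (n : ℕ) (h : n ≠ 0) : (Fintype.card F : ℂ) ≠ -(n : ℂ) := by
  intro h'
  have h1 : ((Fintype.card F + n : ℕ) : ℂ) = 0 := by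
    push_cast
    linear_combination h'
  have : Fintype.card F + n = 0 := by exact_mod_cast h1
  omega

theorem sum_uSL_eq (χ : SL(2, F) → ℂ) (c : ℂ) (h : ∀ y : F, y ≠ 0 → χ (uSL y) = c) :
    ∑ z : F, χ (uSL z) = χ 1 + ((Fintype.card F : ℂ) - 1) * c := by
  rw [← Finset.add_sum_erase Finset.univ _ (Finset.mem_univ (0 : F)), uSL_zero]
  have h1 : ∀ z ∈ Finset.univ.erase (0 : F), χ (uSL z) = c := fun z hz => h z (Finset.ne_of_mem_erase hz)
  rw [Finset.sum_congr rfl h1, Finset.sum_const, Finset.card_erase_of_mem (Finset.mem_univ _),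
    Finset.card_univ, nsmul_eq_mul, Nat.cast_sub Fintype.card_pos, Nat.cast_one]

end oddG

end Cfsg.Agent.Lib.helper12
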