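import Cfsg.Agent.Lib.helper12.SL2Odd3
import Cfsg.Agent.Lib.helper12.SL2Even

set_option autoImplicit false

namespace Cfsg.Agent.Lib.helper12

open Matrix Cfsg Cfsg.Agent.Lib.helper24
open scoped ComplexConjugate MatrixGroups

section vals

variable {F : Type*} [Field F] [Fintype F] [DecidableEq F]

theorem SL2_diag_ne (g : SL(2, F)) (h01 : (g : Matrix (Fin 2) (Fin 2) F) 0 1 = 0)
    (hne : (g : Matrix (Fin 2) (Fin 2) F) 0 0 ^ 2 ≠ 1) :
    (g : Matrix (Fin 2) (Fin 2) F) 0 0 ≠ (g : Matrix (Fin 2) (Fin 2) F) 1 1 := by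
  intro h
  have hdet := SL2_det_eq g
  rw [h01, zero_mul, sub_zero, ← h] at hdet
  exact hne (by rw [sq]; exact hdet)

theorem stSL_apply_split (g : SL(2, F)) (h10 : (g : Matrix (Fin 2) (Fin 2) F) 1 0 = 0)
    (hne : (g : Matrix (Fin 2) (Fin 2) F) 0 0 ≠ (g : Matrix (Fin 2) (Fin 2) F) 1 1) :
    stSL F g = 1 := by
  have hdet := SL2_det_eq g
  rw [h10, mul_zero, sub_zero] at hdet
  have h00 : (g : Matrix (Fin 2) (Fin 2) F) 0 0 ≠ 0 := left_ne_zero_of_mul_eq_one hdet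
  have h11 : (g : Matrix (Fin 2) (Fin 2) F) 1 1 ≠ 0 := right_ne_zero_of_mul_eq_one hdet
  unfold stSL
  rw [Pi.sub_apply, RSL_apply_split 1 g h10 hne, trivSL_apply,
    MulChar.one_apply (Ne.isUnit h00), MulChar.one_apply (Ne.isUnit h11)]
  norm_num

theorem stSL_apply_unip (g : SL(2, F)) (h10 : (g : Matrix (Fin 2) (Fin 2) F) 1 0 = 0)
    (heq : (g : Matrix (Fin 2) (Fin 2) F) 0 0 = (g : Matrix (Fin 2) (Fin 2) F) 1 1)
    (h01 : (g : Matrix (Fin 2) (Fin 2) F) 0 1 ≠ 0) :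
    stSL F g = 0 := by
  have hdet := SL2_det_eq g
  rw [h10, mul_zero, sub_zero] at hdet
  have h00 : (g : Matrix (Fin 2) (Fin 2) F) 0 0 ≠ 0 := left_ne_zero_of_mul_eq_one hdet
  unfold stSL
  rw [Pi.sub_apply, RSL_apply_unip 1 g h10 heq h01, trivSL_apply,
    MulChar.one_apply (Ne.isUnit h00)]
  norm_num

theorem RSL_apply_elliptic (α : MulChar F ℂ) (g : SL(2, F))
    (hell : ∀ (c : F) (v : Fin 2 → F), v ≠ 0 → (g : Matrix (Fin 2) (Fin 2) F).mulVec v ≠ c • v) :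
    RSL α g = 0 :=
  indFun_borelSL_elliptic _ (borelSLChar_isClassFunction α) g hell

theorem stSL_apply_elliptic (g : SL(2, F))
    (hell : ∀ (c : F) (v : Fin 2 → F), v ≠ 0 → (g : Matrix (Fin 2) (Fin 2) F).mulVec v ≠ c • v) :
    stSL F g = -1 := by
  unfold stSL
  rw [Pi.sub_apply, RSL_apply_elliptic 1 g hell, trivSL_apply]
  norm_num

theorem card_field_two_le : 2 ≤ Fintype.card F := Fintype.one_lt_card

/-- Degree `q` forces the Steinberg character. -/
theorem SL2_deg_q (χ : IrrCharacter SL(2, F)) (hd : χ.1 1 = (Fintype.card F : ℂ)) :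
    χ.1 = stSL F := by
  have hq := card_field_two_le (F := F)
  have e1 : (Fintype.card F : ℂ) ≠ 1 := by
    exact_mod_cast (by omega : Fintype.card F ≠ 1)
  by_cases hF : ringChar F = 2
  · rcases SL2_irr_classify_deg_even hF χ with ⟨-, h⟩ | ⟨h, -⟩ | ⟨α, -, -, h⟩ | ⟨-, h, -⟩
    · rw [h] at hd
      exact absurd hd.symm e1
    · exact h
    · rw [h] at hd
      exact absurd (by linear_combination hd : (1 : ℂ) = 0) one_ne_zero
    · rw [h] at hd
      exact absurd (by linear_combination -hd : (1 : ℂ) = 0) one_ne_zero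
  · have hodd' : Fintype.card F % 2 = 1 := FiniteField.odd_card_of_char_ne_two hF
    obtain ⟨α₀, ν, ψ, hα, hα1, hν, hψ⟩ := SL2_odd_setup hodd'
    obtain ⟨ξ₁, ξ₂, hne, hξ⟩ := exists_two_irr_of_norm_two (RSL_isCharacter α₀) (RSL_norm_two hα)
    have em1 : (Fintype.card F : ℂ) ≠ -1 := by
      have := card_cast_ne_neg (F := F) 1 one_ne_zero
      simpa using this
    rcases SL2_irr_classify_deg_odd hα hα1 hν hψ hne hξ χ with ⟨-, h⟩ | ⟨h, -⟩ | ⟨α, -, -, h⟩ |
      ⟨-, h⟩ | ⟨-, -, -, -, h⟩ | ⟨-, -, -, h⟩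
    · rw [h] at hd
      exact absurd hd.symm e1
    · exact h
    · rw [h] at hd
      exact absurd (by linear_combination hd : (1 : ℂ) = 0) one_ne_zero
    · rw [h] at hd
      exact absurd (by linear_combination -2 * hd : (Fintype.card F : ℂ) = 1) e1
    · rw [h] at hd
      exact absurd (by linear_combination -hd : (1 : ℂ) = 0) one_ne_zero
    · rw [h] at hd
      exact absurd (by linear_combination -2 * hd : (Fintype.card F : ℂ) = -1) em1

/-- Degree `q + 1` forces a principal series character. -/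
theorem SL2_deg_q_add_one (χ : IrrCharacter SL(2, F)) (hd : χ.1 1 = (Fintype.card F : ℂ) + 1) :
    ∃ α : MulChar F ℂ, χ.1 = RSL α := by
  have hq := card_field_two_le (F := F)
  have e0 : (Fintype.card F : ℂ) ≠ 0 := by
    exact_mod_cast (by omega : Fintype.card F ≠ 0)
  by_cases hF : ringChar F = 2
  · rcases SL2_irr_classify_deg_even hF χ with ⟨-, h⟩ | ⟨-, h⟩ | ⟨α, -, h, -⟩ | ⟨-, h, -⟩
    · rw [h] at hd
      exact absurd (by linear_combination -hd : (Fintype.card F : ℂ) = 0) e0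
    · rw [h] at hd
      exact absurd (by linear_combination -hd : (1 : ℂ) = 0) one_ne_zero
    · exact ⟨α, h⟩
    · rw [h] at hd
      exact absurd (by linear_combination (-1 / 2 : ℂ) * hd : (1 : ℂ) = 0) one_ne_zero
  · have hodd' : Fintype.card F % 2 = 1 := FiniteField.odd_card_of_char_ne_two hF
    obtain ⟨α₀, ν, ψ, hα, hα1, hν, hψ⟩ := SL2_odd_setup hodd'
    obtain ⟨ξ₁, ξ₂, hne, hξ⟩ := exists_two_irr_of_norm_two (RSL_isCharacter α₀) (RSL_norm_two hα)
    have em1 : (Fintype.card F : ℂ) ≠ -1 := by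
      have := card_cast_ne_neg (F := F) 1 one_ne_zero
      simpa using this
    have em3 : (Fintype.card F : ℂ) ≠ -3 := by
      have := card_cast_ne_neg (F := F) 3 (by norm_num)
      simpa using this
    rcases SL2_irr_classify_deg_odd hα hα1 hν hψ hne hξ χ with ⟨-, h⟩ | ⟨-, h⟩ | ⟨α, -, h, -⟩ |
      ⟨-, h⟩ | ⟨-, -, -, -, h⟩ | ⟨-, -, -, h⟩
    · rw [h] at hd
      exact absurd (by linear_combination -hd : (Fintype.card F : ℂ) = 0) e0
    · rw [h] at hd
      exact absurd (by linear_combination -hd : (1 : ℂ) = 0) one_ne_zero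
    · exact ⟨α, h⟩
    · rw [h] at hd
      exact absurd (by linear_combination -2 * hd : (Fintype.card F : ℂ) = -1) em1
    · rw [h] at hd
      exact absurd (by linear_combination (-1 / 2 : ℂ) * hd : (1 : ℂ) = 0) one_ne_zero
    · rw [h] at hd
      exact absurd (by linear_combination -2 * hd : (Fintype.card F : ℂ) = -3) em3

/-- Degree `q - 1` (with `q ≥ 4`) forces a cuspidal character with value `-1` at unipotents. -/
theorem SL2_deg_q_sub_one (hq : 4 ≤ Fintype.card F) (χ : IrrCharacter SL(2, F))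
    (hd : χ.1 1 = (Fintype.card F : ℂ) - 1) :
    IsCuspSL χ.1 ∧ ∀ y : F, y ≠ 0 → χ.1 (uSL y) = -1 := by
  have e1 : (Fintype.card F : ℂ) ≠ 1 := by
    exact_mod_cast (by omega : Fintype.card F ≠ 1)
  have e2 : (Fintype.card F : ℂ) ≠ 2 := by
    exact_mod_cast (by omega : Fintype.card F ≠ 2)
  have e3 : (Fintype.card F : ℂ) ≠ 3 := by
    exact_mod_cast (by omega : Fintype.card F ≠ 3)
  by_cases hF : ringChar F = 2
  · rcases SL2_irr_classify_deg_even hF χ with ⟨-, h⟩ | ⟨-, h⟩ | ⟨α, -, -, h⟩ | ⟨hc, -, h⟩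
    · rw [h] at hd
      exact absurd (by linear_combination -hd : (Fintype.card F : ℂ) = 2) e2
    · rw [h] at hd
      exact absurd (by linear_combination hd : (1 : ℂ) = 0) one_ne_zero
    · rw [h] at hd
      exact absurd (by linear_combination (1 / 2 : ℂ) * hd : (1 : ℂ) = 0) one_ne_zero
    · exact ⟨hc, h⟩
  · have hodd' : Fintype.card F % 2 = 1 := FiniteField.odd_card_of_char_ne_two hF
    obtain ⟨α₀, ν, ψ, hα, hα1, hν, hψ⟩ := SL2_odd_setup hodd'
    obtain ⟨ξ₁, ξ₂, hne, hξ⟩ := exists_two_irr_of_norm_two (RSL_isCharacter α₀) (RSL_norm_two hα)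
    rcases SL2_irr_classify_deg_odd hα hα1 hν hψ hne hξ χ with ⟨-, h⟩ | ⟨-, h⟩ | ⟨α, -, -, h⟩ |
      ⟨-, h⟩ | ⟨hc, h0, h1, hm, -⟩ | ⟨-, -, -, h⟩
    · rw [h] at hd
      exact absurd (by linear_combination -hd : (Fintype.card F : ℂ) = 2) e2
    · rw [h] at hd
      exact absurd (by linear_combination hd : (1 : ℂ) = 0) one_ne_zero
    · rw [h] at hd
      exact absurd (by linear_combination (1 / 2 : ℂ) * hd : (1 : ℂ) = 0) one_ne_zero
    · rw [h] at hd
      exact absurd (by linear_combination -2 * hd : (Fintype.card F : ℂ) = 3) e3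
    · exact ⟨hc, (SL2_U_full hα hα1 hν hψ (isCharacter_of_isIrrCharacter χ.2) h0 h1 hm).2⟩
    · rw [h] at hd
      exact absurd (by linear_combination -2 * hd : (Fintype.card F : ℂ) = 1) e1

/-- Second orthogonality at an elliptic element: the cuspidal part. -/
theorem SL2_cusp_sum_elliptic [Fintype (IrrCharacter SL(2, F))]
    [DecidablePred (fun χ : IrrCharacter SL(2, F) => IsCuspSL χ.1)]
    {α₀ : MulChar F ℂ} (hα : α₀ ^ 2 = 1) (hα1 : α₀ ≠ 1) {ν : F} (hν : α₀ ν = -1)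
    {ξ₁ ξ₂ : IrrCharacter SL(2, F)} (hne : ξ₁ ≠ ξ₂) (hξ : RSL α₀ = ξ₁.1 + ξ₂.1)
    (g : SL(2, F))
    (hell : ∀ (c : F) (v : Fin 2 → F), v ≠ 0 → (g : Matrix (Fin 2) (Fin 2) F).mulVec v ≠ c • v) :
    ∑ χ ∈ Finset.univ.filter (fun χ : IrrCharacter SL(2, F) => IsCuspSL χ.1),
      χ.1 g * conj (χ.1 g) = (Fintype.card F : ℂ) - 1 := by
  classical
  have := Fintype.ofFinite (MulChar F ℂ)
  have hodd := quad_card_odd hα hν
  have h2 := quad_two_ne_zero hα hν
  have h := SL2_sum_irr_odd hα hα1 hne hξ (fun χ => χ g * conj (χ g))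
  beta_reduce at h
  rw [second_orth_of_isConj (IsConj.refl g), card_centralizer_elliptic hodd g hell] at h
  obtain ⟨x1, x2⟩ := SL2_xi_value_reg hα hα1 hne hξ g (elliptic_trace_sq_ne_four h2 g hell)
  rw [RSL_apply_elliptic α₀ g hell] at x1 x2
  have y1 : ξ₁.1 g = 0 := by simpa using x1
  have y2 : ξ₂.1 g = 0 := by simpa using x2
  simp only [RSL_apply_elliptic _ g hell, stSL_apply_elliptic g hell, trivSL_apply, y1, y2,
    zero_mul, ite_self, Finset.sum_const_zero, mul_zero, add_zero, map_one, map_neg, mul_one,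
    mul_neg, neg_neg] at h
  push_cast at h
  linear_combination -h

/-- For `q = 3` the cuspidal character of degree `q - 1 = 2` vanishes at elliptic elements. -/
theorem SL2_cusp_elliptic_q3 (h3 : Fintype.card F = 3)
    {α₀ : MulChar F ℂ} (hα : α₀ ^ 2 = 1) (hα1 : α₀ ≠ 1) {ν : F} (hν : α₀ ν = -1)
    {ψ : AddChar F ℂ} (hψ : ψ.IsPrimitive) (χ : IrrCharacter SL(2, F)) (hc : IsCuspSL χ.1)
    (h1 : nU ψ χ.1 1 = 1) (hm : nU ψ χ.1 ν = 1) (g : SL(2, F))
    (hell : ∀ (c : F) (v : Fin 2 → F), v ≠ 0 → (g : Matrix (Fin 2) (Fin 2) F).mulVec v ≠ c • v) :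
    χ.1 g = 0 := by
  classical
  have := Fintype.ofFinite (IrrCharacter SL(2, F))
  obtain ⟨ξ₁, ξ₂, hne, hξ⟩ := exists_two_irr_of_norm_two (RSL_isCharacter α₀) (RSL_norm_two hα)
  have hs := SL2_cusp_sum_elliptic hα hα1 hν hne hξ g hell
  have hD := SL2_cusp_sum_dU_sq hα hα1 hν hψ hne hξ
  rw [h3] at hs
  set C := Finset.univ.filter (fun χ : IrrCharacter SL(2, F) => IsCuspSL χ.1) with hC
  have hreal : ∑ χ' ∈ C, (Complex.normSq (χ'.1 g) - ((nU ψ χ'.1 1 : ℝ) - nU ψ χ'.1 ν) ^ 2) = 0 := by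
    have : ((∑ χ' ∈ C, (Complex.normSq (χ'.1 g) - ((nU ψ χ'.1 1 : ℝ) - nU ψ χ'.1 ν) ^ 2) : ℝ) : ℂ)
        = 0 := by
      push_cast
      rw [Finset.sum_sub_distrib]
      simp only [← Complex.mul_conj]
      rw [hs, hD]
      norm_num
    exact_mod_cast this
  have hnn : ∀ χ' ∈ C,
      0 ≤ Complex.normSq (χ'.1 g) - ((nU ψ χ'.1 1 : ℝ) - nU ψ χ'.1 ν) ^ 2 := by
    intro χ' hχ'
    have hc' : IsCuspSL χ'.1 := (Finset.mem_filter.mp hχ').2
    obtain ⟨h0, hcases⟩ := SL2_cusp_data_odd hα hα1 hν hψ χ' hc'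
    have hlin : nU ψ χ'.1 1 + nU ψ χ'.1 ν = 1 →
        ((nU ψ χ'.1 1 : ℝ) - nU ψ χ'.1 ν) ^ 2 = 1 → 
        0 ≤ Complex.normSq (χ'.1 g) - ((nU ψ χ'.1 1 : ℝ) - nU ψ χ'.1 ν) ^ 2 := by
      intro hA hsq
      have hdeg : χ'.1 1 = 1 := by
        obtain ⟨hd, -⟩ := SL2_U_half hα hα1 hν hψ (isCharacter_of_isIrrCharacter χ'.2) hA
        rw [h0, h3] at hd
        push_cast at hd
        linear_combination (1 / 2 : ℂ) * hd
      have hn := Cfsg.Agent.Lib.helper23.irr_linear_norm χ' hdeg g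
      rw [hsq, Complex.normSq_eq_norm_sq, hn]
      norm_num
    rcases hcases with ⟨a, b⟩ | ⟨a, b⟩ | ⟨a, b⟩
    · exact hlin (by rw [a, b]) (by rw [a, b]; norm_num)
    · exact hlin (by rw [a, b]) (by rw [a, b]; norm_num)
    · rw [a, b]
      have := Complex.normSq_nonneg (χ'.1 g)
      simpa using this
  have hz := (Finset.sum_eq_zero_iff_of_nonneg hnn).mp hreal χ
    (Finset.mem_filter.mpr ⟨Finset.mem_univ _, hc⟩)
  rw [h1, hm] at hz
  simpa using hz

end vals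

end Cfsg.Agent.Lib.helper12
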