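import Mathlib
import Cfsg.Agent.Lib.helper12.SL2Vals
import Cfsg.Agent.Lib.helper12.SL2Odd3
import Cfsg.Agent.Lib.helper12.SL2Even
import Cfsg.Agent.Lib.helper12.PSL2Cls
import Cfsg.Agent.Lib.helper24.CharKer
import Cfsg.Agent.Lib.helper24.CharCyclicExt

set_option autoImplicit false

namespace Cfsg.Agent.Lib.helper12

open Matrix Cfsg Cfsg.Agent.Lib.helper24
open scoped ComplexConjugate MatrixGroups

section gen

universe u

variable {G : Type u} [Group G]

/-- A central involution acts as `±1` in an irreducible representation. -/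
theorem irr_central_involution (χ : IrrCharacter G) (z : G) (hz : z ∈ Subgroup.center G)
    (hzz : z * z = 1) : χ.1 z = χ.1 1 ∨ χ.1 z = -χ.1 1 := by
  obtain ⟨n, ρ, hirr, hχ⟩ := χ.2
  haveI := hirr
  have hT : ∀ g : G, ρ z ∘ₗ ρ g = ρ g ∘ₗ ρ z := by
    intro g
    have h1 : ρ z * ρ g = ρ g * ρ z := by
      rw [← map_mul, ← map_mul, Subgroup.mem_center_iff.mp hz g]
    exact h1
  obtain ⟨c, hc⟩ := schur_scalar ρ (ρ z) hT
  have hpos := finrank_pos_of_irreducible ρ
  have hnt : Nontrivial (Fin n → ℂ) := Module.finrank_pos_iff.mp hpos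
  have h1 : χ.1 1 = (Module.finrank ℂ (Fin n → ℂ) : ℂ) := by
    rw [← hχ]
    exact Representation.char_one ρ
  have hz' : χ.1 z = c * (Module.finrank ℂ (Fin n → ℂ) : ℂ) := by
    rw [← hχ]
    show LinearMap.trace ℂ _ (ρ z) = _
    rw [hc, map_smul, LinearMap.trace_id, smul_eq_mul]
  have hcc : c * c = 1 := by
    have h2 : ρ z * ρ z = 1 := by rw [← map_mul, hzz, map_one]
    rw [hc] at h2
    obtain ⟨v, hv⟩ := exists_ne (0 : Fin n → ℂ)
    have h3 := LinearMap.congr_fun h2 v
    simp only [Module.End.mul_apply, LinearMap.smul_apply, LinearMap.id_apply,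
      Module.End.one_apply, smul_smul] at h3
    have h4 : (c * c - 1) • v = 0 := by rw [sub_smul, h3, one_smul, sub_self]
    rcases smul_eq_zero.mp h4 with h | h
    · exact sub_eq_zero.mp h
    · exact absurd h hv
  have h5 : (c - 1) * (c + 1) = 0 := by linear_combination hcc
  rcases mul_eq_zero.mp h5 with h | h
  · left
    rw [hz', h1, sub_eq_zero.mp h, one_mul]
  · right
    rw [hz', h1, eq_neg_of_add_eq_zero_left h]
    ring

end gen

section sl

variable {F : Type*} [Field F] [Fintype F] [DecidableEq F]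

/-- The possible degrees of the irreducible characters of `SL₂(q)`. -/
theorem SL2_degree_cases (χ : IrrCharacter SL(2, F)) :
    χ.1 1 = 1 ∨ χ.1 1 = (Fintype.card F : ℂ) ∨ χ.1 1 = (Fintype.card F : ℂ) + 1 ∨
    χ.1 1 = (Fintype.card F : ℂ) - 1 ∨
    (Fintype.card F % 2 = 1 ∧ (χ.1 1 = ((Fintype.card F : ℂ) + 1) / 2 ∨
      χ.1 1 = ((Fintype.card F : ℂ) - 1) / 2)) := by
  by_cases hF : ringChar F = 2
  · rcases SL2_irr_classify_deg_even hF χ with h | h | ⟨α, -, -, h⟩ | ⟨-, h, -⟩
    · exact Or.inl h.2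
    · exact Or.inr (Or.inl h.2)
    · exact Or.inr (Or.inr (Or.inl h))
    · exact Or.inr (Or.inr (Or.inr (Or.inl h)))
  · have hodd : Fintype.card F % 2 = 1 := FiniteField.odd_card_of_char_ne_two hF
    obtain ⟨α₀, ν, ψ, hα, hα1, hν, hψ⟩ := SL2_odd_setup hodd
    obtain ⟨ξ₁, ξ₂, hne, hξ⟩ := exists_two_irr_of_norm_two (RSL_isCharacter α₀) (RSL_norm_two hα)
    rcases SL2_irr_classify_deg_odd hα hα1 hν hψ hne hξ χ with h | h | ⟨α, -, -, h⟩ | h | h | h
    · exact Or.inl h.2
    · exact Or.inr (Or.inl h.2)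
    · exact Or.inr (Or.inr (Or.inl h))
    · exact Or.inr (Or.inr (Or.inr (Or.inr ⟨hodd, Or.inl h.2⟩)))
    · exact Or.inr (Or.inr (Or.inr (Or.inl h.2.2.2.2)))
    · exact Or.inr (Or.inr (Or.inr (Or.inr ⟨hodd, Or.inr h.2.2.2⟩)))

/-- The possible degrees of the irreducible characters of `SL₂(q)`, as natural numbers. -/
theorem SL2_charDegree_cases (χ : IrrCharacter SL(2, F)) :
    charDegree χ.1 = 1 ∨ charDegree χ.1 = Fintype.card F ∨
    charDegree χ.1 = Fintype.card F + 1 ∨ charDegree χ.1 + 1 = Fintype.card F ∨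
    (Fintype.card F % 2 = 1 ∧ (2 * charDegree χ.1 = Fintype.card F + 1 ∨
      2 * charDegree χ.1 + 1 = Fintype.card F)) := by
  have hc := charDegree_cast χ
  rcases SL2_degree_cases χ with h | h | h | h | ⟨hodd, h | h⟩
  · left
    rw [h] at hc
    exact_mod_cast hc
  · right; left
    rw [h] at hc
    exact_mod_cast hc
  · right; right; left
    rw [h] at hc
    exact_mod_cast hc
  · right; right; right; left
    rw [h] at hc
    have : ((charDegree χ.1 + 1 : ℕ) : ℂ) = (Fintype.card F : ℂ) := by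
      push_cast
      rw [hc]
      ring
    exact_mod_cast this
  · right; right; right; right
    refine ⟨hodd, Or.inl ?_⟩
    rw [h] at hc
    have : ((2 * charDegree χ.1 : ℕ) : ℂ) = ((Fintype.card F + 1 : ℕ) : ℂ) := by
      push_cast
      rw [hc]
      ring
    exact_mod_cast this
  · right; right; right; right
    refine ⟨hodd, Or.inr ?_⟩
    rw [h] at hc
    have : ((2 * charDegree χ.1 + 1 : ℕ) : ℂ) = (Fintype.card F : ℂ) := by
      push_cast
      rw [hc]
      ring
    exact_mod_cast this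

/-- An irreducible character of `SL₂(q)` of degree divisible by the characteristic has degree `q`. -/
theorem SL2_charDegree_of_dvd (p : ℕ) [Fact p.Prime] [CharP F p] (χ : IrrCharacter SL(2, F))
    (h : p ∣ charDegree χ.1) : charDegree χ.1 = Fintype.card F := by
  have hp : p.Prime := Fact.out
  obtain ⟨n, -, hn⟩ := FiniteField.card F p
  have hpq : p ∣ Fintype.card F := by
    rw [hn]
    exact dvd_pow_self p n.ne_zero
  have hp1 : ¬ p ∣ 1 := hp.one_lt.ne' ∘ Nat.dvd_one.mp
  rcases SL2_charDegree_cases χ with h1 | h1 | h1 | h1 | ⟨-, h1 | h1⟩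
  · rw [h1] at h
    exact absurd h hp1
  · exact h1
  · rw [h1] at h
    exact absurd ((Nat.dvd_add_right hpq).mp h) hp1
  · rw [← h1] at hpq
    exact absurd ((Nat.dvd_add_right h).mp hpq) hp1
  · have h2 : p ∣ Fintype.card F + 1 := by
      rw [← h1]
      exact Dvd.dvd.mul_left h 2
    exact absurd ((Nat.dvd_add_right hpq).mp h2) hp1
  · have h2 : p ∣ 2 * charDegree χ.1 := Dvd.dvd.mul_left h 2
    rw [← h1] at hpq
    exact absurd ((Nat.dvd_add_right h2).mp hpq) hp1

omit [Fintype F] [DecidableEq F] in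
theorem signSL_false_entries :
    ((signSL false : SL(2, F)) : Matrix (Fin 2) (Fin 2) F) 0 0 = -1 ∧
    ((signSL false : SL(2, F)) : Matrix (Fin 2) (Fin 2) F) 0 1 = 0 ∧
    ((signSL false : SL(2, F)) : Matrix (Fin 2) (Fin 2) F) 1 0 = 0 ∧
    ((signSL false : SL(2, F)) : Matrix (Fin 2) (Fin 2) F) 1 1 = -1 := by
  rw [signSL_val]
  simp [sgnB]

/-- Value of the principal series at `-1`. -/
theorem RSL_apply_neg_one (α : MulChar F ℂ) :
    RSL α (signSL false) = ((Fintype.card F : ℂ) + 1) * α (-1) := by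
  obtain ⟨h00, h01, h10, h11⟩ := signSL_false_entries (F := F)
  rw [RSL, RSL_apply_upper α _ h10, h00, h11, h01]
  simp only [sub_self, zero_mul, add_zero, if_true, Finset.sum_const, Finset.card_univ,
    nsmul_eq_mul]
  ring

/-- The Steinberg character at `-1`. -/
theorem stSL_apply_neg_one : stSL F (signSL false) = (Fintype.card F : ℂ) := by
  have h := congrFun (RSL_one_eq (F := F)) (signSL false)
  rw [RSL_apply_neg_one, Pi.add_apply, trivSL_apply] at h
  have h1 : (1 : MulChar F ℂ) (-1) = 1 := by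
    rw [MulChar.one_apply (isUnit_one.neg)]
  rw [h1] at h
  linear_combination -h

/-- The Steinberg character is trivial on the centre. -/
theorem stSL_apply_center (n : SL(2, F)) (hn : n ∈ Subgroup.center SL(2, F)) :
    stSL F n = stSL F 1 := by
  rcases (SL2_center_iff n).mp hn with h | h
  · rw [h]
  · rw [h, stSL_apply_neg_one, stSL_apply_one]

/-- Triviality on the centre from the value at `-1`. -/
theorem SL2_trivial_on_center (χ : SL(2, F) → ℂ) (h : χ (signSL false) = χ 1)
    (n : SL(2, F)) (hn : n ∈ Subgroup.center SL(2, F)) : χ n = χ 1 := by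
  rcases (SL2_center_iff n).mp hn with h' | h'
  · rw [h']
  · rw [h', h]

/-- A multiplicative character of order `q - 1`. -/
theorem exists_mulChar_generator : ∃ β : MulChar F ℂ, orderOf β = Fintype.card F - 1 := by
  have hq : 2 ≤ Fintype.card F := Fintype.one_lt_card
  exact MulChar.exists_mulChar_orderOf F (dvd_refl _)
    (Complex.isPrimitiveRoot_exp (Fintype.card F - 1) (by omega))

/-- For `q ≥ 4` there is a multiplicative character with `α ≠ α⁻¹`. -/
theorem exists_mulChar_ne_inv (hq : 4 ≤ Fintype.card F) : ∃ α : MulChar F ℂ, α ≠ α⁻¹ := by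
  obtain ⟨β, hβ⟩ := exists_mulChar_generator (F := F)
  refine ⟨β, fun h => ?_⟩
  have h2 : β ^ 2 = 1 := by
    rw [pow_two]
    nth_rewrite 2 [h]
    exact mul_inv_cancel β
  have := orderOf_dvd_of_pow_eq_one h2
  rw [hβ] at this
  have := Nat.le_of_dvd (by norm_num) this
  omega

/-- For `q ≥ 7` there is a multiplicative character with `α ≠ α⁻¹` and `α (-1) = 1`. -/
theorem exists_mulChar_even_ne_inv (hq : 7 ≤ Fintype.card F) :
    ∃ α : MulChar F ℂ, α ≠ α⁻¹ ∧ α (-1) = 1 := by
  obtain ⟨β, hβ⟩ := exists_mulChar_generator (F := F)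
  refine ⟨β ^ 2, fun h => ?_, ?_⟩
  · have h2 : β ^ 4 = 1 := by
      have e : β ^ 4 = β ^ 2 * β ^ 2 := by rw [← pow_add]
      rw [e]
      nth_rewrite 2 [h]
      exact mul_inv_cancel _
    have := orderOf_dvd_of_pow_eq_one h2
    rw [hβ] at this
    have := Nat.le_of_dvd (by norm_num) this
    omega
  · rw [MulChar.pow_apply' _ (by norm_num), ← map_pow]
    simp

end sl

section sl2

variable {F : Type*} [Field F] [Fintype F] [DecidableEq F]

theorem sum_not_quad_fun [Fintype (MulChar F ℂ)] {α₀ : MulChar F ℂ} (hα1 : α₀ ≠ 1)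
    (c : MulChar F ℂ → ℂ) :
    ∑ α : MulChar F ℂ, (if α = 1 ∨ α = α₀ then 0 else c α) =
      ∑ α : MulChar F ℂ, c α - c 1 - c α₀ := by
  have e : ∀ α : MulChar F ℂ, (if α = 1 ∨ α = α₀ then 0 else c α) =
      c α - (if α = 1 then c α else 0) - (if α = α₀ then c α else 0) := by
    intro α
    by_cases h1 : α = 1
    · simp [h1, Ne.symm hα1]
    · by_cases h2 : α = α₀
      · simp [h2, hα1]
      · simp [h1, h2]
  simp only [e, Finset.sum_sub_distrib, Finset.sum_ite_eq', Finset.mem_univ, if_true]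

/-- Degrees of the cuspidal characters, odd characteristic. -/
theorem SL2_cusp_degree_odd {α₀ : MulChar F ℂ} (hα : α₀ ^ 2 = 1) (hα1 : α₀ ≠ 1) {ν : F}
    (hν : α₀ ν = -1) {ψ : AddChar F ℂ} (hψ : ψ.IsPrimitive) (χ : IrrCharacter SL(2, F))
    (hc : IsCuspSL χ.1) :
    χ.1 1 = (Fintype.card F : ℂ) - 1 ∨ χ.1 1 = ((Fintype.card F : ℂ) - 1) / 2 := by
  have hχc := isCharacter_of_isIrrCharacter χ.2
  obtain ⟨h0, hd | hd | hd⟩ := SL2_cusp_data_odd hα hα1 hν hψ χ hc
  · obtain ⟨d, -⟩ := SL2_U_half hα hα1 hν hψ hχc (by omega)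
    rw [h0] at d
    right
    push_cast at d
    linear_combination (1 / 2 : ℂ) * d
  · obtain ⟨d, -⟩ := SL2_U_half hα hα1 hν hψ hχc (by omega)
    rw [h0] at d
    right
    push_cast at d
    linear_combination (1 / 2 : ℂ) * d
  · left
    exact (SL2_U_full hα hα1 hν hψ hχc h0 hd.1 hd.2).1

/-- For `q` odd, `q ≥ 5`, there is an irreducible character of `SL₂(q)` of degree `q - 1` that is
trivial at `-1`. -/
theorem SL2_exists_even_cusp (hodd : Fintype.card F % 2 = 1) (h5 : 5 ≤ Fintype.card F) :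
    ∃ χ : IrrCharacter SL(2, F), χ.1 1 = (Fintype.card F : ℂ) - 1 ∧
      χ.1 (signSL false) = χ.1 1 := by
  classical
  by_contra hcon
  push_neg at hcon
  have := Fintype.ofFinite (IrrCharacter SL(2, F))
  have := Fintype.ofFinite (MulChar F ℂ)
  obtain ⟨α₀, ν, ψ, hα, hα1, hν, hψ⟩ := SL2_odd_setup hodd
  obtain ⟨ξ₁, ξ₂, hne, hξ⟩ := exists_two_irr_of_norm_two (RSL_isCharacter α₀) (RSL_norm_two hα)
  have h2 : (2 : F) ≠ 0 := two_ne_zero_of_card_odd hodd
  have hzc : (signSL false : SL(2, F)) ∈ Subgroup.center SL(2, F) :=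
    (SL2_center_iff _).mpr (Or.inr rfl)
  have hzz : (signSL false : SL(2, F)) * signSL false = 1 := signSL_false_mul_self
  have hz1 : (signSL false : SL(2, F)) ≠ 1 := by
    intro h
    rw [← signSL_true_eq_one] at h
    exact Bool.false_ne_true (signSL_injective h2 h)
  have hq1 := card_sub_one_ne_zero (F := F)
  have hL1 : ∑ χ : IrrCharacter SL(2, F), χ.1 1 * χ.1 1 =
      (Fintype.card F : ℂ) * ((Fintype.card F : ℂ) ^ 2 - 1) := by
    have h := sum_sq_degrees (G := SL(2, F))
    rw [card_SL2_cast] at h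
    rw [← h]
    apply Finset.sum_congr rfl
    intro χ _
    ring
  have hL2 : ∑ χ : IrrCharacter SL(2, F), χ.1 (signSL false) * χ.1 1 = 0 := by
    have hnc : ¬ IsConj (signSL false : SL(2, F)) 1 := by
      intro h
      exact hz1 (isConj_one_left.mp h)
    have h := second_orth_of_not_isConj (G := SL(2, F)) hnc
    rw [← h]
    apply Finset.sum_congr rfl
    intro χ _
    obtain ⟨n, -, hn⟩ := isIrrCharacter_one χ.2
    rw [hn, Complex.conj_natCast]
  have hsum := SL2_sum_irr_odd hα hα1 hne hξ (fun f => f 1 * f 1 + f (signSL false) * f 1)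
  beta_reduce at hsum
  rw [Finset.sum_add_distrib, hL1, hL2, add_zero] at hsum
  obtain ⟨d1, d2⟩ := SL2_xi_degree hα hα1 hν hψ hne hξ
  have d1' : ξ₁.1 1 = ((Fintype.card F : ℂ) + 1) / 2 := by linear_combination (1 / 2 : ℂ) * d1
  have d2' : ξ₂.1 1 = ((Fintype.card F : ℂ) + 1) / 2 := by linear_combination (1 / 2 : ℂ) * d2
  have hξz : ξ₁.1 (signSL false) + ξ₂.1 (signSL false) =
      ((Fintype.card F : ℂ) + 1) * α₀ (-1) := by
    have h := congrFun hξ (signSL false)
    rw [Pi.add_apply] at h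
    rw [← h, RSL_apply_neg_one]
  have hRSL : ∀ α : MulChar F ℂ, RSL α 1 * RSL α 1 + RSL α (signSL false) * RSL α 1 =
      ((Fintype.card F : ℂ) + 1) ^ 2 * (1 + α (-1)) := by
    intro α
    rw [RSL_apply_one, RSL_apply_neg_one]
    ring
  have hdual : ∑ α : MulChar F ℂ, α (-1 : F) = 0 := by
    have h := mulChar_dual_sum (F := F) (-1 : Fˣ)
    rw [if_neg] at h
    · simpa using h
    · intro h'
      apply h2
      have h'' := congrArg Units.val h'
      simp only [Units.val_neg, Units.val_one] at h''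
      linear_combination -h''
  have hS : ∑ α : MulChar F ℂ, ((Fintype.card F : ℂ) + 1) ^ 2 * (1 + α (-1)) =
      ((Fintype.card F : ℂ) + 1) ^ 2 * ((Fintype.card F : ℂ) - 1) := by
    rw [← Finset.mul_sum, Finset.sum_add_distrib, hdual, add_zero, Finset.sum_const,
      Finset.card_univ, nsmul_eq_mul, mul_one, card_mulChar_cast]
  have h11 : (1 : MulChar F ℂ) (-1) = 1 := by
    rw [MulChar.one_apply (isUnit_one.neg)]
  simp only [hRSL] at hsum
  rw [sum_not_quad_fun hα1, hS, h11, trivSL_apply, trivSL_apply, stSL_apply_one,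
    stSL_apply_neg_one, d1', d2'] at hsum
  set C := Finset.univ.filter (fun χ : IrrCharacter SL(2, F) => IsCuspSL χ.1) with hCdef
  have hC : ∑ χ ∈ C, (χ.1 1 * χ.1 1 + χ.1 (signSL false) * χ.1 1) =
      ((Fintype.card F : ℂ) - 1) ^ 3 / 2 := by
    linear_combination -hsum - (((Fintype.card F : ℂ) + 1) / 2) * hξz
  have hterm : ∀ χ ∈ C, χ.1 1 * χ.1 1 + χ.1 (signSL false) * χ.1 1 =
      if (χ.1 1 = ((Fintype.card F : ℂ) - 1) / 2 ∧ χ.1 (signSL false) = χ.1 1) then
        ((Fintype.card F : ℂ) - 1) ^ 2 / 2 else 0 := by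
    intro χ hχ
    have hc : IsCuspSL χ.1 := (Finset.mem_filter.mp hχ).2
    have hsign := irr_central_involution χ (signSL false) hzc hzz
    rcases SL2_cusp_degree_odd hα hα1 hν hψ χ hc with hd | hd
    · have hz' : χ.1 (signSL false) = -χ.1 1 := hsign.resolve_left (hcon χ hd)
      rw [if_neg, hz']
      · ring
      · rintro ⟨h1, -⟩
        rw [hd] at h1
        exact hq1 (by linear_combination 2 * h1)
    · rcases hsign with hs | hs
      · rw [if_pos ⟨hd, hs⟩, hs, hd]
        ring
      · rw [if_neg, hs]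
        · ring
        · rintro ⟨-, h1⟩
          rw [hs, hd] at h1
          exact hq1 (by linear_combination -h1)
  rw [Finset.sum_congr rfl hterm, Finset.sum_ite, Finset.sum_const_zero, add_zero,
    Finset.sum_const, nsmul_eq_mul] at hC
  set k := (C.filter (fun χ : IrrCharacter SL(2, F) =>
    χ.1 1 = ((Fintype.card F : ℂ) - 1) / 2 ∧ χ.1 (signSL false) = χ.1 1)).card with hkdef
  have hk : k ≤ 2 := by
    have hcount := SL2_count_degree_odd hodd (((Fintype.card F : ℂ) - 1) / 2)
    have e3 : (Fintype.card F : ℂ) ≠ ((3 : ℕ) : ℂ) := card_cast_ne_nat 3 (by omega)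
    have e0 : (Fintype.card F : ℂ) ≠ -((1 : ℕ) : ℂ) := card_cast_ne_neg 1 (by norm_num)
    have e0' : (Fintype.card F : ℂ) ≠ -((3 : ℕ) : ℂ) := card_cast_ne_neg 3 (by norm_num)
    rw [if_neg, if_neg, if_neg, if_neg, if_neg, if_pos rfl] at hcount
    · have hcard : Nat.card {χ : IrrCharacter SL(2, F) //
          χ.1 1 = ((Fintype.card F : ℂ) - 1) / 2} = 2 := by
        have : (Nat.card {χ : IrrCharacter SL(2, F) //
          χ.1 1 = ((Fintype.card F : ℂ) - 1) / 2} : ℂ) = ((2 : ℕ) : ℂ) := by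
          rw [hcount]
          push_cast
          ring
        exact_mod_cast this
      rw [Nat.card_eq_fintype_card, Fintype.card_subtype] at hcard
      rw [← hcard, hkdef]
      apply Finset.card_le_card
      intro χ hχ
      rw [Finset.mem_filter] at hχ ⊢
      exact ⟨Finset.mem_univ _, hχ.2.1⟩
    · intro h
      exact hq1 (by linear_combination 2 * h)
    · intro h
      have : (2 : ℂ) = 0 := by linear_combination 2 * h
      norm_num at this
    · intro h
      apply e0'
      push_cast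
      linear_combination 2 * h
    · intro h
      apply e0
      push_cast
      linear_combination 2 * h
    · intro h
      apply e3
      push_cast
      linear_combination -2 * h
  have hkq : ((Fintype.card F : ℂ) - 1) = (k : ℂ) := by
    have h : (k : ℂ) * ((Fintype.card F : ℂ) - 1) ^ 2 =
        ((Fintype.card F : ℂ) - 1) * ((Fintype.card F : ℂ) - 1) ^ 2 := by
      linear_combination 2 * hC
    exact (mul_right_cancel₀ (pow_ne_zero 2 hq1) h).symm
  have hkq' : Fintype.card F = k + 1 := by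
    have h : (Fintype.card F : ℂ) = ((k + 1 : ℕ) : ℂ) := by
      push_cast
      linear_combination hkq
    exact_mod_cast h
  omega

end sl2

end Cfsg.Agent.Lib.helper12
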