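import Mathlib
import Cfsg.Prelude.Def_DegreeGraph
import Cfsg.Agent.Lib.helper12.PSL2Deg

set_option autoImplicit false

namespace Cfsg.Agent.Lib.helper12

open Matrix Cfsg Cfsg.Agent.Lib.helper24
open scoped ComplexConjugate MatrixGroups

section gen

universe u v

variable {G : Type u} [Group G] {H : Type v} [Group H]

theorem charDegree_comp_equiv (e : H ≃* G) (χ : G → ℂ) : charDegree (χ ∘ e) = charDegree χ := by
  unfold charDegree
  rw [Function.comp_apply, map_one]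

/-- Isomorphic groups have the same character degrees. -/
theorem charDegrees_congr (e : G ≃* H) : charDegrees G = charDegrees H := by
  ext d
  constructor
  · rintro ⟨χ, hχ⟩
    exact ⟨⟨χ.1 ∘ e.symm, isIrrCharacter_comp_equiv e.symm χ.2⟩,
      (charDegree_comp_equiv e.symm χ.1).trans hχ⟩
  · rintro ⟨χ, hχ⟩
    exact ⟨⟨χ.1 ∘ e, isIrrCharacter_comp_equiv e χ.2⟩, (charDegree_comp_equiv e χ.1).trans hχ⟩

end gen

/-- The list of possible degrees of irreducible characters of `SL₂(q)`. -/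
def SL2DegList (q d : ℕ) : Prop :=
  d = 1 ∨ d = q ∨ d = q + 1 ∨ d + 1 = q ∨ (q % 2 = 1 ∧ (2 * d = q + 1 ∨ 2 * d + 1 = q))

section sl

variable {F : Type*} [Field F] [Fintype F] [DecidableEq F]

theorem SL2_charDegrees_mem {d : ℕ} (h : d ∈ charDegrees SL(2, F)) :
    SL2DegList (Fintype.card F) d := by
  obtain ⟨χ, rfl⟩ := h
  exact SL2_charDegree_cases χ

theorem PSL2_charDegrees_subset :
    charDegrees (Matrix.ProjectiveSpecialLinearGroup (Fin 2) F) ⊆ charDegrees SL(2, F) := by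
  rintro d ⟨ψ, rfl⟩
  exact ⟨irrInfl (Subgroup.center SL(2, F)) ψ, charDegree_irrInfl _ ψ⟩

theorem PSL2_charDegrees_of_even (χ : IrrCharacter SL(2, F))
    (h : χ.1 (signSL false) = χ.1 1) :
    charDegree χ.1 ∈ charDegrees (Matrix.ProjectiveSpecialLinearGroup (Fin 2) F) := by
  obtain ⟨ψ, hψ⟩ := exists_irrInfl_eq (Subgroup.center SL(2, F)) χ (SL2_trivial_on_center χ.1 h)
  exact ⟨ψ, by rw [← charDegree_irrInfl (Subgroup.center SL(2, F)) ψ, hψ]⟩

omit [Fintype F] [DecidableEq F] in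
theorem signSL_false_eq_one_char_two (h2 : (2 : F) = 0) : (signSL false : SL(2, F)) = 1 := by
  apply Subtype.ext
  rw [signSL_val, Matrix.SpecialLinearGroup.coe_one]
  have : (sgnB false : F) = 1 := by
    simp only [sgnB]
    norm_num
    linear_combination -h2
  rw [this, one_smul]

/-- Irreducible characters of `SL₂(q)` of degrees `q`, `q + 1`, `q - 1` trivial at `-1`. -/
theorem SL2_even_chars (hq : 4 ≤ Fintype.card F) (hq' : Fintype.card F % 2 = 0 ∨ 7 ≤ Fintype.card F) :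
    (∃ χ : IrrCharacter SL(2, F), χ.1 1 = (Fintype.card F : ℂ) ∧ χ.1 (signSL false) = χ.1 1) ∧
    (∃ χ : IrrCharacter SL(2, F), χ.1 1 = (Fintype.card F : ℂ) + 1 ∧
      χ.1 (signSL false) = χ.1 1) ∧
    (∃ χ : IrrCharacter SL(2, F), χ.1 1 = (Fintype.card F : ℂ) - 1 ∧
      χ.1 (signSL false) = χ.1 1) := by
  classical
  refine ⟨⟨⟨stSL F, stSL_isIrr⟩, stSL_apply_one, by
    show stSL F (signSL false) = stSL F 1
    rw [stSL_apply_neg_one, stSL_apply_one]⟩, ?_, ?_⟩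
  · by_cases hev : Fintype.card F % 2 = 0
    · have hF : ringChar F = 2 := FiniteField.even_card_iff_char_two.mpr hev
      have h2 : (2 : F) = 0 := by
        have := ringChar.Nat.cast_ringChar (R := F)
        rw [hF] at this
        exact_mod_cast this
      obtain ⟨α, hα⟩ := exists_mulChar_ne_inv hq
      refine ⟨⟨RSL α, RSL_isIrr α hα⟩, RSL_apply_one α, ?_⟩
      rw [signSL_false_eq_one_char_two h2]
    · have h7 : 7 ≤ Fintype.card F := hq'.resolve_left hev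
      obtain ⟨α, hα, hα1⟩ := exists_mulChar_even_ne_inv h7
      refine ⟨⟨RSL α, RSL_isIrr α hα⟩, RSL_apply_one α, ?_⟩
      show RSL α (signSL false) = RSL α 1
      rw [RSL_apply_neg_one, hα1, mul_one, RSL_apply_one]
  · by_cases hev : Fintype.card F % 2 = 0
    · have hF : ringChar F = 2 := FiniteField.even_card_iff_char_two.mpr hev
      have h2 : (2 : F) = 0 := by
        have := ringChar.Nat.cast_ringChar (R := F)
        rw [hF] at this
        exact_mod_cast this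
      have hcount := SL2_count_degree_even hF ((Fintype.card F : ℂ) - 1)
      have e2 : (Fintype.card F : ℂ) ≠ ((2 : ℕ) : ℂ) := card_cast_ne_nat 2 (by omega)
      have e0 : (Fintype.card F : ℂ) ≠ ((0 : ℕ) : ℂ) := card_cast_ne_nat 0 (by omega)
      rw [if_neg, if_neg, if_neg, if_pos rfl] at hcount
      · have hne : Nat.card {χ : IrrCharacter SL(2, F) // χ.1 1 = (Fintype.card F : ℂ) - 1} ≠ 0 := by
          intro h0
          rw [h0] at hcount
          apply e0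
          push_cast at hcount ⊢
          linear_combination -2 * hcount
        have hfin : Finite {χ : IrrCharacter SL(2, F) // χ.1 1 = (Fintype.card F : ℂ) - 1} :=
          inferInstance
        obtain ⟨⟨χ, hχ⟩⟩ := (Nat.card_ne_zero.mp hne).1
        refine ⟨χ, hχ, ?_⟩
        rw [signSL_false_eq_one_char_two h2]
      · intro h
        have : (2 : ℂ) = 0 := by linear_combination h
        norm_num at this
      · intro h
        have : (1 : ℂ) = 0 := by linear_combination h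
        norm_num at this
      · intro h
        apply e2
        push_cast
        linear_combination -h
    · have h7 : 7 ≤ Fintype.card F := hq'.resolve_left hev
      exact SL2_exists_even_cusp (by omega) (by omega)

theorem charDegree_eq_of_cast {G : Type*} [Group G] [Finite G] (χ : IrrCharacter G) (n : ℕ)
    (h : χ.1 1 = (n : ℂ)) : charDegree χ.1 = n := by
  have hc := charDegree_cast χ
  rw [h] at hc
  exact_mod_cast hc

/-- The character degrees of `SL₂(q)` and `PSL₂(q)`. -/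
theorem SL2_PSL2_charDegrees (hq : 4 ≤ Fintype.card F)
    (hq' : Fintype.card F % 2 = 0 ∨ 7 ≤ Fintype.card F) {S : Type*} [Group S]
    (hS : Nonempty (S ≃* Matrix.ProjectiveSpecialLinearGroup (Fin 2) F) ∨
      Nonempty (S ≃* Matrix.SpecialLinearGroup (Fin 2) F)) :
    (∀ d ∈ charDegrees S, SL2DegList (Fintype.card F) d) ∧ Fintype.card F ∈ charDegrees S ∧
      Fintype.card F + 1 ∈ charDegrees S ∧ Fintype.card F - 1 ∈ charDegrees S := by
  obtain ⟨⟨χ₁, h1, h1'⟩, ⟨χ₂, h2, h2'⟩, ⟨χ₃, h3, h3'⟩⟩ := SL2_even_chars hq hq'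
  have d1 : charDegree χ₁.1 = Fintype.card F := charDegree_eq_of_cast χ₁ _ h1
  have d2 : charDegree χ₂.1 = Fintype.card F + 1 := by
    apply charDegree_eq_of_cast χ₂
    rw [h2]
    push_cast
    ring
  have d3 : charDegree χ₃.1 = Fintype.card F - 1 := by
    apply charDegree_eq_of_cast χ₃
    rw [h3, Nat.cast_sub (by omega)]
    push_cast
    ring
  rcases hS with ⟨⟨e⟩⟩ | ⟨⟨e⟩⟩
  · rw [charDegrees_congr e]
    refine ⟨fun d hd => SL2_charDegrees_mem (PSL2_charDegrees_subset hd), ?_, ?_, ?_⟩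
    · rw [← d1]
      exact PSL2_charDegrees_of_even χ₁ h1'
    · rw [← d2]
      exact PSL2_charDegrees_of_even χ₂ h2'
    · rw [← d3]
      exact PSL2_charDegrees_of_even χ₃ h3'
  · rw [charDegrees_congr e]
    exact ⟨fun d hd => SL2_charDegrees_mem hd, ⟨χ₁, d1⟩, ⟨χ₂, d2⟩, ⟨χ₃, d3⟩⟩

end sl

section arith

theorem degree_adj_common {q : ℕ} {cd : Set ℕ} (h1 : ∀ d ∈ cd, SL2DegList q d) {r s : ℕ}
    (hr : r.Prime) (h : ∃ d ∈ cd, r * s ∣ d) :
    (r ∣ q ∧ s ∣ q) ∨ (r ∣ q + 1 ∧ s ∣ q + 1) ∨ (r ∣ q - 1 ∧ s ∣ q - 1) := by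
  obtain ⟨d, hd, hrs⟩ := h
  have hrd : r ∣ d := (Dvd.intro s rfl).trans hrs
  have hsd : s ∣ d := (Dvd.intro_left r rfl).trans hrs
  rcases h1 d hd with h | h | h | h | ⟨-, h | h⟩
  · exfalso
    rw [h] at hrd
    exact hr.one_lt.ne' (Nat.dvd_one.mp hrd)
  · left
    rw [← h]
    exact ⟨hrd, hsd⟩
  · right; left
    rw [← h]
    exact ⟨hrd, hsd⟩
  · right; right
    have : q - 1 = d := by omega
    rw [this]
    exact ⟨hrd, hsd⟩
  · right; left
    rw [← h]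
    exact ⟨Dvd.dvd.mul_left hrd 2, Dvd.dvd.mul_left hsd 2⟩
  · right; right
    have : q - 1 = 2 * d := by omega
    rw [this]
    exact ⟨Dvd.dvd.mul_left hrd 2, Dvd.dvd.mul_left hsd 2⟩

theorem degree_vertices {q : ℕ} (h4 : 4 ≤ q) {cd : Set ℕ} (h1 : ∀ d ∈ cd, SL2DegList q d)
    (hq : q ∈ cd) (hq1 : q + 1 ∈ cd) (hq2 : q - 1 ∈ cd) :
    {p : ℕ | p.Prime ∧ ∃ d ∈ cd, p ∣ d} = {r : ℕ | r.Prime ∧ r ∣ q * (q ^ 2 - 1)} := by
  have hfac : q ^ 2 - 1 = (q - 1) * (q + 1) := sq_sub_one_factor q (by omega)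
  ext r
  simp only [Set.mem_setOf_eq]
  constructor
  · rintro ⟨hr, d, hd, hrd⟩
    refine ⟨hr, ?_⟩
    rw [hfac]
    rcases h1 d hd with h | h | h | h | ⟨-, h | h⟩
    · exfalso
      rw [h] at hrd
      exact hr.one_lt.ne' (Nat.dvd_one.mp hrd)
    · rw [← h]
      exact Dvd.dvd.mul_right hrd _
    · rw [← h]
      exact Dvd.dvd.mul_left (Dvd.dvd.mul_left hrd _) _
    · have : q - 1 = d := by omega
      rw [this]
      exact Dvd.dvd.mul_left (Dvd.dvd.mul_right hrd _) _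
    · rw [← h]
      exact Dvd.dvd.mul_left (Dvd.dvd.mul_left (Dvd.dvd.mul_left hrd 2) _) _
    · have : q - 1 = 2 * d := by omega
      rw [this]
      exact Dvd.dvd.mul_left (Dvd.dvd.mul_right (Dvd.dvd.mul_left hrd 2) _) _
  · rintro ⟨hr, hrq⟩
    refine ⟨hr, ?_⟩
    rw [hfac] at hrq
    rcases (Nat.Prime.dvd_mul hr).mp hrq with h | h
    · exact ⟨q, hq, h⟩
    · rcases (Nat.Prime.dvd_mul hr).mp h with h | h
      · exact ⟨q - 1, hq2, h⟩
      · exact ⟨q + 1, hq1, h⟩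

theorem prime_pow_two_dvd {t f r s : ℕ} (ht : t.Prime) (hr : r.Prime) (hs : s.Prime)
    (h1 : r ∣ t ^ f) (h2 : s ∣ t ^ f) : r = s := by
  rw [(Nat.prime_dvd_prime_iff_eq hr ht).mp (hr.dvd_of_dvd_pow h1),
    (Nat.prime_dvd_prime_iff_eq hs ht).mp (hs.dvd_of_dvd_pow h2)]

/-- Adjacency in the degree graph, characteristic two. -/
theorem degree_adj_even {q f : ℕ} (hqf : q = 2 ^ f) {cd : Set ℕ}
    (h1 : ∀ d ∈ cd, SL2DegList q d) (hq1 : q + 1 ∈ cd) (hq2 : q - 1 ∈ cd) (r s : ℕ) :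
    (r ≠ s ∧ r.Prime ∧ s.Prime ∧ ∃ d ∈ cd, r * s ∣ d) ↔
      (r ≠ s ∧ r.Prime ∧ s.Prime ∧ ((r ∣ q + 1 ∧ s ∣ q + 1) ∨ (r ∣ q - 1 ∧ s ∣ q - 1))) := by
  constructor
  · rintro ⟨hne, hr, hs, h⟩
    refine ⟨hne, hr, hs, ?_⟩
    rcases degree_adj_common h1 hr h with ⟨h3, h4⟩ | h3 | h3
    · exfalso
      rw [hqf] at h3 h4
      exact hne (prime_pow_two_dvd Nat.prime_two hr hs h3 h4)
    · exact Or.inl h3
    · exact Or.inr h3
  · rintro ⟨hne, hr, hs, h⟩
    refine ⟨hne, hr, hs, ?_⟩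
    have hcop : Nat.Coprime r s := (Nat.coprime_primes hr hs).mpr hne
    rcases h with ⟨h3, h4⟩ | ⟨h3, h4⟩
    · exact ⟨q + 1, hq1, hcop.mul_dvd_of_dvd_of_dvd h3 h4⟩
    · exact ⟨q - 1, hq2, hcop.mul_dvd_of_dvd_of_dvd h3 h4⟩

/-- Adjacency in the degree graph, odd characteristic. -/
theorem degree_adj_odd {q t f : ℕ} (ht : t.Prime) (hqf : q = t ^ f) (hodd : q % 2 = 1)
    (h4 : 4 ≤ q) {cd : Set ℕ}
    (h1 : ∀ d ∈ cd, SL2DegList q d) (hq1 : q + 1 ∈ cd) (hq2 : q - 1 ∈ cd) (r s : ℕ) :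
    (r ≠ s ∧ r.Prime ∧ s.Prime ∧ ∃ d ∈ cd, r * s ∣ d) ↔
      (r ≠ s ∧ r.Prime ∧ s.Prime ∧ r ∣ q ^ 2 - 1 ∧ s ∣ q ^ 2 - 1 ∧
        (r = 2 ∨ s = 2 ∨ (r ∣ q + 1 ∧ s ∣ q + 1) ∨ (r ∣ q - 1 ∧ s ∣ q - 1))) := by
  have hfac : q ^ 2 - 1 = (q - 1) * (q + 1) := sq_sub_one_factor q (by omega)
  have h2a : 2 ∣ q + 1 := by omega
  have h2b : 2 ∣ q - 1 := by omega
  constructor
  · rintro ⟨hne, hr, hs, h⟩
    refine ⟨hne, hr, hs, ?_⟩
    rw [hfac]
    rcases degree_adj_common h1 hr h with ⟨h3, h4⟩ | h3 | h3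
    · exfalso
      rw [hqf] at h3 h4
      exact hne (prime_pow_two_dvd ht hr hs h3 h4)
    · exact ⟨Dvd.dvd.mul_left h3.1 _, Dvd.dvd.mul_left h3.2 _, Or.inr (Or.inr (Or.inl h3))⟩
    · exact ⟨Dvd.dvd.mul_right h3.1 _, Dvd.dvd.mul_right h3.2 _, Or.inr (Or.inr (Or.inr h3))⟩
  · rintro ⟨hne, hr, hs, hrq, hsq, h⟩
    refine ⟨hne, hr, hs, ?_⟩
    have hcop : Nat.Coprime r s := (Nat.coprime_primes hr hs).mpr hne
    rw [hfac] at hrq hsq
    rcases h with h | h | ⟨h3, h4⟩ | ⟨h3, h4⟩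
    · subst h
      rcases (Nat.Prime.dvd_mul hs).mp hsq with h5 | h5
      · exact ⟨q - 1, hq2, hcop.mul_dvd_of_dvd_of_dvd h2b h5⟩
      · exact ⟨q + 1, hq1, hcop.mul_dvd_of_dvd_of_dvd h2a h5⟩
    · subst h
      rcases (Nat.Prime.dvd_mul hr).mp hrq with h5 | h5
      · exact ⟨q - 1, hq2, hcop.mul_dvd_of_dvd_of_dvd h5 h2b⟩
      · exact ⟨q + 1, hq1, hcop.mul_dvd_of_dvd_of_dvd h5 h2a⟩
    · exact ⟨q + 1, hq1, hcop.mul_dvd_of_dvd_of_dvd h3 h4⟩
    · exact ⟨q - 1, hq2, hcop.mul_dvd_of_dvd_of_dvd h3 h4⟩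

end arith

end Cfsg.Agent.Lib.helper12
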