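import Cfsg.Agent.Lib.helper12.SL2Table

set_option autoImplicit false

namespace Cfsg.Agent.Lib.helper12

open Matrix Cfsg Cfsg.Agent.Lib.helper24
open scoped ComplexConjugate MatrixGroups

section odd

variable {F : Type*} [Field F] [Fintype F] [DecidableEq F]

omit [DecidableEq F] in
theorem quad_inv_eq_iff {α₀ : MulChar F ℂ} (hα : α₀ ^ 2 = 1) (hα1 : α₀ ≠ 1) (α : MulChar F ℂ) :
    α = α⁻¹ ↔ α = 1 ∨ α = α₀ := by
  constructor
  · intro h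
    by_cases h1 : α = 1
    · exact Or.inl h1
    · right
      apply quad_unique hα hα1 _ h1
      rw [sq]
      nth_rewrite 1 [h]
      exact inv_mul_cancel α
  · rintro (rfl | rfl)
    · rw [inv_one]
    · exact (quad_inv hα).symm

omit [DecidableEq F] [Fintype F] in
theorem quad_not_isSquare {α₀ : MulChar F ℂ} (hα : α₀ ^ 2 = 1) {ν : F} (hν : α₀ ν = -1) :
    ¬ IsSquare ν := by
  rintro ⟨b, hb⟩
  have hb0 : b ≠ 0 := by
    rintro rfl
    rw [mul_zero] at hb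
    exact quad_ne_zero hν hb
  rw [hb, map_mul, ← sq, ← MulChar.pow_apply' α₀ two_ne_zero, hα, MulChar.one_apply (Ne.isUnit hb0)] at hν
  norm_num at hν

omit [DecidableEq F] in
theorem quad_two_ne_zero {α₀ : MulChar F ℂ} (hα : α₀ ^ 2 = 1) {ν : F} (hν : α₀ ν = -1) :
    (2 : F) ≠ 0 := by
  intro h2
  apply quad_not_isSquare hα hν
  apply FiniteField.isSquare_of_char_two
  have h := ringChar.dvd (R := F) (x := 2) (by exact_mod_cast h2)
  rcases (Nat.dvd_prime Nat.prime_two).mp h with h1 | h1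
  · exact absurd h1 (CharP.ringChar_ne_one)
  · exact h1

theorem RSL_xi_inner {α₀ : MulChar F ℂ} (hα : α₀ ^ 2 = 1)
    {ξ₁ ξ₂ : IrrCharacter SL(2, F)} (hne : ξ₁ ≠ ξ₂) (hξ : RSL α₀ = ξ₁.1 + ξ₂.1)
    (α : MulChar F ℂ) [Decidable (α = α₀)] :
    classInner (RSL α) ξ₁.1 = if α = α₀ then 1 else 0 := by
  classical
  by_cases h : α = α₀
  · subst h
    rw [if_pos rfl, hξ, classInner_add_left, irr_inner_self, irr_inner_ne hne.symm]
    norm_num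
  · rw [if_neg h]
    obtain ⟨n₁, h₁⟩ := isCharacter_inner_irr_nat (RSL_isCharacter α) ξ₁
    obtain ⟨n₂, h₂⟩ := isCharacter_inner_irr_nat (RSL_isCharacter α) ξ₂
    have hsum : classInner (RSL α) (RSL α₀) = (n₁ : ℂ) + n₂ := by
      rw [hξ, classInner_add_right, h₁, h₂]
    rw [RSL_inner, if_neg h, if_neg (by rw [quad_inv hα]; exact h)] at hsum
    have : n₁ + n₂ = 0 := by exact_mod_cast hsum.symm
    rw [h₁]
    have : n₁ = 0 := by omega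
    rw [this]
    simp

theorem RSL_one_eq : RSL (1 : MulChar F ℂ) = trivSL F + stSL F := by
  unfold stSL
  abel

theorem SL2_irr_cases_odd {α₀ : MulChar F ℂ} (hα : α₀ ^ 2 = 1) (hα1 : α₀ ≠ 1)
    {ξ₁ ξ₂ : IrrCharacter SL(2, F)} (hξ : RSL α₀ = ξ₁.1 + ξ₂.1)
    (χ : IrrCharacter SL(2, F)) :
    IsCuspSL χ.1 ∨ χ.1 = trivSL F ∨ χ.1 = stSL F ∨ (∃ α : MulChar F ℂ, α ≠ α⁻¹ ∧ χ.1 = RSL α) ∨
      χ = ξ₁ ∨ χ = ξ₂ := by
  classical
  by_cases hc : IsCuspSL χ.1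
  · exact Or.inl hc
  · right
    unfold IsCuspSL at hc
    push Not at hc
    obtain ⟨α, hne⟩ := hc
    by_cases hinv : α = α⁻¹
    · rcases (quad_inv_eq_iff hα hα1 α).mp hinv with h1 | h1
      · subst h1
        rw [RSL_one_eq, classInner_add_left] at hne
        by_cases h1 : classInner (trivSL F) χ.1 = 0
        · rw [h1, zero_add] at hne
          right; left
          exact (congrArg Subtype.val (irr_eq_of_inner_ne_zero (χ := ⟨_, stSL_isIrr⟩) (ψ := χ) hne)).symm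
        · left
          exact (congrArg Subtype.val (irr_eq_of_inner_ne_zero (χ := ⟨_, trivSL_isIrr⟩) (ψ := χ) h1)).symm
      · subst h1
        rw [hξ, classInner_add_left] at hne
        right; right; right
        by_cases h1 : classInner ξ₁.1 χ.1 = 0
        · rw [h1, zero_add] at hne
          right
          exact (irr_eq_of_inner_ne_zero hne).symm
        · left
          exact (irr_eq_of_inner_ne_zero h1).symm
    · right; right; left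
      refine ⟨α, hinv, ?_⟩
      exact (congrArg Subtype.val (irr_eq_of_inner_ne_zero (χ := ⟨_, RSL_isIrr α hinv⟩) (ψ := χ) hne)).symm

/-- The weight that is `1` on non-cuspidal and `0` on cuspidal irreducible characters. -/
noncomputable def wSLo [Fintype (MulChar F ℂ)] (α₀ : MulChar F ℂ) (χ : SL(2, F) → ℂ) : ℂ :=
  (1 / 2) * (∑ α : MulChar F ℂ, classInner (RSL α) χ + classInner (RSL 1) χ +
    classInner (RSL α₀) χ)

theorem wSLo_eq [Fintype (MulChar F ℂ)] {α₀ : MulChar F ℂ} (hα : α₀ ^ 2 = 1) (hα1 : α₀ ≠ 1)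
    {ξ₁ ξ₂ : IrrCharacter SL(2, F)} (hne : ξ₁ ≠ ξ₂) (hξ : RSL α₀ = ξ₁.1 + ξ₂.1)
    (χ : IrrCharacter SL(2, F)) [Decidable (IsCuspSL χ.1)] :
    wSLo α₀ χ.1 = if IsCuspSL χ.1 then 0 else 1 := by
  classical
  have hξ' : RSL α₀ = ξ₂.1 + ξ₁.1 := by rw [hξ, add_comm]
  rcases SL2_irr_cases_odd hα hα1 hξ χ with hc | h | h | ⟨γ, hγ, h⟩ | h | h
  · rw [if_pos hc]
    unfold wSLo
    simp only [show ∀ α, classInner (RSL α) χ.1 = 0 from hc]
    simp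
  · have hnc : ¬ IsCuspSL χ.1 := by
      intro hc
      have := hc 1
      rw [h, RSL_triv_inner] at this
      simp at this
    rw [if_neg hnc]
    unfold wSLo
    rw [h]
    simp only [RSL_triv_inner, Finset.sum_ite_eq', Finset.mem_univ, if_true, if_neg hα1]
    norm_num
  · have hnc : ¬ IsCuspSL χ.1 := by
      intro hc
      have := hc 1
      rw [h, RSL_stSL_inner] at this
      simp at this
    rw [if_neg hnc]
    unfold wSLo
    rw [h]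
    simp only [RSL_stSL_inner, Finset.sum_ite_eq', Finset.mem_univ, if_true, if_neg hα1]
    norm_num
  · have hnc : ¬ IsCuspSL χ.1 := by
      intro hc
      have := hc γ
      rw [h, RSL_inner, if_pos rfl, if_neg hγ] at this
      norm_num at this
    have h1 : (1 : MulChar F ℂ) ≠ γ := by
      rintro rfl
      exact hγ (by rw [inv_one])
    have h2 : (1 : MulChar F ℂ) ≠ γ⁻¹ := by
      intro h'
      apply hγ
      rw [← h', ← inv_inv γ, ← h', inv_one]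
    have h3 : α₀ ≠ γ := by
      rintro rfl
      exact hγ (quad_inv hα).symm
    have h4 : α₀ ≠ γ⁻¹ := by
      intro h'
      apply hγ
      rw [← h', ← inv_inv γ, ← h', quad_inv hα]
    rw [if_neg hnc]
    unfold wSLo
    rw [h]
    simp only [RSL_inner, Finset.sum_add_distrib, Finset.sum_ite_eq', Finset.mem_univ, if_true,
      if_neg h1, if_neg h2, if_neg h3, if_neg h4]
    norm_num
  · have hnc : ¬ IsCuspSL χ.1 := by
      intro hc
      have := hc α₀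
      rw [h, RSL_xi_inner hα hne hξ] at this
      simp at this
    rw [if_neg hnc]
    unfold wSLo
    rw [h]
    simp only [RSL_xi_inner hα hne hξ, Finset.sum_ite_eq', Finset.mem_univ, if_true,
      if_neg (Ne.symm hα1)]
    norm_num
  · have hnc : ¬ IsCuspSL χ.1 := by
      intro hc
      have := hc α₀
      rw [h, RSL_xi_inner hα hne.symm hξ'] at this
      simp at this
    rw [if_neg hnc]
    unfold wSLo
    rw [h]
    simp only [RSL_xi_inner hα hne.symm hξ', Finset.sum_ite_eq', Finset.mem_univ, if_true,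
      if_neg (Ne.symm hα1)]
    norm_num

theorem sum_irr_mul_inner_RSL_odd [Fintype (IrrCharacter SL(2, F))] {α₀ : MulChar F ℂ}
    (hα : α₀ ^ 2 = 1) (hα1 : α₀ ≠ 1)
    {ξ₁ ξ₂ : IrrCharacter SL(2, F)} (hξ : RSL α₀ = ξ₁.1 + ξ₂.1)
    (g : (SL(2, F) → ℂ) → ℂ) (α : MulChar F ℂ) :
    ∑ χ : IrrCharacter SL(2, F), g χ.1 * classInner (RSL α) χ.1 =
      if α = 1 then g (trivSL F) + g (stSL F) else if α = α₀ then g ξ₁.1 + g ξ₂.1 else g (RSL α) := by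
  split_ifs with h1 h2
  · subst h1
    rw [RSL_one_eq]
    simp only [classInner_add_left, mul_add, Finset.sum_add_distrib]
    have e1 := sum_irr_mul_inner (fun χ : IrrCharacter SL(2, F) => g χ.1) ⟨trivSL F, trivSL_isIrr⟩
    have e2 := sum_irr_mul_inner (fun χ : IrrCharacter SL(2, F) => g χ.1) ⟨stSL F, stSL_isIrr⟩
    simp only at e1 e2
    rw [e1, e2]
  · subst h2
    rw [hξ]
    simp only [classInner_add_left, mul_add, Finset.sum_add_distrib]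
    have e1 := sum_irr_mul_inner (fun χ : IrrCharacter SL(2, F) => g χ.1) ξ₁
    have e2 := sum_irr_mul_inner (fun χ : IrrCharacter SL(2, F) => g χ.1) ξ₂
    rw [e1, e2]
  · have hinv : α ≠ α⁻¹ := by
      intro h
      rcases (quad_inv_eq_iff hα hα1 α).mp h with h | h
      · exact h1 h
      · exact h2 h
    have e1 := sum_irr_mul_inner (fun χ : IrrCharacter SL(2, F) => g χ.1) ⟨RSL α, RSL_isIrr α hinv⟩
    simp only at e1
    rw [e1]

/-- The master counting identity for the irreducible characters of `SL₂`, odd characteristic. -/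
theorem SL2_sum_irr_odd [Fintype (IrrCharacter SL(2, F))] [Fintype (MulChar F ℂ)]
    [DecidablePred (fun χ : IrrCharacter SL(2, F) => IsCuspSL χ.1)]
    {α₀ : MulChar F ℂ} (hα : α₀ ^ 2 = 1) (hα1 : α₀ ≠ 1)
    {ξ₁ ξ₂ : IrrCharacter SL(2, F)} (hne : ξ₁ ≠ ξ₂) (hξ : RSL α₀ = ξ₁.1 + ξ₂.1)
    (g : (SL(2, F) → ℂ) → ℂ) :
    ∑ χ : IrrCharacter SL(2, F), g χ.1 =
      g (trivSL F) + g (stSL F) +
      (1 / 2) * ∑ α : MulChar F ℂ, (if α = 1 ∨ α = α₀ then 0 else g (RSL α)) +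
      g ξ₁.1 + g ξ₂.1 +
      ∑ χ ∈ Finset.univ.filter (fun χ : IrrCharacter SL(2, F) => IsCuspSL χ.1), g χ.1 := by
  classical
  have hsplit : ∀ χ : IrrCharacter SL(2, F),
      g χ.1 = g χ.1 * wSLo α₀ χ.1 + (if IsCuspSL χ.1 then g χ.1 else 0) := by
    intro χ
    rw [wSLo_eq hα hα1 hne hξ]
    split_ifs <;> ring
  rw [Finset.sum_congr rfl (fun χ _ => hsplit χ), Finset.sum_add_distrib, ← Finset.sum_filter]
  congr 1
  have e1 : ∑ χ : IrrCharacter SL(2, F), g χ.1 * (∑ α : MulChar F ℂ, classInner (RSL α) χ.1) =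
      ∑ α : MulChar F ℂ, ∑ χ : IrrCharacter SL(2, F), g χ.1 * classInner (RSL α) χ.1 := by
    simp only [Finset.mul_sum]
    rw [Finset.sum_comm]
  have e3 : ∑ χ : IrrCharacter SL(2, F), g χ.1 * wSLo α₀ χ.1 =
      (1 / 2) * (∑ χ : IrrCharacter SL(2, F), g χ.1 * (∑ α : MulChar F ℂ, classInner (RSL α) χ.1) +
        ∑ χ : IrrCharacter SL(2, F), g χ.1 * classInner (RSL 1) χ.1 +
        ∑ χ : IrrCharacter SL(2, F), g χ.1 * classInner (RSL α₀) χ.1) := by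
    rw [← Finset.sum_add_distrib, ← Finset.sum_add_distrib, Finset.mul_sum]
    apply Finset.sum_congr rfl
    intro χ _
    unfold wSLo
    ring
  rw [e3, e1]
  simp only [sum_irr_mul_inner_RSL_odd hα hα1 hξ, if_true, if_neg hα1]
  have e4 : ∀ α : MulChar F ℂ,
      (if α = 1 then g (trivSL F) + g (stSL F) else if α = α₀ then g ξ₁.1 + g ξ₂.1 else g (RSL α)) =
      (if α = 1 then g (trivSL F) + g (stSL F) else 0) + (if α = α₀ then g ξ₁.1 + g ξ₂.1 else 0) +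
        (if α = 1 ∨ α = α₀ then 0 else g (RSL α)) := by
    intro α
    by_cases h1 : α = 1
    · have h2 : α ≠ α₀ := by
        rw [h1]
        exact Ne.symm hα1
      simp [h1, Ne.symm hα1]
    · by_cases h2 : α = α₀
      · simp [h2, hα1]
      · simp [h1, h2]
  simp only [e4, Finset.sum_add_distrib, Finset.sum_ite_eq', Finset.mem_univ, if_true]
  ring

end odd

section oddB

variable {F : Type*} [Field F] [Fintype F] [DecidableEq F]

omit [DecidableEq F] in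
theorem gauss_mul_conj {α₀ : MulChar F ℂ} (hα1 : α₀ ≠ 1) {ψ : AddChar F ℂ} (hψ : ψ.IsPrimitive) :
    gaussSum α₀ ψ * conj (gaussSum α₀ ψ) = (Fintype.card F : ℂ) := by
  rw [starRingEnd_apply, star_gaussSum_eq, gaussSum_mul_gaussSum_eq_card hα1 hψ]

omit [DecidableEq F] in
theorem gauss_ne_zero {α₀ : MulChar F ℂ} (hα1 : α₀ ≠ 1) {ψ : AddChar F ℂ} (hψ : ψ.IsPrimitive) :
    gaussSum α₀ ψ ≠ 0 := by
  intro h
  have h1 := gauss_mul_conj hα1 hψ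
  rw [h, zero_mul] at h1
  have hq0 : (Fintype.card F : ℂ) ≠ 0 := by
    exact_mod_cast (Fintype.card_pos (α := F)).ne'
  exact hq0 h1.symm

theorem SL2_unip_diff {α₀ : MulChar F ℂ} (hα : α₀ ^ 2 = 1) (hα1 : α₀ ≠ 1) {ν : F} (hν : α₀ ν = -1)
    {ψ : AddChar F ℂ} (hψ : ψ.IsPrimitive) {χ : SL(2, F) → ℂ} (hχ : IsCharacter SL(2, F) χ) :
    χ (uSL 1) - χ (uSL ν) = ((nU ψ χ 1 : ℂ) - nU ψ χ ν) * gaussSum α₀ ψ := by
  obtain ⟨-, -, h3⟩ := SL2_U_odd hα hα1 hν hψ hχ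
  have e1 := h3 1 one_ne_zero
  have e2 := h3 ν (quad_ne_zero hν)
  rw [map_one] at e1
  rw [hν] at e2
  linear_combination (1 / 2 : ℂ) * e1 - (1 / 2 : ℂ) * e2

theorem dU_eq_zero_of {α₀ : MulChar F ℂ} (hα : α₀ ^ 2 = 1) (hα1 : α₀ ≠ 1) {ν : F} (hν : α₀ ν = -1)
    {ψ : AddChar F ℂ} (hψ : ψ.IsPrimitive) {χ : SL(2, F) → ℂ} (hχ : IsCharacter SL(2, F) χ)
    (h : χ (uSL 1) = χ (uSL ν)) : (nU ψ χ 1 : ℂ) - nU ψ χ ν = 0 := by
  have h1 := SL2_unip_diff hα hα1 hν hψ hχ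
  rw [h, sub_self] at h1
  exact (mul_eq_zero.mp h1.symm).resolve_right (gauss_ne_zero hα1 hψ)

omit [Fintype F] [DecidableEq F] in
theorem uSL_ne_one {y : F} (hy : y ≠ 0) : uSL y ≠ 1 := by
  intro h
  have h1 := congrArg (fun g : SL(2, F) => (g : Matrix (Fin 2) (Fin 2) F) 0 1) h
  simp [uSL_val] at h1
  exact hy h1

theorem SL2_sum_dU_sq [Fintype (IrrCharacter SL(2, F))] {α₀ : MulChar F ℂ} (hα : α₀ ^ 2 = 1)
    (hα1 : α₀ ≠ 1) {ν : F} (hν : α₀ ν = -1) {ψ : AddChar F ℂ} (hψ : ψ.IsPrimitive) :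
    ∑ χ : IrrCharacter SL(2, F), ((nU ψ χ.1 1 : ℂ) - nU ψ χ.1 ν) ^ 2 = 4 := by
  have h2 := quad_two_ne_zero hα hν
  have hν0 := quad_ne_zero hν
  have hns := quad_not_isSquare hα hν
  have hq0 : (Fintype.card F : ℂ) ≠ 0 := by
    exact_mod_cast (Fintype.card_pos (α := F)).ne'
  have s11 := second_orth_of_isConj (G := SL(2, F)) (IsConj.refl (uSL (1 : F)))
  have sνν := second_orth_of_isConj (G := SL(2, F)) (IsConj.refl (uSL ν))
  have s1ν := second_orth_of_not_isConj (G := SL(2, F)) (g := uSL 1) (h := uSL ν)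
    (by rw [uSL_isConj_iff one_ne_zero hν0, one_mul]; exact hns)
  have sν1 := second_orth_of_not_isConj (G := SL(2, F)) (g := uSL ν) (h := uSL 1)
    (by rw [uSL_isConj_iff hν0 one_ne_zero, mul_one]; exact hns)
  rw [card_centralizer_uSL h2 one_ne_zero] at s11
  rw [card_centralizer_uSL h2 hν0] at sνν
  have key : ∀ χ : IrrCharacter SL(2, F),
      (χ.1 (uSL 1) - χ.1 (uSL ν)) * conj (χ.1 (uSL 1) - χ.1 (uSL ν)) =
      ((nU ψ χ.1 1 : ℂ) - nU ψ χ.1 ν) ^ 2 * (Fintype.card F : ℂ) := by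
    intro χ
    rw [SL2_unip_diff hα hα1 hν hψ (isCharacter_of_isIrrCharacter χ.2), map_mul, map_sub,
      Complex.conj_natCast, Complex.conj_natCast]
    have := gauss_mul_conj hα1 hψ
    linear_combination ((nU ψ χ.1 1 : ℂ) - nU ψ χ.1 ν) ^ 2 * this
  have hsum : ∑ χ : IrrCharacter SL(2, F),
      (χ.1 (uSL 1) - χ.1 (uSL ν)) * conj (χ.1 (uSL 1) - χ.1 (uSL ν)) = 4 * (Fintype.card F : ℂ) := by
    simp only [map_sub, sub_mul, mul_sub, Finset.sum_sub_distrib]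
    rw [s11, sνν, s1ν, sν1]
    push_cast
    ring
  simp only [key] at hsum
  rw [← Finset.sum_mul] at hsum
  exact mul_right_cancel₀ hq0 hsum

theorem SL2_sum_dU_deg [Fintype (IrrCharacter SL(2, F))] {α₀ : MulChar F ℂ} (hα : α₀ ^ 2 = 1)
    (hα1 : α₀ ≠ 1) {ν : F} (hν : α₀ ν = -1) {ψ : AddChar F ℂ} (hψ : ψ.IsPrimitive) :
    ∑ χ : IrrCharacter SL(2, F), ((nU ψ χ.1 1 : ℂ) - nU ψ χ.1 ν) * χ.1 1 = 0 := by
  have hν0 := quad_ne_zero hν
  have s1 := second_orth_of_not_isConj (G := SL(2, F)) (g := uSL 1) (h := (1 : SL(2, F)))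
    (by rw [isConj_one_left]; exact uSL_ne_one one_ne_zero)
  have sν := second_orth_of_not_isConj (G := SL(2, F)) (g := uSL ν) (h := (1 : SL(2, F)))
    (by rw [isConj_one_left]; exact uSL_ne_one hν0)
  have hreal : ∀ χ : IrrCharacter SL(2, F), conj (χ.1 1) = χ.1 1 := by
    intro χ
    obtain ⟨d, -, hd⟩ := isIrrCharacter_one χ.2
    rw [hd, Complex.conj_natCast]
  simp only [hreal] at s1 sν
  have hsum : ∑ χ : IrrCharacter SL(2, F), (χ.1 (uSL 1) - χ.1 (uSL ν)) * χ.1 1 = 0 := by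
    simp only [sub_mul, Finset.sum_sub_distrib, s1, sν, sub_zero]
  have key : ∀ χ : IrrCharacter SL(2, F), (χ.1 (uSL 1) - χ.1 (uSL ν)) * χ.1 1 =
      gaussSum α₀ ψ * (((nU ψ χ.1 1 : ℂ) - nU ψ χ.1 ν) * χ.1 1) := by
    intro χ
    rw [SL2_unip_diff hα hα1 hν hψ (isCharacter_of_isIrrCharacter χ.2)]
    ring
  simp only [key] at hsum
  rw [← Finset.mul_sum] at hsum
  exact (mul_eq_zero.mp hsum).resolve_left (gauss_ne_zero hα1 hψ)

omit [DecidableEq F] in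
theorem SL2_irr_eq_triv (χ : IrrCharacter SL(2, F)) (h : ∀ y : F, χ.1 (uSL y) = χ.1 1)
    (h1 : χ.1 1 = 1) : χ.1 = trivSL F := by
  classical
  have hk : irrKer χ = ⊤ := SL2_normal_eq_top _ (fun y => (mem_irrKer χ _).mpr (h y))
  funext g
  have hg : g ∈ irrKer χ := by
    rw [hk]
    trivial
  rw [(mem_irrKer χ g).mp hg, h1]
  rfl

theorem SL2_aU_pos {α₀ : MulChar F ℂ} (hα : α₀ ^ 2 = 1) (hα1 : α₀ ≠ 1) {ν : F} (hν : α₀ ν = -1)
    {ψ : AddChar F ℂ} (hψ : ψ.IsPrimitive) {χ : IrrCharacter SL(2, F)} (hχt : χ.1 ≠ trivSL F)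
    (h0 : nU ψ χ.1 0 = 1) : nU ψ χ.1 1 + nU ψ χ.1 ν ≠ 0 := by
  intro hA
  have hp : nU ψ χ.1 1 = 0 := by omega
  have hm : nU ψ χ.1 ν = 0 := by omega
  obtain ⟨-, h2, h3⟩ := SL2_U_odd hα hα1 hν hψ (isCharacter_of_isIrrCharacter χ.2)
  rw [h0, hp, hm] at h2
  have hdeg : χ.1 1 = 1 := by
    push_cast at h2
    linear_combination (1 / 2 : ℂ) * h2
  apply hχt
  apply SL2_irr_eq_triv χ _ hdeg
  intro y
  by_cases hy : y = 0
  · rw [hy, uSL_zero]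
  · have h4 := h3 y hy
    rw [h0, hp, hm] at h4
    push_cast at h4
    rw [hdeg]
    linear_combination (1 / 2 : ℂ) * h4

theorem SL2_xi_data {α₀ : MulChar F ℂ} (hα : α₀ ^ 2 = 1) (hα1 : α₀ ≠ 1) {ν : F} (hν : α₀ ν = -1)
    {ψ : AddChar F ℂ} (hψ : ψ.IsPrimitive)
    {ξ₁ ξ₂ : IrrCharacter SL(2, F)} (hne : ξ₁ ≠ ξ₂) (hξ : RSL α₀ = ξ₁.1 + ξ₂.1) :
    nU ψ ξ₁.1 0 = 1 ∧ nU ψ ξ₁.1 1 + nU ψ ξ₁.1 ν = 1 ∧
      nU ψ ξ₂.1 0 = 1 ∧ nU ψ ξ₂.1 1 + nU ψ ξ₂.1 ν = 1 := by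
  classical
  have := Fintype.ofFinite (MulChar F ℂ)
  have hξ' : RSL α₀ = ξ₂.1 + ξ₁.1 := by rw [hξ, add_comm]
  have hc1 := isCharacter_of_isIrrCharacter ξ₁.2
  have hc2 := isCharacter_of_isIrrCharacter ξ₂.2
  have h01 : nU ψ ξ₁.1 0 = 1 := by
    have h := SL2_m0_eq ψ hc1
    simp only [RSL_xi_inner hα hne hξ, Finset.sum_ite_eq', Finset.mem_univ, if_true] at h
    exact_mod_cast h
  have h02 : nU ψ ξ₂.1 0 = 1 := by
    have h := SL2_m0_eq ψ hc2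
    simp only [RSL_xi_inner hα hne.symm hξ', Finset.sum_ite_eq', Finset.mem_univ, if_true] at h
    exact_mod_cast h
  have ht1 : ξ₁.1 ≠ trivSL F := by
    intro h
    have h1 := RSL_xi_inner hα hne hξ α₀
    rw [h, RSL_triv_inner, if_neg hα1, if_pos rfl] at h1
    exact zero_ne_one h1
  have ht2 : ξ₂.1 ≠ trivSL F := by
    intro h
    have h1 := RSL_xi_inner hα hne.symm hξ' α₀
    rw [h, RSL_triv_inner, if_neg hα1, if_pos rfl] at h1
    exact zero_ne_one h1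
  have hA1 := SL2_aU_pos hα hα1 hν hψ ht1 h01
  have hA2 := SL2_aU_pos hα hα1 hν hψ ht2 h02
  obtain ⟨-, d1, -⟩ := SL2_U_odd hα hα1 hν hψ hc1
  obtain ⟨-, d2, -⟩ := SL2_U_odd hα hα1 hν hψ hc2
  rw [h01] at d1
  rw [h02] at d2
  have hsum : ξ₁.1 1 + ξ₂.1 1 = (Fintype.card F : ℂ) + 1 := by
    have := congrFun hξ 1
    rw [RSL_apply_one] at this
    rw [this]
    rfl
  have hq1 := card_sub_one_ne_zero (F := F)
  have htot : ((nU ψ ξ₁.1 1 + nU ψ ξ₁.1 ν + nU ψ ξ₂.1 1 + nU ψ ξ₂.1 ν : ℕ) : ℂ) = ((2 : ℕ) : ℂ) := by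
    have : ((nU ψ ξ₁.1 1 + nU ψ ξ₁.1 ν + nU ψ ξ₂.1 1 + nU ψ ξ₂.1 ν : ℕ) : ℂ) *
        ((Fintype.card F : ℂ) - 1) = ((2 : ℕ) : ℂ) * ((Fintype.card F : ℂ) - 1) := by
      push_cast at d1 d2 ⊢
      linear_combination 2 * hsum - d1 - d2
    exact mul_right_cancel₀ hq1 this
  have htot' : nU ψ ξ₁.1 1 + nU ψ ξ₁.1 ν + nU ψ ξ₂.1 1 + nU ψ ξ₂.1 ν = 2 := by exact_mod_cast htot
  refine ⟨h01, by omega, h02, by omega⟩

end oddB

section oddC

variable {F : Type*} [Field F] [Fintype F] [DecidableEq F]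

theorem card_mulChar_cast [Fintype (MulChar F ℂ)] :
    (Fintype.card (MulChar F ℂ) : ℂ) = (Fintype.card F : ℂ) - 1 := by
  have h := card_mulChar (F := F)
  rw [Nat.card_eq_fintype_card] at h
  rw [h, Nat.cast_sub Fintype.card_pos, Nat.cast_one]

theorem sum_not_quad [Fintype (MulChar F ℂ)] {α₀ : MulChar F ℂ} (hα1 : α₀ ≠ 1) (c : ℂ) :
    ∑ α : MulChar F ℂ, (if α = 1 ∨ α = α₀ then 0 else c) = ((Fintype.card F : ℂ) - 3) * c := by
  have e : ∀ α : MulChar F ℂ, (if α = 1 ∨ α = α₀ then 0 else c) =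
      c - (if α = 1 then c else 0) - (if α = α₀ then c else 0) := by
    intro α
    by_cases h1 : α = 1
    · simp [h1, Ne.symm hα1]
    · by_cases h2 : α = α₀
      · simp [h2, hα1]
      · simp [h1, h2]
  simp only [e, Finset.sum_sub_distrib, Finset.sum_ite_eq', Finset.mem_univ, if_true,
    Finset.sum_const, Finset.card_univ, nsmul_eq_mul]
  rw [card_mulChar_cast]
  ring

omit [DecidableEq F] in
theorem card_irr_SL2_odd [Fintype (IrrCharacter SL(2, F))] (hF : Fintype.card F % 2 = 1) :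
    (Fintype.card (IrrCharacter SL(2, F)) : ℂ) = (Fintype.card F : ℂ) + 4 := by
  have h1 := card_irr_eq_card_conjClasses (G := SL(2, F))
  rw [card_conjClasses_SL2_odd hF, Nat.card_eq_fintype_card] at h1
  rw [h1]
  push_cast
  ring

omit [DecidableEq F] in
theorem card_SL2_cast :
    (Nat.card SL(2, F) : ℂ) = (Fintype.card F : ℂ) * ((Fintype.card F : ℂ) ^ 2 - 1) := by
  rw [card_SL2, Nat.cast_mul, Nat.cast_sub (Nat.one_le_pow _ _ Fintype.card_pos)]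
  push_cast
  ring

omit [DecidableEq F] in
theorem quad_card_odd {α₀ : MulChar F ℂ} (hα : α₀ ^ 2 = 1) {ν : F} (hν : α₀ ν = -1) :
    Fintype.card F % 2 = 1 := by
  have h2 := quad_two_ne_zero hα hν
  have hchar : ringChar F ≠ 2 := by
    intro h
    apply h2
    have := ringChar.Nat.cast_ringChar (R := F)
    rw [h] at this
    exact_mod_cast this
  exact FiniteField.odd_card_of_char_ne_two hchar

theorem RSL_norm_two {α₀ : MulChar F ℂ} (hα : α₀ ^ 2 = 1) :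
    classInner (RSL α₀) (RSL α₀) = 2 := by
  rw [RSL_inner, if_pos rfl, if_pos (quad_inv hα).symm]
  norm_num

theorem SL2_cusp_n0 (ψ : AddChar F ℂ) {χ : IrrCharacter SL(2, F)} (hc : IsCuspSL χ.1) :
    nU ψ χ.1 0 = 0 := by
  have hχ := isCharacter_of_isIrrCharacter χ.2
  have h := SL2_cusp_sum χ.1 (isCharacter_conj_class hχ) hc 1
  simp only [borelSLMk_one] at h
  rw [mU_zero ψ χ.1, ← nU_cast ψ hχ] at h
  have hq0 : (Fintype.card F : ℂ) ≠ 0 := by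
    exact_mod_cast (Fintype.card_pos (α := F)).ne'
  have := (mul_eq_zero.mp h).resolve_left hq0
  exact_mod_cast this

theorem stSL_apply_uSL {y : F} (hy : y ≠ 0) : stSL F (uSL y) = 0 := by
  unfold stSL
  rw [Pi.sub_apply, RSL_apply_unip 1 (uSL y) (by simp [uSL_val]) (by simp [uSL_val])
    (by simpa [uSL_val] using hy)]
  simp [uSL_val, trivSL]

theorem RSL_apply_uSL (α : MulChar F ℂ) {y : F} (hy : y ≠ 0) : RSL α (uSL y) = 1 := by
  rw [RSL_apply_unip α (uSL y) (by simp [uSL_val]) (by simp [uSL_val])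
    (by simpa [uSL_val] using hy)]
  simp [uSL_val]

/-- Number of cuspidal characters of `SL₂`, odd characteristic. -/
theorem SL2_cusp_card_odd [Fintype (IrrCharacter SL(2, F))]
    [DecidablePred (fun χ : IrrCharacter SL(2, F) => IsCuspSL χ.1)]
    {α₀ : MulChar F ℂ} (hα : α₀ ^ 2 = 1) (hα1 : α₀ ≠ 1) {ν : F} (hν : α₀ ν = -1)
    {ξ₁ ξ₂ : IrrCharacter SL(2, F)} (hne : ξ₁ ≠ ξ₂) (hξ : RSL α₀ = ξ₁.1 + ξ₂.1) :
    ((Finset.univ.filter (fun χ : IrrCharacter SL(2, F) => IsCuspSL χ.1)).card : ℂ) =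
      ((Fintype.card F : ℂ) + 3) / 2 := by
  classical
  have := Fintype.ofFinite (MulChar F ℂ)
  have h := SL2_sum_irr_odd hα hα1 hne hξ (fun _ => (1 : ℂ))
  simp only [Finset.sum_const, Finset.card_univ, nsmul_eq_mul, mul_one] at h
  rw [card_irr_SL2_odd (quad_card_odd hα hν)] at h
  have h' := sum_not_quad hα1 (1 : ℂ)
  rw [mul_one] at h'
  rw [h'] at h
  linear_combination -h

/-- Sum of the squares of `m₊ - m₋` over the cuspidal characters. -/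
theorem SL2_cusp_sum_dU_sq [Fintype (IrrCharacter SL(2, F))]
    [DecidablePred (fun χ : IrrCharacter SL(2, F) => IsCuspSL χ.1)]
    {α₀ : MulChar F ℂ} (hα : α₀ ^ 2 = 1) (hα1 : α₀ ≠ 1) {ν : F} (hν : α₀ ν = -1)
    {ψ : AddChar F ℂ} (hψ : ψ.IsPrimitive)
    {ξ₁ ξ₂ : IrrCharacter SL(2, F)} (hne : ξ₁ ≠ ξ₂) (hξ : RSL α₀ = ξ₁.1 + ξ₂.1) :
    ∑ χ ∈ Finset.univ.filter (fun χ : IrrCharacter SL(2, F) => IsCuspSL χ.1),
      ((nU ψ χ.1 1 : ℂ) - nU ψ χ.1 ν) ^ 2 = 2 := by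
  classical
  have := Fintype.ofFinite (MulChar F ℂ)
  have hν0 := quad_ne_zero hν
  have h := SL2_sum_irr_odd hα hα1 hne hξ (fun χ => ((nU ψ χ 1 : ℂ) - nU ψ χ ν) ^ 2)
  beta_reduce at h
  rw [SL2_sum_dU_sq hα hα1 hν hψ] at h
  have e1 : (nU ψ (trivSL F) 1 : ℂ) - nU ψ (trivSL F) ν = 0 :=
    dU_eq_zero_of hα hα1 hν hψ (isCharacter_of_isIrrCharacter trivSL_isIrr) rfl
  have e2 : (nU ψ (stSL F) 1 : ℂ) - nU ψ (stSL F) ν = 0 :=
    dU_eq_zero_of hα hα1 hν hψ (isCharacter_of_isIrrCharacter stSL_isIrr)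
      (by rw [stSL_apply_uSL one_ne_zero, stSL_apply_uSL hν0])
  have e3 : ∀ α : MulChar F ℂ, (nU ψ (RSL α) 1 : ℂ) - nU ψ (RSL α) ν = 0 := fun α =>
    dU_eq_zero_of hα hα1 hν hψ (RSL_isCharacter α)
      (by rw [RSL_apply_uSL α one_ne_zero, RSL_apply_uSL α hν0])
  obtain ⟨-, hA1, -, hA2⟩ := SL2_xi_data hα hα1 hν hψ hne hξ
  have e4 : ((nU ψ ξ₁.1 1 : ℂ) - nU ψ ξ₁.1 ν) ^ 2 = 1 := by
    have : (nU ψ ξ₁.1 1 = 1 ∧ nU ψ ξ₁.1 ν = 0) ∨ (nU ψ ξ₁.1 1 = 0 ∧ nU ψ ξ₁.1 ν = 1) := by omega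
    rcases this with ⟨h1, h2⟩ | ⟨h1, h2⟩ <;> rw [h1, h2] <;> norm_num
  have e5 : ((nU ψ ξ₂.1 1 : ℂ) - nU ψ ξ₂.1 ν) ^ 2 = 1 := by
    have : (nU ψ ξ₂.1 1 = 1 ∧ nU ψ ξ₂.1 ν = 0) ∨ (nU ψ ξ₂.1 1 = 0 ∧ nU ψ ξ₂.1 ν = 1) := by omega
    rcases this with ⟨h1, h2⟩ | ⟨h1, h2⟩ <;> rw [h1, h2] <;> norm_num
  rw [e1, e2, e4, e5] at h
  simp only [e3] at h
  simp only [ne_eq, OfNat.ofNat_ne_zero, not_false_eq_true, zero_pow, ite_self,
    Finset.sum_const_zero, mul_zero, add_zero, zero_add] at h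
  linear_combination -h

theorem SL2_xi_degree {α₀ : MulChar F ℂ} (hα : α₀ ^ 2 = 1) (hα1 : α₀ ≠ 1) {ν : F} (hν : α₀ ν = -1)
    {ψ : AddChar F ℂ} (hψ : ψ.IsPrimitive)
    {ξ₁ ξ₂ : IrrCharacter SL(2, F)} (hne : ξ₁ ≠ ξ₂) (hξ : RSL α₀ = ξ₁.1 + ξ₂.1) :
    2 * ξ₁.1 1 = (Fintype.card F : ℂ) + 1 ∧ 2 * ξ₂.1 1 = (Fintype.card F : ℂ) + 1 := by
  obtain ⟨h01, hA1, h02, hA2⟩ := SL2_xi_data hα hα1 hν hψ hne hξ
  obtain ⟨-, d1, -⟩ := SL2_U_odd hα hα1 hν hψ (isCharacter_of_isIrrCharacter ξ₁.2)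
  obtain ⟨-, d2, -⟩ := SL2_U_odd hα hα1 hν hψ (isCharacter_of_isIrrCharacter ξ₂.2)
  have a1 : (nU ψ ξ₁.1 1 : ℂ) + nU ψ ξ₁.1 ν = 1 := by exact_mod_cast hA1
  have a2 : (nU ψ ξ₂.1 1 : ℂ) + nU ψ ξ₂.1 ν = 1 := by exact_mod_cast hA2
  rw [h01, a1] at d1
  rw [h02, a2] at d2
  constructor
  · rw [d1]
    push_cast
    ring
  · rw [d2]
    push_cast
    ring

/-- Sum of the squares of the degrees of the cuspidal characters. -/
theorem SL2_cusp_sum_deg_sq [Fintype (IrrCharacter SL(2, F))]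
    [DecidablePred (fun χ : IrrCharacter SL(2, F) => IsCuspSL χ.1)]
    {α₀ : MulChar F ℂ} (hα : α₀ ^ 2 = 1) (hα1 : α₀ ≠ 1) {ν : F} (hν : α₀ ν = -1)
    {ψ : AddChar F ℂ} (hψ : ψ.IsPrimitive)
    {ξ₁ ξ₂ : IrrCharacter SL(2, F)} (hne : ξ₁ ≠ ξ₂) (hξ : RSL α₀ = ξ₁.1 + ξ₂.1) :
    ∑ χ ∈ Finset.univ.filter (fun χ : IrrCharacter SL(2, F) => IsCuspSL χ.1), χ.1 1 ^ 2 =
      (Fintype.card F : ℂ) * ((Fintype.card F : ℂ) - 1) ^ 2 / 2 := by
  classical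
  have := Fintype.ofFinite (MulChar F ℂ)
  have h := SL2_sum_irr_odd hα hα1 hne hξ (fun χ => χ 1 ^ 2)
  beta_reduce at h
  rw [sum_sq_degrees, card_SL2_cast] at h
  simp only [RSL_apply_one] at h
  rw [sum_not_quad hα1, stSL_apply_one, trivSL_apply] at h
  obtain ⟨d1, d2⟩ := SL2_xi_degree hα hα1 hν hψ hne hξ
  have d1' : ξ₁.1 1 = ((Fintype.card F : ℂ) + 1) / 2 := by linear_combination (1 / 2 : ℂ) * d1
  have d2' : ξ₂.1 1 = ((Fintype.card F : ℂ) + 1) / 2 := by linear_combination (1 / 2 : ℂ) * d2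
  rw [d1', d2'] at h
  linear_combination -h

/-- The Fourier data of a cuspidal character on the unipotent radical. -/
theorem SL2_cusp_data_odd {α₀ : MulChar F ℂ} (hα : α₀ ^ 2 = 1) (hα1 : α₀ ≠ 1) {ν : F}
    (hν : α₀ ν = -1) {ψ : AddChar F ℂ} (hψ : ψ.IsPrimitive) (χ : IrrCharacter SL(2, F))
    (hc : IsCuspSL χ.1) :
    nU ψ χ.1 0 = 0 ∧ ((nU ψ χ.1 1 = 1 ∧ nU ψ χ.1 ν = 0) ∨ (nU ψ χ.1 1 = 0 ∧ nU ψ χ.1 ν = 1) ∨
      (nU ψ χ.1 1 = 1 ∧ nU ψ χ.1 ν = 1)) := by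
  classical
  have := Fintype.ofFinite (IrrCharacter SL(2, F))
  obtain ⟨ξ₁, ξ₂, hne, hξ⟩ := exists_two_irr_of_norm_two (RSL_isCharacter α₀) (RSL_norm_two hα)
  have hcard := SL2_cusp_card_odd hα hα1 hν hne hξ
  have hD := SL2_cusp_sum_dU_sq hα hα1 hν hψ hne hξ
  have hdeg := SL2_cusp_sum_deg_sq hα hα1 hν hψ hne hξ
  have hq1 := card_sub_one_ne_zero (F := F)
  set C := Finset.univ.filter (fun χ : IrrCharacter SL(2, F) => IsCuspSL χ.1) with hC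
  have hpt : ∀ χ ∈ C, 2 * χ.1 1 =
      ((nU ψ χ.1 1 : ℂ) + nU ψ χ.1 ν) * ((Fintype.card F : ℂ) - 1) := by
    intro χ hχ
    have hc' : IsCuspSL χ.1 := (Finset.mem_filter.mp hχ).2
    obtain ⟨-, d, -⟩ := SL2_U_odd hα hα1 hν hψ (isCharacter_of_isIrrCharacter χ.2)
    rw [SL2_cusp_n0 ψ hc'] at d
    rw [d]
    push_cast
    ring
  have hA : ∑ χ ∈ C, ((nU ψ χ.1 1 : ℂ) + nU ψ χ.1 ν) ^ 2 = 2 * (Fintype.card F : ℂ) := by
    have e : ∑ χ ∈ C, χ.1 1 ^ 2 = ((Fintype.card F : ℂ) - 1) ^ 2 / 4 *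
        ∑ χ ∈ C, ((nU ψ χ.1 1 : ℂ) + nU ψ χ.1 ν) ^ 2 := by
      rw [Finset.mul_sum]
      apply Finset.sum_congr rfl
      intro χ hχ
      have h' : χ.1 1 = ((nU ψ χ.1 1 : ℂ) + nU ψ χ.1 ν) * ((Fintype.card F : ℂ) - 1) / 2 := by
        linear_combination (1 / 2 : ℂ) * hpt χ hχ
      rw [h']
      ring
    rw [hdeg] at e
    have h2 : ((Fintype.card F : ℂ) - 1) ^ 2 * (∑ χ ∈ C, ((nU ψ χ.1 1 : ℂ) + nU ψ χ.1 ν) ^ 2) =
        ((Fintype.card F : ℂ) - 1) ^ 2 * (2 * (Fintype.card F : ℂ)) := by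
      linear_combination (-4 : ℂ) * e
    exact mul_left_cancel₀ (pow_ne_zero 2 hq1) h2
  let N : IrrCharacter SL(2, F) → ℤ := fun χ =>
    (nU ψ χ.1 1 : ℤ) ^ 2 - (nU ψ χ.1 1 : ℤ) * (nU ψ χ.1 ν : ℤ) + (nU ψ χ.1 ν : ℤ) ^ 2
  have hN : ∑ χ ∈ C, N χ = C.card := by
    have h1 : ((∑ χ ∈ C, N χ : ℤ) : ℂ) = ((C.card : ℤ) : ℂ) := by
      have e : ∀ χ ∈ C, ((N χ : ℤ) : ℂ) =
          (1 / 4 : ℂ) * ((nU ψ χ.1 1 : ℂ) + nU ψ χ.1 ν) ^ 2 +
          (3 / 4 : ℂ) * ((nU ψ χ.1 1 : ℂ) - nU ψ χ.1 ν) ^ 2 := by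
        intro χ _
        simp only [N]
        push_cast
        ring
      rw [Int.cast_sum, Finset.sum_congr rfl e, Finset.sum_add_distrib, ← Finset.mul_sum,
        ← Finset.mul_sum, hA, hD, Int.cast_natCast, hcard]
      ring
    exact_mod_cast h1
  have hN1 : ∀ χ ∈ C, 1 ≤ N χ := by
    intro χ hχ
    have hpos : nU ψ χ.1 1 + nU ψ χ.1 ν ≠ 0 := by
      intro h0
      have h1 := hpt χ hχ
      have h0' : (nU ψ χ.1 1 : ℂ) + nU ψ χ.1 ν = 0 := by exact_mod_cast h0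
      rw [h0', zero_mul] at h1
      exact irr_one_ne_zero χ (by simpa using h1)
    have h4 : 4 * N χ = ((nU ψ χ.1 1 : ℤ) + (nU ψ χ.1 ν : ℤ)) ^ 2 +
        3 * ((nU ψ χ.1 1 : ℤ) - (nU ψ χ.1 ν : ℤ)) ^ 2 := by
      simp only [N]
      ring
    have hX : 1 ≤ ((nU ψ χ.1 1 : ℤ) + (nU ψ χ.1 ν : ℤ)) ^ 2 := by
      have : 1 ≤ (nU ψ χ.1 1 : ℤ) + (nU ψ χ.1 ν : ℤ) := by omega
      nlinarith
    have hY : 0 ≤ ((nU ψ χ.1 1 : ℤ) - (nU ψ χ.1 ν : ℤ)) ^ 2 := sq_nonneg _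
    have : 1 ≤ 4 * N χ := by linarith
    omega
  have hall := int_all_one C N hN1 hN
  have hχC : χ ∈ C := Finset.mem_filter.mpr ⟨Finset.mem_univ _, hc⟩
  exact ⟨SL2_cusp_n0 ψ hc, quad_form_eq_one (hall χ hχC)⟩

end oddC

end Cfsg.Agent.Lib.helper12
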