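import Cfsg.Agent.Lib.helper12.SL2Odd

set_option autoImplicit false

namespace Cfsg.Agent.Lib.helper12

open Matrix Cfsg Cfsg.Agent.Lib.helper24
open scoped ComplexConjugate MatrixGroups

section oddD

variable {F : Type*} [Field F] [Fintype F] [DecidableEq F]

/-- Classification of the irreducible characters of `SL₂`, odd characteristic. -/
theorem SL2_irr_classify_odd {α₀ : MulChar F ℂ} (hα : α₀ ^ 2 = 1) (hα1 : α₀ ≠ 1) {ν : F}
    (hν : α₀ ν = -1) {ψ : AddChar F ℂ} (hψ : ψ.IsPrimitive)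
    {ξ₁ ξ₂ : IrrCharacter SL(2, F)} (hξ : RSL α₀ = ξ₁.1 + ξ₂.1) (χ : IrrCharacter SL(2, F)) :
    χ.1 = trivSL F ∨ χ.1 = stSL F ∨ (∃ α : MulChar F ℂ, α ≠ α⁻¹ ∧ χ.1 = RSL α) ∨ χ = ξ₁ ∨ χ = ξ₂ ∨
    (IsCuspSL χ.1 ∧ nU ψ χ.1 0 = 0 ∧ nU ψ χ.1 1 = 1 ∧ nU ψ χ.1 ν = 1) ∨
    (IsCuspSL χ.1 ∧ nU ψ χ.1 0 = 0 ∧ nU ψ χ.1 1 + nU ψ χ.1 ν = 1) := by
  rcases SL2_irr_cases_odd hα hα1 hξ χ with hc | h | h | h | h | h
  · obtain ⟨h0, h | h | h⟩ := SL2_cusp_data_odd hα hα1 hν hψ χ hc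
    · right; right; right; right; right; right
      exact ⟨hc, h0, by omega⟩
    · right; right; right; right; right; right
      exact ⟨hc, h0, by omega⟩
    · right; right; right; right; right; left
      exact ⟨hc, h0, h.1, h.2⟩
  · exact Or.inl h
  · exact Or.inr (Or.inl h)
  · exact Or.inr (Or.inr (Or.inl h))
  · exact Or.inr (Or.inr (Or.inr (Or.inl h)))
  · exact Or.inr (Or.inr (Or.inr (Or.inr (Or.inl h))))

omit [Fintype F] [DecidableEq F] in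
theorem quad_isQuadratic {α₀ : MulChar F ℂ} (hα : α₀ ^ 2 = 1) : α₀.IsQuadratic := by
  intro a
  by_cases ha : a = 0
  · left
    rw [ha, MulChar.map_zero]
  · right
    exact quad_apply hα ha

/-- Degree and unipotent values from the Fourier data `(0, 1, 1)`. -/
theorem SL2_U_full {α₀ : MulChar F ℂ} (hα : α₀ ^ 2 = 1) (hα1 : α₀ ≠ 1) {ν : F}
    (hν : α₀ ν = -1) {ψ : AddChar F ℂ} (hψ : ψ.IsPrimitive) {χ : SL(2, F) → ℂ}
    (hχ : IsCharacter SL(2, F) χ) (h0 : nU ψ χ 0 = 0) (h1 : nU ψ χ 1 = 1) (hm : nU ψ χ ν = 1) :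
    χ 1 = (Fintype.card F : ℂ) - 1 ∧ ∀ y : F, y ≠ 0 → χ (uSL y) = -1 := by
  obtain ⟨-, d, hv⟩ := SL2_U_odd hα hα1 hν hψ hχ
  rw [h0, h1, hm] at d
  constructor
  · push_cast at d
    linear_combination (1 / 2 : ℂ) * d
  · intro y hy
    have h := hv y hy
    rw [h0, h1, hm] at h
    push_cast at h
    linear_combination (1 / 2 : ℂ) * h

/-- Degree and unipotent values from Fourier data with `m₊ + m₋ = 1`. -/
theorem SL2_U_half {α₀ : MulChar F ℂ} (hα : α₀ ^ 2 = 1) (hα1 : α₀ ≠ 1) {ν : F}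
    (hν : α₀ ν = -1) {ψ : AddChar F ℂ} (hψ : ψ.IsPrimitive) {χ : SL(2, F) → ℂ}
    (hχ : IsCharacter SL(2, F) χ) (hA : nU ψ χ 1 + nU ψ χ ν = 1) :
    2 * χ 1 = 2 * (nU ψ χ 0 : ℂ) + ((Fintype.card F : ℂ) - 1) ∧
    ∀ y : F, y ≠ 0 → (2 * χ (uSL y) - 2 * (nU ψ χ 0 : ℂ) + 1) ^ 2 =
      α₀ (-1) * (Fintype.card F : ℂ) := by
  obtain ⟨-, d, hv⟩ := SL2_U_odd hα hα1 hν hψ hχ
  have hG := gaussSum_sq hα1 (quad_isQuadratic hα) hψ
  have hA' : (nU ψ χ 1 : ℂ) + nU ψ χ ν = 1 := by exact_mod_cast hA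
  constructor
  · rw [d, hA']
    ring
  · intro y hy
    have h := hv y hy
    rw [hA'] at h
    have hD : ((nU ψ χ 1 : ℂ) - nU ψ χ ν) ^ 2 = 1 := by
      have : (nU ψ χ 1 = 1 ∧ nU ψ χ ν = 0) ∨ (nU ψ χ 1 = 0 ∧ nU ψ χ ν = 1) := by omega
      rcases this with ⟨h1, h2⟩ | ⟨h1, h2⟩ <;> rw [h1, h2] <;> norm_num
    have hy2 : (α₀ y) ^ 2 = 1 := by
      rcases quad_apply hα hy with h' | h' <;> rw [h'] <;> norm_num
    have e : 2 * χ (uSL y) - 2 * (nU ψ χ 0 : ℂ) + 1 =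
        ((nU ψ χ 1 : ℂ) - nU ψ χ ν) * α₀ y * gaussSum α₀ ψ := by
      linear_combination h
    rw [e, mul_pow, mul_pow, hD, hy2, hG]
    ring

theorem SL2_xi_dU_add {α₀ : MulChar F ℂ} (hα : α₀ ^ 2 = 1) (hα1 : α₀ ≠ 1) {ν : F}
    (hν : α₀ ν = -1) {ψ : AddChar F ℂ} (hψ : ψ.IsPrimitive)
    {ξ₁ ξ₂ : IrrCharacter SL(2, F)} (hξ : RSL α₀ = ξ₁.1 + ξ₂.1) :
    ((nU ψ ξ₁.1 1 : ℂ) - nU ψ ξ₁.1 ν) + ((nU ψ ξ₂.1 1 : ℂ) - nU ψ ξ₂.1 ν) = 0 := by
  have hν0 := quad_ne_zero hν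
  have e1 := SL2_unip_diff hα hα1 hν hψ (isCharacter_of_isIrrCharacter ξ₁.2)
  have e2 := SL2_unip_diff hα hα1 hν hψ (isCharacter_of_isIrrCharacter ξ₂.2)
  have h1 : ξ₁.1 (uSL 1) + ξ₂.1 (uSL 1) = 1 := by
    have := congrFun hξ (uSL 1)
    rw [RSL_apply_uSL α₀ one_ne_zero] at this
    rw [this]
    rfl
  have h2 : ξ₁.1 (uSL ν) + ξ₂.1 (uSL ν) = 1 := by
    have := congrFun hξ (uSL ν)
    rw [RSL_apply_uSL α₀ hν0] at this
    rw [this]
    rfl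
  have h3 : (((nU ψ ξ₁.1 1 : ℂ) - nU ψ ξ₁.1 ν) + ((nU ψ ξ₂.1 1 : ℂ) - nU ψ ξ₂.1 ν)) *
      gaussSum α₀ ψ = 0 := by
    linear_combination h1 - h2 - e1 - e2
  exact (mul_eq_zero.mp h3).resolve_right (gauss_ne_zero hα1 hψ)

/-- Two distinct cuspidal characters of half degree have opposite signs. -/
theorem SL2_cusp_half_pair {α₀ : MulChar F ℂ} (hα : α₀ ^ 2 = 1) (hα1 : α₀ ≠ 1) {ν : F}
    (hν : α₀ ν = -1) {ψ : AddChar F ℂ} (hψ : ψ.IsPrimitive)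
    {χ₁ χ₂ : IrrCharacter SL(2, F)} (h12 : χ₁ ≠ χ₂) (hc₁ : IsCuspSL χ₁.1) (hc₂ : IsCuspSL χ₂.1)
    (hA₁ : nU ψ χ₁.1 1 + nU ψ χ₁.1 ν = 1) (hA₂ : nU ψ χ₂.1 1 + nU ψ χ₂.1 ν = 1) :
    ((nU ψ χ₁.1 1 : ℂ) - nU ψ χ₁.1 ν) + ((nU ψ χ₂.1 1 : ℂ) - nU ψ χ₂.1 ν) = 0 := by
  classical
  have := Fintype.ofFinite (IrrCharacter SL(2, F))
  have := Fintype.ofFinite (MulChar F ℂ)
  have hν0 := quad_ne_zero hν
  obtain ⟨ξ₁, ξ₂, hne, hξ⟩ := exists_two_irr_of_norm_two (RSL_isCharacter α₀) (RSL_norm_two hα)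
  have hD := SL2_cusp_sum_dU_sq hα hα1 hν hψ hne hξ
  set C := Finset.univ.filter (fun χ : IrrCharacter SL(2, F) => IsCuspSL χ.1) with hC
  have hm1 : χ₁ ∈ C := Finset.mem_filter.mpr ⟨Finset.mem_univ _, hc₁⟩
  have hm2 : χ₂ ∈ C.erase χ₁ := Finset.mem_erase.mpr ⟨Ne.symm h12, Finset.mem_filter.mpr ⟨Finset.mem_univ _, hc₂⟩⟩
  have hDint : ∑ χ ∈ C, ((nU ψ χ.1 1 : ℤ) - (nU ψ χ.1 ν : ℤ)) ^ 2 = 2 := by
    have : ((∑ χ ∈ C, ((nU ψ χ.1 1 : ℤ) - (nU ψ χ.1 ν : ℤ)) ^ 2 : ℤ) : ℂ) = ((2 : ℤ) : ℂ) := by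
      push_cast
      exact hD
    exact_mod_cast this
  have hsq : ∀ χ : IrrCharacter SL(2, F), nU ψ χ.1 1 + nU ψ χ.1 ν = 1 →
      ((nU ψ χ.1 1 : ℤ) - (nU ψ χ.1 ν : ℤ)) ^ 2 = 1 := by
    intro χ h
    have : (nU ψ χ.1 1 = 1 ∧ nU ψ χ.1 ν = 0) ∨ (nU ψ χ.1 1 = 0 ∧ nU ψ χ.1 ν = 1) := by omega
    rcases this with ⟨h1, h2⟩ | ⟨h1, h2⟩ <;> rw [h1, h2] <;> norm_num
  rw [← Finset.add_sum_erase C _ hm1, ← Finset.add_sum_erase (C.erase χ₁) _ hm2, hsq χ₁ hA₁,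
    hsq χ₂ hA₂] at hDint
  have hrest0 : ∑ χ ∈ (C.erase χ₁).erase χ₂, ((nU ψ χ.1 1 : ℤ) - (nU ψ χ.1 ν : ℤ)) ^ 2 = 0 := by
    linarith
  have hrest := (Finset.sum_eq_zero_iff_of_nonneg (fun χ _ => sq_nonneg _)).mp hrest0
  have hrest' : ∀ χ ∈ (C.erase χ₁).erase χ₂, (nU ψ χ.1 1 : ℂ) - nU ψ χ.1 ν = 0 := by
    intro χ hχ
    have h := hrest χ hχ
    have h' : (nU ψ χ.1 1 : ℤ) - (nU ψ χ.1 ν : ℤ) = 0 := by
      exact pow_eq_zero_iff (two_ne_zero) |>.mp h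
    exact_mod_cast h'
  have h := SL2_sum_irr_odd hα hα1 hne hξ (fun χ => ((nU ψ χ 1 : ℂ) - nU ψ χ ν) * χ 1)
  beta_reduce at h
  rw [SL2_sum_dU_deg hα hα1 hν hψ] at h
  have e1 : (nU ψ (trivSL F) 1 : ℂ) - nU ψ (trivSL F) ν = 0 :=
    dU_eq_zero_of hα hα1 hν hψ (isCharacter_of_isIrrCharacter trivSL_isIrr) rfl
  have e2 : (nU ψ (stSL F) 1 : ℂ) - nU ψ (stSL F) ν = 0 :=
    dU_eq_zero_of hα hα1 hν hψ (isCharacter_of_isIrrCharacter stSL_isIrr)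
      (by rw [stSL_apply_uSL one_ne_zero, stSL_apply_uSL hν0])
  have e3 : ∀ α : MulChar F ℂ, (nU ψ (RSL α) 1 : ℂ) - nU ψ (RSL α) ν = 0 := fun α =>
    dU_eq_zero_of hα hα1 hν hψ (RSL_isCharacter α)
      (by rw [RSL_apply_uSL α one_ne_zero, RSL_apply_uSL α hν0])
  obtain ⟨d1, d2⟩ := SL2_xi_degree hα hα1 hν hψ hne hξ
  have d1' : ξ₁.1 1 = ((Fintype.card F : ℂ) + 1) / 2 := by linear_combination (1 / 2 : ℂ) * d1
  have d2' : ξ₂.1 1 = ((Fintype.card F : ℂ) + 1) / 2 := by linear_combination (1 / 2 : ℂ) * d2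
  have e4 := SL2_xi_dU_add hα hα1 hν hψ hξ
  rw [e1, e2, d1', d2'] at h
  simp only [e3] at h
  simp only [zero_mul, ite_self, Finset.sum_const_zero, mul_zero, add_zero, zero_add] at h
  have hCsum : ∑ χ ∈ C, ((nU ψ χ.1 1 : ℂ) - nU ψ χ.1 ν) * χ.1 1 = 0 := by
    linear_combination -h - ((Fintype.card F : ℂ) + 1) / 2 * e4
  rw [← Finset.add_sum_erase C _ hm1, ← Finset.add_sum_erase (C.erase χ₁) _ hm2] at hCsum
  have hz : ∑ χ ∈ (C.erase χ₁).erase χ₂, ((nU ψ χ.1 1 : ℂ) - nU ψ χ.1 ν) * χ.1 1 = 0 := by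
    apply Finset.sum_eq_zero
    intro χ hχ
    rw [hrest' χ hχ, zero_mul]
  rw [hz, add_zero] at hCsum
  have hdeg : ∀ χ : IrrCharacter SL(2, F), IsCuspSL χ.1 → nU ψ χ.1 1 + nU ψ χ.1 ν = 1 →
      χ.1 1 = ((Fintype.card F : ℂ) - 1) / 2 := by
    intro χ hc hA
    obtain ⟨d, -⟩ := SL2_U_half hα hα1 hν hψ (isCharacter_of_isIrrCharacter χ.2) hA
    rw [SL2_cusp_n0 ψ hc] at d
    push_cast at d
    linear_combination (1 / 2 : ℂ) * d
  rw [hdeg χ₁ hc₁ hA₁, hdeg χ₂ hc₂ hA₂] at hCsum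
  have hq1 := card_sub_one_ne_zero (F := F)
  have h5 : (((nU ψ χ₁.1 1 : ℂ) - nU ψ χ₁.1 ν) + ((nU ψ χ₂.1 1 : ℂ) - nU ψ χ₂.1 ν)) *
      ((Fintype.card F : ℂ) - 1) = 0 := by
    linear_combination 2 * hCsum
  exact (mul_eq_zero.mp h5).resolve_right hq1

/-- The distribution of the degrees of the irreducible characters of `SL₂`, odd characteristic. -/
theorem SL2_sum_deg_odd [Fintype (IrrCharacter SL(2, F))] {α₀ : MulChar F ℂ} (hα : α₀ ^ 2 = 1)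
    (hα1 : α₀ ≠ 1) {ν : F} (hν : α₀ ν = -1) {ψ : AddChar F ℂ} (hψ : ψ.IsPrimitive) (φ : ℂ → ℂ) :
    ∑ χ : IrrCharacter SL(2, F), φ (χ.1 1) =
      φ 1 + φ (Fintype.card F : ℂ) + (((Fintype.card F : ℂ) - 3) / 2) * φ ((Fintype.card F : ℂ) + 1) +
      2 * φ (((Fintype.card F : ℂ) + 1) / 2) +
      (((Fintype.card F : ℂ) - 1) / 2) * φ ((Fintype.card F : ℂ) - 1) +
      2 * φ (((Fintype.card F : ℂ) - 1) / 2) := by
  classical
  have := Fintype.ofFinite (MulChar F ℂ)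
  obtain ⟨ξ₁, ξ₂, hne, hξ⟩ := exists_two_irr_of_norm_two (RSL_isCharacter α₀) (RSL_norm_two hα)
  have hcard := SL2_cusp_card_odd hα hα1 hν hne hξ
  have hD := SL2_cusp_sum_dU_sq hα hα1 hν hψ hne hξ
  have h := SL2_sum_irr_odd hα hα1 hne hξ (fun χ => φ (χ 1))
  beta_reduce at h
  simp only [RSL_apply_one] at h
  rw [sum_not_quad hα1, stSL_apply_one, trivSL_apply] at h
  obtain ⟨d1, d2⟩ := SL2_xi_degree hα hα1 hν hψ hne hξ
  have d1' : ξ₁.1 1 = ((Fintype.card F : ℂ) + 1) / 2 := by linear_combination (1 / 2 : ℂ) * d1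
  have d2' : ξ₂.1 1 = ((Fintype.card F : ℂ) + 1) / 2 := by linear_combination (1 / 2 : ℂ) * d2
  rw [d1', d2'] at h
  set C := Finset.univ.filter (fun χ : IrrCharacter SL(2, F) => IsCuspSL χ.1) with hC
  have hpt : ∀ χ ∈ C, φ (χ.1 1) =
      (1 - ((nU ψ χ.1 1 : ℂ) - nU ψ χ.1 ν) ^ 2) * φ ((Fintype.card F : ℂ) - 1) +
      ((nU ψ χ.1 1 : ℂ) - nU ψ χ.1 ν) ^ 2 * φ (((Fintype.card F : ℂ) - 1) / 2) := by
    intro χ hχ
    have hc : IsCuspSL χ.1 := (Finset.mem_filter.mp hχ).2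
    have hχc := isCharacter_of_isIrrCharacter χ.2
    obtain ⟨h0, hd | hd | hd⟩ := SL2_cusp_data_odd hα hα1 hν hψ χ hc
    · obtain ⟨d, -⟩ := SL2_U_half hα hα1 hν hψ hχc (by omega)
      rw [h0] at d
      have d' : χ.1 1 = ((Fintype.card F : ℂ) - 1) / 2 := by
        push_cast at d
        linear_combination (1 / 2 : ℂ) * d
      rw [hd.1, hd.2, d']
      norm_num
    · obtain ⟨d, -⟩ := SL2_U_half hα hα1 hν hψ hχc (by omega)
      rw [h0] at d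
      have d' : χ.1 1 = ((Fintype.card F : ℂ) - 1) / 2 := by
        push_cast at d
        linear_combination (1 / 2 : ℂ) * d
      rw [hd.1, hd.2, d']
      norm_num
    · obtain ⟨d, -⟩ := SL2_U_full hα hα1 hν hψ hχc h0 hd.1 hd.2
      rw [hd.1, hd.2, d]
      norm_num
  rw [Finset.sum_congr rfl hpt, Finset.sum_add_distrib, ← Finset.sum_mul, ← Finset.sum_mul,
    Finset.sum_sub_distrib, hD, Finset.sum_const, nsmul_eq_mul, mul_one, hcard] at h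
  rw [h]
  ring

end oddD

section twist

variable {F : Type*} [Field F]

theorem units_mul_inv_val (ν : Fˣ) : (ν : F) * ((ν⁻¹ : Fˣ) : F) = 1 := by
  rw [← Units.val_mul, mul_inv_cancel, Units.val_one]

/-- Conjugation by `diag(ν, 1)` on `SL₂`, as a function. -/
def twFun (ν : Fˣ) (g : SL(2, F)) : SL(2, F) :=
  mkSL ((g : Matrix (Fin 2) (Fin 2) F) 0 0) ((ν : F) * (g : Matrix (Fin 2) (Fin 2) F) 0 1)
    (((ν⁻¹ : Fˣ) : F) * (g : Matrix (Fin 2) (Fin 2) F) 1 0) ((g : Matrix (Fin 2) (Fin 2) F) 1 1)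
    (by
      have h := SL2_det_eq g
      have hν := units_mul_inv_val ν
      linear_combination h - (g : Matrix (Fin 2) (Fin 2) F) 0 1 * (g : Matrix (Fin 2) (Fin 2) F) 1 0 * hν)

theorem twFun_val (ν : Fˣ) (g : SL(2, F)) :
    ((twFun ν g : SL(2, F)) : Matrix (Fin 2) (Fin 2) F) =
      !![(g : Matrix (Fin 2) (Fin 2) F) 0 0, (ν : F) * (g : Matrix (Fin 2) (Fin 2) F) 0 1;
        ((ν⁻¹ : Fˣ) : F) * (g : Matrix (Fin 2) (Fin 2) F) 1 0, (g : Matrix (Fin 2) (Fin 2) F) 1 1] := rfl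

theorem twFun_mul (ν : Fˣ) (g h : SL(2, F)) : twFun ν (g * h) = twFun ν g * twFun ν h := by
  have hν := units_mul_inv_val ν
  apply SL2_ext
  · simp only [twFun_val, Matrix.SpecialLinearGroup.coe_mul, Matrix.mul_apply, Fin.sum_univ_two,
      Matrix.of_apply, Matrix.cons_val_zero, Matrix.cons_val_one]
    linear_combination (-(g : Matrix (Fin 2) (Fin 2) F) 0 1 * (h : Matrix (Fin 2) (Fin 2) F) 1 0) * hν
  · simp only [twFun_val, Matrix.SpecialLinearGroup.coe_mul, Matrix.mul_apply, Fin.sum_univ_two,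
      Matrix.of_apply, Matrix.cons_val_zero, Matrix.cons_val_one]
    ring
  · simp only [twFun_val, Matrix.SpecialLinearGroup.coe_mul, Matrix.mul_apply, Fin.sum_univ_two,
      Matrix.of_apply, Matrix.cons_val_zero, Matrix.cons_val_one]
    ring
  · simp only [twFun_val, Matrix.SpecialLinearGroup.coe_mul, Matrix.mul_apply, Fin.sum_univ_two,
      Matrix.of_apply, Matrix.cons_val_zero, Matrix.cons_val_one]
    linear_combination (-(g : Matrix (Fin 2) (Fin 2) F) 1 0 * (h : Matrix (Fin 2) (Fin 2) F) 0 1) * hν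

theorem twFun_inv (ν : Fˣ) (g : SL(2, F)) : twFun ν⁻¹ (twFun ν g) = g := by
  have hν := units_mul_inv_val ν
  apply SL2_ext
  · simp only [twFun_val, Matrix.of_apply, Matrix.cons_val_zero, Matrix.cons_val_one]
  · simp only [twFun_val, Matrix.of_apply, Matrix.cons_val_zero, Matrix.cons_val_one]
    linear_combination (g : Matrix (Fin 2) (Fin 2) F) 0 1 * hν
  · simp only [twFun_val, Matrix.of_apply, Matrix.cons_val_zero, Matrix.cons_val_one, inv_inv]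
    linear_combination (g : Matrix (Fin 2) (Fin 2) F) 1 0 * hν
  · simp only [twFun_val, Matrix.of_apply, Matrix.cons_val_zero, Matrix.cons_val_one]

/-- Conjugation by `diag(ν, 1)` on `SL₂`. -/
def twSL (ν : Fˣ) : SL(2, F) ≃* SL(2, F) where
  toFun := twFun ν
  invFun := twFun ν⁻¹
  left_inv := twFun_inv ν
  right_inv g := by
    have h := twFun_inv ν⁻¹ g
    rwa [inv_inv] at h
  map_mul' := twFun_mul ν

theorem twSL_val (ν : Fˣ) (g : SL(2, F)) :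
    ((twSL ν g : SL(2, F)) : Matrix (Fin 2) (Fin 2) F) =
      !![(g : Matrix (Fin 2) (Fin 2) F) 0 0, (ν : F) * (g : Matrix (Fin 2) (Fin 2) F) 0 1;
        ((ν⁻¹ : Fˣ) : F) * (g : Matrix (Fin 2) (Fin 2) F) 1 0, (g : Matrix (Fin 2) (Fin 2) F) 1 1] := rfl

theorem twSL_uSL (ν : Fˣ) (z : F) : twSL ν (uSL z) = uSL ((ν : F) * z) := by
  apply SL2_ext <;> simp [twSL_val, uSL_val]

theorem twSL_trace (ν : Fˣ) (g : SL(2, F)) :
    ((twSL ν g : SL(2, F)) : Matrix (Fin 2) (Fin 2) F).trace = (g : Matrix (Fin 2) (Fin 2) F).trace := by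
  rw [Matrix.trace_fin_two, Matrix.trace_fin_two, twSL_val]
  simp

/-- An element of `SL₂` that is the `GL₂`-conjugate of `g` by `diag(ν, 1)` is the twist of `g`. -/
theorem twSL_of_toGL (ν : Fˣ) (g h : SL(2, F))
    (hh : Matrix.SpecialLinearGroup.toGL h =
      ((borelMk ν 1 0 : ↥(Cfsg.upperTriangularGL 2 F)) : GL (Fin 2) F) *
        Matrix.SpecialLinearGroup.toGL g *
        ((borelMk ν 1 0 : ↥(Cfsg.upperTriangularGL 2 F)) : GL (Fin 2) F)⁻¹) :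
    h = twSL ν g := by
  apply Matrix.SpecialLinearGroup.toGL_injective
  rw [hh, mul_inv_eq_iff_eq_mul]
  apply Units.ext
  have hν := units_mul_inv_val ν
  have e1 : ((Matrix.SpecialLinearGroup.toGL (twSL ν g) : GL (Fin 2) F) : Matrix (Fin 2) (Fin 2) F) =
      ((twSL ν g : SL(2, F)) : Matrix (Fin 2) (Fin 2) F) := rfl
  have e2 : ((Matrix.SpecialLinearGroup.toGL g : GL (Fin 2) F) : Matrix (Fin 2) (Fin 2) F) =
      (g : Matrix (Fin 2) (Fin 2) F) := rfl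
  rw [Units.val_mul, Units.val_mul, e1, e2, borelMk_val, twSL_val]
  ext i j
  fin_cases i <;> fin_cases j
  · simp [Matrix.mul_apply, Fin.sum_univ_two]
    ring
  · simp [Matrix.mul_apply, Fin.sum_univ_two]
  · have hν0 : (ν : F) ≠ 0 := ν.ne_zero
    simp [Matrix.mul_apply, Fin.sum_univ_two, Units.val_inv_eq_inv_val]
    field_simp
  · simp [Matrix.mul_apply, Fin.sum_univ_two]

end twist

section twistChar

universe u

theorem indFun_comp_mulEquiv {G : Type u} [Group G] [Fintype G] (H : Subgroup G) (θ : H → ℂ)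
    (σ : G ≃* G) (hσ : ∀ g, extendByZero H θ (σ g) = extendByZero H θ g) :
    indFun H θ ∘ σ = indFun H θ := by
  funext g
  simp only [Function.comp, indFun]
  congr 1
  rw [← Equiv.sum_comp σ.toEquiv]
  apply Finset.sum_congr rfl
  intro y _
  show extendByZero H θ ((σ y)⁻¹ * σ g * σ y) = _
  rw [← map_inv, ← map_mul, ← map_mul, hσ]

theorem classInner_comp_mulEquiv {G : Type u} [Group G] [Fintype G] (σ : G ≃* G) (f g : G → ℂ) :
    classInner (f ∘ σ) (g ∘ σ) = classInner f g := by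
  unfold classInner
  congr 1
  exact Equiv.sum_comp σ.toEquiv (fun x => f x * conj (g x))

variable {F : Type*} [Field F] [Fintype F] [DecidableEq F]

theorem RSL_twist (α : MulChar F ℂ) (ν : Fˣ) : RSL α ∘ twSL ν = RSL α := by
  apply indFun_comp_mulEquiv
  intro g
  by_cases hg : g ∈ borelSL F
  · have hg' : twSL ν g ∈ borelSL F := by
      rw [mem_borelSL_iff] at hg ⊢
      rw [twSL_val]
      simp [hg]
    rw [extendByZero_apply_mem _ _ hg, extendByZero_apply_mem _ _ hg']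
    simp [borelSLChar, twSL_val]
  · have hg' : twSL ν g ∉ borelSL F := by
      rw [mem_borelSL_iff] at hg ⊢
      rw [twSL_val]
      simpa using hg
    rw [extendByZero_apply_not_mem _ _ hg, extendByZero_apply_not_mem _ _ hg']

omit [DecidableEq F] in
theorem twSL_isConj (hodd : Fintype.card F % 2 = 1) (ν : Fˣ) (g : SL(2, F))
    (htr : (g : Matrix (Fin 2) (Fin 2) F).trace ^ 2 ≠ 4) : IsConj (twSL ν g) g := by
  have h1 := SL2_isConj_compSL_odd hodd g htr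
  have h2 := SL2_isConj_compSL_odd hodd (twSL ν g) (by rw [twSL_trace]; exact htr)
  rw [twSL_trace] at h2
  exact h2.symm.trans h1

/-- The two constituents of the principal series of the quadratic character are swapped by the
twist. -/
theorem SL2_xi_twist {α₀ : MulChar F ℂ} (hα : α₀ ^ 2 = 1) (hα1 : α₀ ≠ 1)
    {ψ : AddChar F ℂ} (hψ : ψ.IsPrimitive)
    {ξ₁ ξ₂ : IrrCharacter SL(2, F)} (hne : ξ₁ ≠ ξ₂) (hξ : RSL α₀ = ξ₁.1 + ξ₂.1)
    (μ : Fˣ) (hμ : α₀ (μ : F) = -1) : ξ₂.1 = ξ₁.1 ∘ twSL μ := by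
  classical
  have hirr : IsIrrCharacter SL(2, F) (ξ₁.1 ∘ twSL μ) := isIrrCharacter_comp_equiv (twSL μ) ξ₁.2
  have h1 : classInner (RSL α₀) (ξ₁.1 ∘ twSL μ) = 1 := by
    have h := classInner_comp_mulEquiv (twSL μ) (RSL α₀) ξ₁.1
    rw [RSL_twist] at h
    rw [h, RSL_xi_inner hα hne hξ α₀, if_pos rfl]
  rw [hξ, classInner_add_left] at h1
  by_cases h2 : classInner ξ₁.1 (ξ₁.1 ∘ twSL μ) = 0
  · rw [h2, zero_add] at h1
    have h3 : ξ₂ = ⟨ξ₁.1 ∘ twSL μ, hirr⟩ := irr_eq_of_inner_ne_zero (by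
      show classInner ξ₂.1 (ξ₁.1 ∘ twSL μ) ≠ 0
      rw [h1]
      exact one_ne_zero)
    exact congrArg Subtype.val h3
  · exfalso
    have e : ξ₁ = ⟨ξ₁.1 ∘ twSL μ, hirr⟩ := irr_eq_of_inner_ne_zero h2
    have e1 : ξ₁.1 (uSL 1) = ξ₁.1 (uSL (μ : F)) := by
      have h := congrFun (congrArg Subtype.val e) (uSL 1)
      simp only [Function.comp] at h
      rw [twSL_uSL, mul_one] at h
      exact h
    have hD0 := dU_eq_zero_of hα hα1 hμ hψ (isCharacter_of_isIrrCharacter ξ₁.2) e1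
    obtain ⟨-, hA1, -, -⟩ := SL2_xi_data hα hα1 hμ hψ hne hξ
    have h3 : (nU ψ ξ₁.1 1 : ℤ) = nU ψ ξ₁.1 (μ : F) := by exact_mod_cast sub_eq_zero.mp hD0
    omega

/-- Values of the two half principal series characters at elements with distinct eigenvalues. -/
theorem SL2_xi_value_reg {α₀ : MulChar F ℂ} (hα : α₀ ^ 2 = 1) (hα1 : α₀ ≠ 1)
    {ξ₁ ξ₂ : IrrCharacter SL(2, F)} (hne : ξ₁ ≠ ξ₂) (hξ : RSL α₀ = ξ₁.1 + ξ₂.1)
    (g : SL(2, F)) (htr : (g : Matrix (Fin 2) (Fin 2) F).trace ^ 2 ≠ 4) :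
    2 * ξ₁.1 g = RSL α₀ g ∧ 2 * ξ₂.1 g = RSL α₀ g := by
  obtain ⟨μ, hμ⟩ := quad_exists_neg_one hα hα1
  have hμ0 := quad_ne_zero hμ
  have hodd := quad_card_odd hα hμ
  have hψ := AddChar.FiniteField.primitiveChar_to_Complex_isPrimitive F
  have h1 := SL2_xi_twist hα hα1 hψ hne hξ (Units.mk0 μ hμ0) (by rw [Units.val_mk0]; exact hμ)
  have h2 : ξ₂.1 g = ξ₁.1 g := by
    rw [h1]
    exact isClassFunction_of_isConj (isCharacter_conj_class (isCharacter_of_isIrrCharacter ξ₁.2))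
      (twSL_isConj hodd _ g htr)
  have h3 : RSL α₀ g = ξ₁.1 g + ξ₂.1 g := by
    rw [hξ]
    rfl
  rw [h3, h2]
  constructor <;> ring

end twistChar

end Cfsg.Agent.Lib.helper12
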