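import Cfsg.Agent.Lib.helper12.CharTools2
import Cfsg.Agent.Lib.helper12.SL2Char
import Cfsg.Agent.Lib.helper24.CharComplete
import Cfsg.Agent.Lib.helper24.CharKer

set_option autoImplicit false

namespace Cfsg.Agent.Lib.helper12

open Matrix Cfsg Cfsg.Agent.Lib.helper24
open scoped ComplexConjugate MatrixGroups

section sl2table

variable {F : Type*} [Field F] [Fintype F] [DecidableEq F]

/-- The principal series function of `SL₂`. -/
noncomputable abbrev RSL (α : MulChar F ℂ) : SL(2, F) → ℂ :=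
  indFun (borelSL F) (borelSLChar α)

/-- The trivial character of `SL₂`. -/
def trivSL (F : Type*) [Field F] : SL(2, F) → ℂ := fun _ => 1

omit [Fintype F] [DecidableEq F] in
theorem trivSL_isIrr : IsIrrCharacter SL(2, F) (trivSL F) := by
  have h := isIrrCharacter_of_hom (1 : SL(2, F) →* ℂˣ)
  have e : (fun g : SL(2, F) => (((1 : SL(2, F) →* ℂˣ) g : ℂˣ) : ℂ)) = trivSL F := by
    funext g
    simp [trivSL]
  rwa [e] at h

theorem borelSLChar_inner (α β : MulChar F ℂ) [Fintype ↥(borelSL F)] [Decidable (α = β)] :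
    classInner (borelSLChar α) (borelSLChar β) = if α = β then 1 else 0 := by
  classical
  unfold classInner
  rw [sum_borelSL]
  simp only [borelSLChar_borelSLMk, Finset.sum_const, Finset.card_univ, nsmul_eq_mul]
  rw [← Finset.mul_sum, mulChar_orth, card_borelSL]
  have hq : (2 : ℕ) ≤ Fintype.card F := Fintype.one_lt_card
  have hq1 := card_sub_one_ne_zero (F := F)
  have hq0 : (Fintype.card F : ℂ) ≠ 0 := by
    exact_mod_cast (by omega : Fintype.card F ≠ 0)
  push_cast
  rw [Nat.cast_sub (by omega)]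
  push_cast
  split_ifs
  · field_simp
  · simp

theorem RSL_isCharacter (α : MulChar F ℂ) : IsCharacter SL(2, F) (RSL α) :=
  isCharacter_indFun _ (isCharacter_of_isIrrCharacter (borelSLChar_isIrr α))

omit [Fintype F] [DecidableEq F] in
theorem borelSLChar_one : borelSLChar (1 : MulChar F ℂ) = fun _ => 1 := by
  funext b
  simp only [borelSLChar]
  rw [MulChar.one_apply]
  exact (left_ne_zero_of_mul_eq_one (borelSL_diag_mul b)).isUnit

theorem RSL_triv_inner (α : MulChar F ℂ) [Decidable (α = 1)] :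
    classInner (RSL α) (trivSL F) = if α = 1 then 1 else 0 := by
  classical
  have := Fintype.ofFinite ↥(borelSL F)
  rw [frobenius_reciprocity _ _ (isCharacter_conj_class (isCharacter_of_isIrrCharacter trivSL_isIrr))]
  have e : (fun h : ↥(borelSL F) => trivSL F h) = borelSLChar (1 : MulChar F ℂ) := by
    rw [borelSLChar_one]
    rfl
  rw [e, borelSLChar_inner]

/-- The Steinberg character of `SL₂`. -/
noncomputable def stSL (F : Type*) [Field F] [Fintype F] [DecidableEq F] : SL(2, F) → ℂ :=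
  RSL (1 : MulChar F ℂ) - trivSL F

theorem stSL_isIrr : IsIrrCharacter SL(2, F) (stSL F) := by
  classical
  apply isIrrCharacter_sub_of_norm_two (RSL_isCharacter 1) trivSL_isIrr
  · rw [RSL_inner]
    simp
    norm_num
  · rw [RSL_triv_inner]
    simp

theorem RSL_isIrr (α : MulChar F ℂ) (h : α ≠ α⁻¹) : IsIrrCharacter SL(2, F) (RSL α) := by
  classical
  apply isIrrCharacter_of_inner_self_eq_one (RSL_isCharacter α)
  rw [RSL_inner]
  simp [h]

theorem RSL_inv (α : MulChar F ℂ) : RSL α⁻¹ = RSL α := by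
  classical
  by_cases h : α = α⁻¹
  · rw [← h]
  · have h' : α⁻¹ ≠ (α⁻¹)⁻¹ := by
      rw [inv_inv]
      exact fun h'' => h h''.symm
    have hne : classInner (RSL α⁻¹) (RSL α) ≠ 0 := by
      rw [RSL_inner, if_neg (fun h'' => h h''.symm), if_pos rfl]
      norm_num
    exact congrArg Subtype.val (irr_eq_of_inner_ne_zero (χ := ⟨_, RSL_isIrr α⁻¹ h'⟩)
      (ψ := ⟨_, RSL_isIrr α h⟩) hne)

theorem RSL_apply_one (α : MulChar F ℂ) : RSL α 1 = (Fintype.card F : ℂ) + 1 := by
  show indFun (borelSL F) (borelSLChar α) 1 = _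
  rw [RSL_apply_upper α 1 (by simp)]
  simp
  ring

omit [Fintype F] [DecidableEq F] in
theorem trivSL_apply (g : SL(2, F)) : trivSL F g = 1 := rfl

theorem stSL_apply_one : stSL F 1 = (Fintype.card F : ℂ) := by
  simp only [stSL, Pi.sub_apply, RSL_apply_one, trivSL_apply]
  ring

omit [Fintype F] in
theorem sum_ite_affine_ne [Fintype F] (c d : F) (hc : c ≠ 0) (w : ℂ) :
    ∑ y : F, (if c * y + d = 0 then w else 0) = w := by
  rw [Finset.sum_eq_single (-d / c)]
  · rw [if_pos]
    field_simp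
    ring
  · intro y _ hy
    rw [if_neg]
    intro h
    apply hy
    field_simp
    linear_combination h
  · intro h
    exact absurd (Finset.mem_univ _) h

/-- Value of the principal series at an upper triangular element with distinct eigenvalues. -/
theorem RSL_apply_split (α : MulChar F ℂ) (g : SL(2, F))
    (h10 : (g : Matrix (Fin 2) (Fin 2) F) 1 0 = 0)
    (hne : (g : Matrix (Fin 2) (Fin 2) F) 0 0 ≠ (g : Matrix (Fin 2) (Fin 2) F) 1 1) :
    RSL α g = α ((g : Matrix (Fin 2) (Fin 2) F) 0 0) + α ((g : Matrix (Fin 2) (Fin 2) F) 1 1) := by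
  show indFun (borelSL F) (borelSLChar α) g = _
  rw [RSL_apply_upper α g h10, sum_ite_affine_ne _ _ (sub_ne_zero.mpr hne)]

/-- Value of the principal series at an upper triangular element with equal diagonal entries
and nonzero off-diagonal entry. -/
theorem RSL_apply_unip (α : MulChar F ℂ) (g : SL(2, F))
    (h10 : (g : Matrix (Fin 2) (Fin 2) F) 1 0 = 0)
    (heq : (g : Matrix (Fin 2) (Fin 2) F) 0 0 = (g : Matrix (Fin 2) (Fin 2) F) 1 1)
    (h01 : (g : Matrix (Fin 2) (Fin 2) F) 0 1 ≠ 0) :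
    RSL α g = α ((g : Matrix (Fin 2) (Fin 2) F) 0 0) := by
  show indFun (borelSL F) (borelSLChar α) g = _
  rw [RSL_apply_upper α g h10, heq, sub_self]
  simp [h01]


theorem RSL_inner_eq (χ : SL(2, F) → ℂ) (hcl : IsClassFunction SL(2, F) χ) (α : MulChar F ℂ) :
    classInner (RSL α) χ = ((Fintype.card F : ℂ) * ((Fintype.card F : ℂ) - 1))⁻¹ *
      ∑ a : Fˣ, α (a : F) * conj (∑ z : F, χ (borelSLMk a z : SL(2, F))) := by
  classical
  have := Fintype.ofFinite ↥(borelSL F)
  rw [frobenius_reciprocity _ _ hcl]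
  unfold classInner
  rw [sum_borelSL, card_borelSL]
  have hq : (2 : ℕ) ≤ Fintype.card F := Fintype.one_lt_card
  congr 1
  · rw [Nat.cast_mul, Nat.cast_sub (by omega), Nat.cast_one, mul_comm]
  · apply Finset.sum_congr rfl
    intro a _
    rw [map_sum, Finset.mul_sum]
    apply Finset.sum_congr rfl
    intro z _
    rw [borelSLChar_borelSLMk]

theorem mulChar_fourier_inv [Fintype (MulChar F ℂ)] (f : Fˣ → ℂ) (a : Fˣ) :
    ∑ α : MulChar F ℂ, conj (α (a : F)) * ∑ x : Fˣ, α (x : F) * f x =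
      ((Fintype.card F : ℂ) - 1) * f a := by
  have h2 : ∑ α : MulChar F ℂ, conj (α (a : F)) * ∑ x : Fˣ, α (x : F) * f x
      = ∑ x : Fˣ, (∑ α : MulChar F ℂ, α ((x * a⁻¹ : Fˣ) : F)) * f x := by
    simp only [Finset.mul_sum, Finset.sum_mul]
    rw [Finset.sum_comm]
    apply Finset.sum_congr rfl
    intro x _
    apply Finset.sum_congr rfl
    intro α _
    rw [mulChar_conj, MulChar.inv_apply', Units.val_mul, map_mul, Units.val_inv_eq_inv_val]
    ring
  rw [h2]
  simp only [mulChar_dual_sum]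
  rw [Finset.sum_eq_single a]
  · rw [if_pos (mul_inv_cancel a)]
  · intro x _ hx
    rw [if_neg, zero_mul]
    intro h'
    exact hx (mul_inv_eq_one.mp h')
  · intro h'
    exact absurd (Finset.mem_univ _) h'

/-- The sums of a class function over the cosets of the unipotent radical in the Borel subgroup. -/
theorem SL2_borel_sum [Fintype (MulChar F ℂ)] (χ : SL(2, F) → ℂ) (hcl : IsClassFunction SL(2, F) χ)
    (a : Fˣ) :
    conj (∑ z : F, χ (borelSLMk a z : SL(2, F))) =
      (Fintype.card F : ℂ) * ∑ α : MulChar F ℂ, conj (α (a : F)) * classInner (RSL α) χ := by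
  simp only [RSL_inner_eq χ hcl]
  have h := mulChar_fourier_inv (fun x : Fˣ => conj (∑ z : F, χ (borelSLMk x z : SL(2, F)))) a
  have e : ∑ α : MulChar F ℂ, conj (α (a : F)) *
      (((Fintype.card F : ℂ) * ((Fintype.card F : ℂ) - 1))⁻¹ *
        ∑ x : Fˣ, α (x : F) * conj (∑ z : F, χ (borelSLMk x z : SL(2, F)))) =
      ((Fintype.card F : ℂ) * ((Fintype.card F : ℂ) - 1))⁻¹ *
        ∑ α : MulChar F ℂ, conj (α (a : F)) *
          ∑ x : Fˣ, α (x : F) * conj (∑ z : F, χ (borelSLMk x z : SL(2, F))) := by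
    rw [Finset.mul_sum]
    apply Finset.sum_congr rfl
    intro α _
    ring
  rw [e, h]
  have hq1 := card_sub_one_ne_zero (F := F)
  have hq0 : (Fintype.card F : ℂ) ≠ 0 := by
    exact_mod_cast (Fintype.card_pos (α := F)).ne'
  field_simp

/-- Cuspidality: orthogonality to all principal series functions. -/
def IsCuspSL (χ : SL(2, F) → ℂ) : Prop :=
  ∀ α : MulChar F ℂ, classInner (RSL α) χ = 0

theorem SL2_cusp_sum (χ : SL(2, F) → ℂ) (hcl : IsClassFunction SL(2, F) χ)
    (hc : IsCuspSL χ) (a : Fˣ) : ∑ z : F, χ (borelSLMk a z : SL(2, F)) = 0 := by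
  classical
  have := Fintype.ofFinite (MulChar F ℂ)
  have h := SL2_borel_sum χ hcl a
  simp only [show ∀ α, classInner (RSL α) χ = 0 from hc, mul_zero, Finset.sum_const_zero] at h
  exact (map_eq_zero _).mp h

omit [Fintype F] [DecidableEq F] in
theorem borelSLMk_isConj (a : Fˣ) (ha : (a : F) ^ 2 ≠ 1) (z z' : F) :
    IsConj (borelSLMk a z : SL(2, F)) (borelSLMk a z') := by
  have ha0 : (a : F) ≠ 0 := a.ne_zero
  have hd : ((a⁻¹ : Fˣ) : F) - (a : F) ≠ 0 := by
    rw [Units.val_inv_eq_inv_val]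
    intro h
    apply ha
    field_simp at h
    linear_combination -h
  have hQ : ∀ y : F, Qf ((borelSLMk a y : SL(2, F)) : Matrix (Fin 2) (Fin 2) F)
      ![(1 + y) / (((a⁻¹ : Fˣ) : F) - (a : F)), 1] = 1 := by
    intro y
    simp only [borelSLMk_val, Qf]
    simp
    field_simp
    ring
  refine SL2_isConj_of_Qf _ _ ?_ ![(1 + z) / (((a⁻¹ : Fˣ) : F) - (a : F)), 1]
    ![(1 + z') / (((a⁻¹ : Fˣ) : F) - (a : F)), 1] ?_ ?_
  · simp [borelSLMk_val, Matrix.trace_fin_two]
  · rw [hQ, hQ]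
  · rw [hQ]
    exact one_ne_zero

theorem SL2_cusp_split (χ : SL(2, F) → ℂ) (hcl : IsClassFunction SL(2, F) χ)
    (hc : IsCuspSL χ) (a : Fˣ) (ha : (a : F) ^ 2 ≠ 1) (z : F) :
    χ (borelSLMk a z : SL(2, F)) = 0 := by
  have h := SL2_cusp_sum χ hcl hc a
  have h1 : ∀ z' : F, χ (borelSLMk a z' : SL(2, F)) = χ (borelSLMk a z : SL(2, F)) := fun z' =>
    isClassFunction_of_isConj hcl (borelSLMk_isConj a ha z' z)
  simp only [h1, Finset.sum_const, Finset.card_univ, nsmul_eq_mul] at h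
  have hq0 : (Fintype.card F : ℂ) ≠ 0 := by
    exact_mod_cast (Fintype.card_pos (α := F)).ne'
  exact (mul_eq_zero.mp h).resolve_left hq0

end sl2table

section unip

variable {F : Type*} [Field F]

/-- The upper unitriangular element of `SL₂` with off-diagonal entry `z`. -/
def uSL (z : F) : SL(2, F) := mkSL 1 z 0 1 (by ring)

theorem uSL_val (z : F) : ((uSL z : SL(2, F)) : Matrix (Fin 2) (Fin 2) F) = !![1, z; 0, 1] := rfl

theorem borelSLMk_one (z : F) : ((borelSLMk (1 : Fˣ) z : ↥(borelSL F)) : SL(2, F)) = uSL z := by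
  apply Subtype.ext
  rw [borelSLMk_val, uSL_val]
  simp

theorem uSL_zero : uSL (0 : F) = 1 := by
  apply Subtype.ext
  rw [uSL_val]
  ext i j
  fin_cases i <;> fin_cases j <;> simp

theorem uSL_add (y z : F) : uSL (y + z) = uSL y * uSL z := by
  apply Subtype.ext
  rw [Matrix.SpecialLinearGroup.coe_mul]
  simp only [uSL_val]
  ext i j
  fin_cases i <;> fin_cases j <;> simp [Matrix.mul_apply, Fin.sum_univ_two, add_comm]

/-- The unipotent radical as a homomorphism from the additive group of the field. -/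
def uSLHom : Multiplicative F →* SL(2, F) where
  toFun z := uSL (Multiplicative.toAdd z)
  map_one' := uSL_zero
  map_mul' _ _ := uSL_add _ _

theorem uSL_conj_diag (a : Fˣ) (z : F) :
    (borelSLMk a 0 : SL(2, F)) * uSL z * (borelSLMk a 0 : SL(2, F))⁻¹ = uSL ((a : F) ^ 2 * z) := by
  rw [mul_inv_eq_iff_eq_mul]
  apply Subtype.ext
  rw [Matrix.SpecialLinearGroup.coe_mul, Matrix.SpecialLinearGroup.coe_mul]
  simp only [uSL_val, borelSLMk_val]
  ext i j
  fin_cases i <;> fin_cases j <;> simp [Matrix.mul_apply, Fin.sum_univ_two]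
  field_simp

/-- The lower unitriangular element of `SL₂`. -/
def lSL (z : F) : SL(2, F) := mkSL 1 0 z 1 (by ring)

theorem lSL_val (z : F) : ((lSL z : SL(2, F)) : Matrix (Fin 2) (Fin 2) F) = !![1, 0; z, 1] := rfl

/-- The Weyl element of `SL₂`. -/
def wSL (F : Type*) [Field F] : SL(2, F) := mkSL 0 1 (-1) 0 (by ring)

theorem wSL_val : ((wSL F : SL(2, F)) : Matrix (Fin 2) (Fin 2) F) = !![0, 1; -1, 0] := rfl

theorem lSL_eq_conj (z : F) : lSL z = wSL F * uSL (-z) * (wSL F)⁻¹ := by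
  rw [eq_mul_inv_iff_mul_eq]
  apply Subtype.ext
  rw [Matrix.SpecialLinearGroup.coe_mul, Matrix.SpecialLinearGroup.coe_mul]
  simp only [uSL_val, lSL_val, wSL_val]
  ext i j
  fin_cases i <;> fin_cases j <;> simp [Matrix.mul_apply, Fin.sum_univ_two]

/-- A normal subgroup of `SL₂` containing the upper unitriangular elements is everything. -/
theorem SL2_normal_eq_top (N : Subgroup SL(2, F)) [N.Normal] (h : ∀ y : F, uSL y ∈ N) : N = ⊤ := by
  have hl : ∀ y : F, lSL y ∈ N := by
    intro y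
    rw [lSL_eq_conj]
    exact Subgroup.Normal.conj_mem inferInstance _ (h _) _
  have key : ∀ g : SL(2, F), (g : Matrix (Fin 2) (Fin 2) F) 1 0 ≠ 0 → g ∈ N := by
    intro g hc
    have e : g = uSL (((g : Matrix (Fin 2) (Fin 2) F) 0 0 - 1) / (g : Matrix (Fin 2) (Fin 2) F) 1 0) *
        lSL ((g : Matrix (Fin 2) (Fin 2) F) 1 0) *
        uSL (((g : Matrix (Fin 2) (Fin 2) F) 1 1 - 1) / (g : Matrix (Fin 2) (Fin 2) F) 1 0) := by
      have hdet := SL2_det_eq g
      apply SL2_ext
      · simp only [Matrix.SpecialLinearGroup.coe_mul, uSL_val, lSL_val, Matrix.mul_apply,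
          Fin.sum_univ_two, Matrix.of_apply, Matrix.cons_val_zero, Matrix.cons_val_one]
        field_simp
        ring
      · simp only [Matrix.SpecialLinearGroup.coe_mul, uSL_val, lSL_val, Matrix.mul_apply,
          Fin.sum_univ_two, Matrix.of_apply, Matrix.cons_val_zero, Matrix.cons_val_one]
        field_simp
        linear_combination (-1 : F) * hdet
      · simp only [Matrix.SpecialLinearGroup.coe_mul, uSL_val, lSL_val, Matrix.mul_apply,
          Fin.sum_univ_two, Matrix.of_apply, Matrix.cons_val_zero, Matrix.cons_val_one]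
        ring
      · simp only [Matrix.SpecialLinearGroup.coe_mul, uSL_val, lSL_val, Matrix.mul_apply,
          Fin.sum_univ_two, Matrix.of_apply, Matrix.cons_val_zero, Matrix.cons_val_one]
        field_simp
        ring
    rw [e]
    exact N.mul_mem (N.mul_mem (h _) (hl _)) (h _)
  rw [Subgroup.eq_top_iff']
  intro g
  by_cases hc : (g : Matrix (Fin 2) (Fin 2) F) 1 0 = 0
  · have h00 : (g : Matrix (Fin 2) (Fin 2) F) 0 0 ≠ 0 := by
      have hdet := SL2_det_eq g
      rw [hc, mul_zero, sub_zero] at hdet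
      exact left_ne_zero_of_mul_eq_one hdet
    have h1 : lSL 1 * g ∈ N := by
      apply key
      rw [Matrix.SpecialLinearGroup.coe_mul]
      simp [lSL_val, Matrix.mul_apply, Fin.sum_univ_two, hc, h00]
    have h2 := N.mul_mem (N.inv_mem (hl 1)) h1
    rwa [inv_mul_cancel_left] at h2
  · exact key g hc

end unip

section fourier

variable {F : Type*} [Field F] [Fintype F] [DecidableEq F]

/-- Fourier coefficients of a function on the unipotent radical. -/
noncomputable def mU (ψ : AddChar F ℂ) (χ : SL(2, F) → ℂ) (c : F) : ℂ :=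
  (Fintype.card F : ℂ)⁻¹ * ∑ z : F, χ (uSL z) * conj (ψ (c * z))

omit [DecidableEq F] in
theorem mU_nat (ψ : AddChar F ℂ) {χ : SL(2, F) → ℂ} (hχ : IsCharacter SL(2, F) χ) (c : F) :
    ∃ n : ℕ, mU ψ χ c = n := by
  have h1 : IsCharacter (Multiplicative F) (χ ∘ uSLHom) := isCharacter_comp uSLHom hχ
  have h2 := isIrrCharacter_of_hom (AddChar.toMonoidHom (ψ.mulShift c)).toHomUnits
  obtain ⟨n, hn⟩ := isCharacter_inner_irr_nat h1 ⟨_, h2⟩
  refine ⟨n, ?_⟩
  rw [← hn]
  unfold mU classInner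
  rw [Nat.card_eq_fintype_card, Fintype.card_multiplicative]
  congr 1
  exact Fintype.sum_equiv Multiplicative.ofAdd _ _
    (fun z => by simp [uSLHom, AddChar.mulShift_apply])

theorem mU_inversion {ψ : AddChar F ℂ} (hψ : ψ.IsPrimitive) (χ : SL(2, F) → ℂ) (y : F) :
    ∑ c : F, mU ψ χ c * ψ (c * y) = χ (uSL y) := by
  unfold mU
  have h1 : ∀ c : F, ((Fintype.card F : ℂ)⁻¹ * ∑ z : F, χ (uSL z) * conj (ψ (c * z))) * ψ (c * y) =
      (Fintype.card F : ℂ)⁻¹ * ∑ z : F, χ (uSL z) * ψ (c * (y - z)) := by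
    intro c
    rw [mul_assoc, Finset.sum_mul]
    congr 1
    apply Finset.sum_congr rfl
    intro z _
    rw [← AddChar.map_neg_eq_conj, mul_assoc, ← AddChar.map_add_eq_mul]
    congr 2
    ring
  simp only [h1]
  rw [← Finset.mul_sum, Finset.sum_comm]
  simp only [← Finset.mul_sum, AddChar.sum_mulShift _ hψ]
  rw [Finset.sum_eq_single y]
  · have hq0 : (Fintype.card F : ℂ) ≠ 0 := by
      exact_mod_cast (Fintype.card_pos (α := F)).ne'
    rw [sub_self, if_pos rfl]
    field_simp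
  · intro z _ hz
    rw [if_neg (sub_ne_zero.mpr (Ne.symm hz))]
    simp
  · intro h
    exact absurd (Finset.mem_univ _) h

omit [DecidableEq F] in
theorem mU_sq (ψ : AddChar F ℂ) {χ : SL(2, F) → ℂ} (hcl : IsClassFunction SL(2, F) χ) (a : Fˣ)
    (c : F) : mU ψ χ ((a : F) ^ 2 * c) = mU ψ χ c := by
  unfold mU
  congr 1
  symm
  rw [← Fintype.sum_bijective (fun z : F => (a : F) ^ 2 * z)
    (mulLeft_bijective₀ _ (pow_ne_zero 2 a.ne_zero))
    (fun z => χ (uSL ((a : F) ^ 2 * z)) * conj (ψ (c * ((a : F) ^ 2 * z))))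
    (fun z => χ (uSL z) * conj (ψ (c * z))) (fun z => rfl)]
  apply Finset.sum_congr rfl
  intro z _
  rw [← uSL_conj_diag a z, hcl]
  congr 3
  ring

open Classical in
/-- The Fourier coefficients as natural numbers. -/
noncomputable def nU (ψ : AddChar F ℂ) (χ : SL(2, F) → ℂ) (c : F) : ℕ :=
  if h : ∃ n : ℕ, mU ψ χ c = n then h.choose else 0

omit [DecidableEq F] in
theorem nU_cast (ψ : AddChar F ℂ) {χ : SL(2, F) → ℂ} (hχ : IsCharacter SL(2, F) χ) (c : F) :
    (nU ψ χ c : ℂ) = mU ψ χ c := by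
  unfold nU
  rw [dif_pos (mU_nat ψ hχ c)]
  exact (mU_nat ψ hχ c).choose_spec.symm

omit [DecidableEq F] in
theorem mU_zero (ψ : AddChar F ℂ) (χ : SL(2, F) → ℂ) :
    ∑ z : F, χ (uSL z) = (Fintype.card F : ℂ) * mU ψ χ 0 := by
  have hq0 : (Fintype.card F : ℂ) ≠ 0 := by
    exact_mod_cast (Fintype.card_pos (α := F)).ne'
  unfold mU
  simp

/-- The restriction of a character of `SL₂` to the unipotent radical, in characteristic 2. -/
theorem SL2_U_even (hF : ringChar F = 2) {ψ : AddChar F ℂ} (hψ : ψ.IsPrimitive)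
    {χ : SL(2, F) → ℂ} (hχ : IsCharacter SL(2, F) χ) :
    (∑ z : F, χ (uSL z) = (Fintype.card F : ℂ) * nU ψ χ 0) ∧
    χ 1 = nU ψ χ 0 + nU ψ χ 1 * ((Fintype.card F : ℂ) - 1) ∧
    ∀ y : F, y ≠ 0 → χ (uSL y) = (nU ψ χ 0 : ℂ) - nU ψ χ 1 := by
  have hcl := isCharacter_conj_class hχ
  have hm : ∀ c : F, c ≠ 0 → mU ψ χ c = mU ψ χ 1 := by
    intro c hc
    obtain ⟨a, ha⟩ := FiniteField.isSquare_of_char_two hF c
    have ha0 : a ≠ 0 := by
      rintro rfl
      exact hc (by simpa using ha)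
    have h := mU_sq ψ hcl (Units.mk0 a ha0) 1
    rw [Units.val_mk0, mul_one] at h
    rw [ha, ← sq]
    exact h
  have hinv : ∀ y : F, χ (uSL y) =
      (nU ψ χ 0 : ℂ) - nU ψ χ 1 + nU ψ χ 1 * ∑ c : F, ψ (c * y) := by
    intro y
    rw [← mU_inversion hψ χ y, nU_cast ψ hχ, nU_cast ψ hχ]
    have h : ∀ c : F, mU ψ χ c * ψ (c * y) =
        mU ψ χ 1 * ψ (c * y) + (if c = 0 then (mU ψ χ 0 - mU ψ χ 1) else 0) := by
      intro c
      split_ifs with h
      · subst h
        simp
      · rw [hm c h, add_zero]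
    simp only [h, Finset.sum_add_distrib, ← Finset.mul_sum, Finset.sum_ite_eq', Finset.mem_univ,
      if_true]
    ring
  refine ⟨?_, ?_, ?_⟩
  · rw [nU_cast ψ hχ]
    exact mU_zero ψ χ
  · have h := hinv 0
    rw [uSL_zero, AddChar.sum_mulShift _ hψ, if_pos rfl] at h
    rw [h]
    ring
  · intro y hy
    rw [hinv y, AddChar.sum_mulShift _ hψ, if_neg hy]
    ring

end fourier

section quad

variable {F : Type*} [Field F] [Fintype F]

omit [Fintype F] in
theorem quad_apply {α₀ : MulChar F ℂ} (hα : α₀ ^ 2 = 1) {c : F} (hc : c ≠ 0) :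
    α₀ c = 1 ∨ α₀ c = -1 := by
  have h : (α₀ c) ^ 2 = 1 := by
    rw [← MulChar.pow_apply' α₀ two_ne_zero, hα, MulChar.one_apply hc.isUnit]
  exact sq_eq_one_iff.mp h

theorem quad_isSquare {α₀ : MulChar F ℂ} (hα : α₀ ^ 2 = 1) {ν : F} (hν : α₀ ν = -1) {c : F}
    (hc : α₀ c = 1) : IsSquare c := by
  have hsq : ∀ b : F, α₀ (b * b) ≠ -1 := by
    intro b
    by_cases hb : b = 0
    · subst hb
      rw [mul_zero, MulChar.map_zero]
      norm_num
    · rw [map_mul, ← sq, ← MulChar.pow_apply' α₀ two_ne_zero, hα, MulChar.one_apply (Ne.isUnit hb)]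
      norm_num
  by_contra hns
  have hν' : ¬ IsSquare ν := by
    rintro ⟨b, hb⟩
    rw [hb] at hν
    exact hsq b hν
  obtain ⟨d, hd⟩ := isSquare_mul_of_not_isSquare hns hν'
  apply hsq d
  rw [← hd, map_mul, hc, hν, one_mul]

omit [Fintype F] in
theorem quad_inv {α₀ : MulChar F ℂ} (hα : α₀ ^ 2 = 1) : α₀⁻¹ = α₀ := by
  rw [inv_eq_iff_mul_eq_one, ← sq, hα]

omit [Fintype F] in
theorem quad_ne_zero {α₀ : MulChar F ℂ} {ν : F} (hν : α₀ ν = -1) : ν ≠ 0 := by
  rintro rfl
  rw [MulChar.map_zero] at hν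
  norm_num at hν

/-- A nontrivial quadratic character takes the value `-1` somewhere. -/
theorem quad_exists_neg_one {α₀ : MulChar F ℂ} (hα : α₀ ^ 2 = 1) (hα1 : α₀ ≠ 1) :
    ∃ ν : F, α₀ ν = -1 := by
  by_contra hcon
  push Not at hcon
  apply hα1
  ext a
  rw [MulChar.one_apply_coe]
  rcases quad_apply hα a.ne_zero with h | h
  · exact h
  · exact absurd h (hcon _)

/-- Uniqueness of the nontrivial quadratic character. -/
theorem quad_unique {α₀ β : MulChar F ℂ} (hα : α₀ ^ 2 = 1) (hα1 : α₀ ≠ 1) (hβ : β ^ 2 = 1)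
    (hβ1 : β ≠ 1) : β = α₀ := by
  obtain ⟨ν, hν⟩ := quad_exists_neg_one hα hα1
  obtain ⟨μ, hμ⟩ := quad_exists_neg_one hβ hβ1
  have hsq : ∀ (γ : MulChar F ℂ), γ ^ 2 = 1 → ∀ c : F, c ≠ 0 → IsSquare c → γ c = 1 := by
    rintro γ hγ c hc ⟨b, rfl⟩
    have hb : b ≠ 0 := by
      rintro rfl
      exact hc (by simp)
    rw [map_mul, ← sq, ← MulChar.pow_apply' γ two_ne_zero, hγ, MulChar.one_apply (Ne.isUnit hb)]
  ext a
  rcases quad_apply hα a.ne_zero with h | h
  · rw [h]
    exact hsq β hβ _ a.ne_zero (quad_isSquare hα hν h)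
  · rw [h]
    rcases quad_apply hβ a.ne_zero with h' | h'
    · have := hsq α₀ hα _ a.ne_zero (quad_isSquare hβ hμ h')
      rw [h] at this
      norm_num at this
    · exact h'

end quad

section fourierOdd

variable {F : Type*} [Field F] [Fintype F] [DecidableEq F]

/-- The restriction of a character of `SL₂` to the unipotent radical, in odd characteristic. -/
theorem SL2_U_odd {α₀ : MulChar F ℂ} (hα : α₀ ^ 2 = 1) (hα1 : α₀ ≠ 1) {ν : F} (hν : α₀ ν = -1)
    {ψ : AddChar F ℂ} (hψ : ψ.IsPrimitive) {χ : SL(2, F) → ℂ} (hχ : IsCharacter SL(2, F) χ) :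
    (∑ z : F, χ (uSL z) = (Fintype.card F : ℂ) * nU ψ χ 0) ∧
    2 * χ 1 = 2 * (nU ψ χ 0 : ℂ) + ((nU ψ χ 1 : ℂ) + nU ψ χ ν) * ((Fintype.card F : ℂ) - 1) ∧
    ∀ y : F, y ≠ 0 → 2 * χ (uSL y) = 2 * (nU ψ χ 0 : ℂ) - ((nU ψ χ 1 : ℂ) + nU ψ χ ν) +
      ((nU ψ χ 1 : ℂ) - nU ψ χ ν) * α₀ y * gaussSum α₀ ψ := by
  have hcl := isCharacter_conj_class hχ
  have hν0 : ν ≠ 0 := quad_ne_zero hν
  have hm : ∀ c : F, c ≠ 0 → 2 * mU ψ χ c =
      (mU ψ χ 1 + mU ψ χ ν) + (mU ψ χ 1 - mU ψ χ ν) * α₀ c := by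
    intro c hc
    rcases quad_apply hα hc with h | h
    · obtain ⟨a, ha⟩ := quad_isSquare hα hν h
      have ha0 : a ≠ 0 := by
        rintro rfl
        exact hc (by simpa using ha)
      have h' := mU_sq ψ hcl (Units.mk0 a ha0) 1
      rw [Units.val_mk0, mul_one, sq, ← ha] at h'
      rw [h, h']
      ring
    · have h1 : α₀ (c * ν) = 1 := by
        rw [map_mul, h, hν]
        norm_num
      obtain ⟨b, hb⟩ := quad_isSquare hα hν h1
      have hb0 : b ≠ 0 := by
        rintro rfl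
        rw [mul_zero] at hb
        exact mul_ne_zero hc hν0 hb
      have h' := mU_sq ψ hcl (Units.mk0 (b / ν) (div_ne_zero hb0 hν0)) ν
      have e : (b / ν) ^ 2 * ν = c := by
        field_simp
        rw [sq, ← hb]
        ring
      rw [Units.val_mk0, e] at h'
      rw [h, h']
      ring
  have hinv : ∀ y : F, 2 * χ (uSL y) =
      (mU ψ χ 1 + mU ψ χ ν) * ∑ c : F, ψ (c * y) +
      (mU ψ χ 1 - mU ψ χ ν) * ∑ c : F, α₀ c * ψ (c * y) +
      (2 * mU ψ χ 0 - (mU ψ χ 1 + mU ψ χ ν)) := by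
    intro y
    rw [← mU_inversion hψ χ y, Finset.mul_sum]
    have h : ∀ c : F, 2 * (mU ψ χ c * ψ (c * y)) =
        (mU ψ χ 1 + mU ψ χ ν) * ψ (c * y) + (mU ψ χ 1 - mU ψ χ ν) * (α₀ c * ψ (c * y)) +
        (if c = 0 then (2 * mU ψ χ 0 - (mU ψ χ 1 + mU ψ χ ν)) else 0) := by
      intro c
      split_ifs with h
      · subst h
        simp only [zero_mul, AddChar.map_zero_eq_one, mul_one, MulChar.map_zero, mul_zero, add_zero]
        ring
      · rw [← mul_assoc, hm c h, add_zero]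
        ring
    simp only [h, Finset.sum_add_distrib, ← Finset.mul_sum, Finset.sum_ite_eq', Finset.mem_univ,
      if_true]
  refine ⟨?_, ?_, ?_⟩
  · rw [nU_cast ψ hχ]
    exact mU_zero ψ χ
  · have h := hinv 0
    rw [uSL_zero, AddChar.sum_mulShift _ hψ, if_pos rfl] at h
    simp only [mul_zero, AddChar.map_zero_eq_one, mul_one] at h
    rw [MulChar.sum_eq_zero_of_ne_one hα1] at h
    rw [h, nU_cast ψ hχ, nU_cast ψ hχ, nU_cast ψ hχ]
    ring
  · intro y hy
    have hg : ∑ c : F, α₀ c * ψ (c * y) = α₀ y * gaussSum α₀ ψ := by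
      have h1 := gaussSum_mulShift_eq α₀ ψ (Units.mk0 y hy)
      rw [quad_inv hα, Units.val_mk0] at h1
      rw [← h1]
      unfold gaussSum
      apply Finset.sum_congr rfl
      intro c _
      rw [AddChar.mulShift_apply, mul_comm y c]
    rw [hinv y, AddChar.sum_mulShift _ hψ, if_neg hy, hg, nU_cast ψ hχ, nU_cast ψ hχ,
      nU_cast ψ hχ]
    ring

end fourierOdd

section gen

universe u

variable {G : Type u} [Group G] [Fintype G]

/-- A character of norm `2` is the sum of two distinct irreducible characters. -/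
theorem exists_two_irr_of_norm_two {χ : G → ℂ} (hχ : IsCharacter G χ) (h2 : classInner χ χ = 2) :
    ∃ ξ₁ ξ₂ : IrrCharacter G, ξ₁ ≠ ξ₂ ∧ χ = ξ₁.1 + ξ₂.1 := by
  classical
  obtain ⟨l, rfl⟩ := isCharacter_iff_exists_list.mp hχ
  have key : classInner (l.map (fun χ : IrrCharacter G => χ.1)).sum
      (l.map (fun χ : IrrCharacter G => χ.1)).sum = ((l.map (fun a => l.count a)).sum : ℕ) := by
    rw [classInner_list_sum_right, List.map_map]
    have : ∀ a : IrrCharacter G, ((fun ψ => classInner (l.map (fun χ : IrrCharacter G => χ.1)).sum ψ)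
        ∘ (fun χ : IrrCharacter G => χ.1)) a = ((l.count a : ℕ) : ℂ) := by
      intro a
      exact classInner_irr_list l a
    rw [List.map_congr_left (fun a _ => this a)]
    rw [Nat.cast_list_sum, List.map_map]
    rfl
  rw [key] at h2
  have h2' : (l.map (fun a => l.count a)).sum = 2 := by exact_mod_cast h2
  have h3 : l.length ≤ (l.map (fun a => l.count a)).sum := by
    have : ∀ a ∈ l, 1 ≤ l.count a := fun a ha => List.count_pos_iff.mpr ha
    calc l.length = (l.map (fun _ => 1)).sum := by simp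
      _ ≤ (l.map (fun a => l.count a)).sum := List.sum_le_sum this
  rw [h2'] at h3
  match l, h2', h3 with
  | [], h2', _ => simp at h2'
  | [a], h2', _ => simp at h2'
  | [a, b], h2', _ =>
    by_cases hab : a = b
    · subst hab
      simp at h2'
    · refine ⟨a, b, hab, ?_⟩
      simp
  | a :: b :: c :: l, _, h3 =>
    simp at h3

theorem int_all_one {ι : Type*} (s : Finset ι) (N : ι → ℤ) (h1 : ∀ i ∈ s, 1 ≤ N i)
    (hsum : ∑ i ∈ s, N i = s.card) : ∀ i ∈ s, N i = 1 := by
  have h0 : ∑ i ∈ s, (N i - 1) = 0 := by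
    rw [Finset.sum_sub_distrib, hsum]
    simp
  have h := (Finset.sum_eq_zero_iff_of_nonneg (fun i hi => by linarith [h1 i hi])).mp h0
  intro i hi
  linarith [h i hi]

theorem quad_form_eq_one {p m : ℕ} (h : (p : ℤ) ^ 2 - p * m + m ^ 2 = 1) :
    (p = 1 ∧ m = 0) ∨ (p = 0 ∧ m = 1) ∨ (p = 1 ∧ m = 1) := by
  have hm : (m : ℤ) ≤ 1 := by nlinarith [sq_nonneg (2 * (p : ℤ) - m)]
  have hp : (p : ℤ) ≤ 1 := by nlinarith [sq_nonneg (2 * (m : ℤ) - p)]
  have hm' : m ≤ 1 := by exact_mod_cast hm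
  have hp' : p ≤ 1 := by exact_mod_cast hp
  interval_cases p <;> interval_cases m <;> simp_all

end gen

section orth

variable {F : Type*} [Field F] [Fintype F] [DecidableEq F]

theorem RSL_stSL_inner (α : MulChar F ℂ) [Decidable (α = 1)] :
    classInner (RSL α) (stSL F) = if α = 1 then 1 else 0 := by
  classical
  unfold stSL
  rw [classInner_sub_right, RSL_inner, RSL_triv_inner, inv_one]
  split_ifs <;> norm_num

/-- The multiplicity of the trivial character of the unipotent radical. -/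
theorem SL2_m0_eq [Fintype (MulChar F ℂ)] (ψ : AddChar F ℂ) {χ : SL(2, F) → ℂ}
    (hχ : IsCharacter SL(2, F) χ) :
    (nU ψ χ 0 : ℂ) = ∑ α : MulChar F ℂ, classInner (RSL α) χ := by
  have h := SL2_borel_sum χ (isCharacter_conj_class hχ) 1
  simp only [borelSLMk_one, Units.val_one, map_one, one_mul] at h
  rw [mU_zero ψ χ, ← nU_cast ψ hχ, map_mul, Complex.conj_natCast, Complex.conj_natCast] at h
  have hq0 : (Fintype.card F : ℂ) ≠ 0 := by
    exact_mod_cast (Fintype.card_pos (α := F)).ne'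
  exact mul_left_cancel₀ hq0 h

omit [DecidableEq F] [Fintype F] in
theorem uSL_not_scalar {y : F} (hy : y ≠ 0) :
    ¬ ∃ a : F, ((uSL y : SL(2, F)) : Matrix (Fin 2) (Fin 2) F) = a • (1 : Matrix (Fin 2) (Fin 2) F) := by
  rintro ⟨a, ha⟩
  have := congrFun (congrFun ha 0) 1
  rw [uSL_val] at this
  simp at this
  exact hy this

omit [DecidableEq F] in
theorem card_centralizer_uSL (h2 : (2 : F) ≠ 0) {y : F} (hy : y ≠ 0) :
    Nat.card (Subgroup.centralizer ({uSL y} : Set SL(2, F))) = 2 * Fintype.card F := by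
  rw [SL2_card_centralizer _ (uSL_not_scalar hy)]
  apply card_normSol_parabolic_odd h2 true
  rw [uSL_val, Matrix.trace_fin_two]
  simp [sgnB]
  norm_num

omit [DecidableEq F] [Fintype F] in
theorem uSL_isConj_iff {y y' : F} (hy : y ≠ 0) (hy' : y' ≠ 0) :
    IsConj (uSL y) (uSL y') ↔ IsSquare (y * y') := by
  have h := SL2_isConj_upper_iff (uSL y) (uSL y') (by simp [uSL_val]) (by simp [uSL_val])
    (by simp [uSL_val]) (by simpa [uSL_val] using hy) (by simp [uSL_val]) (by simp [uSL_val])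
    (by simp [uSL_val]) (by simpa [uSL_val] using hy')
  simpa [uSL_val] using h

end orth

end Cfsg.Agent.Lib.helper12
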